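import Mathlib
import Cfsg.Agent.H19.MG1
import Cfsg.Agent.H11.M24I

/-!
# Tools for computations with `Co0` on the Leech lattice modulo 2
-/

set_option autoImplicit false
set_option linter.all false
set_option maxRecDepth 100000

namespace H10.Mon.LFt

open Cfsg H9 H29 H10.Mon.MG H11.M24I
open scoped symmDiff Pointwise

/-! ### The relation `Ac` -/

theorem ac_refl (a : G0) : Ac a a := fun _ => rfl
theorem ac_symm {a b : G0} (h : Ac a b) : Ac b a := fun c => (h c).symm
theorem ac_trans {a b c : G0} (h : Ac a b) (k : Ac b c) : Ac a c := fun x => (h x).trans (k x)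
theorem ac_conj {a b : G0} (h : Ac a b) (u : G0) : Ac (u * a * u⁻¹) (u * b * u⁻¹) := fun c => by
  simp only [mul_smul, h _]
theorem ac_neg (a : G0) : Ac (neg1 * a) a := fun c => by rw [mul_smul, neg1_smul_C]

theorem cj_of {h r e u : G0} (h1 : Ac (u * h * u⁻¹) r) (h2 : Cj r e) : Cj h e := by
  obtain ⟨v, hv⟩ := h2
  refine ⟨v * u, ac_trans ?_ hv⟩
  rw [show v * u * h * (v * u)⁻¹ = v * (u * h * u⁻¹) * v⁻¹ by group]
  exact ac_conj h1 v

theorem cols_ac {a b : G0} {A : List ℕ} (ha : Cols a A) (hb : Cols b A) : Ac a b := fun c => by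
  obtain ⟨n, -, rfl⟩ := dec_surj c
  rw [← ha.ap, ← hb.ap]

theorem ac_cols {u a b : G0} {U A B : List ℕ} (hu : Cols u U) (ha : Cols a A) (hb : Cols b B)
    (h : eqL (mulC U A) (mulC B U) = true) : Ac (u * a * u⁻¹) b := fun c => by
  have := cols_ac (hu.mul ha) (eqL_true h ▸ hb.mul hu) (u⁻¹ • c)
  rwa [← mul_smul, ← mul_smul, mul_inv_cancel_right] at this

/-- The word `w` conjugates the matrix `A` to the matrix `B`. -/
noncomputable def cjW (w A B : List ℕ) : Bool := eqL (mulC (colW w) A) (mulC B (colW w))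

theorem cjW_ac {a b : G0} {w A B : List ℕ} (ha : Cols a A) (hb : Cols b B) (h : cjW w A B = true) :
    Ac (co (gw w) * a * (co (gw w))⁻¹) b := ac_cols (cols_colW w) ha hb h

/-! ### Numbers of classes -/

def eqD (a b : ℕ) : Bool := Nat.beq (Nat.mod a 16777216) (Nat.mod b 16777216)

theorem eqD_iff {a b : ℕ} : eqD a b = true ↔ dec a = dec b := by
  have e : ∀ a, dec (a % 2 ^ 24) = dec a := fun a => dec_congr fun j hj => by
    rw [Nat.testBit_mod_two_pow, decide_eq_true hj, Bool.true_and]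
  rw [eqD, H29.beq_true]
  change a % 2 ^ 24 = b % 2 ^ 24 ↔ _
  refine ⟨fun h => by rw [← e a, h, e], fun h => dec_inj (Nat.mod_lt _ (by norm_num))
    (Nat.mod_lt _ (by norm_num)) (by rw [e, e, h])⟩

theorem fst_zero {n : ℕ} (h : Nat.beq (Nat.shiftRight n 12) 0 = true) : (dec n).1 = 0 := by
  rw [dec_fst, show n >>> 12 = 0 from H29.beq_true.1 h]
  funext j; exact bt_zero _

noncomputable def fmN (S : List ℕ) (n : ℕ) : Bool :=
  lit (apC S n) fun m => ou (eqD m n) (eqD m (Nat.xor n 2048))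

theorem fmN_iff {s : G0} {S : List ℕ} (h : Cols s S) {n : ℕ} : fmN S n = true ↔ Fm s (dec n) := by
  rw [fmN, lit_eq, ou_true, eqD_iff, eqD_iff, h.ap, Fm, ← dec_Om, ← dec_xor]; rfl

/-- Coordinates of a class. -/
def cr (j : ℕ) : C →+ ZMod 2 where
  toFun c := if h : j < 12 then c.2 ⟨j, h⟩ else if h : j - 12 < 12 then c.1 ⟨j - 12, h⟩ else 0
  map_zero' := by split_ifs <;> rfl
  map_add' a b := by split_ifs <;> simp

theorem cr_dec (n : ℕ) {j : ℕ} (hj : j < 24) : cr j (dec n) = bt n j := by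
  change (if h : j < 12 then (dec n).2 ⟨j, h⟩ else if h : j - 12 < 12 then (dec n).1 ⟨j - 12, h⟩
    else 0) = _
  split_ifs with h1 h2
  · rfl
  · change bt n (12 + (j - 12)) = _
    rw [show 12 + (j - 12) = j by omega]
  · omega

/-- The additive map with columns `W`. -/
noncomputable def lm (W : List ℕ) : C →+ C where
  toFun c := ∑ j ∈ Finset.range 24, cr j c • dec (nth 0 W j)
  map_zero' := by simp
  map_add' a b := by simp only [map_add, add_smul, Finset.sum_add_distrib]

theorem lm_dec {W : List ℕ} (h : W.length = 24) (n : ℕ) : lm W (dec n) = dec (apC W n) := by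
  change ∑ j ∈ Finset.range 24, cr j (dec n) • dec (nth 0 W j) = _
  rw [Finset.sum_congr rfl fun j hj => by rw [cr_dec n (Finset.mem_range.1 hj)]]
  refine Prod.ext (funext fun i => ?_) (funext fun i => ?_)
  · rw [Prod.fst_sum, Finset.sum_apply]
    change _ = bt _ _
    rw [bt_apC, h]; rfl
  · rw [Prod.snd_sum, Finset.sum_apply]
    change _ = bt _ _
    rw [bt_apC, h]; rfl

def zl : List ℕ := List.replicate 24 0

theorem lm_zl (c : C) : lm zl c = 0 := by
  change ∑ j ∈ Finset.range 24, cr j c • dec (nth 0 zl j) = 0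
  refine Finset.sum_eq_zero fun j hj => ?_
  have : nth 0 zl j = 0 := nth_forall (p := fun a => a = 0) rfl (by decide) j
  rw [this, dec_zero, smul_zero]

noncomputable def chkI (S N1 N2 W F : List ℕ) (k : ℕ) : Bool :=
  and2 (H29.allL [N1, N2, W, F] fun l => Nat.beq l.length 24)
    (and2 (H29.allL F fun a => Nat.beq (Nat.shiftRight a k) 0)
      (allN 24 fun j => lit (Nat.pow 2 j) fun c => lit (apC N2 c) fun d =>
        eqD c (Nat.xor (Nat.xor (apC N1 (Nat.xor c (apC S c))) (Nat.xor d (apC S d)))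
          (apC W (apC F c)))))

theorem param {s : G0} {S N1 N2 W F : List ℕ} {k : ℕ} (hs : Cols s S)
    (h : chkI S N1 N2 W F k = true) {c : C} (hc : s • c = c) :
    ∃ t < 2 ^ k, c = dec (apC W t) + (lm N2 c + s • lm N2 c) := by
  simp only [chkI, and2_true, allL_true, allN_true, lit_eq, H29.beq_true, List.forall_mem_cons,
    eqD_iff] at h
  obtain ⟨⟨l1, l2, l3, l4, -⟩, h1, h2⟩ := h
  have key : ∀ c : C, c = lm N1 (c + s • c) + (lm N2 c + s • lm N2 c) + lm W (lm F c) := by
    refine dec_induction (by simp) (fun j hj => ?_) fun c d hc hd => ?_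
    · rw [← hs.ap, ← dec_xor, lm_dec l1, lm_dec l2, lm_dec l4, lm_dec l3, ← hs.ap, ← dec_xor,
        ← dec_xor, ← dec_xor]
      exact h2 j hj
    · simp only [map_add, smul_add] at hc hd ⊢
      conv_lhs => rw [hc, hd]
      abel
  obtain ⟨n, -, rfl⟩ := dec_surj c
  refine ⟨apC F n, ?_, ?_⟩
  · have := apC_hi F h1 n
    rwa [Nat.shiftRight_eq_div_pow, Nat.div_eq_zero_iff_lt (by positivity)] at this
  · have := key (dec n)
    rw [hc, two_zmod, map_zero, zero_add, lm_dec l4, lm_dec l3, add_comm] at this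
    exact this

theorem free_of {s : G0} {S N : List ℕ} (hs : Cols s S) (h : chkI S N N zl zl 0 = true) (c : C)
    (hc : s • c = c) : ∃ d : C, c = d + s • d := by
  obtain ⟨t, -, e⟩ := param hs h hc
  rw [← lm_dec rfl, lm_zl, zero_add] at e
  exact ⟨_, e⟩

theorem card_fix {s : G0} {S N W F : List ℕ} (hs : Cols s S) (h : chkI S N zl W F 19 = true) :
    Nat.card {c : C // s • c = c} ≤ 2 ^ 19 := by
  choose t ht e using fun c : {c : C // s • c = c} => param hs h c.2
  have := Nat.card_le_card_of_injective (fun c => (⟨t c, ht c⟩ : Fin (2 ^ 19))) fun a b hab => by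
    apply Subtype.ext
    rw [e a, e b, lm_zl, lm_zl, show t a = t b from congrArg Fin.val hab]
  simpa using this

noncomputable def chkJ (S W F : List ℕ) (k : ℕ) : Bool :=
  and2 (H29.allL [W, F] fun l => Nat.beq l.length 24)
    (and2 (H29.allL F fun a => Nat.beq (Nat.shiftRight a k) 0)
      (allN 24 fun j => lit (Nat.pow 2 j) fun c => eqD (Nat.xor c (apC S c)) (apC W (apC F c))))

theorem param_im {s : G0} {S W F : List ℕ} {k : ℕ} (hs : Cols s S) (h : chkJ S W F k = true)
    (c : C) : ∃ t < 2 ^ k, c + s • c = dec (apC W t) := by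
  simp only [chkJ, and2_true, allL_true, allN_true, lit_eq, H29.beq_true, List.forall_mem_cons,
    eqD_iff] at h
  obtain ⟨⟨l3, l4, -⟩, h1, h2⟩ := h
  have key : ∀ c : C, c + s • c = lm W (lm F c) := by
    refine dec_induction (by simp) (fun j hj => ?_) fun c d hc hd => ?_
    · rw [← hs.ap, ← dec_xor, lm_dec l4, lm_dec l3]
      exact h2 j hj
    · rw [map_add, map_add, ← hc, ← hd, smul_add]
      abel
  obtain ⟨n, -, rfl⟩ := dec_surj c
  refine ⟨apC F n, ?_, by rw [key, lm_dec l4, lm_dec l3]⟩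
  have := apC_hi F h1 n
  rwa [Nat.shiftRight_eq_div_pow, Nat.div_eq_zero_iff_lt (by positivity)] at this

/-! ### The polar form -/

theorem pl_comm (c d : C) : pl c d = pl d c := add_comm _ _
theorem pl_add_left (c d e : C) : pl (c + d) e = pl c e + pl d e := by
  simp only [pl, bb_add_left, bb_add_right]; ring
theorem pl_add_right (c d e : C) : pl c (d + e) = pl c d + pl c e := by
  simp only [pl, bb_add_left, bb_add_right]; ring
theorem pl_smul (g : G0) (c d : C) : pl (g • c) (g • d) = pl c d := bb_smul g c d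
theorem bb_add_self (c d : C) : bb (c + d) (c + d) = bb c c + bb d d + pl c d := by
  simp only [pl, bb_add_left, bb_add_right]; ring

theorem pl_swap {s : G0} (h : ∀ c : C, s • s • c = c) (c d : C) : pl c (s • d) = pl (s • c) d := by
  rw [← pl_smul s c, h]

theorem pl_diag {s : G0} (h : ∀ c : C, s • s • c = c)
    (h1 : ∀ j < 24, pl (dec (2 ^ j)) (s • dec (2 ^ j)) = 0) (d : C) : pl d (s • d) = 0 := by
  refine dec_induction (p := fun d => pl d (s • d) = 0) (by simp [pl, bb_zero_left]) h1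
    (fun c d hc hd => ?_) d
  rw [smul_add, pl_add_left, pl_add_right, pl_add_right, hc, hd, pl_swap h d c, pl_comm (s • d),
    zero_add, add_zero, two_zmod]

theorem im_of_perp {s : G0} (h : ∀ c : C, s • s • c = c) {c : C}
    (hc : ∀ d : C, s • d = d → pl c d = 0) : ∃ d : C, c = d + s • d := by
  let W : Submodule (ZMod 2) C := AddSubgroup.toZModSubmodule 2
    (AddMonoidHom.id C + DistribMulAction.toAddMonoidHom C s).range
  by_contra hn
  have hW : c ∉ W := fun ⟨d, hd⟩ => hn ⟨d, hd.symm⟩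
  obtain ⟨f, f1, f2⟩ := Submodule.exists_dual_map_eq_bot_of_notMem hW inferInstance
  obtain ⟨d, hd⟩ := exists_polar f.toAddMonoidHom
  have h3 : d + s • d = 0 := polar_nondeg fun e => by
    have h4 : f (e + s • e) = 0 := by
      have : f (e + s • e) ∈ W.map f := Submodule.mem_map_of_mem ⟨e, rfl⟩
      rwa [f2, Submodule.mem_bot] at this
    have h5 : pl d (e + s • e) = 0 := (hd _).symm.trans h4
    rw [pl_add_right, pl_swap h, ← pl_add_left] at h5
    exact h5
  refine f1 ((hd c).trans ?_)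
  have := hc d (add_eq_zero_C.1 h3).symm
  rwa [pl_comm] at this

theorem sq_of_cols {s : G0} {S : List ℕ} (hs : Cols s S) (h : eqL (mulC S S) hCI = true) (c : C) :
    s • s • c = c := by
  have := cols_ac (hs.mul hs) (eqL_true h ▸ cols_one) c
  rwa [mul_smul, one_smul] at this

/-! ### The classes of shape `(4, 4, 0^22)` -/

def SH : ℕ := 0xc080000010810000680020010100000008001002a002204920002049010000000080000008000065010008800103000000618800040000004401000088104016802940004004002901044000500008000000008000000400080180000381160000000a1022008000a0000016080100610000c0800059208120801600c081163f6802200500001042c0a0004000810124100104000000040c0820040c8001052080011088001810300088000100568018503000101004440100000540000001030203024002000a03800001080008104008a080020442002400400005160003812204000000400210000111032000113004116801040c0000000103116800036ac080000010810000680020010100000008001002a002204920002049010000000080000008000065010008800103000000618800040000004401000088104016802940004004002901044000500008000000008000000400080180000381160000000a1022008000a0000016080100610000c0800059208120801600c081163f6802200500001042c0a0004000810124100104000000040c0820040c8001052080011088001810300088000100568018503000101004440100000540000001030203024002000a03800001080008104008a080020442002400400005160003812204000000400210000111032000113004116801040c0000000103116800036a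

theorem SH_eq : and2 (Nat.beq SH (orLt 552 fun i => Nat.shiftLeft 1 (cdv CP (Nat.add 97728 i))))
    (Nat.beq (Nat.shiftRight SH 4096) 0) = true := by decide +kernel

theorem SH_iff {n : ℕ} : SH.testBit n = true ↔ ∃ i < 552, cdv CP (97728 + i) = n := by
  rw [H29.beq_true.1 (and2_true.1 SH_eq).1, testBit_orLt]
  refine exists_congr fun i => and_congr_right fun _ => ?_
  change (1 <<< cdv CP (97728 + i)).testBit n = true ↔ _
  rw [Nat.one_shiftLeft, Nat.testBit_two_pow, decide_eq_true_eq]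

theorem SH_lt {n : ℕ} (h : SH.testBit n = true) : n < 4096 := by
  by_contra hn
  have h1 : SH >>> 4096 = 0 := H29.beq_true.1 (and2_true.1 SH_eq).2
  have := Nat.testBit_shiftRight (i := 4096) (j := n - 4096) SH
  rw [h1, show 4096 + (n - 4096) = n by omega, h] at this
  simp at this

theorem sh0_of {n : ℕ} (h : SH.testBit n = true) : Sh0 (dec n) := by
  obtain ⟨i, hi, rfl⟩ := SH_iff.1 h
  rw [dec_cdv]
  exact ⟨cls_S (by omega), (cls_fst (by omega)).2 (by omega)⟩

theorem sh0_ex {c : C} (h : Sh0 c) : ∃ n, SH.testBit n = true ∧ dec n = c := by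
  obtain ⟨p, hp, e⟩ := cls_surj (toS c h.1)
  rw [toS_val] at e
  have h1 := (cls_fst hp).1 (e ▸ h.2)
  refine ⟨cdv CP p, SH_iff.2 ⟨p - 97728, by omega, by rw [show 97728 + (p - 97728) = p by omega]⟩, ?_⟩
  rw [dec_cdv]; exact e

theorem sh0_bit {n : ℕ} (hn : n < 4096) (h : Sh0 (dec n)) : SH.testBit n = true := by
  obtain ⟨m, h1, e⟩ := sh0_ex h
  rwa [← dec_inj ((SH_lt h1).trans (by norm_num)) (hn.trans (by norm_num)) e]

theorem tri_conj {h u r : G0} (hu : u ∈ N0) (h1 : Ac (u * h * u⁻¹) r) (h2 : Tri3 r) : Tri3 h := by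
  obtain ⟨a, b, s1, s2, s3, f1, f2⟩ := h2
  have hu' := N0.inv_mem hu
  have k1 : ∀ c, Sh0 c → Sh0 (u⁻¹ • c) := fun c hc => ⟨hc.1.smul _, fst_smul_zero hu' hc.2⟩
  have k2 : ∀ c, Fm r c → Fm h (u⁻¹ • c) := fun c hc => by
    have e : h • u⁻¹ • c = u⁻¹ • r • c := by
      rw [← h1, mul_smul, mul_smul, inv_smul_smul]
    rw [Fm, e]
    exact hc.imp (fun k => by rw [k]) fun k => by rw [k, smul_add, fix_Om.2 hu']
  exact ⟨_, _, k1 a s1, k1 b s2, by rw [← smul_add]; exact k1 _ s3, k2 a f1, k2 b f2⟩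

/-! ### Monomial elements given by codes -/

noncomputable def mn (d m : ℕ) : G0 :=
  if h : isM24 d = true ∧ isCw m = true then
    mono ⟨H9.pm d, mem_M24_of_isM24 h.1⟩ ⟨ofMask m, mem_GC_of_isCw h.2⟩ else 1

theorem mn_eq {d m : ℕ} (hd : isM24 d = true) (hm : isCw m = true) {σ : M24} {o : GC}
    (h1 : (σ : Equiv.Perm GolayPt) = H9.pm d) (h2 : o.1 = ofMask m) : mn d m = mono σ o := by
  rw [mn, dif_pos ⟨hd, hm⟩]
  congr 1
  · exact Subtype.ext h1.symm
  · exact Subtype.ext h2.symm

theorem mn_mem (d m : ℕ) : mn d m ∈ N0 := by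
  rw [mn]; split_ifs
  · exact mono_mem_N0 _ _
  · exact N0.one_mem

noncomputable def spC (d m n : ℕ) : ℕ :=
  mkV fun i => Bool.rec (dg n (dig d i)) (Nat.sub 32 (dg n (dig d i))) (H9.tb m i)

noncomputable def chkM (d m : ℕ) (A : List ℕ) : Bool :=
  and2 (isM24 d) (and2 (isCw m) (and2 (Nat.beq (mulP d d) idP) (and2 (Nat.beq A.length 24)
    (allN 24 fun j => fh (spC d m (bC j)) fun n => decide (kapC n = dec (nth 0 A j))))))

theorem bC_le : ∀ j < 24, ∀ i < 24, dg (bC j) i ≤ 32 := by decide +kernel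

theorem cols_mn {d m : ℕ} {A : List ℕ} (h : chkM d m A = true) : Cols (mn d m) A := by
  simp only [chkM, and2_true, allN_true, fh_eq, decide_eq_true_eq, H29.beq_true] at h
  obtain ⟨h1, h2, h3, h4, h5⟩ := h
  have v := validP_of_isM24 h1
  refine ⟨h4, fun j hj => ?_⟩
  obtain ⟨b1, -, b3⟩ := bC_ok j hj
  rw [← h5 j hj, ← b3, ← kap_code (lv_coe b1), smul_kap, mn, dif_pos ⟨h1, h2⟩]
  refine kap_code (funext fun p => ?_)
  have e : (H9.pm d).symm = H9.pm d := by
    change (H9.pm d)⁻¹ = H9.pm d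
    rw [inv_eq_iff_mul_eq_one, ← pm_mulP v v, h3, pm_idP]
  have hl := dig_lt v (ix_lt p)
  have hb := bC_le j hj _ hl
  rw [mono_smul, signedPerm, lv_coe b1, spC, vc_mkV _ fun i hi => by
    cases H9.tb m i
    · exact dg_lt _ _
    · exact lt_of_le_of_lt (Nat.sub_le _ _) (by norm_num)]
  simp only [e, pm_apply v, vc_pt _ hl, mem_ofMask, tb_eq]
  cases m.testBit (ix p)
  · simp
  · simp only [if_true]
    change _ = ((32 - dg (bC j) (dig d (ix p)) : ℕ) : ℤ) - 16
    omega

noncomputable def chkR (d : ℕ) (φ R : List ℕ) : Bool :=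
  and2 (isM24 d) (and2 (H29.allL R isCw) (treeAll (fun m => lit (cw m) fun o =>
    lit (Nat.xor o (actM d o)) fun x => im (ou (Nat.beq x 0) (Nat.beq x 16777215))
      (lit (cw (lin φ m)) fun c => lit (Nat.xor (Nat.xor c o) (actM d c)) fun y =>
        H9.anyL R fun r => ou (Nat.beq r y) (Nat.beq r (Nat.xor y 16777215)))) 12 0))

theorem mono_compl (σ : M24) (o : GC) : Ac (mono σ ⟨o.1ᶜ, compl_mem_GC o.2⟩) (mono σ o) := by
  refine ac_trans (fun c => ?_) (ac_neg _)
  rw [neg1_eq, mono_mul]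
  refine congrArg (· • c) (congrArg₂ mono (one_mul _).symm (Subtype.ext ?_))
  ext x; simp [Finset.mem_symmDiff]

theorem mono_one_inv (c : GC) : (mono 1 c)⁻¹ = mono 1 c := by
  rw [inv_eq_iff_mul_eq_one, mono_one_mul, ← mono_one]
  congr 1
  exact Subtype.ext (by simp [gc0])

theorem red_fix {d : ℕ} {φ R : List ℕ} (h : chkR d φ R = true) {σ : M24} {o : GC}
    (h1 : (σ : Equiv.Perm GolayPt) = H9.pm d)
    (h2 : o.1 ∆ ((σ : Equiv.Perm GolayPt) • o.1) = ∅ ∨
      o.1 ∆ ((σ : Equiv.Perm GolayPt) • o.1) = Finset.univ) :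
    ∃ u ∈ N0, ∃ r ∈ R, Ac (u * mono σ o * u⁻¹) (mn d r) := by
  simp only [chkR, and2_true, allL_true, treeAll_iff, lit_eq, im_true, ou_true, H29.beq_true,
    anyL_iff] at h
  obtain ⟨d1, d2, d3⟩ := h
  have v := validP_of_isM24 d1
  obtain ⟨m, hm, e⟩ := exists_cw_of_mem o.2
  have hl : cw m ^^^ actM d (cw m) < 2 ^ 24 := Nat.xor_lt_two_pow (cw_lt m) (actM_lt v _)
  rw [e, h1, pm_smul_ofMask v, ← ofMask_xor, ← ofMask_zero, ← ofMask_full] at h2
  obtain ⟨r, hr, h3⟩ := d3 m hm (h2.imp (ofMask_inj hl (by norm_num)) (ofMask_inj hl (by norm_num)))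
  let c : GC := ⟨ofMask (cw (lin φ m)), cw_mem_GC _⟩
  refine ⟨mono 1 c, mono_mem_N0 _ _, r, hr, ?_⟩
  rw [mono_one_inv, mono_mul, mono_mul]
  rcases h3 with h3 | h3
  · rw [mn_eq d1 (d2 r hr) (σ := 1 * σ * 1) (by simpa using h1)]
    · exact ac_refl _
    · simp only [one_mul, OneMemClass.coe_one, one_smul, c, e, h1, h3, pm_smul_ofMask v]
      rw [← ofMask_xor, ← ofMask_xor]; rfl
  · refine ac_symm ?_
    rw [mn_eq d1 (d2 r hr) (σ := 1 * σ * 1) (by simpa using h1)]
    · exact mono_compl _ _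
    · simp only [one_mul, OneMemClass.coe_one, one_smul, c, e, h1, h3, pm_smul_ofMask v]
      rw [← ofMask_xor, ← ofMask_xor, ← ofMask_compl]; rfl

theorem perm_conj (g σ : M24) (o : GC) : permHom g * mono σ o * (permHom g)⁻¹ =
    mono (g * σ * g⁻¹) ⟨(g : Equiv.Perm GolayPt) • o.1, H9.smul_mem_GC g.2 o.2⟩ := by
  rw [← map_inv, permHom_apply, permHom_apply, mono_mul, mono_mul]
  congr 1
  exact Subtype.ext (by simp [gc0])

theorem perm_mem (g : M24) : permHom g ∈ N0 := mono_mem_N0 _ _

theorem sq_cond {σ : M24} {o : GC} (h : ∀ c : C, mono σ o • mono σ o • c = c) :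
    σ * σ = 1 ∧ (o.1 ∆ ((σ : Equiv.Perm GolayPt) • o.1) = ∅ ∨
      o.1 ∆ ((σ : Equiv.Perm GolayPt) • o.1) = Finset.univ) := by
  have h1 := mem_center_G0.1 (center_of_fix (h := mono σ o * mono σ o) fun c => by
    rw [mul_smul, h])
  rw [mono_mul, ← mono_one, neg1_eq] at h1
  rcases h1 with h1 | h1
  · exact ⟨(mono_inj h1).1, Or.inl (congrArg Subtype.val (mono_inj h1).2)⟩
  · exact ⟨(mono_inj h1).1, Or.inr (congrArg Subtype.val (mono_inj h1).2)⟩

theorem conj_N0 {h : G0} (h2 : ∀ c : C, h • h • c = c) : ∃ u : G0, u * h * u⁻¹ ∈ N0 := by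
  classical
  have : Finite (MulAction.orbit G0 Om) := inferInstance
  have := Fintype.ofFinite (MulAction.orbit G0 Om)
  have hc : Fintype.card (MulAction.orbit G0 Om) = 8292375 := by
    rw [← Nat.card_eq_fintype_card, Nat.card_coe_set_eq, ncard_orbit_Om]
  obtain ⟨⟨_, u, rfl⟩, e⟩ := Equiv.Perm.exists_fixed_point_of_prime (p := 2) (n := 1)
    (by rw [hc]; norm_num) (σ := (MulAction.toPerm h : Equiv.Perm (MulAction.orbit G0 Om)))
    (Equiv.ext fun x => Subtype.ext (h2 x.1))
  refine ⟨u⁻¹, fix_Om.1 ?_⟩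
  have e' : h • u • Om = u • Om := congrArg Subtype.val e
  rw [mul_smul, mul_smul, inv_inv, e', inv_smul_smul]

theorem kap_e8 (i : GolayPt) : kap (e8 i) = Om := by
  by_cases h : i = none
  · rw [h, Om]
  obtain ⟨g, hg, e⟩ := M24_trans_list [none] [i] (by simp) (by simp) rfl (by simp)
  have : permHom ⟨g, hg⟩ • e8 none = e8 i := Subtype.ext (by
    rw [permHom_apply, mono_e8, e8_coe]
    simp only [List.map_cons, List.map_nil, List.cons.injEq, and_true] at e
    simp [gc0, e])
  rw [← this, ← smul_kap]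
  exact fix_Om.2 (perm_mem _)

end H10.Mon.LFt
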