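import Mathlib
import Cfsg.Agent.H2.MinNormal
import Cfsg.Agent.H1.Coprime

/-!
# Subnormal subgroups: Wielandt's join theorem and consequences
-/

set_option autoImplicit false

namespace H11

open Subgroup Pointwise
open scoped commutatorElement

universe u

variable {G : Type u} [Group G]

/-- `H` is subnormal in `K` (relative form). -/
def SN (H K : Subgroup G) : Prop :=
  Relation.ReflTransGen (fun A B : Subgroup G => A ≤ B ∧ B ≤ normalizer (A : Set G)) H K

theorem SN.refl (H : Subgroup G) : SN H H := Relation.ReflTransGen.refl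

theorem SN.of_le_normalizer {H K : Subgroup G} (h : H ≤ K) (hn : K ≤ normalizer (H : Set G)) :
    SN H K := Relation.ReflTransGen.single ⟨h, hn⟩

theorem SN.trans {H K L : Subgroup G} (h : SN H K) (h' : SN K L) : SN H L :=
  Relation.ReflTransGen.trans h h'

theorem SN.le {H K : Subgroup G} (h : SN H K) : H ≤ K := by
  induction h with
  | refl => exact le_rfl
  | tail _ h2 ih => exact ih.trans h2.1

theorem SN.isSubnormal_subgroupOf {H K : Subgroup G} (h : SN H K) :
    (H.subgroupOf K).IsSubnormal := by
  induction h using Relation.ReflTransGen.head_induction_on with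
  | refl => rw [subgroupOf_self]; exact IsSubnormal.top
  | @head A B hAB _ ih =>
    refine IsSubnormal.step _ (B.subgroupOf K) (comap_mono hAB.1) ih ?_
    exact (normal_subgroupOf_iff_le_normalizer (comap_mono hAB.1)).2
      ((comap_mono hAB.2).trans (le_normalizer_comap _))

theorem sn_map_subtype {K : Subgroup G} {L : Subgroup K} (h : L.IsSubnormal) :
    SN (L.map K.subtype) K := by
  induction h with
  | top => rw [← MonoidHom.range_eq_map, range_subtype]; exact SN.refl K
  | step A B hle _ hN ih =>
    rw [normal_subgroupOf_iff_le_normalizer hle] at hN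
    exact (SN.of_le_normalizer (map_mono hle) ((map_mono hN).trans (le_normalizer_map _))).trans ih

theorem sn_iff {H K : Subgroup G} : SN H K ↔ H ≤ K ∧ (H.subgroupOf K).IsSubnormal := by
  refine ⟨fun h => ⟨h.le, h.isSubnormal_subgroupOf⟩, fun h => ?_⟩
  have := sn_map_subtype h.2
  rwa [map_subgroupOf_eq_of_le h.1] at this

theorem sn_top_iff {H : Subgroup G} : SN H ⊤ ↔ H.IsSubnormal := by
  constructor
  · intro h
    exact IsSubnormal.trans le_top h.isSubnormal_subgroupOf IsSubnormal.top
  · intro h
    exact sn_iff.2 ⟨le_top, h.subgroupOf⟩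

theorem SN.inf_right {H K : Subgroup G} (h : SN H K) (L : Subgroup G) : SN (H ⊓ L) (K ⊓ L) := by
  induction h with
  | refl => exact SN.refl _
  | @tail A B _ h2 ih =>
    refine ih.trans (SN.of_le_normalizer (inf_le_inf_right _ h2.1) ?_)
    exact H1.le_normalizer_inf (inf_le_left.trans h2.2) (inf_le_right.trans le_normalizer)

theorem SN.of_le {H K L : Subgroup G} (h : SN H K) (hHL : H ≤ L) (hLK : L ≤ K) : SN H L := by
  have := h.inf_right L
  rwa [inf_of_le_left hHL, inf_of_le_right hLK] at this

theorem SN.map {G' : Type*} [Group G'] {H K : Subgroup G} (h : SN H K) (f : G →* G') :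
    SN (H.map f) (K.map f) := by
  induction h with
  | refl => exact SN.refl _
  | tail _ h2 ih =>
    exact ih.trans (SN.of_le_normalizer (map_mono h2.1)
      ((map_mono h2.2).trans (le_normalizer_map _)))

theorem SN.conj {H K : Subgroup G} (h : SN H K) (g : G) :
    SN (MulAut.conj g • H) (MulAut.conj g • K) := h.map _

theorem sn_of_isNilpotent [Finite G] {H K : Subgroup G} (hK : Group.IsNilpotent K) (h : H ≤ K) :
    SN H K := sn_iff.2 ⟨h, H2.isSubnormal_of_isNilpotent _⟩

/-- existence of minimal `V`-invariant subgroups -/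
theorem exists_min_invariant [Finite G] (V M : Subgroup G) (hM : M ≠ ⊥)
    (hV : V ≤ normalizer (M : Set G)) :
    ∃ K : Subgroup G, K ≤ M ∧ K ≠ ⊥ ∧ V ≤ normalizer (K : Set G) ∧
      ∀ L : Subgroup G, L ≤ K → V ≤ normalizer (L : Set G) → L = ⊥ ∨ L = K := by
  obtain ⟨K, hKM, hK⟩ := exists_minimal_le_of_wellFoundedLT
    (fun K : Subgroup G => K ≠ ⊥ ∧ V ≤ normalizer (K : Set G)) M ⟨hM, hV⟩
  refine ⟨K, hKM, hK.prop.1, hK.prop.2, fun L hL hVL => ?_⟩
  by_cases h : L = ⊥
  · exact Or.inl h
  · exact Or.inr (le_antisymm hL (hK.le_of_le ⟨h, hVL⟩ hL))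

/-- A minimal normal subgroup normalizes every subnormal subgroup (relative form). -/
theorem SN.min_le_normalizer [Finite G] {S V : Subgroup G} (h : SN S V) :
    ∀ M : Subgroup G, M ≤ V → V ≤ normalizer (M : Set G) →
      (∀ L : Subgroup G, L ≤ M → V ≤ normalizer (L : Set G) → L = ⊥ ∨ L = M) →
      M ≤ normalizer (S : Set G) := by
  induction h with
  | refl => exact fun M hM _ _ => hM.trans le_normalizer
  | @tail N V hSN hNV ih =>
    intro M hMV hVM hmin
    by_cases hM0 : M = ⊥
    · rw [hM0]; exact bot_le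
    rcases hmin (M ⊓ N) inf_le_left (H1.le_normalizer_inf hVM hNV.2) with h0 | h1
    · have : ⁅M, N⁆ = ⊥ := by
        rw [eq_bot_iff, ← h0]
        exact le_inf (le_normalizer_iff_commutator_le_left.1 (hNV.1.trans hVM))
          (le_normalizer_iff_commutator_le_right.1 (hMV.trans hNV.2))
      rw [commutator_eq_bot_iff_le_centralizer] at this
      exact this.trans ((H2.centralizer_anti (SN.le hSN)).trans (centralizer_le_normalizer _))
    · have hMN : M ≤ N := inf_eq_left.1 h1
      obtain ⟨K, hKM, hK0, hNK, hKmin⟩ := exists_min_invariant N M hM0 (hNV.1.trans hVM)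
      -- all `V`-conjugates of `K` normalize `S`
      have key : ∀ v ∈ V, MulAut.conj v • K ≤ normalizer (S : Set G) := by
        intro v hv
        have hvN : MulAut.conj v • N = N := H1.conj_smul_eq_iff_mem_normalizer.2 (hNV.2 hv)
        have hvN' : MulAut.conj v⁻¹ • N = N :=
          H1.conj_smul_eq_iff_mem_normalizer.2 (hNV.2 (V.inv_mem hv))
        apply ih
        · exact H1.conj_smul_le_of_mem_normalizer (hKM.trans hMN) (hNV.2 hv)
        · rw [H1.normalizer_conj_smul, ← hvN]
          exact pointwise_smul_le_pointwise_smul_iff.2 hNK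
        · intro L hL hNL
          have h1 : MulAut.conj v⁻¹ • L ≤ K := by
            rw [map_inv]; exact pointwise_smul_subset_iff.2 (by rwa [inv_inv])
          have h2 : N ≤ normalizer ((MulAut.conj v⁻¹ • L : Subgroup G) : Set G) := by
            rw [H1.normalizer_conj_smul, ← hvN']
            exact pointwise_smul_le_pointwise_smul_iff.2 hNL
          rcases hKmin _ h1 h2 with h | h
          · left
            have := congrArg (fun X : Subgroup G => MulAut.conj v • X) h
            simpa using this
          · right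
            rw [← h, map_inv, smul_inv_smul]
      let W : Subgroup G := M ⊓ ⨅ v : V, MulAut.conj (v : G) • normalizer (S : Set G)
      have hKW : K ≤ W := by
        refine le_inf hKM (le_iInf fun v => ?_)
        have := key (v : G)⁻¹ (V.inv_mem v.2)
        rw [map_inv] at this
        exact subset_pointwise_smul_iff.2 this
      have hVW : V ≤ normalizer (W : Set G) := by
        apply H1.le_normalizer_inf hVM
        rw [le_normalizer_iff]
        intro v hv x hx
        rw [mem_iInf] at hx ⊢
        intro w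
        have := hx ⟨v⁻¹ * w, V.mul_mem (V.inv_mem hv) w.2⟩
        rw [H1.mem_conj_smul] at this ⊢
        simpa [mul_assoc] using this
      rcases hmin W inf_le_left hVW with h | h
      · exact absurd (eq_bot_iff.2 (h ▸ hKW)) hK0
      · have : M ≤ MulAut.conj ((1 : V) : G) • normalizer (S : Set G) :=
          h.symm.le.trans (inf_le_right.trans (iInf_le _ (1 : V)))
        simpa using this

/-- A minimal normal subgroup normalizes every subnormal subgroup. -/
theorem isMinNormal_le_normalizer [Finite G] {M S : Subgroup G} (hM : H2.IsMinNormal M)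
    (hS : S.IsSubnormal) : M ≤ normalizer (S : Set G) := by
  have := hM.1
  refine (sn_top_iff.2 hS).min_le_normalizer M le_top le_normalizer_of_normal ?_
  intro L hL hn
  exact hM.2.2 L (normalizer_eq_top_iff.1 (top_le_iff.1 hn)) hL

theorem isSubnormal_sup_aux (n : ℕ) : ∀ (G : Type u) [Group G] [Finite G], Nat.card G = n →
    ∀ A B : Subgroup G, A.IsSubnormal → B.IsSubnormal → (A ⊔ B).IsSubnormal := by
  induction n using Nat.strong_induction_on with
  | _ n ih =>
    intro G _ _ hn A B hA hB
    rcases subsingleton_or_nontrivial G with hG | hG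
    · exact IsSubnormal.of_subsingleton
    obtain ⟨M, hM⟩ := H2.exists_isMinNormal G
    have := hM.1
    have h1 := ih _ (hn ▸ H2.card_quotient_lt hM.2.1) (G ⧸ M) rfl _ _ hA.quotient hB.quotient
    rw [← Subgroup.map_sup] at h1
    have h2 := h1.comap (QuotientGroup.mk' M)
    rw [H2.comap_map_mk'] at h2
    refine IsSubnormal.step _ _ le_sup_left h2 ?_
    rw [normal_subgroupOf_iff_le_normalizer le_sup_left]
    exact sup_le le_normalizer (H1.le_normalizer_sup (isMinNormal_le_normalizer hM hA)
      (isMinNormal_le_normalizer hM hB))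

/-- Wielandt's join theorem. -/
theorem isSubnormal_sup [Finite G] {A B : Subgroup G} (hA : A.IsSubnormal) (hB : B.IsSubnormal) :
    (A ⊔ B).IsSubnormal := isSubnormal_sup_aux _ G rfl A B hA hB

theorem SN.sup [Finite G] {A B V : Subgroup G} (hA : SN A V) (hB : SN B V) : SN (A ⊔ B) V := by
  refine sn_iff.2 ⟨sup_le hA.le hB.le, ?_⟩
  rw [subgroupOf_sup hA.le hB.le]
  exact isSubnormal_sup hA.isSubnormal_subgroupOf hB.isSubnormal_subgroupOf

theorem sn_bot (V : Subgroup G) : SN ⊥ V :=
  SN.of_le_normalizer bot_le le_normalizer_of_normal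

theorem sn_sSup [Finite G] {S : Set (Subgroup G)} {V : Subgroup G} (h : ∀ U ∈ S, SN U V) :
    SN (sSup S) V := by
  have h1 := H2.sSup_mem_of_sup_closed {U : Subgroup G | SN U V ∧ U ≤ sSup S}
    ⟨sn_bot V, bot_le⟩ (fun A hA B hB => ⟨hA.1.sup hB.1, sup_le hA.2 hB.2⟩)
  have h2 : sSup {U : Subgroup G | SN U V ∧ U ≤ sSup S} = sSup S :=
    le_antisymm h1.2 (sSup_le_sSup fun U hU => ⟨h U hU, le_sSup hU⟩)
  exact h2 ▸ h1.1

theorem isSubnormal_sSup [Finite G] {S : Set (Subgroup G)} (h : ∀ U ∈ S, U.IsSubnormal) :
    (sSup S).IsSubnormal := sn_top_iff.1 (sn_sSup fun U hU => sn_top_iff.2 (h U hU))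

theorem le_normalizer_sSup {X : Subgroup G} {S : Set (Subgroup G)}
    (h : ∀ x ∈ X, ∀ U ∈ S, MulAut.conj x • U ≤ sSup S) :
    X ≤ normalizer ((sSup S : Subgroup G) : Set G) := by
  rw [le_normalizer_iff]
  intro x hx k hk
  have : sSup S ≤ (sSup S).comap (MulAut.conj x).toMonoidHom :=
    sSup_le fun U hU => map_le_iff_le_comap.1 (h x hx U hU)
  exact this hk

/-- Kurzweil–Stellmacher 6.7.2, relative form. -/
theorem exists_le_normalizer_sSup [Finite G] (V : Subgroup G) (S S₀ : Set (Subgroup G))
    (hS : ∀ U ∈ S, SN U V) (hconj : ∀ U ∈ S, ∀ g ∈ V, MulAut.conj g • U ∈ S) (h₀ : S₀ ⊂ S) :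
    ∃ X ∈ S, X ∉ S₀ ∧ X ≤ normalizer ((sSup S₀ : Subgroup G) : Set G) := by
  have key : ∀ L : Subgroup G, SN L V → sSup S₀ ≤ L → (∀ X ∈ S, X ≤ L → X ∈ S₀) →
      ∃ X ∈ S, X ∉ S₀ ∧ X ≤ normalizer ((sSup S₀ : Subgroup G) : Set G) := by
    intro L hL
    induction hL using Relation.ReflTransGen.head_induction_on with
    | refl =>
      intro _ h
      exact absurd (fun X hX => h X hX (hS X hX).le) h₀.2
    | @head A B hAB hBV ih =>
      intro hle h
      by_cases hB : ∀ X ∈ S, X ≤ B → X ∈ S₀
      · exact ih (hle.trans hAB.1) hB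
      push Not at hB
      obtain ⟨X, hXS, hXB, hX0⟩ := hB
      refine ⟨X, hXS, hX0, le_normalizer_sSup fun x hx U hU => le_sSup ?_⟩
      refine h _ (hconj U (h₀.1 hU) x (SN.le hBV (hXB hx))) ?_
      exact H1.conj_smul_le_of_mem_normalizer ((le_sSup hU).trans hle) (hAB.2 (hXB hx))
  by_cases h : ∀ X ∈ S, X ≤ sSup S₀ → X ∈ S₀
  · exact key _ (sn_sSup fun U hU => hS U (h₀.1 hU)) le_rfl h
  push Not at h
  obtain ⟨X, hXS, hX, hX0⟩ := h
  exact ⟨X, hXS, hX0, hX.trans le_normalizer⟩

/-- the relative index of a subgroup in a subnormal subgroup divides the larger relative index -/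
theorem SN.relIndex_dvd [Finite G] {H K : Subgroup G} (h : SN H K) (S : Subgroup G) :
    S.relIndex H ∣ S.relIndex K := by
  induction h with
  | refl => exact dvd_rfl
  | tail _ h2 ih => exact ih.trans (H1.relIndex_dvd_of_le_normalizer S h2.1 h2.2)

theorem relIndex_dvd_index_of_isSubnormal [Finite G] {H : Subgroup G} (h : H.IsSubnormal)
    (S : Subgroup G) : S.relIndex H ∣ S.index := by
  have := (sn_top_iff.2 h).relIndex_dvd S
  rwa [relIndex_top_right] at this

theorem exists_sylow_eq_subgroupOf [Finite G] {p : ℕ} [Fact p.Prime] {H : Subgroup G}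
    (hH : H.IsSubnormal) (S : Sylow p G) :
    ∃ Q : Sylow p H, (Q : Subgroup H) = (S : Subgroup G).subgroupOf H :=
  ⟨(S.isPGroup'.comap_subtype (K := H)).toSylow fun h =>
    S.not_dvd_index (h.trans (relIndex_dvd_index_of_isSubnormal hH _)), rfl⟩

theorem isSubnormal_iff_iterate_commutator_le (H : Subgroup G) :
    H.IsSubnormal ↔ ∃ m : ℕ, (fun K : Subgroup G => ⁅K, H⁆)^[m] ⊤ ≤ H := by
  constructor
  · intro h
    induction h with
    | top => exact ⟨0, le_top⟩
    | step A B hle _ hN ih =>
      obtain ⟨m, hm⟩ := ih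
      rw [normal_subgroupOf_iff_le_normalizer hle] at hN
      have : ∀ k : ℕ, (fun K : Subgroup G => ⁅K, A⁆)^[k] ⊤ ≤
          (fun K : Subgroup G => ⁅K, B⁆)^[k] ⊤ := by
        intro k
        induction k with
        | zero => exact le_rfl
        | succ k ihk =>
          rw [Function.iterate_succ_apply', Function.iterate_succ_apply']
          exact commutator_mono ihk hle
      refine ⟨m + 1, ?_⟩
      rw [Function.iterate_succ_apply']
      exact (commutator_mono ((this m).trans hm) le_rfl).trans
        (le_normalizer_iff_commutator_le_right.1 hN)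
  · rintro ⟨m, hm⟩
    have : ∀ k : ℕ, (((fun K : Subgroup G => ⁅K, H⁆)^[k] ⊤) ⊔ H).IsSubnormal := by
      intro k
      induction k with
      | zero => simp
      | succ k ihk =>
        rw [Function.iterate_succ_apply']
        set K := (fun K : Subgroup G => ⁅K, H⁆)^[k] ⊤
        have hle : ⁅K, H⁆ ⊔ H ≤ K ⊔ H := sup_le (commutator_le_sup K H) le_sup_right
        refine IsSubnormal.step _ _ hle ihk ?_
        rw [normal_subgroupOf_iff_le_normalizer hle]
        refine sup_le ?_ (le_sup_right.trans le_normalizer)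
        rw [le_normalizer_iff]
        intro k hk x hx
        have : ⁅K, H⁆ ⊔ H ≤ (⁅K, H⁆ ⊔ H).comap (MulAut.conj k).toMonoidHom := by
          refine sup_le (fun y hy => ?_) (fun y hy => ?_)
          · exact mem_sup_left (H1.conj_mem_of_le_normalizer
              (normalizer_commutator_ge_left K H) hk hy)
          · have : (MulAut.conj k) y = ⁅k, y⁆ * y := conj_eq_commutatorElement_mul
            show (MulAut.conj k) y ∈ ⁅K, H⁆ ⊔ H
            rw [this]
            exact mul_mem (mem_sup_left (commutator_mem_commutator hk hy)) (mem_sup_right hy)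
        exact this hx
    have h := this m
    rwa [sup_of_le_right hm] at h

end H11
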