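import Mathlib

/-!
# Itô's theorem: a product of two abelian subgroups is metabelian
-/

set_option autoImplicit false

namespace H11

open Subgroup
open scoped commutatorElement

variable {G : Type*} [Group G]

theorem exists_mul_swap {A B : Subgroup G} (hAB : ∀ g : G, ∃ a ∈ A, ∃ b ∈ B, g = a * b) (g : G) :
    ∃ b ∈ B, ∃ a ∈ A, g = b * a := by
  obtain ⟨a, ha, b, hb, h⟩ := hAB g⁻¹
  exact ⟨b⁻¹, B.inv_mem hb, a⁻¹, A.inv_mem ha, by rw [← mul_inv_rev, ← h, inv_inv]⟩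

theorem sup_eq_top_of_mul {A B : Subgroup G} (hAB : ∀ g : G, ∃ a ∈ A, ∃ b ∈ B, g = a * b) :
    A ⊔ B = ⊤ := by
  rw [eq_top_iff]
  intro g _
  obtain ⟨a, ha, b, hb, rfl⟩ := hAB g
  exact mul_mem (mem_sup_left ha) (mem_sup_right hb)

theorem comm_of_mem {A : Subgroup G} [h : IsMulCommutative A] {a b : G} (ha : a ∈ A) (hb : b ∈ A) :
    a * b = b * a := congrArg Subtype.val (h.is_comm.comm (⟨a, ha⟩ : A) ⟨b, hb⟩)

theorem ito_key {A B : Subgroup G} [IsMulCommutative A] [IsMulCommutative B]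
    (hAB : ∀ g : G, ∃ a ∈ A, ∃ b ∈ B, g = a * b) {a a₁ b b₁ : G} (ha : a ∈ A) (ha₁ : a₁ ∈ A)
    (hb : b ∈ B) (hb₁ : b₁ ∈ B) :
    b₁ * a₁ * ⁅a, b⁆ * (b₁ * a₁)⁻¹ = a₁ * b₁ * ⁅a, b⁆ * (a₁ * b₁)⁻¹ := by
  obtain ⟨b₂, hb₂, a₂, ha₂, h₂⟩ := exists_mul_swap hAB (a₁ * b * a₁⁻¹)
  obtain ⟨a₃, ha₃, b₃, hb₃, h₃⟩ := hAB (b₁ * a * b₁⁻¹)
  have c1 : ∀ {x y : G}, x ∈ A → y ∈ A → x * y * x⁻¹ = y := fun hx hy => by
    rw [comm_of_mem hx hy, mul_inv_cancel_right]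
  have c2 : ∀ {x y : G}, x ∈ B → y ∈ B → x * y * x⁻¹ = y := fun hx hy => by
    rw [comm_of_mem hx hy, mul_inv_cancel_right]
  have e1 : ∀ {x y z : G}, x ∈ A → z ∈ A → ⁅x, y * z⁆ = ⁅x, y⁆ := fun {x y z} hx hz => by
    have : z * x⁻¹ * z⁻¹ = x⁻¹ := c1 hz (A.inv_mem hx)
    calc ⁅x, y * z⁆ = x * y * (z * x⁻¹ * z⁻¹) * y⁻¹ := by simp only [commutatorElement_def]; group
      _ = ⁅x, y⁆ := by rw [this, commutatorElement_def]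
  have e2 : ∀ {x y z : G}, y ∈ B → z ∈ B → ⁅x * y, z⁆ = ⁅x, z⁆ := fun {x y z} hy hz => by
    have : y * z * y⁻¹ = z := c2 hy hz
    calc ⁅x * y, z⁆ = x * (y * z * y⁻¹) * x⁻¹ * z⁻¹ := by simp only [commutatorElement_def]; group
      _ = ⁅x, z⁆ := by rw [this, commutatorElement_def]
  have l1 : b₁ * a₁ * ⁅a, b⁆ * (b₁ * a₁)⁻¹ = ⁅a₃, b₂⁆ := by
    calc b₁ * a₁ * ⁅a, b⁆ * (b₁ * a₁)⁻¹ = b₁ * (a₁ * ⁅a, b⁆ * a₁⁻¹) * b₁⁻¹ := by group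
      _ = ⁅a₃, b₂⁆ := by
        rw [conjugate_commutatorElement, c1 ha₁ ha, h₂, e1 ha ha₂, conjugate_commutatorElement,
          h₃, c2 hb₁ hb₂, e2 hb₃ hb₂]
  have l2 : a₁ * b₁ * ⁅a, b⁆ * (a₁ * b₁)⁻¹ = ⁅a₃, b₂⁆ := by
    calc a₁ * b₁ * ⁅a, b⁆ * (a₁ * b₁)⁻¹ = a₁ * (b₁ * ⁅a, b⁆ * b₁⁻¹) * a₁⁻¹ := by group
      _ = ⁅a₃, b₂⁆ := by
        rw [conjugate_commutatorElement, c2 hb₁ hb, h₃, e2 hb₃ hb, conjugate_commutatorElement,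
          h₂, c1 ha₁ ha₃, e1 ha₃ ha₂]
  rw [l1, l2]

theorem ito_commutator_comm {A B : Subgroup G} [IsMulCommutative A] [IsMulCommutative B]
    (hAB : ∀ g : G, ∃ a ∈ A, ∃ b ∈ B, g = a * b) : ⁅⁅A, B⁆, ⁅A, B⁆⁆ = ⊥ := by
  rw [commutator_eq_bot_iff_le_centralizer, commutator_le]
  intro a₁ ha₁ b₁ hb₁
  have : ⁅A, B⁆ ≤ centralizer {⁅a₁, b₁⁆} := by
    rw [commutator_le]
    intro a ha b hb
    rw [mem_centralizer_singleton_iff]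
    have := ito_key hAB ha (A.inv_mem ha₁) hb (B.inv_mem hb₁)
    have h2 : ⁅a₁, b₁⁆ = (b₁⁻¹ * a₁⁻¹)⁻¹ * (a₁⁻¹ * b₁⁻¹) := by
      simp only [commutatorElement_def]; group
    rw [h2]
    calc ⁅a, b⁆ * ((b₁⁻¹ * a₁⁻¹)⁻¹ * (a₁⁻¹ * b₁⁻¹))
        = (b₁⁻¹ * a₁⁻¹)⁻¹ * (b₁⁻¹ * a₁⁻¹ * ⁅a, b⁆ * (b₁⁻¹ * a₁⁻¹)⁻¹) * (a₁⁻¹ * b₁⁻¹) := by group
      _ = _ := by rw [this]; group
  intro x hx
  exact mem_centralizer_singleton_iff.1 (this hx)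

theorem commutator_eq_of_mul_comm {A B : Subgroup G} [IsMulCommutative A] [IsMulCommutative B]
    (hAB : ∀ g : G, ∃ a ∈ A, ∃ b ∈ B, g = a * b) : commutator G = ⁅A, B⁆ := by
  have hn : (⁅A, B⁆ : Subgroup G).Normal := by
    rw [← normalizer_eq_top_iff, eq_top_iff, ← sup_eq_top_of_mul hAB]
    exact sup_le (normalizer_commutator_ge_left A B) (normalizer_commutator_ge_right A B)
  refine le_antisymm ?_ (commutator_mono le_top le_top)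
  rw [← Normal.quotient_commutative_iff_commutator_le]
  have h1 : ∀ a ∈ A, ∀ b ∈ B, Commute (a : G ⧸ ⁅A, B⁆) (b : G ⧸ ⁅A, B⁆) := by
    intro a ha b hb
    rw [← commutatorElement_eq_one_iff_commute]
    exact (QuotientGroup.eq_one_iff (⁅a, b⁆ : G)).2 (commutator_mem_commutator ha hb)
  have h2 : ∀ a ∈ A, ∀ b ∈ A, Commute (a : G ⧸ ⁅A, B⁆) (b : G ⧸ ⁅A, B⁆) := fun a ha b hb =>
    congrArg (QuotientGroup.mk' ⁅A, B⁆) (comm_of_mem ha hb)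
  have h3 : ∀ a ∈ B, ∀ b ∈ B, Commute (a : G ⧸ ⁅A, B⁆) (b : G ⧸ ⁅A, B⁆) := fun a ha b hb =>
    congrArg (QuotientGroup.mk' ⁅A, B⁆) (comm_of_mem ha hb)
  refine ⟨⟨fun x y => ?_⟩⟩
  obtain ⟨x, rfl⟩ := QuotientGroup.mk_surjective x
  obtain ⟨y, rfl⟩ := QuotientGroup.mk_surjective y
  obtain ⟨a, ha, b, hb, rfl⟩ := hAB x
  obtain ⟨a', ha', b', hb', rfl⟩ := hAB y
  rw [QuotientGroup.mk_mul, QuotientGroup.mk_mul]
  exact Commute.mul_left (Commute.mul_right (h2 a ha a' ha') (h1 a ha b' hb'))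
    (Commute.mul_right (h1 a' ha' b hb).symm (h3 b hb b' hb'))

/-- Itô's theorem. -/
theorem ito {A B : Subgroup G} [IsMulCommutative A] [IsMulCommutative B]
    (hAB : ∀ g : G, ∃ a ∈ A, ∃ b ∈ B, g = a * b) : derivedSeries G 2 = ⊥ := by
  rw [derivedSeries_succ, derivedSeries_one, commutator_eq_of_mul_comm hAB]
  exact ito_commutator_comm hAB

theorem ito_isSolvable {A B : Subgroup G} [IsMulCommutative A] [IsMulCommutative B]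
    (hAB : ∀ g : G, ∃ a ∈ A, ∃ b ∈ B, g = a * b) : Group.IsSolvable G := ⟨2, ito hAB⟩

end H11
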