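import Mathlib
import Cfsg.Agent.H2.MinNormal
import Cfsg.Agent.H2.Frattini
import Cfsg.Agent.H1.Coprime
import Cfsg.Agent.H11.Ito

/-!
# Small general helpers: complements, products of subgroups, core-free maximal subgroups
-/

set_option autoImplicit false

namespace H11

open Subgroup Pointwise
open scoped commutatorElement

universe u

variable {G : Type u} [Group G]

theorem normal_of_sup_eq_top {A B K : Subgroup G} (h : A ⊔ B = ⊤)
    (hA : A ≤ normalizer (K : Set G)) (hB : B ≤ normalizer (K : Set G)) : K.Normal := by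
  rw [← normalizer_eq_top_iff, eq_top_iff, ← h]
  exact sup_le hA hB

theorem normal_of_top_le {K : Subgroup G} (h : ⊤ ≤ normalizer (K : Set G)) : K.Normal :=
  normalizer_eq_top_iff.1 (top_le_iff.1 h)

theorem le_normalizer_of_le_centralizer {A K L : Subgroup G} (h : A ≤ centralizer (K : Set G))
    (hL : L ≤ K) : A ≤ normalizer (L : Set G) :=
  (h.trans (H2.centralizer_anti hL)).trans (centralizer_le_normalizer _)

theorem le_centralizer_self {A : Subgroup G} [IsMulCommutative A] : A ≤ centralizer (A : Set G) :=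
  fun _ ha _ hb => comm_of_mem hb ha

theorem isMulCommutative_of_le_centralizer {A : Subgroup G} (h : A ≤ centralizer (A : Set G)) :
    IsMulCommutative A := ⟨⟨fun a b => Subtype.ext (h b.2 a a.2)⟩⟩

theorem isMulCommutative_of_comm {A : Subgroup G} (h : ∀ a ∈ A, ∀ b ∈ A, a * b = b * a) :
    IsMulCommutative A := ⟨⟨fun a b => Subtype.ext (h a a.2 b b.2)⟩⟩

theorem exists_mul_of_sup_eq_top {N H : Subgroup G} [N.Normal] (h : N ⊔ H = ⊤) (g : G) :
    ∃ n ∈ N, ∃ x ∈ H, g = n * x :=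
  (H1.mem_sup_of_le_normalizer le_normalizer_of_normal).1 (h ▸ mem_top g)

theorem exists_mul_of_sup_eq_top' {N H : Subgroup G} [N.Normal] (h : H ⊔ N = ⊤) (g : G) :
    ∃ x ∈ H, ∃ n ∈ N, g = x * n :=
  (H1.mem_sup_of_le_normalizer' le_normalizer_of_normal).1 (h ▸ mem_top g)

theorem isComplement'_of_normal {N H : Subgroup G} [N.Normal] (hd : N ⊓ H = ⊥) (hs : N ⊔ H = ⊤) :
    IsComplement' N H := by
  refine isComplement'_of_disjoint_and_mul_eq_univ (disjoint_iff.2 hd) ?_
  rw [← normal_mul, hs, coe_top]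

theorem commutator_eq_bot_of_inf_eq_bot {A B : Subgroup G} (hA : A ≤ normalizer (B : Set G))
    (hB : B ≤ normalizer (A : Set G)) (h : A ⊓ B = ⊥) : ⁅A, B⁆ = ⊥ := by
  rw [eq_bot_iff, ← h]
  exact le_inf (le_normalizer_iff_commutator_le_left.1 hB)
    (le_normalizer_iff_commutator_le_right.1 hA)

theorem le_centralizer_of_inf_eq_bot {A B : Subgroup G} (hA : A ≤ normalizer (B : Set G))
    (hB : B ≤ normalizer (A : Set G)) (h : A ⊓ B = ⊥) : A ≤ centralizer (B : Set G) :=
  commutator_eq_bot_iff_le_centralizer.1 (commutator_eq_bot_of_inf_eq_bot hA hB h)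

theorem eq_bot_of_normal_of_le_of_normalCore {U K : Subgroup G} (hcore : U.normalCore = ⊥)
    (hK : K.Normal) (h : K ≤ U) : K = ⊥ := by
  rw [eq_bot_iff, ← hcore]
  exact normal_le_normalCore.2 h

theorem sup_eq_top_of_coatom {U K : Subgroup G} (hU : IsCoatom U) (h : ¬ K ≤ U) : K ⊔ U = ⊤ := by
  apply hU.2
  exact lt_of_le_of_ne le_sup_right fun e => h (e ▸ le_sup_left)

theorem sup_eq_top_of_corefree {U K : Subgroup G} (hU : IsCoatom U) (hcore : U.normalCore = ⊥)
    (hK : K.Normal) (h : K ≠ ⊥) : K ⊔ U = ⊤ :=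
  sup_eq_top_of_coatom hU fun hle => h (eq_bot_of_normal_of_le_of_normalCore hcore hK hle)

/-- Dedekind's modular law with a normal subgroup -/
theorem eq_sup_inf_of_sup_eq_top {K U C : Subgroup G} [K.Normal] (h : K ⊔ U = ⊤) (hKC : K ≤ C) :
    C = K ⊔ (U ⊓ C) := by
  rw [← H2.sup_inf_assoc_of_le_normalizer hKC (Or.inl le_normalizer_of_normal), h, top_inf_eq]

/-! ### products of subgroups as sets -/

theorem card_mul_card_inf [Finite G] (H K : Subgroup G) :
    Nat.card ((H : Set G) * (K : Set G) : Set G) * Nat.card ↥(H ⊓ K) = Nat.card H * Nat.card K := by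
  have h1 : Nat.card ((K : Set G) * (H : Set G) : Set G) = H.relIndex K * Nat.card H := by
    have := card_mul_eq_card_subgroup_mul_card_quotient H (K : Set G)
    rw [this, mul_comm]
    congr 1
    rw [relIndex, index_eq_card]
    let f : K ⧸ H.subgroupOf K → G ⧸ H := fun q => Quotient.liftOn' q
      (fun k : K => ((k : G) : G ⧸ H)) (fun a b hab => by
        rw [QuotientGroup.leftRel_apply] at hab
        exact QuotientGroup.eq.2 hab)
    have hf : Function.Injective f := by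
      intro a b hab
      induction a using QuotientGroup.induction_on with
      | H a =>
        induction b using QuotientGroup.induction_on with
        | H b =>
          have : ((a : G) : G ⧸ H) = ((b : G) : G ⧸ H) := hab
          have h2 : (a : G)⁻¹ * b ∈ H := QuotientGroup.eq.1 this
          exact QuotientGroup.eq.2 h2
    rw [← Nat.card_range_of_injective hf]
    congr 2
    ext q
    constructor
    · rintro ⟨k, hk, rfl⟩
      exact ⟨((⟨k, hk⟩ : K) : K ⧸ H.subgroupOf K), rfl⟩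
    · rintro ⟨q, rfl⟩
      induction q using QuotientGroup.induction_on with
      | H k => exact ⟨k, k.2, rfl⟩
  have h2 : Nat.card ((H : Set G) * (K : Set G) : Set G) =
      Nat.card ((K : Set G) * (H : Set G) : Set G) := by
    have : ((H : Set G) * (K : Set G) : Set G) = ((K : Set G) * (H : Set G) : Set G)⁻¹ := by
      rw [mul_inv_rev, inv_coe_set, inv_coe_set]
    rw [this, Set.natCard_inv]
  rw [h2, h1, ← H2.card_inf_mul_relIndex H K]
  ring

theorem mul_subset_of_le {H K R : Subgroup G} (hH : H ≤ R) (hK : K ≤ R) :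
    ((H : Set G) * (K : Set G) : Set G) ⊆ R := by
  rintro _ ⟨a, ha, b, hb, rfl⟩
  exact R.mul_mem (hH ha) (hK hb)

theorem coe_eq_mul_of_card_le [Finite G] {H K R : Subgroup G} (hH : H ≤ R) (hK : K ≤ R)
    (h : Nat.card R * Nat.card ↥(H ⊓ K) ≤ Nat.card H * Nat.card K) :
    (R : Set G) = (H : Set G) * (K : Set G) := by
  symm
  apply Set.eq_of_subset_of_ncard_le (mul_subset_of_le hH hK)
  rw [← card_mul_card_inf H K] at h
  have := Nat.le_of_mul_le_mul_right h Nat.card_pos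
  rwa [← Nat.card_coe_set_eq, ← Nat.card_coe_set_eq]

theorem mul_eq_univ_iff {H K : Subgroup G} :
    (∀ g : G, ∃ a ∈ H, ∃ b ∈ K, g = a * b) ↔ (H : Set G) * (K : Set G) = Set.univ := by
  rw [Set.eq_univ_iff_forall]
  refine forall_congr' fun g => ⟨?_, ?_⟩
  · rintro ⟨a, ha, b, hb, rfl⟩; exact ⟨a, ha, b, hb, rfl⟩
  · rintro ⟨a, ha, b, hb, rfl⟩; exact ⟨a, ha, b, hb, rfl⟩

theorem card_mul_card_inf_of_mul [Finite G] {H K : Subgroup G}
    (h : ∀ g : G, ∃ a ∈ H, ∃ b ∈ K, g = a * b) :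
    Nat.card G * Nat.card ↥(H ⊓ K) = Nat.card H * Nat.card K := by
  rw [← card_mul_card_inf, mul_eq_univ_iff.1 h, Nat.card_univ]

theorem forall_mul_of_card_le [Finite G] {H K : Subgroup G}
    (h : Nat.card G * Nat.card ↥(H ⊓ K) ≤ Nat.card H * Nat.card K) :
    ∀ g : G, ∃ a ∈ H, ∃ b ∈ K, g = a * b := by
  rw [mul_eq_univ_iff, ← coe_top]
  exact (coe_eq_mul_of_card_le le_top le_top (by rwa [card_top])).symm

theorem index_eq_relIndex_of_mul [Finite G] {H K : Subgroup G}
    (h : ∀ g : G, ∃ a ∈ H, ∃ b ∈ K, g = a * b) : H.index = H.relIndex K := by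
  have h1 := card_mul_card_inf_of_mul h
  rw [← H.card_mul_index, ← H2.card_inf_mul_relIndex H K, mul_assoc] at h1
  have h2 := Nat.eq_of_mul_eq_mul_left Nat.card_pos h1
  rw [mul_comm] at h2
  exact Nat.eq_of_mul_eq_mul_left Nat.card_pos h2

theorem index_dvd_card_of_mul [Finite G] {H K : Subgroup G}
    (h : ∀ g : G, ∃ a ∈ H, ∃ b ∈ K, g = a * b) : H.index ∣ Nat.card K := by
  rw [index_eq_relIndex_of_mul h]; exact relIndex_dvd_card H K

/-- a subgroup containing one factor is factorized -/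
theorem exists_mul_of_le_left {A B X : Subgroup G} (h : ∀ g : G, ∃ a ∈ A, ∃ b ∈ B, g = a * b)
    (hA : A ≤ X) {g : G} (hg : g ∈ X) : ∃ a ∈ A, ∃ b ∈ B ⊓ X, g = a * b := by
  obtain ⟨a, ha, b, hb, rfl⟩ := h g
  exact ⟨a, ha, b, ⟨hb, (X.mul_mem_cancel_left (hA ha)).1 hg⟩, rfl⟩

theorem forall_mul_subgroupOf {A B X : Subgroup G}
    (h : ∀ g ∈ X, ∃ a ∈ A ⊓ X, ∃ b ∈ B ⊓ X, g = a * b) :
    ∀ g : X, ∃ a ∈ A.subgroupOf X, ∃ b ∈ B.subgroupOf X, g = a * b := by
  intro g
  obtain ⟨a, ha, b, hb, e⟩ := h g g.2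
  exact ⟨⟨a, ha.2⟩, ha.1, ⟨b, hb.2⟩, hb.1, Subtype.ext e⟩

theorem forall_mul_subgroupOf_of_le_left {A B X : Subgroup G}
    (h : ∀ g : G, ∃ a ∈ A, ∃ b ∈ B, g = a * b) (hA : A ≤ X) :
    ∀ g : X, ∃ a ∈ A.subgroupOf X, ∃ b ∈ B.subgroupOf X, g = a * b :=
  forall_mul_subgroupOf fun _ hg => by
    obtain ⟨a, ha, b, hb, e⟩ := exists_mul_of_le_left h hA hg
    exact ⟨a, ⟨ha, hA ha⟩, b, hb, e⟩

theorem forall_mul_map {G' : Type*} [Group G'] {A B : Subgroup G} {f : G →* G'}
    (hf : Function.Surjective f) (h : ∀ g : G, ∃ a ∈ A, ∃ b ∈ B, g = a * b) :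
    ∀ g : G', ∃ a ∈ A.map f, ∃ b ∈ B.map f, g = a * b := by
  intro g
  obtain ⟨g, rfl⟩ := hf g
  obtain ⟨a, ha, b, hb, rfl⟩ := h g
  exact ⟨f a, mem_map_of_mem f ha, f b, mem_map_of_mem f hb, map_mul f a b⟩

theorem exists_conj_conj {H K : Subgroup G} (hHK : ∀ g : G, ∃ h ∈ H, ∃ k ∈ K, g = h * k)
    (x y : G) : ∃ g : G, MulAut.conj x • H = MulAut.conj g • H ∧
      MulAut.conj y • K = MulAut.conj g • K ∧ (∃ h ∈ H, g = x * h) ∧ ∃ k ∈ K, g = y * k := by
  obtain ⟨h, hh, k, hk, e⟩ := hHK (x⁻¹ * y)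
  have : y = x * h * k := by rw [mul_assoc, ← e]; group
  refine ⟨x * h, ?_, ?_, ⟨h, hh, rfl⟩, k⁻¹, K.inv_mem hk, by rw [this]; group⟩
  · rw [H1.conj_mul_smul, H1.conj_smul_eq_iff_mem_normalizer.2 (Subgroup.le_normalizer hh)]
  · rw [this, H1.conj_mul_smul _ k,
      H1.conj_smul_eq_iff_mem_normalizer.2 (Subgroup.le_normalizer hk)]

theorem forall_mul_conj {H K : Subgroup G} (hHK : ∀ g : G, ∃ h ∈ H, ∃ k ∈ K, g = h * k)
    (x y : G) : ∀ g : G, ∃ a ∈ MulAut.conj x • H, ∃ b ∈ MulAut.conj y • K, g = a * b := by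
  obtain ⟨z, e1, e2, -⟩ := exists_conj_conj hHK x y
  rw [e1, e2]
  exact forall_mul_map (f := (MulAut.conj z).toMonoidHom) (MulAut.conj z).surjective hHK

/-- Wielandt: the normalizer of `⟨A, B⟩` is factorized. -/
theorem normalizer_sup_factorized [Finite G] {H K A B : Subgroup G}
    (hHK : ∀ g : G, ∃ h ∈ H, ∃ k ∈ K, g = h * k) (hA : H ≤ normalizer (A : Set G))
    (hB : K ≤ normalizer (B : Set G)) :
    ∀ g ∈ normalizer ((A ⊔ B : Subgroup G) : Set G),
      ∃ h ∈ normalizer ((A ⊔ B : Subgroup G) : Set G) ⊓ H,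
      ∃ k ∈ normalizer ((A ⊔ B : Subgroup G) : Set G) ⊓ K, g = h * k := by
  intro g hg
  obtain ⟨h, hh, k, hk, rfl⟩ := hHK g
  have e := H1.conj_smul_eq_iff_mem_normalizer.2 hg
  have e' : MulAut.conj k • (A ⊔ B) = MulAut.conj h⁻¹ • (A ⊔ B) := by
    rw [H1.conj_mul_smul] at e
    rw [map_inv, eq_inv_smul_iff, e]
  have hle : A ⊔ B ≤ MulAut.conj k • (A ⊔ B) := by
    refine sup_le ?_ ?_
    · rw [e']
      exact (H1.conj_smul_eq_iff_mem_normalizer.2 (hA (H.inv_mem hh))).symm.le.trans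
        (pointwise_smul_le_pointwise_smul_iff.2 le_sup_left)
    · exact (H1.conj_smul_eq_iff_mem_normalizer.2 (hB hk)).symm.le.trans
        (pointwise_smul_le_pointwise_smul_iff.2 le_sup_right)
  have hk' : k ∈ normalizer ((A ⊔ B : Subgroup G) : Set G) :=
    H1.conj_smul_eq_iff_mem_normalizer.1
      (eq_of_le_of_card_ge hle (H1.card_conj_smul k _).le).symm
  exact ⟨h, ⟨(mul_mem_cancel_right hk').1 hg, hh⟩, k, ⟨hk', hk⟩, rfl⟩

/-! ### core-free maximal subgroups -/

theorem centralizer_inf_eq_bot_of_corefree {U N : Subgroup G} (hU : IsCoatom U)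
    (hcore : U.normalCore = ⊥) [N.Normal] (hN : N ≠ ⊥) : centralizer (N : Set G) ⊓ U = ⊥ := by
  apply eq_bot_of_normal_of_le_of_normalCore hcore _ inf_le_right
  apply normal_of_sup_eq_top (sup_eq_top_of_corefree hU hcore inferInstance hN)
  · exact le_normalizer_of_le_centralizer (le_centralizer_iff.1 le_rfl) inf_le_left
  · exact H1.le_normalizer_inf le_normalizer_of_normal le_normalizer

theorem eq_centralizer_of_corefree {U N K : Subgroup G} (hU : IsCoatom U)
    (hcore : U.normalCore = ⊥) [N.Normal] (hN : N ≠ ⊥) (hK : K.Normal)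
    (hle : K ≤ centralizer (N : Set G)) (hK0 : K ≠ ⊥) : K = centralizer (N : Set G) := by
  rw [eq_sup_inf_of_sup_eq_top (sup_eq_top_of_corefree hU hcore hK hK0) hle, inf_comm,
    centralizer_inf_eq_bot_of_corefree hU hcore hN, sup_bot_eq]

/-- an abelian normal subgroup of a primitive group is self-centralizing, minimal normal and
complemented -/
theorem abelian_normal_of_corefree {U N : Subgroup G} (hU : IsCoatom U)
    (hcore : U.normalCore = ⊥) [N.Normal] [IsMulCommutative N] (hN : N ≠ ⊥) :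
    centralizer (N : Set G) = N ∧ N ⊓ U = ⊥ ∧ N ⊔ U = ⊤ ∧ H2.IsMinNormal N := by
  have h1 := eq_centralizer_of_corefree hU hcore hN inferInstance le_centralizer_self hN
  refine ⟨h1.symm, ?_, sup_eq_top_of_corefree hU hcore inferInstance hN, inferInstance, hN, ?_⟩
  · rw [h1]; exact centralizer_inf_eq_bot_of_corefree hU hcore hN
  · intro K hK hle
    by_cases h : K = ⊥
    · exact Or.inl h
    · exact Or.inr ((eq_centralizer_of_corefree hU hcore hN hK (h1 ▸ hle) h).trans h1.symm)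

/-- two complements of the normal subgroup `A` inside the same subgroup are isomorphic -/
theorem nonempty_equiv_of_sup_eq {A B D : Subgroup G} [A.Normal] (hB : A ⊓ B = ⊥) (hD : A ⊓ D = ⊥)
    (h : A ⊔ B = A ⊔ D) : Nonempty (B ≃* D) := by
  have key : ∀ X : Subgroup G, A ⊓ X = ⊥ → Nonempty (X ≃* X.map (QuotientGroup.mk' A)) := by
    intro X hX
    refine ⟨MulEquiv.ofBijective ((QuotientGroup.mk' A).subgroupMap X)
      ⟨?_, MonoidHom.subgroupMap_surjective _ _⟩⟩
    rw [injective_iff_map_eq_one]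
    intro x hx
    have h1 : (x : G) ∈ A := (QuotientGroup.eq_one_iff (x : G)).1 (congrArg Subtype.val hx)
    have : (x : G) ∈ A ⊓ X := ⟨h1, x.2⟩
    rw [hX, mem_bot] at this
    exact Subtype.ext this
  have e : B.map (QuotientGroup.mk' A) = D.map (QuotientGroup.mk' A) := by
    rw [← H2.map_comap_mk' A (B.map _), ← H2.map_comap_mk' A (D.map _), H2.comap_map_mk',
      H2.comap_map_mk', sup_comm, h, sup_comm]
  obtain ⟨e1⟩ := key B hB
  obtain ⟨e2⟩ := key D hD
  exact ⟨e1.trans ((MulEquiv.subgroupCongr e).trans e2.symm)⟩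

end H11
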