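import Mathlib
import Cfsg.Agent.H5.BSW1
import Cfsg.Agent.H4.Galois

/-! The character-theoretic part of the recognition of `J₁`. -/

set_option autoImplicit false
open Cfsg H4 H5 Subgroup
open scoped ComplexConjugate

namespace H11

variable {G : Type*} [Group G]

/-- `K` is abelian with unique involution `t`, inverted by `s`, and `K \ ⟨t⟩` is a TI-set with
normaliser `K⟨s⟩`. -/
structure JH (K : Subgroup G) (t s : G) : Prop where
  t_ord : orderOf t = 2
  t_mem : t ∈ K
  comm : ∀ a ∈ K, ∀ b ∈ K, a * b = b * a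
  uniq : ∀ a ∈ K, a * a = 1 → a = 1 ∨ a = t
  s_sq : s * s = 1
  s_nmem : s ∉ K
  inv : ∀ a ∈ K, s * a * s⁻¹ = a⁻¹
  ti : ∀ g, ∀ a ∈ K, a * a ≠ 1 → g⁻¹ * a * g ∈ K → g ∈ K ∨ s⁻¹ * g ∈ K
  allConj : ∀ u, orderOf u = 2 → IsConj t u
  odd : ∃ c ∈ K, c ≠ 1 ∧ ∃ n, Odd n ∧ c ^ n = 1

namespace JH

variable {K : Subgroup G} {t s : G} (h : JH K t s)
include h

theorem commK (a b : K) : a * b = b * a := Subtype.ext (h.comm a a.2 b b.2)
theorem t_sq : t * t = 1 := H6.mul_self_of_orderOf_two h.t_ord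
theorem s_inv : s⁻¹ = s := H6.inv_eq_of_mul_self h.s_sq

theorem nmem_of_coset {u : G} (hu : s⁻¹ * u ∈ K) : u ∉ K := fun hK =>
  h.s_nmem (inv_mem_iff.1 ((mul_mem_cancel_right hK).1 hu))

theorem orderOf_of_coset {u : G} (hu : s⁻¹ * u ∈ K) : orderOf u = 2 := by
  refine H6.orderOf_eq_two_of ?_ fun h1 => h.nmem_of_coset hu (h1 ▸ one_mem K)
  have h1 : u = s * (s⁻¹ * u) := by group
  generalize s⁻¹ * u = c at hu h1
  subst h1
  have : s * c * (s * c) = (s * c * s⁻¹) * (s * s) * c := by group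
  rw [this, h.inv c hu, h.s_sq]; group

theorem exists_nu [Finite G] : ∃ ν : K → ℂ, IsIrrCharacter K ν ∧ ν ⟨t, h.t_mem⟩ = 1 ∧
    (fun y => conj (ν y)) ≠ ν := by
  obtain ⟨c, hc, h1, n, hn, hcn⟩ := h.odd
  have : ¬ ∀ χ, IsIrrCharacter K χ → χ ⟨c, hc⟩ = χ 1 := fun h4 =>
    h1 (congrArg Subtype.val (eq_one_of_forall_irr h4))
  push Not at this
  obtain ⟨μ, hμ, hμc⟩ := this
  have hl := hμ.apply_one_of_comm h.commK
  have hm := hμ.isCharacter.map_mul_of_apply_one hl
  have hp : ∀ (y : K) (k : ℕ), μ (y ^ k) = μ y ^ k := fun y k => by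
    induction k with
    | zero => simpa using hl
    | succ k ih => rw [pow_succ, hm, ih, pow_succ]
  refine ⟨μ * μ, hμ.mul_linear hμ.isCharacter hl, ?_, fun h2 => hμc ?_⟩
  · rw [Pi.mul_apply, ← hm, ← hl]; congr 1; exact Subtype.ext h.t_sq
  · have h3 := congrFun h2 ⟨c, hc⟩
    have h4 := norm_eq_one_of_linear hμ.isCharacter hl ⟨c, hc⟩
    simp only [Pi.mul_apply, map_mul] at h3
    have h5 : μ ⟨c, hc⟩ ^ 4 = 1 := by
      linear_combination (-μ ⟨c, hc⟩ ^ 2) * h3 + (μ ⟨c, hc⟩ * conj (μ ⟨c, hc⟩) + 1) * h4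
    have h6 : μ ⟨c, hc⟩ ^ n = 1 := by
      rw [← hp, ← hl]; congr 1; exact Subtype.ext hcn
    have h7 := pow_gcd_eq_one.2 ⟨h5, h6⟩
    rw [show Nat.gcd 4 n = 1 from (Nat.Coprime.pow_left 2 (Nat.coprime_two_left.2 hn))] at h7
    rw [hl]; simpa using h7

theorem sub_eq_zero {ν : K → ℂ} (hν : IsIrrCharacter K ν) (ht : ν ⟨t, h.t_mem⟩ = 1) {y : K}
    (hy : (y : G) * y = 1) : ((fun _ => 1) - ν : K → ℂ) y = 0 := by
  rcases h.uniq y y.2 hy with h1 | h1
  · rw [show y = 1 from Subtype.ext h1]; simp [hν.apply_one_of_comm h.commK]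
  · rw [show y = ⟨t, h.t_mem⟩ from Subtype.ext h1]; simp [ht]

variable [Fintype G]

theorem ind_apply (φ : K → ℂ) (y : K) (hy : (y : G) * y ≠ 1) : indFun K φ y = φ y + φ y⁻¹ := by
  rw [indFun_apply_two_cosets K (isClassFunction_of_comm h.commK φ) h.s_nmem, H5.ext0_coe]
  · have : s⁻¹ * y * s = (y⁻¹ : K) := by
      have := h.inv y y.2
      rw [h.s_inv] at this ⊢; exact this
    rw [this, H5.ext0_coe]
  · intro g hg
    exact h.ti g y y.2 hy (by by_contra h0; exact hg (H5.ext0_not_mem K φ h0))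

theorem ind_eq_zero {ν : K → ℂ} (hν : IsIrrCharacter K ν) (ht : ν ⟨t, h.t_mem⟩ = 1) {y : G}
    (hy : ∀ g, g⁻¹ * y * g ∈ K → y * y = 1) : indFun K ((fun _ => 1) - ν) y = 0 := by
  rw [H5.indFun_apply, Finset.sum_eq_zero, mul_zero]
  intro g _
  by_cases hg : g⁻¹ * y * g ∈ K
  · rw [H5.ext0_mem K _ hg]
    refine h.sub_eq_zero hν ht ?_
    change g⁻¹ * y * g * (g⁻¹ * y * g) = 1
    rw [show g⁻¹ * y * g * (g⁻¹ * y * g) = g⁻¹ * (y * y) * g by group, hy g hg]; group
  · exact H5.ext0_not_mem K _ hg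

theorem gam_apply {y : G} (hy : y ∈ K) (h1 : y * y ≠ 1) : gam t t y = Nat.card K := by
  classical
  unfold gam
  congr 1
  rw [← Fintype.card_coe, ← Nat.card_eq_fintype_card]
  symm
  refine Nat.card_congr (Equiv.ofBijective (fun a : K => ⟨s * a, ?_⟩) ⟨fun a b hab => ?_, ?_⟩)
  · have ha : s⁻¹ * (s * a) ∈ K := by simp
    rw [Finset.mem_filter, mem_cl]
    refine ⟨h.allConj _ (h.orderOf_of_coset ha), h.allConj _ (h.orderOf_of_coset ?_)⟩
    rw [H6.inv_eq_of_orderOf_two (h.orderOf_of_coset ha), ← mul_assoc]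
    exact mul_mem ha hy
  · simpa using congrArg Subtype.val hab
  · rintro ⟨u, hu⟩
    rw [Finset.mem_filter, mem_cl] at hu
    have hu1 : orderOf u = 2 := (H6.orderOf_of_isConj hu.1).symm.trans h.t_ord
    have hu2 : orderOf (u⁻¹ * y) = 2 := (H6.orderOf_of_isConj hu.2).symm.trans h.t_ord
    have h3 : u⁻¹ * y * u = y⁻¹ := by
      have := H6.mul_self_of_orderOf_two hu2
      rw [H6.inv_eq_of_orderOf_two hu1] at this ⊢
      rw [eq_inv_iff_mul_eq_one, ← this]; group
    rcases h.ti u y hy h1 (h3 ▸ inv_mem hy) with h4 | h4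
    · exfalso
      apply h1
      rw [mul_assoc, h.comm y hy u h4, inv_mul_cancel_left] at h3
      nth_rw 1 [h3]; simp
    · exact ⟨⟨_, h4⟩, Subtype.ext (by simp)⟩

variable [Fintype K] {ν : K → ℂ} (hν : IsIrrCharacter K ν) (ht : ν ⟨t, h.t_mem⟩ = 1)
  (hr : (fun y => conj (ν y)) ≠ ν)
include hν ht hr

omit ht h hν [Fintype G] [Fintype K] in
theorem ne_one : ν ≠ fun _ => 1 := by rintro rfl; simp at hr

theorem eta_norm : classInner (eta K ν) (eta K ν) = 2 := by
  have h1 := ne_one hr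
  have h2 : (fun y => conj (ν y)) ≠ fun _ => 1 := fun h3 => h1 (funext fun y => by
    simpa using congrArg conj (congrFun h3 y))
  have h3 : classInner (indFun K ((fun _ => 1) - ν)) (indFun K ((fun _ => 1) - ν)) =
      classInner ((fun _ => 1) - ν) ((fun _ => 1) - ν) +
        classInner ((fun _ => 1) - ν) ((fun _ => 1) - fun y => conj (ν y)) := by
    rw [H5.classInner_indFun_left K _ (H5.indFun_isClassFunction K _), ← classInner_add_right]
    simp only [classInner_def]
    congr 1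
    refine Finset.sum_congr rfl fun y _ => ?_
    by_cases hy : (y : G) * y = 1
    · rw [h.sub_eq_zero hν ht hy, zero_mul, zero_mul]
    · rw [h.ind_apply _ y hy]; simp [hν.apply_inv]
  nth_rw 2 [eta]
  rw [classInner_sub_right, BSWHyp.eta_one hν h1, sub_zero, eta, classInner_sub_left, h3,
    ← conj_classInner _ (fun _ => 1), BSWHyp.inner_ind_one hν h1]
  simp only [classInner_sub_left, classInner_sub_right, classInner_one_one, hν.inner_self,
    hν.inner_of_ne isIrrCharacter_one h1, isIrrCharacter_one.inner_of_ne hν h1.symm,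
    isIrrCharacter_one.inner_of_ne hν.conj h2.symm, hν.inner_of_ne hν.conj hr.symm, map_one]
  ring

theorem eta_gam :
    classInner (eta K ν) (gam t t) = Nat.card K - (cl t).card * (cl t).card / Nat.card G := by
  rw [eta, classInner_sub_left, sirr_one.inner_gam, H5.classInner_indFun_left K _ (gam_classFun t t)]
  have : classInner ((fun _ => 1) - ν) (fun y : K => gam t t y) =
      classInner ((fun _ => 1) - ν) ((Nat.card K : ℂ) • fun _ => 1) := by
    simp only [classInner_def]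
    congr 1
    refine Finset.sum_congr rfl fun y _ => ?_
    by_cases hy : (y : G) * y = 1
    · rw [h.sub_eq_zero hν ht hy, zero_mul, zero_mul]
    · rw [h.gam_apply y.2 hy]; simp
  rw [this, classInner_smul_right, classInner_sub_left, classInner_one_one,
    hν.inner_of_ne isIrrCharacter_one (ne_one hr)]
  simp

theorem key {X : G → ℂ} (hX : SIrr X) (h1 : classInner (eta K ν) X = 1) :
    ((cl t).card * (cl t).card / Nat.card G : ℂ) * (X 1 - X t) ^ 2 =
      Nat.card K * (X 1 * (X 1 + 1)) := by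
  have hY := sirr_sub_of_norm_two hX (BSWHyp.eta_gen hν) (h.eta_norm hν ht hr) h1
  have e1 : (eta K ν - X) 1 = -1 - X 1 := by
    simp only [eta, Pi.sub_apply, h.ind_eq_zero hν ht (y := 1) fun _ _ => one_mul 1]; ring
  have e2 : (eta K ν - X) t = -1 - X t := by
    simp only [eta, Pi.sub_apply, h.ind_eq_zero hν ht (y := t) fun _ _ => h.t_sq]; ring
  have e3 := hY.inner_gam t t
  have e4 := hY.apply_one_ne_zero
  have e5 := hX.apply_one_ne_zero
  rw [classInner_sub_left, h.eta_gam hν ht hr, hX.inner_gam, e1, e2] at e3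
  rw [e1] at e4
  generalize ((cl t).card * (cl t).card / Nat.card G : ℂ) = m at e3 ⊢
  have e6 : X 1 + 1 ≠ 0 := fun h0 => e4 (by linear_combination -h0)
  field_simp at e3
  linear_combination e3

end JH

theorem jh_false [Finite G] {K K' : Subgroup G} {t s s' : G} (h : JH K t s) (h' : JH K' t s')
    (hK : Nat.card K = 6) (hK' : Nat.card K' = 10)
    (hx : ∀ y ∈ K, ∀ g, g⁻¹ * y * g ∈ K' → y * y = 1)
    (hC : Nat.card (centralizer ({t} : Set G)) = 120) (h7 : 7 ∣ Nat.card G) : False := by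
  classical
  have := Fintype.ofFinite G
  obtain ⟨ν, hν, ht, hr⟩ := h.exists_nu
  obtain ⟨μ, hμ, ht', hr'⟩ := h'.exists_nu
  have h1 : classInner (eta K ν) (eta K' μ) = -1 := by
    have : classInner (indFun K ((fun _ => 1) - ν)) (indFun K' ((fun _ => 1) - μ)) = 0 := by
      rw [H5.classInner_indFun_left K _ (H5.indFun_isClassFunction K' _)]
      simp only [classInner_def, h'.ind_eq_zero hμ ht' (hx _ (Subtype.prop _))]
      simp
    nth_rw 2 [eta]
    rw [classInner_sub_right, BSWHyp.eta_one hν (JH.ne_one hr), sub_zero, eta, classInner_sub_left,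
      this, ← conj_classInner _ (fun _ => 1), BSWHyp.inner_ind_one hμ (JH.ne_one hr')]
    simp
  have n1 := h.eta_norm hν ht hr
  have n2 := h'.eta_norm hμ ht' hr'
  obtain ⟨X, hX, h2, h3⟩ : ∃ X, SIrr X ∧ classInner (eta K ν) X = 1 ∧
      classInner (eta K' μ) X = -1 := by
    obtain ⟨A, hA, h2⟩ := exists_sirr_inner_eq_one (BSWHyp.eta_gen hν) (n := 1) (by norm_num)
      (by rw [n1]; norm_num)
    have hB := sirr_sub_of_norm_two hA (BSWHyp.eta_gen hν) n1 h2
    have h4 : classInner (eta K' μ) A + classInner (eta K' μ) (eta K ν - A) = -1 := by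
      rw [← classInner_add_right, add_sub_cancel, ← conj_classInner, h1]; simp
    have h5 : classInner (eta K ν) (eta K ν - A) = 1 := by
      rw [classInner_sub_right, n1, h2]; norm_num
    rcases hA.inner_cases (BSWHyp.eta_gen hμ) (n := 2) (by norm_num) (by rw [n2]; norm_num)
      with h6 | h6 | h6
    · exact ⟨_, hB, h5, by linear_combination h4 - h6⟩
    · rcases hB.inner_cases (BSWHyp.eta_gen hμ) (n := 2) (by norm_num) (by rw [n2]; norm_num)
        with h7 | h7 | h7 <;> rw [h6, h7] at h4 <;> norm_num at h4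
    · exact ⟨_, hA, h2, h6⟩
  have k1 := h.key hν ht hr hX h2
  have k2 := h'.key hμ ht' hr' hX.neg (by rw [classInner_neg_right, h3, neg_neg])
  obtain ⟨a, ha0, ha⟩ := hX.exists_int
  obtain ⟨α, hα⟩ := hX.gen.exists_int_of_sq (g := t) (by rw [sq, h.t_sq])
  have hc := card_centralizer_mul_card_cl t
  simp only [Pi.neg_apply, ha, hα, hK, hK'] at k1 k2
  rw [hC] at hc
  have hG : (Nat.card G : ℂ) ≠ 0 := Nat.cast_ne_zero.2 Nat.card_pos.ne'
  have hm : ((cl t).card * (cl t).card / Nat.card G : ℂ) = Nat.card G / 14400 := by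
    field_simp; rw [← hc]; push_cast; ring
  rw [hm] at k1 k2
  have ha' : (a : ℂ) ≠ 0 := Int.cast_ne_zero.2 ha0
  have h4 : (a : ℂ) = 4 := by
    apply mul_left_cancel₀ ha'
    push_cast at k1 k2
    linear_combination (1 / 4 : ℂ) * k1 - (1 / 4 : ℂ) * k2
  rw [h4] at k1
  have h5 : (Nat.card G : ℤ) * (4 - α) ^ 2 = 1728000 := by
    have : (((Nat.card G : ℤ) * (4 - α) ^ 2 : ℤ) : ℂ) = (1728000 : ℤ) := by
      push_cast at k1 ⊢; linear_combination 14400 * k1
    exact_mod_cast this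
  have h6 : (7 : ℤ) ∣ 1728000 := h5 ▸ Dvd.dvd.mul_right (by exact_mod_cast h7) _
  norm_num at h6

end H11
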