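import Mathlib
import Cfsg.Agent.H29.Ext

/-! Certificates for membership in a subgroup (a collapsing coset enumeration without labels). -/

set_option autoImplicit false

namespace H11

open H29

/-- `P ∈ H U`. -/
def ValidH {G : Type*} [Group G] (e : ℕ → G) (H : Subgroup G) (b : ℕ) (iv : ℕ → ℕ) (L : Lem) :
    Prop :=
  L.P.Inv b iv ∧ L.U.Inv b iv ∧ ∃ h ∈ H, ev e (L.P.word b) = h * ev e (L.U.word b)

/-- Keep `P` if the test holds. -/
noncomputable def guardH (c : Bool) (P : PW) : Lem :=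
  Bool.rec (motive := fun _ => Lem) Lem.triv ⟨P, PW.one⟩ c

/-- The factor named by an item; `n` is the length of the current right side. -/
noncomputable def itemH (b : ℕ) (iv : ℕ → ℕ) (R : List (List ℕ)) (hc : List ℕ) (s : SL)
    (n ty arg : ℕ) : Lem :=
  Nat.rec (motive := fun _ => Lem) ⟨PW.ofList b iv [arg], PW.ofList b iv [arg]⟩ (fun t _ =>
    Nat.rec (motive := fun _ => Lem)
      (Lem.rec (fun P U => guardH (and2 (Nat.beq n 0) (Nat.beq U.len 0)) P) (s.get arg)) (fun t _ =>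
      Nat.rec (motive := fun _ => Lem)
        (Lem.rec (fun P U => guardH (and2 (Nat.beq n 0) (Nat.beq U.len 0)) P.inv) (s.get arg))
        (fun t _ =>
        Nat.rec (motive := fun _ => Lem) (Lem.rec (fun _ U => ⟨U, U⟩) (s.get arg)) (fun t _ =>
          Nat.rec (motive := fun _ => Lem) (Lem.rec (fun _ U => ⟨U.inv, U.inv⟩) (s.get arg))
            (fun t _ => Nat.rec (motive := fun _ => Lem)
              (Bool.rec (motive := fun _ => Lem)
                ⟨(PW.ofList b iv (nth [] R (Nat.shiftRight arg 1))).inv, PW.one⟩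
                ⟨PW.ofList b iv (nth [] R (Nat.shiftRight arg 1)), PW.one⟩
                (Nat.beq (Nat.land arg 1) 0))
              (fun _ _ => guardH (and2 (Nat.beq n 0) (memL arg hc)) (PW.ofList b iv [arg])) t)
            t) t) t) t) ty

noncomputable def runChunkH {α : Type} (b : ℕ) (iv : ℕ → ℕ) (R : List (List ℕ)) (hc : List ℕ)
    (k : Lem → SL → α) (fuel : ℕ) : ℕ → Lem → SL → α :=
  Nat.rec (motive := fun _ => ℕ → Lem → SL → α) (fun _ cur s => k cur s) (fun _ ih n cur s =>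
    lit (Nat.land n 7) fun ty => lit (Nat.shiftRight n 24) fun n' =>
      Bool.rec (motive := fun _ => α)
        (lit (Nat.land (Nat.shiftRight n 3) 2097151) fun arg =>
          Lem.mulK b cur (itemH b iv R hc s cur.U.len ty arg) fun cur' => ih n' cur' s)
        (s.push cur fun s' => ih n' Lem.triv s') (Nat.beq ty 7)) fuel

noncomputable def runProgH {α : Type} (b : ℕ) (iv : ℕ → ℕ) (R : List (List ℕ)) (hc : List ℕ)
    (k : SL → α) (l : List (ℕ × ℕ)) : Lem → SL → α :=
  List.rec (motive := fun _ => Lem → SL → α) (fun _ s => k s)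
    (fun c _ ih cur s => runChunkH b iv R hc ih c.1 c.2 cur s) l

/-- The last stored identity says that the word `w` lies in the subgroup. -/
noncomputable def chkProgH (b : ℕ) (iv : ℕ → ℕ) (R : List (List ℕ)) (hc : List ℕ)
    (l : List (ℕ × ℕ)) (w : List ℕ) : Bool :=
  runProgH b iv R hc (fun s => and2 (eqL ((s.get 0).P.word b) w) (Nat.beq (s.get 0).U.len 0))
    l Lem.triv SL.nil

variable {G : Type*} [Group G] {e : ℕ → G} {H : Subgroup G} {b : ℕ} {iv : ℕ → ℕ}
  {R : List (List ℕ)} {hc : List ℕ}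

theorem validH_triv : ValidH e H b iv Lem.triv := ⟨rfl, rfl, 1, one_mem _, by simp [Lem.triv]⟩

/-- An item is an identity, or a member of `H` with the current right side empty. -/
def ItemOK (e : ℕ → G) (H : Subgroup G) (b : ℕ) (iv : ℕ → ℕ) (n : ℕ) (L : Lem) : Prop :=
  L.P.Inv b iv ∧ L.U.Inv b iv ∧ (ev e (L.P.word b) = ev e (L.U.word b) ∨
    (n = 0 ∧ ev e (L.P.word b) ∈ H ∧ L.U = PW.one))

theorem guardH_ok {n : ℕ} {c : Bool} {P : PW} (hP : P.Inv b iv)
    (h : c = true → n = 0 ∧ ev e (P.word b) ∈ H) : ItemOK e H b iv n (guardH c P) := by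
  cases c
  · exact ⟨rfl, rfl, Or.inl rfl⟩
  · exact ⟨hP, rfl, Or.inr ⟨(h rfl).1, (h rfl).2, rfl⟩⟩

theorem word_of_len {U : PW} (h : U.len = 0) : ev e (U.word b) = 1 := by
  rw [PW.word, h]; rfl

theorem itemH_ok (h : IvOK e iv) (hii : ∀ c, iv (iv c) = c) (hR : ∀ r ∈ R, ev e r = 1)
    (hH : ∀ c ∈ hc, e c ∈ H) {s : SL} (hs : s.All (ValidH e H b iv)) (n ty arg : ℕ) :
    ItemOK e H b iv n (itemH b iv R hc s n ty arg) := by
  have hg := hs.get validH_triv arg
  have key : Nat.beq (s.get arg).U.len 0 = true → ev e ((s.get arg).P.word b) ∈ H := fun h1 => by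
    obtain ⟨k, hk, h2⟩ := hg.2.2
    rw [h2, word_of_len (beq_true.1 h1), mul_one]; exact hk
  have hrel : ∀ j, ev e ((PW.ofList b iv (nth [] R j)).word b) = 1 := fun j => by
    rcases (PW.ofList_spec b iv (nth [] R j)).2 with h1 | h1
    · rw [h1]; exact nth_forall (p := fun w => ev e w = 1) rfl hR j
    · rw [h1]; rfl
  match ty with
  | 0 => exact ⟨(PW.ofList_spec b iv _).1, (PW.ofList_spec b iv _).1, Or.inl rfl⟩
  | 1 =>
    change ItemOK e H b iv n (guardH (and2 (Nat.beq n 0) (Nat.beq (s.get arg).U.len 0))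
      (s.get arg).P)
    exact guardH_ok hg.1 fun h1 => ⟨beq_true.1 (and2_true.1 h1).1, key (and2_true.1 h1).2⟩
  | 2 =>
    change ItemOK e H b iv n (guardH (and2 (Nat.beq n 0) (Nat.beq (s.get arg).U.len 0))
      (s.get arg).P.inv)
    refine guardH_ok (PW.inv_spec h hii hg.1).1 fun h1 => ⟨beq_true.1 (and2_true.1 h1).1, ?_⟩
    rw [(PW.inv_spec h hii hg.1).2]; exact inv_mem (key (and2_true.1 h1).2)
  | 3 => exact ⟨hg.2.1, hg.2.1, Or.inl rfl⟩
  | 4 => exact ⟨(PW.inv_spec h hii hg.2.1).1, (PW.inv_spec h hii hg.2.1).1, Or.inl rfl⟩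
  | 5 =>
    change ItemOK e H b iv n (Bool.rec (motive := fun _ => Lem)
      ⟨(PW.ofList b iv (nth [] R (Nat.shiftRight arg 1))).inv, PW.one⟩
      ⟨PW.ofList b iv (nth [] R (Nat.shiftRight arg 1)), PW.one⟩ (Nat.beq (Nat.land arg 1) 0))
    have h0 := (PW.ofList_spec b iv (nth [] R (Nat.shiftRight arg 1))).1
    cases Nat.beq (Nat.land arg 1) 0
    · refine ⟨(PW.inv_spec h hii h0).1, rfl, Or.inl ?_⟩
      change ev e ((PW.ofList b iv (nth [] R (Nat.shiftRight arg 1))).inv.word b) = 1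
      rw [(PW.inv_spec h hii h0).2, hrel, inv_one]
    · exact ⟨h0, rfl, Or.inl (hrel _)⟩
  | t + 6 =>
    change ItemOK e H b iv n (guardH (and2 (Nat.beq n 0) (memL arg hc)) (PW.ofList b iv [arg]))
    refine guardH_ok (PW.ofList_spec b iv _).1 fun h1 => ⟨beq_true.1 (and2_true.1 h1).1, ?_⟩
    rcases (PW.ofList_spec b iv [arg]).2 with h2 | h2
    · rw [h2]; simpa using hH _ (memL_true.1 (and2_true.1 h1).2)
    · rw [h2]; exact one_mem _

theorem runChunkH_spec {α : Type} (h : IvOK e iv) (hii : ∀ c, iv (iv c) = c)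
    (hR : ∀ r ∈ R, ev e r = 1) (hH : ∀ c ∈ hc, e c ∈ H) (k : Lem → SL → α) :
    ∀ (fuel n : ℕ) (cur : Lem) (s : SL), ValidH e H b iv cur → s.All (ValidH e H b iv) →
      ∃ (cur' : Lem) (s' : SL), ValidH e H b iv cur' ∧ s'.All (ValidH e H b iv) ∧
        runChunkH b iv R hc k fuel n cur s = k cur' s'
  | 0, _, cur, s, h1, h2 => ⟨cur, s, h1, h2, rfl⟩
  | fuel + 1, n, cur, s, h1, h2 => by
    change ∃ (cur' : Lem) (s' : SL), ValidH e H b iv cur' ∧ s'.All (ValidH e H b iv) ∧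
      Bool.rec (motive := fun _ => α)
        (Lem.mulK b cur (itemH b iv R hc s cur.U.len (Nat.land n 7)
          (Nat.land (Nat.shiftRight n 3) 2097151))
          fun cur' => runChunkH b iv R hc k fuel (Nat.shiftRight n 24) cur' s)
        (s.push cur fun s' => runChunkH b iv R hc k fuel (Nat.shiftRight n 24) Lem.triv s')
        (Nat.beq (Nat.land n 7) 7) = k cur' s'
    cases Nat.beq (Nat.land n 7) 7
    · have hi := itemH_ok (b := b) h hii hR hH h2 cur.U.len (Nat.land n 7)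
        (Nat.land (Nat.shiftRight n 3) 2097151)
      change ∃ (cur' : Lem) (s' : SL), _ ∧ _ ∧ Lem.mulK _ _ _ _ = _
      rw [Lem.mulK_eq]
      refine runChunkH_spec h hii hR hH k fuel _ _ s ?_ h2
      obtain ⟨a1, a2⟩ := PW.mul_spec h h1.1 hi.1
      obtain ⟨c1, c2⟩ := PW.mul_spec h h1.2.1 hi.2.1
      obtain ⟨g, hg, h3⟩ := h1.2.2
      refine ⟨a1, c1, ?_⟩
      rcases hi.2.2 with h4 | ⟨h4, h5, h6⟩
      · exact ⟨g, hg, by rw [a2, c2, h3, h4, mul_assoc]⟩
      · refine ⟨_, mul_mem hg h5, ?_⟩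
        rw [a2, c2, h3, h6, word_of_len h4, word_of_len (U := PW.one) rfl]; simp
    · change ∃ (cur' : Lem) (s' : SL), _ ∧ _ ∧ SL.push _ _ _ = _
      obtain ⟨s', hs', e1⟩ := SL.push_spec h1 h2
        (fun s' => runChunkH b iv R hc k fuel (Nat.shiftRight n 24) Lem.triv s')
      rw [e1]
      exact runChunkH_spec h hii hR hH k fuel _ _ s' validH_triv hs'

theorem runProgH_spec {α : Type} (h : IvOK e iv) (hii : ∀ c, iv (iv c) = c)
    (hR : ∀ r ∈ R, ev e r = 1) (hH : ∀ c ∈ hc, e c ∈ H) (k : SL → α) :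
    ∀ (l : List (ℕ × ℕ)) (cur : Lem) (s : SL), ValidH e H b iv cur → s.All (ValidH e H b iv) →
      ∃ s' : SL, s'.All (ValidH e H b iv) ∧ runProgH b iv R hc k l cur s = k s'
  | [], _, s, _, h2 => ⟨s, h2, rfl⟩
  | c :: l, cur, s, h1, h2 => by
    obtain ⟨cur', s', h3, h4, e1⟩ := runChunkH_spec h hii hR hH (runProgH b iv R hc k l) c.1 c.2
      cur s h1 h2
    rw [show runProgH b iv R hc k (c :: l) cur s =
      runChunkH b iv R hc (runProgH b iv R hc k l) c.1 c.2 cur s from rfl, e1]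
    exact runProgH_spec h hii hR hH k l cur' s' h3 h4

theorem mem_of_chkH (h : IvOK e iv) (hii : ∀ c, iv (iv c) = c) (hR : ∀ r ∈ R, ev e r = 1)
    (hH : ∀ c ∈ hc, e c ∈ H) {l : List (ℕ × ℕ)} {w : List ℕ}
    (hk : chkProgH b iv R hc l w = true) : ev e w ∈ H := by
  obtain ⟨s, hs, e1⟩ := runProgH_spec (b := b) h hii hR hH
    (fun s => and2 (eqL ((s.get 0).P.word b) w) (Nat.beq (s.get 0).U.len 0)) l Lem.triv SL.nil
    validH_triv trivial
  rw [chkProgH, e1, and2_true, H29.beq_true] at hk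
  obtain ⟨g, hg, h2⟩ := (hs.get validH_triv 0).2.2
  rw [eqL_true hk.1, word_of_len hk.2, mul_one] at h2
  exact h2 ▸ hg

/-- Rotate by `s`, then reduce freely. -/
noncomputable def redW (iv : ℕ → ℕ) (s : ℕ) (w : List ℕ) : List ℕ :=
  (killAux iv [] (w.drop s ++ w.take s) []).reverse

theorem rel_red (h : IvOK e iv) {w v : List ℕ} (hw : ev e w = 1) (s : ℕ)
    (hv : eqL v (redW iv s w) = true) : ev e v = 1 := by
  rw [eqL_true hv, redW, ev_killAux h (by simp), ev_append]
  rw [← List.take_append_drop s w, ev_append] at hw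
  simpa using mul_eq_one_comm.1 hw

theorem rel_comm (h : IvOK e iv) {u w v : List ℕ} (hw : Commute (ev e u) (ev e w)) (s : ℕ)
    (hv : eqL v (redW iv s (u ++ w ++ invW iv u ++ invW iv w)) = true) : ev e v = 1 := by
  refine rel_red h ?_ s hv
  simp only [ev_append, ev_invW h]
  rw [hw.eq]; group

theorem rel_eq (h : IvOK e iv) {u w v : List ℕ} (hw : ev e u = ev e w) (s : ℕ)
    (hv : eqL v (redW iv s (u ++ invW iv w)) = true) : ev e v = 1 := by
  refine rel_red h ?_ s hv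
  simp only [ev_append, ev_invW h]
  rw [hw]; group

theorem rels_cons {w : List ℕ} (hw : ev e w = 1) (hR : ∀ r ∈ R, ev e r = 1) :
    ∀ r ∈ w :: R, ev e r = 1 := List.forall_mem_cons.2 ⟨hw, hR⟩

theorem rels_nil : ∀ r ∈ ([] : List (List ℕ)), ev e r = 1 := by simp

end H11
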