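import Mathlib
import Cfsg.Agent.H11.CosetH

set_option autoImplicit false
set_option maxRecDepth 100000
set_option Elab.async false
set_option linter.all false

namespace H11.J1B

open H29

def ivl : List ℕ := [0, 1, 3, 2, 5, 4, 7, 6]
def hcols : List ℕ := [0, 1, 2, 3, 4, 5]
def Base : List (List ℕ) := [[2, 2, 2],
 [4, 4, 4],
 [2, 4, 2, 4],
 [0, 2, 0, 2, 0, 2],
 [0, 4, 0, 4],
 [2, 5, 2, 5, 2, 5],
 [3, 0, 4, 0, 3, 0, 4, 0],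
 [1, 0, 1, 0],
 [1, 2, 1, 3],
 [1, 4, 1, 5],
 [6, 6, 6],
 [6, 1, 7, 0],
 [6, 0, 7, 1, 0],
 [1, 3, 0, 2, 6, 3, 0, 2, 1, 7],
 [7, 2, 7, 2, 7, 2],
 [7, 3, 7, 3, 7, 3, 7, 3, 7, 3, 7, 3, 7, 3]]
theorem hii : ∀ c, ivOf ivl (ivOf ivl c) = c := ivOf_ivOf (by decide +kernel)
theorem mem6 {G : Type*} [Group G] {e : ℕ → G} {H : Subgroup G} (hi : IvOK e (ivOf ivl))
    (h : ev e [7] ∈ H) : ev e [6] ∈ H := by
  have h1 : e 7 = (e 6)⁻¹ := hi 6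
  simpa [h1] using h

end H11.J1B
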