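import Mathlib
import Cfsg.Agent.H11.J1B

/-! Computations in `Z₂ × A₅`. -/

set_option autoImplicit false
set_option maxRecDepth 100000
set_option synthInstance.maxSize 4000
set_option Elab.async false

namespace H11.J1

open Equiv H29

abbrev A5 := alternatingGroup (Fin 5)
abbrev K5 := Multiplicative (ZMod 2) × A5

instance decK5 : DecidableEq K5 := inferInstance
instance finK5 : Fintype K5 := inferInstance

def τ : K5 := (Multiplicative.ofAdd 1, 1)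
def a0 : K5 := (1, ⟨swap 0 1 * swap 2 3, by rw [Perm.mem_alternatingGroup]; decide⟩)
def r0 : K5 := (1, ⟨swap 0 2 * swap 0 1, by rw [Perm.mem_alternatingGroup]; decide⟩)
def y0 : K5 := (1, ⟨swap 0 4 * swap 0 1, by rw [Perm.mem_alternatingGroup]; decide⟩)
def b0 : K5 := r0⁻¹ * a0 * r0
def x0 : K5 := a0 * r0 * y0

theorem center_eq : ∀ k : K5, k ≠ 1 → k * a0 = a0 * k → k * y0 = y0 * k → k = τ := by
  decide +kernel
theorem τ_comm : ∀ k : K5, k * τ = τ * k := by decide +kernel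
theorem fst_or : ∀ k : K5, k.1 = 1 ∨ (τ * k).1 = 1 := by decide +kernel
theorem invol_conj : ∀ k : K5, k * k = 1 → k ≠ 1 →
    ∃ m : K5, m * k * m⁻¹ = a0 ∨ m * k * m⁻¹ = τ ∨ m * k * m⁻¹ = τ * a0 := by decide +kernel
theorem invol_conj' : ∀ k : K5, k * k = 1 → k ≠ 1 → k.1 = 1 → ∃ m : K5, m * k * m⁻¹ = a0 := by
  decide +kernel
theorem pow30 : ∀ k : K5, k ^ 30 = 1 := by decide +kernel
theorem cent_odd : ∀ l : K5, l ^ 15 = 1 → l ≠ 1 → ∀ m : K5, m * l = l * m →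
    ∃ i : Fin 5, m = l ^ (i : ℕ) ∨ τ * m = l ^ (i : ℕ) := by decide +kernel
theorem inverted : ∀ l : K5, l ^ 15 = 1 → l ≠ 1 → a0 * l * a0⁻¹ = l⁻¹ →
    ∃ i : Fin 5, l ^ (i : ℕ) = x0 ∨ l ^ (i : ℕ) = b0 * x0 * b0 ∨ l ^ (i : ℕ) = y0 ∨
      l ^ (i : ℕ) = b0 * y0 * b0 := by decide +kernel

/-- The Sylow `2`-subgroup. -/
def s0 : Fin 8 → K5 := ![1, τ, a0, τ * a0, b0, τ * b0, a0 * b0, τ * (a0 * b0)]
theorem s0_inj : ∀ i j, s0 i = s0 j → i = j := by decide +kernel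
theorem cent_a0 : ∀ k : K5, k * a0 = a0 * k → ∃ i, k = s0 i := by decide +kernel
theorem s0_comm : ∀ i j, s0 i * s0 j = s0 j * s0 i := by decide +kernel
theorem s0_sq : ∀ i, s0 i * s0 i = 1 := by decide +kernel
def fr : Fin 8 → Fin 8 := ![0, 1, 6, 7, 2, 3, 4, 5]
theorem act_r : ∀ i, r0 * s0 i * r0⁻¹ = s0 (fr i) := by decide +kernel

/-- The facts used for the elements `x0` and `y0`. -/
def Good (g : K5) (n : ℕ) : Prop :=
  g ^ 15 = 1 ∧ g ≠ 1 ∧ a0 * g * a0⁻¹ = g⁻¹ ∧ a0 * g ≠ g * a0 ∧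
  Fintype.card {k : K5 // k * g = g * k} = n ∧
  ∀ k : K5, k * g = g * k → k ^ n = 1 ∧ (k * k = 1 → k = 1 ∨ k = τ) ∧ a0 * k * a0⁻¹ = k⁻¹ ∧
    (∀ m : K5, m * g = g * m → k * m = m * k) ∧
    (k * k ≠ 1 → (∃ i : Fin 5, g = (k * k) ^ (i : ℕ)) ∧ ∀ m : K5,
      m⁻¹ * k * m * g = g * (m⁻¹ * k * m) → m * g = g * m ∨ a0⁻¹ * m * g = g * (a0⁻¹ * m))

theorem good_x : Good x0 10 := by unfold Good; decide +kernel
theorem good_y : Good y0 6 := by unfold Good; decide +kernel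

/-- The letters in `K5`. -/
def e0 : ℕ → K5
  | 0 => a0
  | 1 => τ
  | 2 => r0
  | 3 => r0⁻¹
  | 4 => y0
  | 5 => y0⁻¹
  | _ => 1

theorem rel0 : ∀ w ∈ J1B.Base.take 10, ev e0 w = 1 ∧ ∀ c ∈ w, c < 6 := by decide +kernel

def Wd : List (List ℕ) := [[],
  [0],
  [2],
  [3],
  [4],
  [5],
  [0, 2],
  [0, 3],
  [0, 4],
  [0, 5],
  [2, 0],
  [2, 4],
  [2, 5],
  [3, 0],
  [3, 4],
  [3, 5],
  [4, 3],
  [5, 2],
  [0, 2, 0],
  [0, 2, 4],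
  [0, 2, 5],
  [0, 3, 0],
  [0, 3, 4],
  [0, 3, 5],
  [0, 4, 3],
  [0, 5, 2],
  [2, 0, 3],
  [2, 0, 4],
  [2, 0, 5],
  [2, 5, 2],
  [3, 0, 2],
  [3, 0, 4],
  [3, 0, 5],
  [4, 3, 0],
  [5, 2, 0],
  [0, 2, 0, 4],
  [0, 2, 0, 5],
  [0, 2, 5, 2],
  [0, 3, 0, 4],
  [0, 3, 0, 5],
  [0, 4, 3, 0],
  [0, 5, 2, 0],
  [2, 0, 3, 4],
  [2, 0, 3, 5],
  [2, 0, 4, 3],
  [2, 0, 5, 2],
  [2, 5, 2, 0],
  [3, 0, 2, 4],
  [3, 0, 2, 5],
  [3, 0, 4, 3],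
  [3, 0, 5, 2],
  [4, 3, 0, 2],
  [5, 2, 0, 3],
  [0, 2, 0, 4, 3],
  [0, 2, 5, 2, 0],
  [0, 3, 0, 5, 2],
  [2, 0, 4, 3, 0],
  [2, 5, 2, 0, 3],
  [4, 3, 0, 2, 5],
  [5, 2, 0, 3, 4]]

theorem words : ∀ k : K5, k.1 = 1 → ∃ w ∈ Wd, k = ev e0 w := by decide +kernel
theorem words_lt : ∀ w ∈ Wd, ∀ c ∈ w, c < 6 := by decide +kernel

theorem card_K5 : Nat.card K5 = 120 := by
  rw [Nat.card_eq_fintype_card]; decide +kernel

/-- The outer automorphism. -/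
def sw : K5 ≃* K5 := MulEquiv.prodCongr (MulEquiv.refl _) (MulAut.conjNormal (swap 0 1))
theorem sw_τ : sw τ = τ := by decide +kernel
theorem sw_a : sw a0 = a0 := by decide +kernel
theorem sw_b : sw b0 = a0 * b0 := by decide +kernel
theorem sw_fst (k : K5) : (sw k).1 = k.1 := rfl

end H11.J1
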