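import Mathlib
import Cfsg.Agent.H11.J1K5
import Cfsg.Agent.H6.Transfer2
import Cfsg.Agent.H6.SmallSylow

/-! Groups with an involution centraliser `Z₂ × A₅`: the frame and the normaliser of a Sylow
`2`-subgroup. -/

set_option autoImplicit false
set_option maxRecDepth 100000
open Subgroup
open scoped commutatorElement

namespace H11.J1

variable {G : Type*} [Group G]

theorem exists_conj_mem [Finite G] {C : Subgroup G} (hC : ¬ 2 ∣ C.index) {u : G} (hu : u * u = 1) :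
    ∃ g, g * u * g⁻¹ ∈ C := by
  have hp : IsPGroup 2 (zpowers u) := by
    by_cases h1 : u = 1
    · subst h1; rw [zpowers_one_eq_bot]; exact IsPGroup.of_bot
    · exact H6.isPGroup_zpowers_of_orderOf_two (H6.orderOf_eq_two_of hu h1)
  obtain ⟨q, hq⟩ := hp.nonempty_fixed_point_of_prime_not_dvd_card (G ⧸ C) hC
  induction q using QuotientGroup.induction_on with
  | H g =>
    have := hq ⟨u, mem_zpowers u⟩
    change ((u * g : G) : G ⧸ C) = g at this
    rw [eq_comm, QuotientGroup.eq] at this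
    exact ⟨g⁻¹, by simpa [mul_assoc] using this⟩

/-- `j` identifies `Z₂ × A₅` with the centraliser of `j τ`; all involutions are conjugate. -/
structure Fr (j : K5 →* G) : Prop where
  inj : Function.Injective j
  cent : ∀ g, g * j τ = j τ * g → ∃ k, g = j k
  conj : ∀ u, u * u = 1 → u ≠ 1 → ∃ g, g * u * g⁻¹ = j τ

theorem ττ : τ * τ = 1 := by decide +kernel
theorem τ_ne : τ ≠ 1 := by decide +kernel
theorem τ_fst : τ.1 ≠ 1 := by decide +kernel
theorem jcomm (j : K5 →* G) (k : K5) : j k * j τ = j τ * j k := by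
  rw [← map_mul, τ_comm, map_mul]

theorem exists_fr [Finite G] [IsSimpleGroup G] {t : G} (ht : orderOf t = 2)
    (hi : ¬ 2 ∣ (centralizer ({t} : Set G)).index) (e : centralizer ({t} : Set G) ≃* K5) :
    ∃ j : K5 →* G, Fr j := by
  let C := centralizer ({t} : Set G)
  let j : K5 →* G := C.subtype.comp e.symm.toMonoidHom
  have inj : Function.Injective j := C.subtype_injective.comp e.symm.injective
  have hj : ∀ c : C, j (e c) = c := fun c => by simp [j]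
  have hC : ∀ k, j k ∈ C := fun k => (e.symm k).2
  have htC : t ∈ C := H6.mem_centralizer_singleton.2 rfl
  have hτ : j τ = t := by
    have h1 : ∀ k, e ⟨t, htC⟩ * k = k * e ⟨t, htC⟩ := fun k => inj (by
      rw [map_mul, map_mul, hj]; exact (H6.mem_centralizer_singleton.1 (hC k)).symm)
    rw [← center_eq (e ⟨t, htC⟩) (fun h => H6.ne_one_of_orderOf_two ht (by
      rw [← map_one j, ← h, hj])) (h1 _) (h1 _), hj]
  have hsur : ∀ g ∈ C, ∃ k, g = j k := fun g hg => ⟨e ⟨g, hg⟩, (hj ⟨g, hg⟩).symm⟩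
  have hcom : commutator G = ⊤ := by
    refine (IsSimpleGroup.eq_bot_or_eq_top_of_normal _ inferInstance).resolve_left fun h => ?_
    have : ⁅j a0, j y0⁆ ∈ commutator G := commutator_mem_commutator (mem_top _) (mem_top _)
    rw [h, mem_bot, ← map_commutatorElement, ← map_one j] at this
    exact absurd (inj this) (by decide +kernel)
  have key : ∀ k : K5, k * k = 1 → k ≠ 1 → ∃ g, g * j k * g⁻¹ = j a0 := by
    intro k h1 h2
    by_contra hno
    have h3 : ∀ g k', g * j k * g⁻¹ = j k' → k'.1 ≠ 1 := fun g k' h4 h5 => by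
      obtain ⟨m, hm⟩ := invol_conj' k' (inj (by
        rw [map_mul, ← h4, map_one, conj_mul, ← map_mul, h1]; simp)) (fun h6 => h2 (inj (by
        rw [h6, map_one, mul_inv_eq_one, mul_eq_left] at h4; rw [h4, map_one]))) h5
      exact hno ⟨j m * g, by rw [← hm, map_mul, map_mul, ← h4, map_inv]; group⟩
    let K : Subgroup G := (MonoidHom.fst _ _ : K5 →* _).ker.map j
    have hK : ∀ k : K5, j k ∈ K ↔ k.1 = 1 := fun k => mem_map_iff_mem inj
    have ho : orderOf (j k) = 2 :=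
      H6.orderOf_eq_two_of (by rw [← map_mul, h1, map_one]) fun h => h2 (inj (by simpa using h))
    refine H6.not_mem_commutator_of_fusion (p := 2) C K ⟨fun n hn g => ?_⟩ (fun x hx y hy => ?_)
      ((Nat.Prime.coprime_iff_not_dvd Nat.prime_two).2 hi) (j k) (hC k)
      (fun h => h3 1 k (by simp) ((hK k).1 h)) ⟨1, by simpa using ho⟩ (fun m a ha => ?_)
      (hcom ▸ mem_top _)
    · obtain ⟨x, hx⟩ := hsur _ n.2
      obtain ⟨y, hy⟩ := hsur _ g.2
      simp only [mem_subgroupOf, coe_mul, InvMemClass.coe_inv, hx, hy, ← map_mul, ← map_inv,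
        hK] at hn ⊢
      simp [hn]
    · obtain ⟨x, rfl⟩ := hsur _ hx
      obtain ⟨y, rfl⟩ := hsur _ hy
      simp only [← map_mul, ← map_inv, hK]
      simp [mul_comm x.1]
    · rcases Int.even_or_odd' m with ⟨n, rfl | rfl⟩
      · have : j k ^ (2 * n) = 1 := by rw [zpow_mul, zpow_two, ← map_mul, h1]; simp
        rw [this]; simpa using one_mem K
      · have : j k ^ (2 * n + 1) = j k := by
          rw [zpow_add_one, zpow_mul, zpow_two, ← map_mul, h1]; simp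
        rw [this] at ha ⊢
        obtain ⟨x, hx⟩ := hsur _ ha
        rw [hx, ← map_inv, ← map_mul, hK]
        exact (by decide : ∀ u v : Multiplicative (ZMod 2), u ≠ 1 → v ≠ 1 → u * v⁻¹ = 1) _ _
          (h3 a x hx) (h3 1 k (by simp))
  refine ⟨j, inj, fun g hg => hsur g (H6.mem_centralizer_singleton.2 (hτ ▸ hg)), fun u h1 h2 => ?_⟩
  obtain ⟨g, hg⟩ := exists_conj_mem hi h1
  obtain ⟨k, hk⟩ := hsur _ hg
  obtain ⟨c, hc⟩ := key k (inj (by rw [map_mul, ← hk, conj_mul, h1]; simp)) (fun h => h2 (by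
    rw [h, map_one, mul_inv_eq_one, mul_eq_left] at hk; exact hk))
  obtain ⟨d, hd⟩ := key τ ττ τ_ne
  refine ⟨d⁻¹ * c * g, ?_⟩
  rw [show d⁻¹ * c * g * u * (d⁻¹ * c * g)⁻¹ = d⁻¹ * (c * (g * u * g⁻¹) * c⁻¹) * d by group, hk, hc,
    ← hd]
  group

/-- `x` lies in the commutator subgroup of the centraliser of the involution `u`. -/
def R (j : K5 →* G) (u x : G) : Prop :=
  ∃ g k, k.1 = 1 ∧ g * u * g⁻¹ = j τ ∧ g * x * g⁻¹ = j k

theorem R.cj {j : K5 →* G} {u x : G} (h : R j u x) (c : G) {u' x' : G} (h1 : c * u * c⁻¹ = u')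
    (h2 : c * x * c⁻¹ = x') : R j u' x' := by
  obtain ⟨g, k, h3, h4, h5⟩ := h
  exact ⟨g * c⁻¹, k, h3, by rw [← h4, ← h1]; group, by rw [← h5, ← h2]; group⟩

theorem R_τ (j : K5 →* G) {k : K5} (hk : k.1 = 1) : R j (j τ) (j k) := ⟨1, k, hk, by simp, by simp⟩

namespace Fr

variable {j : K5 →* G} (h : Fr j)
include h

theorem ne {k m : K5} (hk : k ≠ m) : j k ≠ j m := fun h1 => hk (h.inj h1)
theorem t_ne : j τ ≠ 1 := fun h1 => τ_ne (h.inj (by simpa using h1))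

theorem R_of {u x g : G} (hR : R j u x) (hg : g * u * g⁻¹ = j τ) :
    ∃ k, k.1 = 1 ∧ g * x * g⁻¹ = j k := by
  obtain ⟨c, k, h1, h2, h3⟩ := hR
  obtain ⟨m, hm⟩ := h.cent (g * c⁻¹) (by nth_rw 1 [← h2]; rw [← hg]; group)
  refine ⟨m * k * m⁻¹, by simp [h1], ?_⟩
  rw [map_mul, map_mul, map_inv, ← hm, ← h3]; group

theorem R_mul {u x y : G} (h1 : R j u x) (h2 : R j u y) : R j u (x * y) := by
  obtain ⟨g, k, a1, a2, a3⟩ := h1
  obtain ⟨m, b1, b2⟩ := h.R_of h2 a2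
  exact ⟨g, k * m, by simp [a1, b1], a2, by rw [map_mul, ← a3, ← b2]; group⟩

theorem R_irrefl (u : G) : ¬ R j u u := by
  rintro ⟨g, k, a1, a2, a3⟩
  exact τ_fst (h.inj (a2.symm.trans a3) ▸ a1)

theorem R_or {u x : G} (h1 : u * u = 1) (h2 : u ≠ 1) (h3 : x * u = u * x) :
    R j u x ∨ R j u (u * x) := by
  obtain ⟨g, hg⟩ := h.conj u h1 h2
  obtain ⟨k, hk⟩ := h.cent (g * x * g⁻¹) (by rw [← hg, conj_mul, conj_mul, h3])
  rcases fst_or k with h4 | h4
  · exact Or.inl ⟨g, k, h4, hg, hk⟩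
  · exact Or.inr ⟨g, τ * k, h4, hg, by rw [map_mul, ← hk, ← hg]; group⟩

theorem R_pair {u x : G} (h1 : R j u x) (h2 : x * x = 1) (h3 : x ≠ 1) :
    ∃ g, g * u * g⁻¹ = j τ ∧ g * x * g⁻¹ = j a0 := by
  obtain ⟨g, k, a1, a2, a3⟩ := h1
  obtain ⟨m, hm⟩ := invol_conj' k (h.inj (by rw [map_mul, ← a3, conj_mul, h2]; simp))
    (fun h4 => h3 (by rwa [h4, map_one, mul_inv_eq_one, mul_eq_left] at a3)) a1
  refine ⟨j m * g, ?_, by rw [← hm, map_mul, map_mul, map_inv, ← a3]; group⟩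
  rw [show j m * g * u * (j m * g)⁻¹ = j m * (g * u * g⁻¹) * (j m)⁻¹ by group, a2, jcomm]; group

theorem sq_s (i : Fin 8) : j (s0 i) * j (s0 i) = 1 := by rw [← map_mul, s0_sq, map_one]
theorem s_ne {i : Fin 8} (hi : i ≠ 0) : j (s0 i) ≠ 1 := fun h1 =>
  hi (s0_inj i 0 (h.inj (by rw [h1]; simp [s0])))
omit h in
theorem s_comm (i k : Fin 8) : j (s0 i) * j (s0 k) = j (s0 k) * j (s0 i) := by
  rw [← map_mul, s0_comm, map_mul]
omit h in
theorem s_r (i : Fin 8) : j r0 * j (s0 i) * (j r0)⁻¹ = j (s0 (fr i)) := by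
  rw [← map_inv, ← map_mul, ← map_mul, act_r]
omit h in
theorem s_mul {i k l : Fin 8} (h1 : s0 i * s0 k = s0 l) : j (s0 i) * j (s0 k) = j (s0 l) := by
  rw [← map_mul, h1]

theorem R_asymm {u x : G} (h1 : R j u x) (h2 : x * x = 1) (h3 : x ≠ 1) : ¬ R j x u := by
  intro h4
  have h5 : R j (j (s0 2)) (j (s0 1)) := by
    obtain ⟨g, a1, a2⟩ := h.R_pair h1 h2 h3
    exact h4.cj g a2 a1
  have sym : ∀ i k : Fin 8, k ≠ 0 → R j (j (s0 i)) (j (s0 k)) → R j (j (s0 k)) (j (s0 i)) := by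
    intro i k hk h6
    obtain ⟨g, a1, a2⟩ := h.R_pair h6 (h.sq_s k) (h.s_ne hk)
    exact h5.cj g⁻¹ (by rw [show j (s0 2) = j a0 from rfl, ← a2]; group)
      (by rw [show j (s0 1) = j τ from rfl, ← a1]; group)
  have rot : ∀ i k : Fin 8, R j (j (s0 i)) (j (s0 k)) → R j (j (s0 (fr i))) (j (s0 (fr k))) :=
    fun i k h6 => h6.cj _ (s_r i) (s_r k)
  have both : R j (j (s0 2)) (j (s0 4)) ∧ R j (j (s0 2)) (j (s0 6)) := by
    rcases h.R_or (h.sq_s 2) (h.s_ne (by decide)) (s_comm 4 2) with h6 | h6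
    · exact ⟨h6, sym 6 2 (by decide) (rot 2 4 h6)⟩
    · rw [s_mul (l := 6) (by decide +kernel)] at h6
      exact ⟨sym 4 2 (by decide) (rot 6 4 (rot 2 6 h6)), h6⟩
  have := h.R_mul both.1 both.2
  rw [s_mul (l := 2) (by decide +kernel)] at this
  exact h.R_irrefl _ this

theorem swap : Fr (j.comp sw.toMonoidHom) where
  inj := h.inj.comp sw.injective
  cent g hg := by
    obtain ⟨k, hk⟩ := h.cent g (by simpa [sw_τ] using hg)
    exact ⟨sw.symm k, by simp [hk]⟩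
  conj u h1 h2 := by simpa [sw_τ] using h.conj u h1 h2

theorem exists_typed : ∃ j : K5 →* G, Fr j ∧ R j (j a0) (j b0) := by
  rcases h.R_or (h.sq_s 2) (h.s_ne (by decide)) (s_comm 4 2) with h6 | h6
  · exact ⟨j, h, h6⟩
  · obtain ⟨g, k, a1, a2, a3⟩ := h6
    refine ⟨_, h.swap, g, sw.symm k, a1, ?_, ?_⟩
    · simpa [sw_τ, sw_a] using (show g * j a0 * g⁻¹ = j τ from a2)
    · simpa [sw_b] using (show g * (j a0 * j b0) * g⁻¹ = j k from a3)

/-- The action on the Sylow subgroup. -/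
def _root_.H11.J1.Act (j : K5 →* G) (n : G) (f : Fin 8 → Fin 8) : Prop :=
  ∀ i, n * j (s0 i) * n⁻¹ = j (s0 (f i))

omit h in
theorem _root_.H11.J1.Act.mul {n m : G} {f g : Fin 8 → Fin 8} (h1 : Act j n f) (h2 : Act j m g) :
    Act j (n * m) (f ∘ g) := fun i => by
  rw [Function.comp_apply, ← h1, ← h2]; group

omit h in
theorem _root_.H11.J1.Act.inv {n : G} {f : Fin 8 → Fin 8} (h1 : Act j n f) (g : Fin 8 → Fin 8)
    (hg : ∀ i, f (g i) = i) : Act j n⁻¹ g := fun i => by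
  rw [← hg i, ← h1, hg]; group

omit h in
theorem _root_.H11.J1.Act.pow {n : G} {f : Fin 8 → Fin 8} (h1 : Act j n f) (k : ℕ) :
    Act j (n ^ k) f^[k] := by
  induction k with
  | zero => intro i; simp
  | succ k ih => rw [pow_succ, Function.iterate_succ]; exact ih.mul h1

theorem pow_eq {n : G} {f : Fin 8 → Fin 8} (h1 : Act j n f) {k : ℕ} (hk : ∀ i, f^[k] i = i) :
    ∃ i, n ^ k = j (s0 i) ∧ f i = i := by
  have h2 := h1.pow k
  simp only [Act, hk] at h2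
  obtain ⟨m, hm⟩ := h.cent (n ^ k) (mul_inv_eq_iff_eq_mul.1 (h2 1))
  obtain ⟨i, rfl⟩ := cent_a0 m (h.inj (by
    rw [map_mul, map_mul, ← hm]; exact mul_inv_eq_iff_eq_mul.1 (h2 2)))
  refine ⟨i, hm, s0_inj _ _ (h.inj ?_)⟩
  rw [← h1, ← hm]; group

/-- The action of `p`. -/
def _root_.H11.J1.fp : Fin 8 → Fin 8 := ![0, 2, 3, 1, 7, 5, 4, 6]

theorem exists_p0 (hty : R j (j a0) (j b0)) : ∃ p : G, p ^ 3 = 1 ∧ Act j p fp := by
  obtain ⟨g, a1, a2⟩ := h.R_pair hty (h.sq_s 4) (h.s_ne (i := 4) (by decide))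
  have cjp : ∀ u, g * (j r0)⁻¹ * g⁻¹ * (g * u * g⁻¹) * (g * (j r0)⁻¹ * g⁻¹)⁻¹ =
      g * ((j r0)⁻¹ * u * j r0) * g⁻¹ := fun u => by group
  have p1 : g * (j r0)⁻¹ * g⁻¹ * j τ * (g * (j r0)⁻¹ * g⁻¹)⁻¹ = j a0 := by
    rw [← a1, cjp]; nth_rw 2 [← a2]; rw [b0, map_mul, map_mul, map_inv]
  have p2 : g * (j r0)⁻¹ * g⁻¹ * j a0 * (g * (j r0)⁻¹ * g⁻¹)⁻¹ = j τ * j a0 := by
    have : (j r0)⁻¹ * j b0 * j r0 = j a0 * j b0 := by
      rw [← map_inv, ← map_mul, ← map_mul, ← map_mul]; exact congrArg j (by decide +kernel)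
    have e1 := cjp (j b0)
    rw [a2, this, ← conj_mul, a1, a2] at e1
    exact e1
  have c1 : g * j τ * g⁻¹ * j τ = j τ * (g * j τ * g⁻¹) := by
    nth_rw 2 3 [← a1]; rw [conj_mul, conj_mul, jcomm]
  have c2 : g * j τ * g⁻¹ * j a0 = j a0 * (g * j τ * g⁻¹) := by
    rw [← a2, conj_mul, conj_mul, jcomm]
  obtain ⟨m, hm⟩ := h.cent _ c1
  obtain ⟨i, rfl⟩ := cent_a0 m (h.inj (by rw [map_mul, map_mul, ← hm, c2]))
  have r1 : R j (j (s0 i)) (j (s0 1)) := (R_τ j (k := a0) rfl).cj g hm a1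
  have r2 : R j (j (s0 i)) (j (s0 2)) := (R_τ j (k := b0) (by decide +kernel)).cj g hm a2
  have r3 : R j (j (s0 i)) (j (s0 3)) := by
    rw [← s_mul (i := 1) (k := 2) (l := 3) (by decide +kernel)]; exact h.R_mul r1 r2
  have r4 : R j (j (s0 2)) (j (s0 3)) := by
    rcases h.R_or (h.sq_s 2) (h.s_ne (by decide)) (s_comm 1 2) with h6 | h6
    · exact absurd h6 (h.R_asymm (R_τ j (k := a0) rfl) (h.sq_s 2) (h.s_ne (i := 2) (by decide)))
    · rwa [s_mul (l := 3) (by decide +kernel)] at h6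
  have r5 : R j (j (s0 2)) (j (s0 7)) := by
    rw [← s_mul (i := 3) (k := 4) (l := 7) (by decide +kernel)]; exact h.R_mul r4 hty
  have hi : i = 5 := by
    fin_cases i
    · exact absurd (show g * j τ * g⁻¹ = 1 by rw [hm]; simp [s0]) (by simpa using h.t_ne)
    · exact absurd r1 (h.R_irrefl _)
    · exact absurd r2 (h.R_irrefl _)
    · exact absurd r3 (h.R_irrefl _)
    · exact absurd r1 (h.R_asymm (R_τ j (k := s0 4) (by decide +kernel)) (h.sq_s 4)
        (h.s_ne (by decide)))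
    · rfl
    · exact absurd r1 (h.R_asymm (R_τ j (k := s0 6) (by decide +kernel)) (h.sq_s 6)
        (h.s_ne (by decide)))
    · exact absurd r2 (h.R_asymm r5 (h.sq_s 7) (h.s_ne (by decide)))
  subst hi
  have p3 : g * (j r0)⁻¹ * g⁻¹ * j (s0 5) * (g * (j r0)⁻¹ * g⁻¹)⁻¹ = j (s0 5) := by
    rw [← hm, conj_mul, ← map_inv, jcomm]; group
  refine ⟨g * (j r0)⁻¹ * g⁻¹, ?_, ?_⟩
  · rw [conj_pow, ← map_inv, ← map_pow, show r0⁻¹ ^ 3 = 1 by decide +kernel]; simp
  · generalize g * (j r0)⁻¹ * g⁻¹ = p at p1 p2 p3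
    have q1 : p * j (s0 1) * p⁻¹ = j (s0 2) := p1
    have q2 : p * j (s0 2) * p⁻¹ = j (s0 3) := by rw [← map_mul] at p2; exact p2
    have key : ∀ i k l : Fin 8, s0 i * s0 k = s0 l → s0 (fp i) * s0 (fp k) = s0 (fp l) →
        p * j (s0 i) * p⁻¹ = j (s0 (fp i)) → p * j (s0 k) * p⁻¹ = j (s0 (fp k)) →
        p * j (s0 l) * p⁻¹ = j (s0 (fp l)) := fun i k l e1 e2 e3 e4 => by
      rw [← s_mul e1, ← s_mul e2, ← e3, ← e4, conj_mul]
    have q3 := key 1 2 3 (by decide +kernel) (by decide +kernel) q1 q2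
    have q4 := key 1 5 4 (by decide +kernel) (by decide +kernel) q1 p3
    intro i
    fin_cases i
    · simp [s0, fp]
    · exact q1
    · exact q2
    · exact q3
    · exact q4
    · exact p3
    · exact key 3 5 6 (by decide +kernel) (by decide +kernel) q3 p3
    · exact key 2 5 7 (by decide +kernel) (by decide +kernel) q2 p3

theorem exists_p (hty : R j (j a0) (j b0)) : ∃ p : G, p ^ 3 = 1 ∧ Act j p fp ∧
    (p⁻¹ * j r0) ^ 3 = 1 ∧ (p⁻¹ * (j r0)⁻¹) ^ 7 = 1 := by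
  have hr : Act j (j r0) fr := s_r
  have h7 : ∀ p : G, Act j p fp → (p⁻¹ * (j r0)⁻¹) ^ 7 = 1 := fun p hp => by
    obtain ⟨i, h1, h2⟩ := h.pow_eq ((hp.inv ![0, 3, 1, 2, 6, 5, 7, 4] (by decide)).mul
      (hr.inv ![0, 1, 4, 5, 6, 7, 2, 3] (by decide))) (k := 7) (by decide)
    rw [h1, show i = 0 by clear h1; revert h2 i; decide]; simp [s0]
  obtain ⟨p, h1, hp⟩ := h.exists_p0 hty
  have hP := hp.inv ![0, 3, 1, 2, 6, 5, 7, 4] (by decide)
  have hw := hP.mul hr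
  obtain ⟨i, h2, h3⟩ := h.pow_eq hw (k := 3) (by decide)
  rcases (show i = 0 ∨ i = 6 by clear h2; revert h3 i; decide) with rfl | rfl
  · exact ⟨p, h1, hp, by rw [h2]; simp [s0], h7 p hp⟩
  · have hv : Act j (j (s0 2)) id := fun i => by rw [s_comm]; simp
    have hp' : Act j (j (s0 2) * p * (j (s0 2))⁻¹) fp := (hv.mul hp).mul (hv.inv id fun _ => rfl)
    refine ⟨_, by rw [conj_pow, h1]; simp, hp', ?_, h7 _ hp'⟩
    have e1 : (j (s0 2) * p * (j (s0 2))⁻¹)⁻¹ * j r0 = j (s0 3) * (p⁻¹ * j r0) := by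
      have e0 : p⁻¹ * j (s0 2) * p⁻¹⁻¹ = j (s0 1) := hP 2
      rw [← s_mul (i := 2) (k := 1) (l := 3) (by decide +kernel), ← e0, mul_inv_rev, mul_inv_rev,
        inv_inv, H6.inv_eq_of_mul_self (h.sq_s 2)]
      group
    rw [e1]
    generalize p⁻¹ * j r0 = w at hw h2
    have e2 : (j (s0 3) * w) ^ 3 =
        j (s0 3) * (w * j (s0 3) * w⁻¹) * (w * (w * j (s0 3) * w⁻¹) * w⁻¹) * w ^ 3 := by
      simp only [pow_succ]; group
    rw [e2, hw 3, hw _, h2, ← map_mul, ← map_mul, ← map_mul, ← map_one j]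
    exact congrArg j (by decide +kernel)

end Fr

end H11.J1
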