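import Mathlib
import Cfsg.Agent.H11.J1Fr
import Cfsg.Agent.H11.J1Char
import Cfsg.Agent.H6.Dihedral

/-! Groups with an involution centraliser `Z₂ × A₅`: centralisers of elements of order `3`, `5`. -/

set_option autoImplicit false
set_option maxRecDepth 100000
open Subgroup

namespace H11.J1

variable {G : Type*} [Group G]

theorem odd_conj {g : G} (hg : Odd (orderOf g)) (c : G) : Odd (orderOf (c * g * c⁻¹)) := by
  rwa [H6.orderOf_conj]

theorem odd_of_pow {g : G} {n : ℕ} (hn : Odd n) (h : g ^ n = 1) : Odd (orderOf g) :=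
  hn.of_dvd_nat (orderOf_dvd_of_pow_eq_one h)

theorem eq_one_of_odd {g : G} (hg : Odd (orderOf g)) (h : g * g = 1) : g = 1 := by
  rw [← orderOf_eq_one_iff]
  exact Nat.eq_one_of_dvd_coprimes (Nat.coprime_two_right.2 hg) dvd_rfl
    (orderOf_dvd_of_pow_eq_one (by rw [pow_two, h]))

namespace Fr

variable {j : K5 →* G} (h : Fr j)
include h

theorem pow15 {l : K5} (hl : Odd (orderOf (j l))) : l ^ 15 = 1 := by
  rw [orderOf_injective j h.inj] at hl
  rw [← orderOf_dvd_iff_pow_eq_one]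
  exact (Nat.coprime_two_right.2 hl).dvd_of_dvd_mul_left
    (orderOf_dvd_of_pow_eq_one (pow30 l) : orderOf l ∣ 2 * 15)

theorem cent_struct {u g k : G} (h1 : u * u = 1) (h2 : u ≠ 1) (hg : Odd (orderOf g)) (hg1 : g ≠ 1)
    (h3 : g * u = u * g) (h4 : k * u = u * k) (h5 : k * g = g * k) :
    k ∈ zpowers g ∨ u * k ∈ zpowers g := by
  obtain ⟨c, hc⟩ := h.conj u h1 h2
  obtain ⟨l, hl⟩ := h.cent (c * g * c⁻¹) (by rw [← hc, conj_mul, conj_mul, h3])
  obtain ⟨m, hm⟩ := h.cent (c * k * c⁻¹) (by rw [← hc, conj_mul, conj_mul, h4])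
  have key : ∀ (x : G) (i : ℕ), c * x * c⁻¹ = j (l ^ i) → x ∈ zpowers g := fun x i hx => by
    rw [map_pow, ← hl, conj_pow, mul_left_inj, mul_right_inj] at hx
    exact hx ▸ npow_mem_zpowers g i
  obtain ⟨i, hi | hi⟩ := cent_odd l (h.pow15 (hl ▸ odd_conj hg c))
    (fun h6 => hg1 (by rwa [h6, map_one, mul_inv_eq_one, mul_eq_left] at hl)) m
    (h.inj (by rw [map_mul, map_mul, ← hl, ← hm, conj_mul, conj_mul, h5]))
  · exact Or.inl (key k i (by rw [hm, hi]))
  · exact Or.inr (key _ i (by rw [← hi, map_mul, ← hc, ← hm, conj_mul]))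

variable [Finite G]

theorem sq_mem {g k : G} (hg : Odd (orderOf g)) (hg1 : g ≠ 1) (h5 : k * g = g * k)
    (hk : ¬ Odd (orderOf k)) : k * k ∈ zpowers g := by
  have hu := H6.orderOf_pow_half (Nat.not_odd_iff_even.1 hk)
  have c1 : Commute k (k ^ (orderOf k / 2)) := Commute.self_pow k _
  have c2 : Commute g (k ^ (orderOf k / 2)) := (show Commute g k from h5.symm).pow_right _
  generalize k ^ (orderOf k / 2) = u at hu c1 c2
  have uu := H6.mul_self_of_orderOf_two hu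
  rcases h.cent_struct uu (H6.ne_one_of_orderOf_two hu) hg hg1 c2 c1 h5 with h6 | h6
  · exact mul_mem h6 h6
  · have := mul_mem h6 h6
    rwa [show u * k * (u * k) = u * (k * u) * k by group, c1.eq, ← mul_assoc, uu, one_mul] at this

theorem exists_O {g s : G} (hg : Odd (orderOf g)) (hg1 : g ≠ 1) (h1 : s * s = 1) (h2 : s ≠ 1)
    (h3 : s * g = g * s) : ∃ O : Subgroup G, (∀ u, u ∈ O ↔ u * g = g * u ∧ Odd (orderOf u)) ∧
      ∀ c, c * g = g * c → c ∈ O ∨ c * s ∈ O := by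
  let C := centralizer ({g} : Set G)
  have hs : s ∈ C := H6.mem_centralizer_singleton.2 h3
  have hso : orderOf (⟨s, hs⟩ : C) = 2 :=
    H6.orderOf_eq_two_of (Subtype.ext h1) fun h4 => h2 (congrArg Subtype.val h4)
  have hev : 2 ∣ Nat.card C := hso ▸ orderOf_dvd_natCard _
  have h4 : ¬ 4 ∣ Nat.card C := fun h4 => by
    obtain ⟨T, hT⟩ := Sylow.exists_subgroup_card_pow_prime 2 (n := 2) h4
    have hp : IsPGroup 2 T := IsPGroup.of_card hT
    obtain ⟨z, hz, hz2, hz3⟩ := H6.exists_central_involution hp (fun h5 => by simp [h5] at hT)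
    have key : ∀ x ∈ T, (x : G) ∈ zpowers g → x = 1 := fun x hx h5 => by
      obtain ⟨k, hk⟩ := IsPGroup.iff_orderOf.1 hp ⟨x, hx⟩
      rw [orderOf_mk, ← orderOf_coe] at hk
      have h6 := hg.of_dvd_nat (orderOf_dvd_of_mem_zpowers h5)
      rw [hk] at h6
      rcases k with _ | k
      · exact Subtype.ext (orderOf_eq_one_iff.1 hk)
      · exact absurd h6 (by rw [pow_succ]; simp)
    have zz := H6.mul_self_of_orderOf_two hz2
    have : T ≤ zpowers z := fun x hx => by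
      rcases h.cent_struct (u := z) (k := x) (congrArg Subtype.val zz)
        (fun h5 => H6.ne_one_of_orderOf_two hz2 (Subtype.ext h5)) hg hg1
        (H6.mem_centralizer_singleton.1 z.2).symm (congrArg Subtype.val (hz3 x hx))
        (H6.mem_centralizer_singleton.1 x.2) with h5 | h5
      · rw [key x hx h5]; exact one_mem _
      · rw [← inv_inv x, ← eq_inv_of_mul_eq_one_left (key _ (mul_mem hz hx) h5)]
        exact inv_mem (mem_zpowers z)
    have := card_dvd_of_le this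
    rw [hT, Nat.card_zpowers, hz2] at this
    omega
  obtain ⟨N, hN⟩ := H6.exists_index_two_of_not_four_dvd (even_iff_two_dvd.2 hev) h4
  have hNo : Odd (Nat.card N) := by
    have := N.card_mul_index
    rw [hN] at this
    rw [Nat.odd_iff]; omega
  have hodd : ∀ u : C, u ∈ N ↔ Odd (orderOf (u : G)) := fun u => by
    refine ⟨fun hu => hNo.of_dvd_nat ?_, fun ⟨n, hn⟩ => ?_⟩
    · rw [orderOf_coe]; exact N.orderOf_dvd_natCard hu
    · have h5 := pow_orderOf_eq_one u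
      rw [← orderOf_coe, hn, pow_succ, pow_mul] at h5
      rw [eq_inv_of_mul_eq_one_right h5]
      exact inv_mem (pow_mem (sq_mem_of_index_two hN u) n)
  refine ⟨N.map C.subtype, fun u => ⟨?_, fun ⟨h5, h6⟩ =>
    ⟨⟨u, H6.mem_centralizer_singleton.2 h5⟩, (hodd _).2 h6, rfl⟩⟩, fun c hc => ?_⟩
  · rintro ⟨u, hu, rfl⟩
    exact ⟨H6.mem_centralizer_singleton.1 u.2, (hodd u).1 hu⟩
  · have hsN : (⟨s, hs⟩ : C) ∉ N := fun h5 => h2 (eq_one_of_odd ((hodd _).1 h5) h1)
    by_cases h5 : (⟨c, H6.mem_centralizer_singleton.2 hc⟩ : C) ∈ N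
    · exact Or.inl ⟨_, h5, rfl⟩
    · exact Or.inr ⟨_, (mul_mem_iff_of_index_two hN).2 (iff_of_false h5 hsN), rfl⟩

/-- The square of the product of two elements of odd order and an involution. -/
theorem sq_mem' {g s u v : G} (hg : Odd (orderOf g)) (hg1 : g ≠ 1) (h1 : s * s = 1) (h2 : s ≠ 1)
    (h3 : s * g = g * s) (hu : Odd (orderOf u)) (hv : Odd (orderOf v)) (cu : u * g = g * u)
    (cv : v * g = g * v) : u * v * s * (u * v * s) ∈ zpowers g := by
  obtain ⟨O, h4, -⟩ := h.exists_O hg hg1 h1 h2 h3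
  have h5 := mul_mem ((h4 u).2 ⟨cu, hu⟩) ((h4 v).2 ⟨cv, hv⟩)
  have h6 : u * v * s * g = g * (u * v * s) := by
    rw [mul_assoc, h3, ← mul_assoc, ((h4 _).1 h5).1, mul_assoc]
  refine h.sq_mem hg hg1 h6 fun h7 => h2 (eq_one_of_odd ((h4 s).1 ?_).2 h1)
  exact (mul_mem_cancel_left h5).1 ((h4 _).2 ⟨h6, h7⟩)

theorem dichotomy {g0 : K5} {n : ℕ} (hg : Good g0 n) :
    (∀ c, c * j g0 = j g0 * c → c * j τ = j τ * c) ∨
    ∃ x : G, x ≠ 1 ∧ Odd (orderOf x) ∧ x * j g0 = j g0 * x ∧ j τ * x * (j τ)⁻¹ = x⁻¹ ∧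
      (x * j a0 = j a0 * x ∨ x * (j τ * j a0) = j τ * j a0 * x) := by
  obtain ⟨g1, g2, g3, g4, -, g6⟩ := hg
  have tt : j τ * j τ = 1 := by rw [← map_mul, ττ, map_one]
  have go : Odd (orderOf (j g0)) := odd_of_pow (n := 15) (by decide) (by rw [← map_pow, g1, map_one])
  obtain ⟨O, h1, h2⟩ := h.exists_O go (fun h1 => g2 (h.inj (by simpa using h1))) tt h.t_ne
    (jcomm j g0).symm
  have nrm : ∀ v : G, (v * j g0 * v⁻¹ = j g0 ∨ v * j g0 * v⁻¹ = (j g0)⁻¹) → ∀ u ∈ O,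
      v⁻¹ * u * v ∈ O := fun v hv u hu => by
    obtain ⟨h3, h4⟩ := (h1 u).1 hu
    refine (h1 _).2 ⟨?_, by simpa using odd_conj h4 v⁻¹⟩
    have h5 : Commute u (v * j g0 * v⁻¹) := by
      rcases hv with hv | hv <;> rw [hv]
      · exact h3
      · exact Commute.inv_right h3
    calc v⁻¹ * u * v * j g0 = v⁻¹ * (u * (v * j g0 * v⁻¹)) * v := by group
      _ = _ := by rw [h5.eq]; group
  have ha : j a0 * j g0 * (j a0)⁻¹ = (j g0)⁻¹ := by
    rw [← map_inv, ← map_mul, ← map_mul, g3, map_inv]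
  have ht : j τ * j g0 * (j τ)⁻¹ = j g0 := by rw [← jcomm]; group
  have ti := H6.inv_eq_of_mul_self tt
  have main : ∀ v : G, v * j τ = j τ * v → (∀ k, v * j k * v⁻¹ = j a0 * j k * (j a0)⁻¹) →
      v * v = 1 → (∃ x : G, x ≠ 1 ∧ Odd (orderOf x) ∧ x * j g0 = j g0 * x ∧
        j τ * x * (j τ)⁻¹ = x⁻¹ ∧ x * v = v * x) ∨ ∀ u ∈ O, v * u * v⁻¹ = u⁻¹ := by
    intro v v1 v2 v3
    have vi := H6.inv_eq_of_mul_self v3
    by_cases h3 : ∃ u ∈ O, u ≠ 1 ∧ u * v = v * u
    · obtain ⟨u, u1, u2, u3⟩ := h3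
      have u4 : u⁻¹ * ((j τ)⁻¹ * u * j τ) ∈ O := mul_mem (inv_mem u1) (nrm _ (Or.inl ht) u u1)
      refine Or.inl ⟨_, fun h4 => u2 ?_, ((h1 _).1 u4).2, ((h1 _).1 u4).1, ?_, ?_⟩
      · obtain ⟨k, rfl⟩ := h.cent u (by
          rw [inv_mul_eq_one, mul_assoc, eq_inv_mul_iff_mul_eq] at h4; exact h4.symm)
        have h5 := (g6 k (h.inj (by simpa using ((h1 _).1 u1).1))).2.2.1
        refine eq_one_of_odd ((h1 _).1 u1).2 ?_
        have h6 := v2 k
        rw [← u3, mul_inv_cancel_right, ← map_inv, ← map_mul, ← map_mul, h5, map_inv] at h6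
        nth_rw 1 [h6]; simp
      · rw [mul_inv_rev, mul_inv_rev, mul_inv_rev, inv_inv, inv_inv, ti]
        calc _ = j τ * u⁻¹ * j τ * u * (j τ * j τ) := by group
          _ = _ := by rw [tt]; group
      · exact (((show Commute u v from u3).inv_left).mul_left
          ((((show Commute v (j τ) from v1).symm.inv_left).mul_left u3).mul_left v1.symm)).eq
    · have hn : ∀ u ∈ O, v * u * v⁻¹ ∈ O := fun u hu => by
        simpa [vi] using nrm v (Or.inr (by rw [v2, ha])) u hu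
      let φ : O →* O := MonoidHom.mk' (fun u => ⟨v * u * v⁻¹, hn u u.2⟩) fun a b =>
        Subtype.ext (conj_mul).symm
      have h4 := MonoidHom.FixedPointFree.coe_eq_inv_of_involutive (φ := φ) (fun u hu => by
        by_contra h5
        exact h3 ⟨u, u.2, fun h6 => h5 (Subtype.ext h6),
          (mul_inv_eq_iff_eq_mul.1 (congrArg Subtype.val hu)).symm⟩) (fun u => Subtype.ext (by
        change v * (v * u * v⁻¹) * v⁻¹ = u
        calc _ = (v * v) * u * (v * v)⁻¹ := by group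
          _ = _ := by rw [v3]; group))
      exact Or.inr fun u hu => congrArg Subtype.val (congrFun h4 ⟨u, hu⟩)
  have aa : j a0 * j a0 = 1 := h.sq_s 2
  rcases main (j a0) (jcomm j a0) (fun _ => rfl) aa with ⟨x, x1, x2, x3, x4, x5⟩ | m1
  · exact Or.inr ⟨x, x1, x2, x3, x4, Or.inl x5⟩
  rcases main (j τ * j a0) (by rw [mul_assoc, jcomm]) (fun k => by
    rw [← map_inv, ← map_mul, ← map_mul, ← map_mul, ← map_inv, ← map_mul, ← map_mul, ← τ_comm a0,
      mul_inv_rev, mul_assoc a0 τ, ← τ_comm k]; congr 1; group) (by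
      rw [← map_mul]; exact h.sq_s 3) with ⟨x, x1, x2, x3, x4, x5⟩ | m2
  · exact Or.inr ⟨x, x1, x2, x3, x4, Or.inr x5⟩
  have key : ∀ u ∈ O, u * j τ = j τ * u := fun u hu => by
    have h3 := m2 u⁻¹ (inv_mem hu)
    rw [show j τ * j a0 * u⁻¹ * (j τ * j a0)⁻¹ = j τ * (j a0 * u⁻¹ * (j a0)⁻¹) * (j τ)⁻¹ by group,
      m1 _ (inv_mem hu), inv_inv] at h3
    exact (mul_inv_eq_iff_eq_mul.1 h3).symm
  refine Or.inl fun c hc => (h2 c hc).elim (key c) fun h3 => ?_
  have := key _ h3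
  rwa [← mul_assoc, mul_left_inj] at this

end Fr

end H11.J1
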