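import Mathlib
import Cfsg.Agent.H11.J1Loc
import Cfsg.Agent.H11.J1Cxx
import Cfsg.Agent.H11.J1Cxy
import Cfsg.Agent.H11.J1Cyx
import Cfsg.Agent.H11.J1Cyy

/-! Groups with an involution centraliser `Z₂ × A₅`: the defining relations of `J₁`. -/

set_option autoImplicit false
set_option maxRecDepth 100000
open Subgroup H29

namespace H11.J1

variable {G : Type*} [Group G]

theorem Fr.jh {j : K5 →* G} (h : Fr j) {g0 : K5} {n : ℕ} (hg : Good g0 n)
    (hA : ∀ c, c * j g0 = j g0 * c → c * j τ = j τ * c) :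
    JH (centralizer {j g0}) (j τ) (j a0) ∧ Nat.card (centralizer ({j g0} : Set G)) = n ∧
      ∀ y ∈ centralizer ({j g0} : Set G), y ^ n = 1 := by
  obtain ⟨g1, g2, -, g4, g5, g6⟩ := hg
  have tt : j τ * j τ = 1 := by rw [← map_mul, ττ, map_one]
  have hm : ∀ k, j k ∈ centralizer ({j g0} : Set G) ↔ k * g0 = g0 * k := fun k => by
    rw [H6.mem_centralizer_singleton, ← map_mul, ← map_mul, h.inj.eq_iff]
  have hK : ∀ c ∈ centralizer ({j g0} : Set G), ∃ k, k * g0 = g0 * k ∧ c = j k := fun c hc => by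
    obtain ⟨k, rfl⟩ := h.cent c (hA c (H6.mem_centralizer_singleton.1 hc))
    exact ⟨k, (hm k).1 hc, rfl⟩
  have uq : ∀ a ∈ centralizer ({j g0} : Set G), a * a = 1 → a = 1 ∨ a = j τ := fun a ha h1 => by
    obtain ⟨k, hk, rfl⟩ := hK a ha
    rcases (g6 k hk).2.1 (h.inj (by simpa using h1)) with rfl | rfl
    · exact Or.inl (map_one j)
    · exact Or.inr rfl
  refine ⟨⟨H6.orderOf_eq_two_of tt h.t_ne, (hm τ).2 (τ_comm g0).symm, fun a ha b hb => ?_, uq,
    h.sq_s 2, fun h1 => g4 ((hm _).1 h1), fun a ha => ?_, fun g a ha h1 h2 => ?_, fun u hu => ?_,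
    j g0, (hm _).2 rfl, fun h1 => g2 (h.inj (by simpa using h1)), 15, by decide,
    by rw [← map_pow, g1, map_one]⟩, ?_, fun y hy => ?_⟩
  · obtain ⟨k, hk, rfl⟩ := hK a ha
    obtain ⟨m, hm, rfl⟩ := hK b hb
    rw [← map_mul, (g6 k hk).2.2.2.1 m hm, map_mul]
  · obtain ⟨k, hk, rfl⟩ := hK a ha
    rw [← map_inv, ← map_mul, ← map_mul, (g6 k hk).2.2.1, map_inv]
  · obtain ⟨k, hk, rfl⟩ := hK a ha
    obtain ⟨k', hk', h3⟩ := hK _ h2
    obtain ⟨i, hi⟩ := ((g6 k' hk').2.2.2.2 fun h4 => h1 (by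
      have : g⁻¹ * j k * g * (g⁻¹ * j k * g) = 1 := by rw [h3, ← map_mul, h4, map_one]
      calc j k * j k = g * (g⁻¹ * j k * g * (g⁻¹ * j k * g)) * g⁻¹ := by group
        _ = 1 := by rw [this]; group)).1
    have h4 : Commute (g⁻¹ * j τ * g) (j k') := by
      rw [← h3]; change _ = _
      calc _ = g⁻¹ * (j τ * j k) * g := by group
        _ = _ := by rw [← jcomm]; group
    have h5 : g⁻¹ * j τ * g ∈ centralizer ({j g0} : Set G) := by
      rw [H6.mem_centralizer_singleton, hi, map_pow, map_mul]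
      exact ((h4.mul_right h4).pow_right _).eq
    obtain ⟨m, rfl⟩ := h.cent g (by
      rcases uq _ h5 (by
        calc _ = g⁻¹ * (j τ * j τ) * g := by group
          _ = 1 := by rw [tt]; group) with h6 | h6
      · exact absurd (show j τ = 1 by
          calc _ = g * (g⁻¹ * j τ * g) * g⁻¹ := by group
            _ = 1 := by rw [h6]; group) h.t_ne
      · nth_rw 1 [← h6]; group)
    rw [← map_inv, ← map_mul, ← map_mul, hm] at h2
    rw [← map_inv, ← map_mul, hm, hm]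
    exact ((g6 k hk).2.2.2.2 fun h6 => h1 (by rw [← map_mul, h6, map_one])).2 m h2
  · obtain ⟨g, hg⟩ := h.conj u (H6.mul_self_of_orderOf_two hu) (H6.ne_one_of_orderOf_two hu)
    exact (isConj_iff.2 ⟨g, hg⟩).symm
  · rw [← g5, ← Nat.card_eq_fintype_card]
    refine (Nat.card_congr (Equiv.ofBijective (fun k : {k : K5 // k * g0 = g0 * k} =>
      (⟨j k, (hm k).2 k.2⟩ : centralizer ({j g0} : Set G))) ⟨fun a b h1 =>
        Subtype.ext (h.inj (congrArg Subtype.val h1)), fun c => ?_⟩)).symm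
    obtain ⟨k, hk, h1⟩ := hK c c.2
    exact ⟨⟨k, hk⟩, Subtype.ext h1.symm⟩
  · obtain ⟨k, hk, rfl⟩ := hK y hy
    rw [← map_pow, (g6 k hk).1, map_one]

theorem Fr.card_C {j : K5 →* G} (h : Fr j) : Nat.card (centralizer ({j τ} : Set G)) = 120 := by
  rw [← card_K5]
  refine (Nat.card_congr (Equiv.ofBijective (fun k : K5 =>
    (⟨j k, H6.mem_centralizer_singleton.2 (jcomm j k)⟩ : centralizer ({j τ} : Set G)))
    ⟨fun a b h1 => h.inj (congrArg Subtype.val h1), fun c => ?_⟩)).symm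
  obtain ⟨k, hk⟩ := h.cent c (H6.mem_centralizer_singleton.1 c.2)
  exact ⟨k, Subtype.ext hk.symm⟩

/-- The frame together with the element `p`. -/
structure St (j : K5 →* G) (p : G) : Prop extends Fr j where
  p3 : p ^ 3 = 1
  act : Act j p fp
  r3 : (p⁻¹ * j r0) ^ 3 = 1
  r7 : (p⁻¹ * (j r0)⁻¹) ^ 7 = 1

theorem Fr.exists_st {j : K5 →* G} (h : Fr j) : ∃ (j : K5 →* G) (p : G), St j p := by
  obtain ⟨j, h, hty⟩ := h.exists_typed
  obtain ⟨p, h1, h2, h3, h4⟩ := h.exists_p hty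
  exact ⟨j, p, h, h1, h2, h3, h4⟩

/-- The letters. -/
def eJ (j : K5 →* G) (p : G) : ℕ → G
  | 6 => p
  | 7 => p⁻¹
  | c => j (e0 c)

theorem evj (j : K5 →* G) (p : G) {w : List ℕ} (hw : ∀ c ∈ w, c < 6) :
    ev (eJ j p) w = j (ev e0 w) := by
  rw [map_ev]
  refine ev_congr fun c hc => ?_
  have := hw c hc
  interval_cases c <;> rfl

theorem evj' (j : K5 →* G) (p : G) {w : List ℕ} {g : K5} (hw : (∀ c ∈ w, c < 6) ∧ ev e0 w = g) :
    ev (eJ j p) w = j g := by rw [evj j p hw.1, hw.2]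

theorem evP (j : K5 →* G) (p : G) {w : List ℕ} {g : K5} (hw : (∀ c ∈ w, c < 6) ∧ ev e0 w = g) :
    ev (eJ j p) (6 :: (w ++ [7])) = p * j g * p⁻¹ := by
  rw [ev_cons, ev_append, evj' j p hw]; simp [eJ, mul_assoc]

theorem evM (j : K5 →* G) (p : G) {w : List ℕ} {g : K5} (hw : (∀ c ∈ w, c < 6) ∧ ev e0 w = g) :
    ev (eJ j p) (7 :: (w ++ [6])) = p⁻¹ * j g * p := by
  rw [ev_cons, ev_append, evj' j p hw]; simp [eJ, mul_assoc]

theorem wx : (∀ c ∈ [0, 2, 4], c < 6) ∧ ev e0 [0, 2, 4] = x0 := by decide +kernel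
theorem wy : (∀ c ∈ [4], c < 6) ∧ ev e0 [4] = y0 := by decide +kernel
theorem wbx : (∀ c ∈ [3, 0, 2, 0, 2, 4, 3, 0, 2], c < 6) ∧
    ev e0 [3, 0, 2, 0, 2, 4, 3, 0, 2] = b0 * x0 * b0 := by decide +kernel
theorem wby : (∀ c ∈ [3, 0, 2, 4, 3, 0, 2], c < 6) ∧ ev e0 [3, 0, 2, 4, 3, 0, 2] = b0 * y0 * b0 := by
  decide +kernel
theorem ws : (∀ c ∈ [1, 3, 0, 2], c < 6) ∧ ev e0 [1, 3, 0, 2] = s0 5 := by decide +kernel
theorem wt : (∀ c ∈ [1], c < 6) ∧ ev e0 [1] = τ := by decide +kernel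

theorem conj_comm {a b : G} (h : Commute a b) (c : G) {a' b' : G} (h1 : c * a * c⁻¹ = a')
    (h2 : c * b * c⁻¹ = b') : Commute a' b' := by
  rw [← h1, ← h2]; exact h.conj c

namespace St

variable {j : K5 →* G} {p : G} (h : St j p)
include h

theorem pt : p * j τ * p⁻¹ = j a0 := h.act 1
theorem pa : p * j a0 * p⁻¹ = j τ * j a0 := by rw [← map_mul]; exact h.act 2
theorem pta : p * (j τ * j a0) * p⁻¹ = j τ := by rw [← map_mul]; exact h.act 3
theorem ps : Commute p (j (s0 5)) := mul_inv_eq_iff_eq_mul.1 (h.act 5)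
theorem p_nmem : p ∉ centralizer ({j τ} : Set G) := fun h1 =>
  h.ne (k := τ) (m := a0) (by decide +kernel) (by
    rw [← h.pt, H6.mem_centralizer_singleton.1 h1]; group)
theorem pp : p * p = p⁻¹ := by rw [eq_inv_iff_mul_eq_one, ← h.p3, pow_succ, pow_two]

theorem hi : IvOK (eJ j p) (ivOf J1B.ivl)
  | 0 => (H6.inv_eq_of_mul_self (h.sq_s 2)).symm
  | 1 => (H6.inv_eq_of_mul_self (h.sq_s 1)).symm
  | 2 => map_inv j r0
  | 3 => by change j r0 = (j r0⁻¹)⁻¹; simp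
  | 4 => map_inv j y0
  | 5 => by change j y0 = (j y0⁻¹)⁻¹; simp
  | 6 => rfl
  | 7 => (inv_inv p).symm
  | n + 8 => by change j 1 = (j 1)⁻¹; simp

theorem hB : ∀ r ∈ J1B.Base, ev (eJ j p) r = 1 := by
  rw [← List.take_append_drop 10 J1B.Base]
  refine rels_append (fun w hw => evj' j p ⟨(rel0 w hw).2, (rel0 w hw).1⟩ ▸ map_one j) ?_
  have aa : j a0 * j a0 = 1 := h.sq_s 2
  refine rels_cons ?_ (rels_cons ?_ (rels_cons ?_ (rels_cons ?_ (rels_cons ?_ (rels_cons ?_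
    rels_nil)))))
  · rw [← h.p3]; simp [eJ, pow_succ, mul_assoc]
  · change ev (eJ j p) ((6 :: ([1] ++ [7])) ++ [0]) = 1
    rw [ev_append, evP j p wt, h.pt, evj' j p (g := a0) (by decide +kernel), aa]
  · change ev (eJ j p) ((6 :: ([0] ++ [7])) ++ [1, 0]) = 1
    rw [ev_append, evP j p (g := a0) (by decide +kernel), h.pa, evj' j p (g := s0 3)
      (by decide +kernel), ← map_mul]
    exact h.sq_s 3
  · change ev (eJ j p) ([1, 3, 0, 2] ++ [6] ++ [3, 0, 2, 1] ++ [7]) = 1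
    rw [ev_append, ev_append, ev_append, evj' j p ws, evj' j p (w := [3, 0, 2, 1]) (g := s0 5)
      (by decide +kernel)]
    simp only [ev_cons, ev_nil, eJ, mul_one]
    rw [← h.ps.eq, mul_assoc p, h.sq_s]; group
  · rw [← h.r3]; simp [eJ, e0, pow_succ, mul_assoc]
  · rw [← h.r7]; simp [eJ, e0, pow_succ, mul_assoc]

omit h in
theorem hH : ∀ c ∈ J1B.hcols, eJ j p c ∈ centralizer ({j τ} : Set G) := by
  intro c hc
  have : eJ j p c = j (e0 c) := by
    simp only [J1B.hcols, List.mem_cons, List.not_mem_nil, or_false] at hc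
    rcases hc with rfl | rfl | rfl | rfl | rfl | rfl <;> rfl
  rw [this]; exact H6.mem_centralizer_singleton.2 (jcomm j _)

theorem nm : ev (eJ j p) [6] ∉ centralizer ({j τ} : Set G) := by simpa [eJ] using h.p_nmem

variable [Finite G]

theorem seven : 7 ∣ Nat.card G := by
  have : Fact (Nat.Prime 7) := ⟨by norm_num⟩
  rw [← orderOf_eq_prime h.r7 fun h1 => h.p_nmem ?_]
  · exact orderOf_dvd_natCard _
  · rw [inv_mul_eq_one] at h1
    rw [h1, ← map_inv]; exact H6.mem_centralizer_singleton.2 (jcomm j _)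

theorem y_odd : Odd (orderOf (j y0)) :=
  odd_of_pow (n := 15) (by decide) (by rw [← map_pow, good_y.1, map_one])

theorem not_yy : ¬ Commute (j y0) (p * j y0 * p⁻¹) := fun h0 => by
  have y3 : j y0 ^ 3 = 1 := by rw [← map_pow, show y0 ^ 3 = 1 by decide +kernel, map_one]
  have hz : ev (eJ j p) [4, 6, 4, 6, 4, 6] =
      j y0 * (p * j y0 * p⁻¹) * (p⁻¹ * j y0 * p) := by
    have : p⁻¹ * p⁻¹ = p := by rw [← mul_inv_rev, h.pp, inv_inv]
    rw [show j y0 * (p * j y0 * p⁻¹) * (p⁻¹ * j y0 * p) = j y0 * p * j y0 * (p⁻¹ * p⁻¹) * j y0 * p by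
      group, this]
    simp [eJ, e0, mul_assoc]
  have h1 : Commute (p⁻¹ * j y0 * p) (j y0) := conj_comm h0 p⁻¹ (by group) (by group)
  have h2 : Commute (p * j y0 * p⁻¹) (p⁻¹ * j y0 * p) :=
    conj_comm h0 p rfl (by
      rw [show p * (p * j y0 * p⁻¹) * p⁻¹ = (p * p) * j y0 * (p * p)⁻¹ by group, h.pp, inv_inv])
  have h3 : ev (eJ j p) [4, 6, 4, 6, 4, 6] ^ 3 = 1 := by
    rw [hz, (h1.symm.mul_left h2).mul_pow, h0.mul_pow, conj_pow, y3,
      show p⁻¹ * j y0 * p = p⁻¹ * j y0 * p⁻¹⁻¹ by group, conj_pow, y3]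
    group
  have h4 : Commute (ev (eJ j p) [4, 6, 4, 6, 4, 6]) p := by
    have h5 : Commute (ev (eJ j p) [4, 6, 4, 6, 4, 6]) (j y0) := by
      rw [hz]; exact ((Commute.refl _).mul_left h0.symm).mul_left h1
    have h6 : Commute (ev (eJ j p) [4, 6, 4, 6, 4, 6]) (j y0 * p) := by
      change _ = _; simp [eJ, e0, mul_assoc]
    simpa using h5.inv_right.mul_right h6
  obtain ⟨n, hn⟩ := h.sq_mem' (g := p) (s := j (s0 5)) (v := 1) (odd_of_pow (by decide) h.p3)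
    (fun h5 => h.p_nmem (h5 ▸ one_mem _)) (h.sq_s 5) (h.s_ne (by decide)) h.ps.symm
    (odd_of_pow (by decide) h3) (by simp) h4 (by simp)
  refine h.nm (J1B.yyA h.hi h.hB hH (by rw [evj' j p wy]; exact evP j p wy ▸ h0) ?_)
  change Commute (ev _ (([4, 6, 4, 6, 4, 6] ++ [1, 3, 0, 2]) ++ ([4, 6, 4, 6, 4, 6] ++ [1, 3, 0, 2])))
    _
  rw [ev_append, ev_append, evj' j p ws]
  rw [mul_one] at hn
  exact hn ▸ h.ps.zpow_left n

theorem not_yyb (h0 : Commute (j y0) (p * j (b0 * y0 * b0) * p⁻¹))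
    (h1 : Commute (j y0) (p⁻¹ * j (b0 * y0 * b0) * p)) : False := by
  have ho : Odd (orderOf (j (b0 * y0 * b0))) := odd_of_pow (n := 3) (by decide)
    (by rw [← map_pow, show (b0 * y0 * b0) ^ 3 = 1 by decide +kernel, map_one])
  obtain ⟨n, hn⟩ := h.sq_mem' (s := j τ) h.y_odd (fun h5 => good_y.2.1 (h.inj (by simpa using h5)))
    (h.sq_s 1) h.t_ne (jcomm j _).symm (odd_conj ho p) (by simpa using odd_conj ho p⁻¹)
    h0.symm h1.symm
  refine h.nm (J1B.yyB h.hi h.hB hH (by rw [evj' j p wy]; exact evP j p wby ▸ h0)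
    (by rw [evj' j p wy]; exact evM j p wby ▸ h1) ?_)
  change Commute (ev _ (((6 :: ([3, 0, 2, 4, 3, 0, 2] ++ [7])) ++ (7 :: ([3, 0, 2, 4, 3, 0, 2] ++ [6]))
    ++ [1]) ++ ((6 :: ([3, 0, 2, 4, 3, 0, 2] ++ [7])) ++ (7 :: ([3, 0, 2, 4, 3, 0, 2] ++ [6])) ++ [1]))) _
  rw [ev_append, ev_append, ev_append, evP j p wby, evM j p wby, evj' j p wt]
  exact hn ▸ (show Commute (j y0) (j τ) from jcomm j y0).zpow_left n

theorem cases {g0 : K5} {n : ℕ} (hg : Good g0 n) :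
    (∀ c, c * j g0 = j g0 * c → c * j τ = j τ * c) ∨
    ∃ q, (q = x0 ∨ q = b0 * x0 * b0 ∨ q = y0 ∨ q = b0 * y0 * b0) ∧
      (Commute (j g0) (p * j q * p⁻¹) ∨ Commute (j g0) (p⁻¹ * j q * p)) := by
  refine (h.dichotomy hg).imp_right fun ⟨x, x1, x2, x3, x4, x5⟩ => ?_
  have key : ∀ c : G, c * x * c⁻¹ * j τ = j τ * (c * x * c⁻¹) →
      (c * j τ * c⁻¹ = j a0 ∨ c * j τ * c⁻¹ = j τ * j a0) →
      ∃ q, (q = x0 ∨ q = b0 * x0 * b0 ∨ q = y0 ∨ q = b0 * y0 * b0) ∧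
        Commute (j g0) (c⁻¹ * j q * c) := fun c c1 c2 => by
    obtain ⟨l, hl⟩ := h.cent _ c1
    have c3 : c * j τ * c⁻¹ * j l * (c * j τ * c⁻¹)⁻¹ = (j l)⁻¹ := by
      rw [← hl, conj_inv, conj_inv, conj_mul, conj_mul, x4]
    obtain ⟨i, hi⟩ := inverted l (h.pow15 (hl ▸ odd_conj x2 c))
      (fun h1 => x1 (by rwa [h1, map_one, mul_inv_eq_one, mul_eq_left] at hl)) (h.inj (by
        rcases c2 with c2 | c2 <;> rw [c2] at c3
        · simpa using c3
        · rw [← map_mul, ← τ_comm, ← map_inv, ← map_mul, ← map_mul, mul_assoc a0, ← τ_comm] at c3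
          rw [map_inv, ← c3]; congr 1; group))
    refine ⟨_, hi, ?_⟩
    rw [map_pow, ← hl, conj_pow]
    simpa [mul_assoc] using (show Commute (j g0) x from x3.symm).pow_right i
  rcases x5 with x5 | x5
  · obtain ⟨q, q1, q2⟩ := key p⁻¹ (by
      have : j τ = p⁻¹ * j a0 * p⁻¹⁻¹ := by rw [← h.pt]; group
      rw [this, conj_mul, conj_mul, x5]) (Or.inr (by nth_rw 1 [← h.pta]; group))
    exact ⟨q, q1, Or.inl (by simpa using q2)⟩
  · obtain ⟨q, q1, q2⟩ := key p (by rw [← h.pta, conj_mul, conj_mul, x5]) (Or.inl h.pt)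
    exact ⟨q, q1, Or.inr q2⟩

theorem rel : Commute (j x0) (p⁻¹ * j y0 * p) := by
  have ex := evj' j p wx
  have ey := evj' j p wy
  have sy : j (s0 5) * j y0 * (j (s0 5))⁻¹ = j (b0 * y0 * b0) := by
    rw [← map_inv, ← map_mul, ← map_mul]; exact congrArg j (by decide +kernel)
  have sy' : (j (s0 5))⁻¹ * j y0 * j (s0 5) = j (b0 * y0 * b0) := by
    rw [← map_inv, ← map_mul, ← map_mul]; exact congrArg j (by decide +kernel)
  have e1 : p * j (b0 * y0 * b0) * p⁻¹ = p * j (s0 5) * j y0 * (p * j (s0 5))⁻¹ := by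
    rw [← sy]; group
  have e2 : p⁻¹ * j (b0 * y0 * b0) * p = (p * j (s0 5))⁻¹ * j y0 * (p * j (s0 5)) := by
    rw [← sy', h.ps.eq]; group
  rcases h.cases good_x with hx | ⟨q, rfl | rfl | rfl | rfl, hx | hx⟩
  · rcases h.cases good_y with hy | ⟨q, rfl | rfl | rfl | rfl, hy | hy⟩
    · obtain ⟨a1, a2, a3⟩ := h.jh good_x hx
      obtain ⟨b1, b2, b3⟩ := h.jh good_y hy
      refine (jh_false b1 a1 b2 a2 (fun y hy g hg => ?_) h.card_C h.seven).elim
      have c1 := a3 _ hg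
      rw [show g⁻¹ * y * g = g⁻¹ * y * g⁻¹⁻¹ by group, conj_pow, mul_inv_eq_one, mul_eq_left] at c1
      rw [← pow_two]; exact pow_gcd_eq_one.2 ⟨b3 y hy, c1⟩
    · exact (conj_comm hy p⁻¹ (by group) (by group)).symm
    · exact (h.nm (J1B.yxm h.hi h.hB hH (by rw [ey]; exact evM j p wx ▸ hy))).elim
    · exact (h.nm (J1B.yxpb h.hi h.hB hH (by rw [ey]; exact evP j p wbx ▸ hy))).elim
    · exact (h.nm (J1B.yxmb h.hi h.hB hH (by rw [ey]; exact evM j p wbx ▸ hy))).elim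
    · exact (h.not_yy hy).elim
    · exact (h.not_yy (conj_comm hy p (by group) (by group)).symm).elim
    · refine (h.not_yyb hy ?_).elim
      rw [e1] at hy; rw [e2]
      exact (conj_comm hy (p * j (s0 5))⁻¹ (by group) (by group)).symm
    · refine (h.not_yyb ?_ hy).elim
      rw [e2] at hy; rw [e1]
      exact (conj_comm hy (p * j (s0 5)) (by group) (by group)).symm
  · exact (h.nm (J1B.xxp h.hi h.hB hH (by rw [ex]; exact evP j p wx ▸ hx))).elim
  · exact (h.nm (J1B.xxm h.hi h.hB hH (by rw [ex]; exact evM j p wx ▸ hx))).elim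
  · exact (h.nm (J1B.xxpb h.hi h.hB hH (by rw [ex]; exact evP j p wbx ▸ hx))).elim
  · exact (h.nm (J1B.xxmb h.hi h.hB hH (by rw [ex]; exact evM j p wbx ▸ hx))).elim
  · exact (h.nm (J1B.xyp h.hi h.hB hH (by rw [ex]; exact evP j p wy ▸ hx))).elim
  · exact hx
  · exact (h.nm (J1B.xypb h.hi h.hB hH (by rw [ex]; exact evP j p wby ▸ hx))).elim
  · exact (h.nm (J1B.xymb h.hi h.hB hH (by rw [ex]; exact evM j p wby ▸ hx))).elim

end St

end H11.J1
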