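import Mathlib
import Cfsg.Agent.H11.J1Rel
import Cfsg.Agent.H11.J1M
import Cfsg.Agent.H11.Basic
import Cfsg.Agent.H6.OneFix
import Cfsg.Agent.H6.BrauerFowler

/-! Janko's theorem: a simple group with an involution centraliser `Z₂ × A₅` of odd index is
`J₁`. -/

set_option autoImplicit false
set_option maxRecDepth 100000
open Subgroup H29

namespace H11.J1

theorem sylow_card {X : Type*} [Group X] [Finite X] {p : ℕ} [hp : Fact p.Prime] (P : Sylow p X)
    (h1 : p ∣ Nat.card X) (h2 : ¬ p ^ 2 ∣ Nat.card X) : Nat.card P = p := by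
  obtain ⟨k, hk⟩ := P.2.exists_card_eq
  have h3 := (P : Subgroup X).card_mul_index
  rcases k with _ | _ | k
  · rw [hk, pow_zero, one_mul] at h3
    exact absurd (h3 ▸ h1) P.not_dvd_index
  · simpa using hk
  · exact absurd ((pow_dvd_pow p (by omega)).trans (hk ▸ card_subgroup_dvd_card _)) h2

theorem no_odd {H : Type*} [Group H] [Finite H] [IsSimpleGroup H] (hc : Nat.card H = 175560)
    (h2 : ∀ u x : H, u * u = 1 → x ^ 7 = 1 → x * u = u * x → u = 1 ∨ x = 1) (D : Subgroup H)
    (hD : Odd (Nat.card D)) (h1 : 1463 ∣ Nat.card D) : False := by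
  have : Fact (Nat.Prime 7) := ⟨by norm_num⟩
  obtain ⟨Q⟩ : Nonempty (Sylow 7 D) := inferInstance
  have hDH : Nat.card D ∣ 175560 := hc ▸ card_subgroup_dvd_card D
  have hQ := sylow_card Q (Dvd.dvd.trans (by norm_num) h1) fun h => by
    have := h.trans hDH; omega
  obtain ⟨P, hP⟩ := (Q.2.map D.subtype).exists_le_sylow
  have hP7 := sylow_card P (by rw [hc]; norm_num) (by rw [hc]; norm_num)
  have hQP : (Q : Subgroup D).map D.subtype = P := eq_of_le_of_card_ge hP (by
    rw [card_map_of_injective D.subtype_injective, hQ, hP7])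
  have h11 : 11 ∣ Nat.card (normalizer ((P : Subgroup H) : Set H)) := by
    have a1 : (normalizer ((Q : Subgroup D) : Set D)).map D.subtype ≤
        normalizer ((P : Subgroup H) : Set H) := hQP ▸ le_normalizer_map _
    refine Dvd.dvd.trans ?_ (card_dvd_of_le a1)
    rw [card_map_of_injective D.subtype_injective]
    have a2 := card_sylow_modEq_one 7 D
    rw [Q.card_eq_index_normalizer] at a2
    change (normalizer ((Q : Subgroup D) : Set D)).index ≡ 1 [MOD 7] at a2
    have a3 := (normalizer ((Q : Subgroup D) : Set D)).card_mul_index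
    have a4 : 7 ∣ Nat.card (normalizer ((Q : Subgroup D) : Set D)) :=
      hQ.symm.dvd.trans (card_dvd_of_le le_normalizer)
    generalize Nat.card (normalizer ((Q : Subgroup D) : Set D)) = k at a3 a4 ⊢
    generalize (normalizer ((Q : Subgroup D) : Set D)).index = n at a2 a3
    obtain ⟨k, rfl⟩ := a4
    have a5 : 11 ∣ 7 * k * n := a3 ▸ Dvd.dvd.trans (by norm_num) h1
    refine ((Nat.Prime.dvd_mul (by norm_num)).1 a5).resolve_right fun ⟨n', a6⟩ => ?_
    subst a6
    have a7 : n' ∣ 8 * 285 := by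
      rw [← a3, show 7 * k * (11 * n') = 77 * (n' * k) by ring] at hDH
      exact (Dvd.intro _ rfl).trans (Nat.dvd_of_mul_dvd_mul_left (by norm_num : 0 < 77) hDH)
    have a8 : Odd n' := hD.of_dvd_nat (a3 ▸ Dvd.intro_left (7 * k * 11) (by ring))
    have a9 : n' ∣ 285 :=
      (Nat.Coprime.pow_right 3 (Nat.coprime_two_right.2 a8)).dvd_of_dvd_mul_left a7
    exact (by decide +kernel : ∀ n ∈ Nat.divisors 285, 11 * n % 7 ≠ 1 % 7) n'
      (Nat.mem_divisors.2 ⟨a9, by norm_num⟩) a2
  have hcyc : IsCyclic P := isCyclic_of_prime_card hP7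
  have key := card_dvd_of_injective _ (QuotientGroup.kerLift_injective
    (P : Subgroup H).normalizerMonoidHom)
  rw [normalizerMonoidHom_ker, ← index, ← relIndex, hcyc.card_mulAut, hP7,
    Nat.totient_prime (by norm_num)] at key
  have hne : (centralizer ((P : Subgroup H) : Set H)).relIndex (normalizer (P : Subgroup H)) ≠ 1 :=
    fun h => by
    have h3 := MonoidHom.ker_transferSylow_isComplement' P (relIndex_eq_one.1 h)
    have h4 := h3.card_mul_card
    rcases (MonoidHom.normal_ker (MonoidHom.transferSylow P (relIndex_eq_one.1 h))).eq_bot_or_eq_top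
      with h5 | h5 <;> rw [h5, hP7, hc] at h4 <;> simp [hc] at h4
  have hC : Odd (Nat.card (centralizer ((P : Subgroup H) : Set H))) := by
    refine H6.odd_card_iff.2 fun u hu h3 => ?_
    obtain ⟨x, hx⟩ := exists_prime_orderOf_dvd_card' (G := P) 7 (by rw [hP7])
    rcases h2 u x (H6.mul_self_of_orderOf_two h3) (congrArg Subtype.val
      (orderOf_dvd_iff_pow_eq_one.1 hx.dvd : x ^ 7 = 1))
      (hu x x.2) with h4 | h4
    · exact H6.ne_one_of_orderOf_two h3 h4
    · rw [show x = 1 from Subtype.ext h4] at hx; simp at hx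
  have a1 := relIndex_mul_index (centralizer_le_normalizer ((P : Subgroup H) : Set H))
  have a2 := (centralizer ((P : Subgroup H) : Set H)).card_mul_index
  have a3 := (normalizer ((P : Subgroup H) : Set H)).card_mul_index
  have a4 := card_sylow_modEq_one 7 H
  rw [P.card_eq_index_normalizer] at a4
  change (normalizer ((P : Subgroup H) : Set H)).index ≡ 1 [MOD 7] at a4
  have a5 : 7 ∣ Nat.card (normalizer ((P : Subgroup H) : Set H)) :=
    hP7.symm.dvd.trans (card_dvd_of_le le_normalizer)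
  have a6 : (normalizer ((P : Subgroup H) : Set H)).index ≠ 8 := fun h => by
    have := H6.card_dvd_factorial_index (H := normalizer ((P : Subgroup H) : Set H))
      (fun h3 => by rw [h3] at h; simp at h)
    rw [h, hc] at this
    exact absurd this (by decide +kernel)
  rw [← a1, hc] at a2
  rw [hc] at a3
  generalize (centralizer ((P : Subgroup H) : Set H)).relIndex (normalizer (P : Subgroup H)) = r
    at key hne a2
  generalize Nat.card (centralizer ((P : Subgroup H) : Set H)) = c at hC a2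
  generalize Nat.card (normalizer ((P : Subgroup H) : Set H)) = k at h11 a3 a5
  generalize (normalizer ((P : Subgroup H) : Set H)).index = n at a2 a3 a4 a6
  obtain ⟨k, rfl⟩ := Nat.Coprime.mul_dvd_of_dvd_of_dvd (by norm_num) a5 h11
  have a7 : n ∣ 2280 := Dvd.intro_left k (by linarith)
  have a8 : r * n ∣ 175560 := Dvd.intro_left c a2
  have a9 : 8 ∣ r * n :=
    (Nat.Coprime.pow_left 3 (Nat.coprime_two_left.2 hC)).dvd_of_dvd_mul_left (by rw [a2]; norm_num)
  exact (by decide +kernel : ∀ n ∈ Nat.divisors 2280, ∀ r ∈ Nat.divisors 6, n % 7 = 1 % 7 →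
    n ≠ 8 → r ≠ 1 → r * n ∣ 175560 → ¬ 8 ∣ r * n) n (Nat.mem_divisors.2 ⟨a7, by norm_num⟩) r
    (Nat.mem_divisors.2 ⟨key, by norm_num⟩) a4 a6 hne a8 a9

variable {G : Type} [Group G] [Finite G]

theorem St.rels {j : K5 →* G} {p : G} (h : St j p) : ∀ r ∈ J1T.R0, ev (eJ j p) r = 1 :=
  rels_sub (rels_append h.hB (rels_cons (w := [0, 2, 4, 7, 4, 6, 5, 3, 0, 7, 5, 6])
    (rel_comm h.hi (u := [0, 2, 4]) (w := [7, 4, 6]) (by
      rw [evj' j p wx]; exact evM j p wy ▸ h.rel) 0 (by decide +kernel)) rels_nil))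
    (by decide +kernel)

theorem St.top [IsSimpleGroup G] {j : K5 →* G} {p : G} (h : St j p)
    (f : gen (eJ j p) J1T.cols ≃* Cfsg.Spor.J1) : gen (eJ j p) J1T.cols = ⊤ := by
  have hp : p ∈ gen (eJ j p) J1T.cols := mem_gen (e := eJ j p) (c := 6) (by decide)
  have ht : j τ ∈ gen (eJ j p) J1T.cols := mem_gen (e := eJ j p) (c := 1) (by decide)
  have hj : ∀ k, j k ∈ gen (eJ j p) J1T.cols := by
    have : ∀ k : K5, k.1 = 1 → j k ∈ gen (eJ j p) J1T.cols := fun k hk => by
      obtain ⟨w, hw, rfl⟩ := words k hk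
      rw [← evj j p (words_lt w hw)]
      exact ev_mem_gen fun c hc => by
        have := words_lt w hw c hc
        interval_cases c <;> decide
    intro k
    rcases fst_or k with hk | hk
    · exact this k hk
    · have := this _ hk
      rwa [map_mul, mul_mem_cancel_left ht] at this
  generalize gen (eJ j p) J1T.cols = H at f hp ht hj
  have hc : Nat.card H = 175560 := (Nat.card_congr f.toEquiv).trans J1M.J1_card
  have : IsSimpleGroup H := haveI := J1M.J1_simple; f.isSimpleGroup
  have tt : j τ * j τ = 1 := h.sq_s 1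
  have to2 := H6.orderOf_eq_two_of tt h.t_ne
  have hCH : centralizer ({j τ} : Set G) ≤ H := fun c hc => by
    obtain ⟨k, rfl⟩ := h.cent c (H6.mem_centralizer_singleton.1 hc); exact hj k
  have hi : ((centralizer ({j τ} : Set G)).subgroupOf H).index = 1463 := by
    have := ((centralizer ({j τ} : Set G)).subgroupOf H).card_mul_index
    rw [Nat.card_congr (subgroupOfEquivOfLe hCH).toEquiv, h.card_C, hc] at this
    omega
  have hconj : ∀ u ∈ H, orderOf u = 2 → ∃ g ∈ H, g * u * g⁻¹ = j τ := fun u hu ho => by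
    have uu := H6.mul_self_of_orderOf_two ho
    obtain ⟨g, hg⟩ := exists_conj_mem (C := (centralizer ({j τ} : Set G)).subgroupOf H)
      (by rw [hi]; norm_num) (u := ⟨u, hu⟩) (Subtype.ext uu)
    obtain ⟨k, hk⟩ := h.cent _ (H6.mem_centralizer_singleton.1 (mem_subgroupOf.1 hg))
    change (g : G) * u * (g : G)⁻¹ = j k at hk
    obtain ⟨m, hm⟩ := invol_conj k (h.inj (by rw [map_mul, ← hk, conj_mul, uu]; simp))
      (fun h1 => H6.ne_one_of_orderOf_two ho (by
        rwa [h1, map_one, mul_inv_eq_one, mul_eq_left] at hk))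
    have e1 : j m * g * u * (j m * g)⁻¹ = j (m * k * m⁻¹) := by
      rw [map_mul, map_mul, map_inv, ← hk]; group
    have e2 := mul_mem (hj m) g.2
    rcases hm with hm | hm | hm <;> rw [hm] at e1
    · exact ⟨p⁻¹ * (j m * g), mul_mem (inv_mem hp) e2, by
        rw [show ∀ c : G, p⁻¹ * c * u * (p⁻¹ * c)⁻¹ = p⁻¹ * (c * u * c⁻¹) * p from fun c => by group,
          e1, ← h.pt]; group⟩
    · exact ⟨_, e2, e1⟩
    · exact ⟨p * (j m * g), mul_mem hp e2, by
        rw [show ∀ c : G, p * c * u * (p * c)⁻¹ = p * (c * u * c⁻¹) * p⁻¹ from fun c => by group,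
          e1, map_mul, h.pta]⟩
  by_contra hne
  have hse : Cfsg.IsStronglyEmbedded H := by
    refine H6.isStronglyEmbedded_iff.2 ⟨hne, by rw [hc]; decide, fun g t h1 h2 h3 => ?_⟩
    obtain ⟨a, ha, a1⟩ := hconj t h1 h2
    obtain ⟨b, hb, b1⟩ := hconj _ h3 (by rwa [H6.orderOf_conj])
    have : b * g * a⁻¹ ∈ H := hCH (H6.mem_centralizer_singleton.2 (by
      nth_rw 1 [← a1]; rw [← b1]; group))
    rwa [mul_mem_cancel_right (inv_mem ha), mul_mem_cancel_left hb] at this
  obtain ⟨c, hcH⟩ : ∃ c : G, c * j τ * c⁻¹ ∉ H := by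
    by_contra h1
    push Not at h1
    have h2 : normalClosure ({j τ} : Set G) ≤ H := by
      refine (closure_le _).2 fun x hx => ?_
      obtain ⟨y, rfl, hy⟩ := Group.mem_conjugatesOfSet_iff.1 hx
      obtain ⟨c, rfl⟩ := isConj_iff.1 hy
      exact h1 c
    rcases (normalClosure_normal (s := ({j τ} : Set G))).eq_bot_or_eq_top with h3 | h3
    · exact h.t_ne (mem_bot.1 (h3 ▸ subset_normalClosure rfl))
    · exact hne (top_le_iff.1 (h3 ▸ h2))
  generalize hu : c * j τ * c⁻¹ = u at hcH
  have hu2 : orderOf u = 2 := by rwa [← hu, H6.orderOf_conj]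
  refine no_odd hc (fun v x h1 h2 h3 => ?_) ((H ⊓ H.map (MulAut.conj u).toMonoidHom).subgroupOf H)
    ?_ ?_
  · by_contra h4
    push Not at h4
    obtain ⟨g, hg⟩ := h.conj v (congrArg Subtype.val h1) fun h5 => h4.1 (Subtype.ext h5)
    obtain ⟨k, hk⟩ := h.cent (g * x * g⁻¹) (by
      rw [← hg, conj_mul, conj_mul, show (x : G) * v = v * x from congrArg Subtype.val h3])
    have h5 : (x : G) ^ 30 = 1 := by
      have := congrArg j (pow30 k)
      rwa [map_pow, ← hk, conj_pow, map_one, mul_inv_eq_one, mul_eq_left] at this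
    have h6 := pow_gcd_eq_one.2 ⟨h5, show (x : G) ^ 7 = 1 from congrArg Subtype.val h2⟩
    exact h4.2 (Subtype.ext (by simpa using h6))
  · rw [Nat.card_congr (subgroupOfEquivOfLe inf_le_left).toEquiv]
    exact hse.2.2 u hcH
  · rw [← hi]
    refine index_dvd_card_of_mul fun g => ?_
    obtain ⟨d, hd, -, h1⟩ := H6.exists_conj_inf_of_isStronglyEmbedded hse hu2 hcH
      (s := (g : G)⁻¹ * j τ * (g : G)⁻¹⁻¹) (by rwa [H6.orderOf_conj])
      (mul_mem (mul_mem (inv_mem g.2) ht) (inv_mem (inv_mem g.2))) to2 ht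
    refine ⟨g * ⟨d, hd.1⟩⁻¹, H6.mem_centralizer_singleton.2 ?_, ⟨d, hd.1⟩, hd, by group⟩
    change (g : G) * d⁻¹ * j τ = j τ * (g * d⁻¹)
    nth_rw 1 [← h1]; group

theorem iso0 [IsSimpleGroup G] {t : G} (ht : orderOf t = 2)
    (hi : ¬ 2 ∣ (centralizer ({t} : Set G)).index) (e : centralizer ({t} : Set G) ≃* K5) :
    Nonempty (G ≃* Cfsg.Spor.J1) := by
  obtain ⟨j, h⟩ := exists_fr ht hi e
  obtain ⟨j, p, h⟩ := h.exists_st
  obtain ⟨f⟩ := J1M.recog h.hi h.rels h.t_ne
  exact ⟨(topEquiv.symm.trans (MulEquiv.subgroupCongr (h.top f).symm)).trans f⟩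

/-- Janko's theorem. -/
theorem iso {G : Type*} [Group G] [Finite G] [IsSimpleGroup G] {t : G} (ht : orderOf t = 2)
    (hi : ¬ 2 ∣ (centralizer ({t} : Set G)).index) (e : centralizer ({t} : Set G) ≃* K5) :
    Nonempty (G ≃* Cfsg.Spor.J1) := by
  let f : G ≃* Shrink.{0} G := (Shrink.mulEquiv).symm
  have : Finite (Shrink.{0} G) := Finite.of_equiv _ f.toEquiv
  have : IsSimpleGroup (Shrink.{0} G) := f.symm.isSimpleGroup
  have h1 : (centralizer ({t} : Set G)).map (f : G →* Shrink.{0} G) = centralizer {f t} := by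
    ext x
    obtain ⟨x, rfl⟩ := f.surjective x
    rw [H6.mem_centralizer_singleton, ← map_mul, ← map_mul, f.injective.eq_iff,
      ← H6.mem_centralizer_singleton]
    exact mem_map_iff_mem (f := (f : G →* Shrink.{0} G)) f.injective
  obtain ⟨g⟩ := iso0 (t := f t) (by rwa [f.orderOf_eq]) (by rwa [← h1, index_map_equiv])
    (((MulEquiv.subgroupCongr h1).symm.trans (f.subgroupMap _).symm).trans e)
  exact ⟨f.trans g⟩

theorem iso' {G : Type*} [Group G] [Finite G] [IsSimpleGroup G] {t : G} (ht : orderOf t = 2)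
    (P : Sylow 2 G) (hP : ∀ x ∈ P, x * t = t * x) (e : centralizer ({t} : Set G) ≃* K5) :
    Nonempty (G ≃* Cfsg.Spor.J1) :=
  iso ht (fun h => P.not_dvd_index (h.trans (index_dvd_of_le fun x hx =>
    H6.mem_centralizer_singleton.2 (hP x hx)))) e

end H11.J1
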