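import Mathlib
import Cfsg.Agent.H24.Base5
import Cfsg.Agent.H12.Thompson

/-!
# Minimal parabolic subgroups of type `S₃` in characteristic two, Baumann's lemma
-/

set_option autoImplicit false

namespace H11.ZN

open Subgroup Cfsg H24

universe u v

variable {G : Type u} [Group G] {G' : Type v} [Group G']

/-- `Ω₁(Z(X))` for the prime `2` -/
def OZ (X : Subgroup G) : Subgroup G := omegaOne 2 Z[X]

/-- the Thompson subgroup for the prime `2` -/
abbrev JJ (X : Subgroup G) : Subgroup G := thompsonSubgroupOf 2 X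

/-- the Baumann subgroup -/
def Bm (X : Subgroup G) : Subgroup G := X ⊓ C[OZ (JJ X)]

/-- `O₂(X)` -/
abbrev Q2 (X : Subgroup G) : Subgroup G := O[{2}, X]

theorem mem_OZ {X : Subgroup G} {x : G} : x ∈ OZ X ↔ x ∈ X ∧ x ∈ C[X] ∧ x ^ 2 = 1 :=
  H12.mem_omega_center_iff

theorem OZ_le (X : Subgroup G) : OZ X ≤ X := fun _ h => (mem_OZ.1 h).1

theorem OZ_le_C (X : Subgroup G) : OZ X ≤ C[X] := fun _ h => (mem_OZ.1 h).2.1

theorem le_C_OZ (X : Subgroup G) : X ≤ C[OZ X] := cents_symm (OZ_le_C X)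

theorem OZ_sq {X : Subgroup G} {x : G} (h : x ∈ OZ X) : x * x = 1 := by
  rw [← sq]; exact (mem_OZ.1 h).2.2

theorem OZ_ea (X : Subgroup G) : IsElementaryAbelian 2 (OZ X) := H12.ea_omega_center X

theorem N_le_N_OZ (X : Subgroup G) : N[X] ≤ N[OZ X] := H12.normalizer_le_normalizer_omega_center X

theorem norm_OZ {A X : Subgroup G} (h : A ≤ N[X]) : A ≤ N[OZ X] := h.trans (N_le_N_OZ X)

theorem OZ_map {f : G →* G'} (hf : Function.Injective f) (X : Subgroup G) :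
    OZ (X.map f) = (OZ X).map f := by
  unfold OZ
  rw [H12.map_omega (H12.inf_ker_eq_bot_of_injective hf _), map_inf_C hf]

theorem OZ_cj (g : G) (X : Subgroup G) : OZ (cj g X) = cj g (OZ X) :=
  OZ_map (conj_injective' g) X

theorem JJ_map {f : G →* G'} (hf : Function.Injective f) (X : Subgroup G) :
    JJ (X.map f) = (JJ X).map f :=
  (H12.map_J (H12.inf_ker_eq_bot_of_injective hf _)).symm

theorem JJ_cj (g : G) (X : Subgroup G) : JJ (cj g X) = cj g (JJ X) :=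
  JJ_map (conj_injective' g) X

theorem Bm_map {f : G →* G'} (hf : Function.Injective f) (X : Subgroup G) :
    Bm (X.map f) = (Bm X).map f := by
  unfold Bm
  rw [map_inf_C hf, JJ_map hf, OZ_map hf]

theorem Bm_cj (g : G) (X : Subgroup G) : Bm (cj g X) = cj g (Bm X) :=
  Bm_map (conj_injective' g) X

theorem Bm_le (X : Subgroup G) : Bm X ≤ X := inf_le_left

theorem JJ_le (X : Subgroup G) : JJ X ≤ X := H12.J_le X

theorem JJ_le_Bm (X : Subgroup G) : JJ X ≤ Bm X := le_inf (JJ_le X) (le_C_OZ _)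

theorem N_le_N_JJ (X : Subgroup G) : N[X] ≤ N[JJ X] := H12.normalizer_le_normalizer_J X

theorem N_le_N_Bm (X : Subgroup G) : N[X] ≤ N[Bm X] :=
  norm_inf le_rfl (norm_C (norm_OZ (N_le_N_JJ X)))

theorem JJ_eq [Finite G] {H K : Subgroup G} (h : JJ H ≤ K) (h' : K ≤ H) : JJ K = JJ H :=
  H12.J_eq_of_le h h'

theorem JJ_Bm [Finite G] (X : Subgroup G) : JJ (Bm X) = JJ X := JJ_eq (JJ_le_Bm X) (Bm_le X)

theorem Bm_eq [Finite G] {H K : Subgroup G} (h : Bm H ≤ K) (h' : K ≤ H) : Bm K = Bm H := by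
  have e := JJ_eq ((JJ_le_Bm H).trans h) h'
  refine le_antisymm ?_ (le_inf h ?_)
  · unfold Bm; rw [e]; exact inf_le_inf_right _ h'
  · rw [e]; exact inf_le_right

theorem two_prime : Nat.Prime 2 := Nat.prime_two

theorem OZ_ne_bot [Finite G] {X : Subgroup G} (h : IsPi {2} X) (h1 : X ≠ ⊥) : OZ X ≠ ⊥ :=
  haveI : Fact (Nat.Prime 2) := ⟨two_prime⟩
  H12.omega_center_ne_bot (h.isPGroup two_prime) h1

theorem JJ_ne_bot [Finite G] {X : Subgroup G} (h : IsPi {2} X) (h1 : X ≠ ⊥) : JJ X ≠ ⊥ :=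
  haveI : Fact (Nat.Prime 2) := ⟨two_prime⟩
  H12.J_ne_bot (h.isPGroup two_prime) h1

theorem ea_pi [Finite G] {A : Subgroup G} (h : IsElementaryAbelian 2 A) : IsPi {2} A :=
  isPi_of_isPGroup two_prime (H12.ea_isPGroup h)

theorem mul_mem_idx2 {K H : Subgroup G} (h : K.relIndex H = 2) {x y : G} (hx : x ∈ H)
    (hy : y ∈ H) : x * y ∈ K ↔ (x ∈ K ↔ y ∈ K) :=
  mul_mem_iff_of_index_two (H := K.subgroupOf H) h (a := ⟨x, hx⟩) (b := ⟨y, hy⟩)

theorem pow_three_eq_one_of_pi {x : G} (h : PiElt {2} x) (h3 : x ^ 3 = 1) : x = 1 :=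
  h.eq_one (piElt_of_pow_eq_one ((piNat_compl_singleton two_prime).2 (by norm_num)) h3)

/-- a group is not the union of two proper subgroups -/
theorem exists_not_mem_two {A X Y : Subgroup G} (hX : ¬ A ≤ X) (hY : ¬ A ≤ Y) :
    ∃ a ∈ A, a ∉ X ∧ a ∉ Y := by
  obtain ⟨x, hx, hx'⟩ := SetLike.not_le_iff_exists.1 hX
  obtain ⟨y, hy, hy'⟩ := SetLike.not_le_iff_exists.1 hY
  by_cases h1 : x ∈ Y
  · by_cases h2 : y ∈ X
    · exact ⟨x * y, mul_mem hx hy, fun h => hx' ((mul_mem_cancel_right h2).1 h),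
        fun h => hy' ((mul_mem_cancel_left h1).1 h)⟩
    · exact ⟨y, hy, h2, hy'⟩
  · exact ⟨x, hx, hx', h1⟩

/-- `P` is a minimal parabolic with `P/O₂(P) ≅ S₃`, Sylow subgroup `T`, acting faithfully on
`Ω₁(Z(O₂(P)))` modulo `O₂(P)`. -/
structure Par (T P : Subgroup G) : Prop where
  le : T ≤ P
  two : IsPi {2} T
  idx : T.relIndex P = 3
  nn : ¬ P ≤ N[T]
  cz : P ⊓ C[OZ (Q2 P)] ≤ Q2 P

variable {T P : Subgroup G}

theorem Par.map [Finite G] (h : Par T P) {f : G →* G'} (hf : Function.Injective f) :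
    Par (T.map f) (P.map f) where
  le := map_mono h.le
  two := h.two.map f
  idx := by rw [relIndex_map_map_of_injective _ _ hf]; exact h.idx
  nn := fun e => h.nn (norm_of_map hf e)
  cz := by
    unfold Q2
    rw [pcore_map _ _ hf, OZ_map hf, ← map_inf_C hf]; exact map_mono h.cz

theorem Par.of_map [Finite G] {f : G →* G'} (hf : Function.Injective f)
    (h : Par (T.map f) (P.map f)) : Par T P where
  le := (map_le_map_iff_of_injective hf).1 h.le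
  two := (isPi_map_iff hf).1 h.two
  idx := by rw [← relIndex_map_map_of_injective _ _ hf]; exact h.idx
  nn := fun e => h.nn (norm_map e f)
  cz := by
    have := h.cz
    unfold Q2 at this
    rw [pcore_map _ _ hf, OZ_map hf, ← map_inf_C hf] at this
    exact (map_le_map_iff_of_injective hf).1 this

theorem Par.cj [Finite G] (h : Par T P) (g : G) : Par (cj g T) (cj g P) :=
  h.map (conj_injective' g)

theorem Par.syl (h : Par T P) : Syl 2 P T :=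
  Syl.mk' two_prime h.le h.two (by rw [h.idx]; norm_num)

theorem Par.Qle [Finite G] (h : Par T P) : Q2 P ≤ T := pcore_le_Hall h.syl

theorem Par.eq_or (h : Par T P) {X : Subgroup G} (h1 : T ≤ X) (h2 : X ≤ P) : X = T ∨ X = P :=
  covBy_eq_or (covBy_of_relIndex_prime h.le (by rw [h.idx]; norm_num)) h1 h2

theorem Par.gen (h : Par T P) {X : Subgroup G} {g : G} (hg : g ∈ P) (hgT : g ∉ T) (h1 : T ≤ X)
    (h2 : g ∈ X) : P ≤ X := by
  rcases h.eq_or (X := X ⊓ P) (le_inf h1 h.le) inf_le_right with e | e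
  · exact absurd (e ▸ (mem_inf.2 ⟨h2, hg⟩ : g ∈ X ⊓ P)) hgT
  · exact e ▸ inf_le_left

theorem Par.not_le (h : Par T P) : ¬ P ≤ T := fun e => h.nn (norm_of_le e)

theorem Par.exists_not_mem (h : Par T P) : ∃ g ∈ P, g ∉ T := SetLike.not_le_iff_exists.1 h.not_le

theorem Par.le_Q (h : Par T P) {N : Subgroup G} (h1 : N ≤ T) (h2 : P ≤ N[N]) : N ≤ Q2 P :=
  pcore_max' (h.two.of_le h1) (h1.trans h.le) h2

theorem Par.mem_of_norm (h : Par T P) {g : G} (hg : g ∈ P) (hn : g ∈ N[T]) : g ∈ T := by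
  by_contra hgT
  exact h.nn (h.gen hg hgT (norm_self T) hn)

theorem Par.normQ (_h : Par T P) : P ≤ N[Q2 P] := (pcore_nml _ P).norm

theorem Par.not_le_Q [Finite G] (h : Par T P) : ¬ T ≤ Q2 P := fun e =>
  h.nn (le_antisymm e h.Qle ▸ h.normQ)

theorem Par.exists_T [Finite G] (h : Par T P) : ∃ t ∈ T, t ∉ Q2 P :=
  SetLike.not_le_iff_exists.1 h.not_le_Q

theorem Par.exists_perm [Finite G] (h : Par T P) :
    ∃ φ : P →* Equiv.Perm (Fin 3), ∀ x : P, φ x = 1 ↔ (x : G) ∈ Q2 P := by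
  classical
  have hc : Nat.card (P ⧸ T.subgroupOf P) = 3 := h.idx
  let e : (P ⧸ T.subgroupOf P) ≃ Fin 3 := Finite.equivFinOfCardEq hc
  refine ⟨(e.permCongrHom : _ →* _).comp (MulAction.toPermHom P (P ⧸ T.subgroupOf P)), fun x => ?_⟩
  rw [MonoidHom.comp_apply, MonoidHom.coe_coe, EmbeddingLike.map_eq_one_iff, ← MonoidHom.mem_ker,
    ← normalCore_eq_ker]
  constructor
  · intro hx
    refine h.le_Q (N := (T.subgroupOf P).normalCore.map P.subtype) ?_ (nml_map_subtype _).norm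
      ⟨x, hx, rfl⟩
    rintro _ ⟨y, hy, rfl⟩
    exact normalCore_le (T.subgroupOf P) hy
  · intro hx
    have := (pcore_nml {2} P).normal
    exact (normal_le_normalCore.2 (subgroupOf_mono P h.Qle) : (Q2 P).subgroupOf P ≤ _) hx

theorem Par.idxQ_dvd [Finite G] (h : Par T P) : (Q2 P).relIndex P ∣ 6 := by
  obtain ⟨φ, hφ⟩ := h.exists_perm
  have : (Q2 P).subgroupOf P = φ.ker := by ext x; rw [MonoidHom.mem_ker, hφ]; rfl
  unfold relIndex
  rw [this, index_ker]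
  have := card_subgroup_dvd_card φ.range
  rwa [Nat.card_eq_fintype_card (α := Equiv.Perm (Fin 3)), Fintype.card_perm, Fintype.card_fin]
    at this

theorem Par.idxQ [Finite G] (h : Par T P) : (Q2 P).relIndex T = 2 := by
  have h1 := relIndex_mul_relIndex _ _ _ h.Qle h.le
  have h2 := h.idxQ_dvd
  rw [← h1, h.idx] at h2
  have h3 : (Q2 P).relIndex T ∣ 2 := Nat.dvd_of_mul_dvd_mul_right (by norm_num : 0 < 3) h2
  rcases (Nat.dvd_prime two_prime).1 h3 with e | e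
  · exact absurd (relIndex_eq_one.1 e) h.not_le_Q
  · exact e

theorem Par.idxQP [Finite G] (h : Par T P) : (Q2 P).relIndex P = 6 := by
  rw [← relIndex_mul_relIndex _ _ _ h.Qle h.le, h.idx, h.idxQ]

theorem Par.sq_or_cube [Finite G] (h : Par T P) {g : G} (hg : g ∈ P) :
    g ^ 2 ∈ Q2 P ∨ g ^ 3 ∈ Q2 P := by
  obtain ⟨φ, hφ⟩ := h.exists_perm
  have key : ∀ σ : Equiv.Perm (Fin 3), σ ^ 2 = 1 ∨ σ ^ 3 = 1 := by decide
  rcases key (φ ⟨g, hg⟩) with e | e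
  · left; rw [← map_pow, hφ] at e; exact e
  · right; rw [← map_pow, hφ] at e; exact e

theorem Par.mul_memQ [Finite G] (h : Par T P) {x y : G} (hx : x ∈ T) (hy : y ∈ T)
    (hx' : x ∉ Q2 P) (hy' : y ∉ Q2 P) : x * y ∈ Q2 P :=
  (mul_mem_idx2 h.idxQ hx hy).2 (iff_of_false hx' hy')

theorem Par.mul_self_mem [Finite G] (h : Par T P) {x : G} (hx : x ∈ T) : x * x ∈ Q2 P :=
  (mul_mem_idx2 h.idxQ hx hx).2 Iff.rfl

/-- every element of `T` is `q` or `s q` -/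
theorem Par.decomp [Finite G] (h : Par T P) {s x : G} (hs : s ∈ T) (hs' : s ∉ Q2 P) (hx : x ∈ T) :
    x ∈ Q2 P ∨ s⁻¹ * x ∈ Q2 P := by
  by_cases e : x ∈ Q2 P
  · exact Or.inl e
  · exact Or.inr (h.mul_memQ (inv_mem hs) hx (fun e' => hs' (inv_mem_iff.1 e')) e)

theorem Par.genT [Finite G] (h : Par T P) {X : Subgroup G} {s : G} (hs : s ∈ T) (hs' : s ∉ Q2 P)
    (h1 : Q2 P ≤ X) (h2 : s ∈ X) : T ≤ X := fun x hx => by
  rcases h.decomp hs hs' hx with e | e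
  · exact h1 e
  · simpa using X.mul_mem h2 (h1 e)

theorem Par.mem_Q_of_cj [Finite G] (h : Par T P) {g x : G} (hg : g ∈ P) (hgT : g ∉ T)
    (hx : x ∈ T) (hx' : x ∈ H24.cj g T) : x ∈ Q2 P := by
  by_contra e
  have h1 : T ≤ H24.cj g T := h.genT hx e
    (by rw [← cj_of_mem_N (h.normQ hg)]; exact cj_mono g h.Qle) hx'
  exact hgT (h.mem_of_norm hg (mem_N_of_le_cj h1))

theorem Par.exists_three [Finite G] (h : Par T P) : ∃ d ∈ P, orderOf d = 3 ∧ d ∉ T := by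
  obtain ⟨d, hd, ho⟩ := exists_orderOf_eq (H := P) Nat.prime_three
    (by rw [← card_mul_relIndex h.le, h.idx]; exact dvd_mul_left _ _)
  refine ⟨d, hd, ho, fun e => ?_⟩
  have := pow_three_eq_one_of_pi (h.two.piElt e) (ho ▸ pow_orderOf_eq_one d)
  rw [this, orderOf_one] at ho
  exact absurd ho (by norm_num)

theorem Par.cent_le (h : Par T P) : P ⊓ C[Q2 P] ≤ Q2 P :=
  (inf_le_inf_left P (C_anti (OZ_le _))).trans h.cz

theorem Par.Q_ne_bot [Finite G] (h : Par T P) : Q2 P ≠ ⊥ := fun e => by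
  have := h.cent_le
  rw [e, C_bot, inf_top_eq] at this
  exact h.not_le (this.trans bot_le)

theorem Par.mem_Q_of_cent (h : Par T P) {x : G} (hx : x ∈ P) (hc : x ∈ C[OZ (Q2 P)]) :
    x ∈ Q2 P := h.cz (mem_inf.2 ⟨hx, hc⟩)

/-- a normal subgroup not inside `O₂(P)` supplements `T` -/
theorem Par.not_le_T [Finite G] (h : Par T P) {N : Subgroup G} (hN : P ≤ N[N])
    (h1 : ¬ N ⊓ P ≤ Q2 P) : ∃ g ∈ N, g ∈ P ∧ g ∉ T := by
  by_contra e
  push Not at e
  exact h1 (h.le_Q (fun x hx => e x hx.1 hx.2) (norm_inf hN (norm_self P)))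

/-- `P` does not centralize a subgroup of index `2` of a normal subgroup `U ≥ Ω₁(Z(O₂(P)))`. -/
theorem Par.not_cent_idx2 [Finite G] (h : Par T P) {U Y : Subgroup G} (hU : OZ (Q2 P) ≤ U)
    (hn : P ≤ N[U]) (hi : Y.relIndex U = 2) (hY : ∀ y ∈ Y, y ∈ U → y * y = 1)
    (hc : P ≤ C[Y]) : False := by
  obtain ⟨d, hd, ho, hdT⟩ := h.exists_three
  have h2 : d * d ∈ C[U] := by
    rw [mem_C]
    intro u hu
    by_cases e : u ∈ Y
    · exact (mem_C.1 (mul_mem (hc hd) (hc hd))) u e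
    · have hu' : d * u * d⁻¹ ∈ U := conj_mem (hn hd) hu
      have e' : d * u * d⁻¹ ∉ Y := fun e' => e (by
        have := conj_eq_of_mem_C (inv_mem (hc hd)) e'
        rw [← this] at e'; simpa [mul_assoc] using e')
      have hy : u⁻¹ * (d * u * d⁻¹) ∈ Y := (mul_mem_idx2 hi (inv_mem hu) hu').2
        (iff_of_false (fun e'' => e (inv_mem_iff.1 e'')) e')
      set y := u⁻¹ * (d * u * d⁻¹) with hydef
      have a1 : d * u * d⁻¹ = u * y := by rw [hydef]; group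
      have a2 : d * y * d⁻¹ = y := conj_eq_of_mem_C (hc hd) hy
      have a3 : y * y = 1 := hY y hy (mul_mem (inv_mem hu) hu')
      have : d * d * u * (d * d)⁻¹ = u := by
        calc d * d * u * (d * d)⁻¹ = d * (d * u * d⁻¹) * d⁻¹ := by group
          _ = d * (u * y) * d⁻¹ := by rw [a1]
          _ = (d * u * d⁻¹) * (d * y * d⁻¹) := by group
          _ = u * (y * y) := by rw [a2, a1]; group
          _ = u := by rw [a3, mul_one]
      calc u * (d * d) = (d * d * u * (d * d)⁻¹) * (d * d) := by rw [this]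
        _ = d * d * u := by group
  have h3 : d * d ∈ T := h.Qle (h.mem_Q_of_cent (mul_mem hd hd) (C_anti hU h2))
  have h4 : d ^ 3 = 1 := ho ▸ pow_orderOf_eq_one d
  apply hdT
  have : d = (d * d) * (d * d) := by
    calc d = d * d ^ 3 := by rw [h4, mul_one]
      _ = (d * d) * (d * d) := by rw [pow_succ, pow_two]; group
  rw [this]; exact T.mul_mem h3 h3

theorem Par.JJ_not_le [Finite G] (h : Par T P) (hJ : ¬ P ≤ N[JJ T]) : ¬ JJ T ≤ Q2 P := fun e =>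
  hJ (JJ_eq e h.Qle ▸ h.normQ.trans (N_le_N_JJ _))

theorem Par.exists_maxEA [Finite G] (h : Par T P) (hJ : ¬ P ≤ N[JJ T]) :
    ∃ A, H12.MaxEA 2 T A ∧ ¬ A ≤ Q2 P := by
  by_contra e
  push Not at e
  exact h.JJ_not_le hJ (H12.J_le_iff.2 e)

theorem Par.idx_of_not_le [Finite G] (h : Par T P) {A : Subgroup G} (hA : A ≤ T)
    (h1 : ¬ A ≤ Q2 P) : (Q2 P).relIndex A = 2 := by
  have := relIndex_dvd_of_nml (Nml.mk h.Qle (h.le.trans h.normQ)) hA
  rw [h.idxQ] at this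
  rcases (Nat.dvd_prime two_prime).1 this with e | e
  · exact absurd (relIndex_eq_one.1 e) h1
  · exact e

/-- replacement: `(A ∩ Q) Ω₁(Z(Q))` is again of maximal rank -/
theorem Par.replace [Finite G] (h : Par T P) {A : Subgroup G} (hA : H12.MaxEA 2 T A)
    (h1 : ¬ A ≤ Q2 P) :
    H12.MaxEA 2 T ((A ⊓ Q2 P) ⊔ OZ (Q2 P)) ∧ A.relIndex (OZ (Q2 P)) = 2 := by
  have hc : A ⊓ Q2 P ≤ C[OZ (Q2 P)] := inf_le_right.trans (le_C_OZ _)
  have hea : IsElementaryAbelian 2 ((A ⊓ Q2 P) ⊔ OZ (Q2 P) : Subgroup G) :=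
    H12.ea_sup (H12.ea_of_le hA.ea inf_le_left) (OZ_ea _) hc
  have hle : (A ⊓ Q2 P) ⊔ OZ (Q2 P) ≤ T := (sup_le inf_le_right (OZ_le _)).trans h.Qle
  have c1 := hA.card_le hle hea
  have c2 := card_sup (norm_of_cent (cents_symm hc))
  have e1 : A ⊓ Q2 P ⊓ OZ (Q2 P) = A ⊓ OZ (Q2 P) := by
    rw [inf_assoc, inf_eq_right.2 (OZ_le _)]
  rw [e1, ← card_inf_mul_relIndex A (OZ (Q2 P)), mul_comm (♯(A ⊓ OZ (Q2 P))), ← mul_assoc] at c2
  have c3 := Nat.eq_of_mul_eq_mul_right (card_pos _) c2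
  have c4 := card_inf_mul_relIndex (Q2 P) A
  rw [h.idx_of_not_le hA.le h1, inf_comm] at c4
  have c5 : A.relIndex (OZ (Q2 P)) ≤ 2 := by
    rw [c3, ← c4] at c1
    exact Nat.le_of_mul_le_mul_left c1 (card_pos _)
  have c6 : A.relIndex (OZ (Q2 P)) ≠ 1 := fun e => h1 fun a ha =>
    h.mem_Q_of_cent (h.le (hA.le ha)) (C_anti (relIndex_eq_one.1 e) (H12.ea_le_centralizer hA.ea ha))
  have c7 := relIndex_pos A (OZ (Q2 P))
  have c8 : A.relIndex (OZ (Q2 P)) = 2 := by omega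
  refine ⟨hA.of_card_le hle hea ?_, c8⟩
  rw [c3, c8, c4]

/-- **Baumann's lemma** -/
theorem Par.baumann [Finite G] (h : Par T P) (hJ : ¬ P ≤ N[JJ T]) :
    ∃ N, N ⊴ P ∧ N ⊓ T = Bm T ∧ Par (Bm T) N := by
  obtain ⟨A, hA, h1⟩ := h.exists_maxEA hJ
  obtain ⟨hA0, hi⟩ := h.replace hA h1
  obtain ⟨a, ha, haQ⟩ := SetLike.not_le_iff_exists.1 h1
  obtain ⟨g, hg, hgT⟩ := h.exists_not_mem
  have hU : H24.cj g (OZ (Q2 P)) = OZ (Q2 P) := cj_of_mem_N (norm_OZ h.normQ hg)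
  have hQ : H24.cj g (Q2 P) = Q2 P := cj_of_mem_N (h.normQ hg)
  have ha' : g * a * g⁻¹ ∉ T := fun e => haQ ((conj_mem_iff (h.normQ hg)).1
    (h.mem_Q_of_cj hg hgT e (conj_mem_cj g (hA.le ha))))
  have hYT : T ≤ C[A ⊓ OZ (Q2 P)] := h.genT (hA.le ha) haQ
    ((le_C_OZ _).trans (C_anti inf_le_right)) (C_anti inf_le_left (H12.ea_le_centralizer hA.ea ha))
  have hYZ : A ⊓ OZ (Q2 P) ≤ OZ (JJ T) := fun y hy => H12.omega_center_le_omega_center_J T
    (mem_OZ.2 ⟨hA.le hy.1, cents_symm hYT hy, (mem_OZ.1 hy.2).2.2⟩)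
  have heag : IsElementaryAbelian 2 (H24.cj g A) := H12.ea_map hA.ea _
  have hY : ¬ A ⊓ OZ (Q2 P) ≤ H24.cj g A := fun e =>
    h.not_cent_idx2 (Y := A ⊓ OZ (Q2 P)) le_rfl (norm_OZ h.normQ)
      (by rw [inf_relIndex_right]; exact hi) (fun y _ hy => OZ_sq hy)
      (h.gen (conj_mem (norm_self P hg) (h.le (hA.le ha))) ha' hYT
        (C_anti e (H12.ea_le_centralizer heag (conj_mem_cj g ha))))
  obtain ⟨y0, hy0, hy0'⟩ := SetLike.not_le_iff_exists.1 hY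
  have hi' : (H24.cj g A).relIndex (OZ (Q2 P)) = 2 := by rw [← hU, relIndex_cj, hi]
  have hZg : OZ (JJ T) ≤ (H24.cj g A ⊓ Q2 P) ⊔ OZ (Q2 P) := by
    have e : (H24.cj g A ⊓ Q2 P) ⊔ OZ (Q2 P) = H24.cj g ((A ⊓ Q2 P) ⊔ OZ (Q2 P)) := by
      rw [cj_sup, cj_inf, hU, hQ]
    refine H12.MaxEA.omega_center_J_le (hA0.of_card_le
      ((sup_le inf_le_right (OZ_le _)).trans h.Qle) ?_ ?_)
    · rw [e]; exact H12.ea_map hA0.ea _
    · rw [e, card_cj]
  have hdec : ∀ z ∈ OZ (JJ T), ∃ w ∈ A ⊓ OZ (Q2 P), z * w ∈ H24.cj g A := by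
    intro z hz
    obtain ⟨a1, ha1, u, hu, rfl⟩ := (mem_sup_of_norm
      (norm_of_cent (cents_symm (inf_le_right.trans (le_C_OZ _))))).1 (hZg hz)
    by_cases e : u ∈ H24.cj g A
    · exact ⟨1, one_mem _, by simpa using mul_mem ha1.1 e⟩
    · refine ⟨y0, hy0, ?_⟩
      rw [mul_assoc]
      exact mul_mem ha1.1 ((mul_mem_idx2 hi' hu hy0.2).2 (iff_of_false e hy0'))
  let U : Subgroup G := ⨅ k : P, H24.cj (k : G) (OZ (JJ T))
  have hUZ : U ≤ OZ (JJ T) := (iInf_le _ (1 : P)).trans (by simp [cj_one])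
  have hUn : P ≤ N[U] := by
    rw [le_N_iff]
    intro k hk x hx
    refine mem_iInf.2 fun l => ?_
    have := mem_iInf.1 hx ⟨k⁻¹ * l, mul_mem (inv_mem hk) l.2⟩
    rw [mem_cj] at this ⊢
    simpa [mul_assoc] using this
  have hTZ : T ≤ N[OZ (JJ T)] := norm_OZ ((norm_self T).trans (N_le_N_JJ T))
  have haJ : a ∈ JJ T := hA.le_J ha
  have hmem : ∀ x ∈ OZ (JJ T), x ∈ H24.cj g A → x ∈ U := by
    intro x hx hxg
    have e : P ≤ Q2 P ⊔ (P ⊓ C{x}) := h.gen (conj_mem (norm_self P hg) (h.le (hA.le ha))) ha'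
      (h.genT (hA.le ha) haQ le_sup_left
        (mem_sup_right ⟨h.le (hA.le ha), C_le_C1 hx (le_C_OZ _ haJ)⟩))
      (mem_sup_right ⟨conj_mem (norm_self P hg) (h.le (hA.le ha)),
        C_le_C1 hxg (H12.ea_le_centralizer heag (conj_mem_cj g ha))⟩)
    refine mem_iInf.2 fun l => ?_
    obtain ⟨q, hq, c, hc, e'⟩ := (mem_sup_of_norm (inf_le_left.trans h.normQ)).1 (e (inv_mem l.2))
    have e2 : (l : G)⁻¹ * x * l = q * x * q⁻¹ := by
      have := mem_C1_iff_conj.1 hc.2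
      calc (l : G)⁻¹ * x * l = (l : G)⁻¹ * x * ((l : G)⁻¹)⁻¹ := by group
        _ = q * (c * x * c⁻¹) * q⁻¹ := by rw [e']; group
        _ = q * x * q⁻¹ := by rw [this]
    rw [mem_cj, e2]
    exact conj_mem (hTZ (h.Qle hq)) hx
  have hN : P ⊓ C[U] ⊴ P := ⟨inf_le_left, norm_inf (norm_self P) (norm_C hUn)⟩
  have hNT : P ⊓ C[U] ⊓ T = Bm T := by
    refine le_antisymm (fun t ht => ⟨ht.2, ?_⟩)
      (le_inf (le_inf ((Bm_le T).trans h.le) (inf_le_right.trans (C_anti hUZ))) (Bm_le T))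
    refine mem_C_iff_le_C1.2 fun z hz => ?_
    obtain ⟨w, hw, hzw⟩ := hdec z hz
    have e1 : z * w ∈ C{t} := mem_C_iff_le_C1.1 ht.1.2 (hmem _ (mul_mem hz (hYZ hw)) hzw)
    have e2 : w ∈ C{t} := mem_C_iff_le_C1.1 (hYT ht.2) hw
    exact (mul_mem_cancel_right e2).1 e1
  have haN : a ∈ P ⊓ C[U] := (hNT.ge (JJ_le_Bm T haJ)).1
  obtain ⟨n, hn, hnP, hnT⟩ := h.not_le_T hN.norm fun e => haQ (e ⟨haN, haN.1⟩)
  have hP : P ≤ (P ⊓ C[U]) ⊔ T := h.gen hnP hnT le_sup_right (mem_sup_left hn)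
  refine ⟨P ⊓ C[U], hN, hNT, hNT.ge.trans inf_le_left, h.two.of_le (Bm_le T), ?_, ?_, ?_⟩
  · have e := (hN.isProd_sup h.le).symm.relIndex_eq
    rw [le_antisymm (sup_le inf_le_left h.le) hP, h.idx] at e
    rw [← hNT, inf_relIndex_left, ← e]
  · intro e
    refine hJ (hP.trans (sup_le ?_ ((norm_self T).trans (N_le_N_JJ T))))
    rw [← JJ_Bm]; exact e.trans (N_le_N_JJ _)
  · have e : Q2 P ⊓ (P ⊓ C[U]) = Q2 (P ⊓ C[U]) := pcore_inf_nml _ hN
    have hUQ : U ≤ Q2 P := h.le_Q (hUZ.trans ((OZ_le _).trans (JJ_le T))) hUn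
    have e2 : OZ (Q2 P) ≤ OZ (Q2 (P ⊓ C[U])) := fun u hu => by
      rw [← e]
      exact mem_OZ.2 ⟨⟨OZ_le _ hu, pcore_le _ _ (OZ_le _ hu), C_anti hUQ (OZ_le_C _ hu)⟩,
        C_anti inf_le_left (OZ_le_C _ hu), (mem_OZ.1 hu).2.2⟩
    intro x hx
    rw [← e]
    exact ⟨h.mem_Q_of_cent hx.1.1 (C_anti e2 hx.2), hx.1⟩

end H11.ZN
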