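import Mathlib
import Cfsg.Agent.H11.Par

/-!
# The amalgam method for two parabolics of type `S₃` (Kurzweil–Stellmacher 10.3)
-/

set_option autoImplicit false

namespace H11.ZN

open Subgroup Cfsg H24
open scoped commutatorElement

universe u v

variable {G : Type u} [Group G] {Γ : Type v} [MulAction G Γ]

/-- vertex stabilizer -/
abbrev Gs (G : Type u) [Group G] {Γ : Type v} [MulAction G Γ] (a : Γ) : Subgroup G :=
  MulAction.stabilizer G a

/-- `Q_a` -/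
abbrev Qs (G : Type u) [Group G] {Γ : Type v} [MulAction G Γ] (a : Γ) : Subgroup G :=
  Q2 (Gs G a)

/-- `Z_a` -/
abbrev Zs (G : Type u) [Group G] {Γ : Type v} [MulAction G Γ] (a : Γ) : Subgroup G :=
  OZ (Qs G a)

/-- `[Z_a, G_a ∩ G_b]` -/
abbrev Rs (G : Type u) [Group G] {Γ : Type v} [MulAction G Γ] (a b : Γ) : Subgroup G :=
  ⁅Zs G a, Gs G a ⊓ Gs G b⁆

theorem Gs_smul (g : G) (a : Γ) : Gs G (g • a) = cj g (Gs G a) :=
  MulAction.stabilizer_smul_eq_stabilizer_map_conj g a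

theorem Qs_smul [Finite G] (g : G) (a : Γ) : Qs G (g • a) = cj g (Qs G a) := by
  unfold Qs Q2; rw [Gs_smul, pcore_cj]

theorem Zs_smul [Finite G] (g : G) (a : Γ) : Zs G (g • a) = cj g (Zs G a) := by
  unfold Zs; rw [Qs_smul, OZ_cj]

theorem Rs_smul [Finite G] (g : G) (a b : Γ) : Rs G (g • a) (g • b) = cj g (Rs G a b) := by
  unfold Rs; rw [cj_comm, cj_inf, Zs_smul, Gs_smul, Gs_smul]

theorem mem_Gs {g : G} {a : Γ} : g ∈ Gs G a ↔ g • a = a := Iff.rfl

theorem Gs_norm_Zs [Finite G] (a : Γ) : Gs G a ≤ N[Zs G a] := norm_OZ (pcore_nml _ _).norm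

theorem Qs_le_Gs (a : Γ) : Qs G a ≤ Gs G a := pcore_le _ _

theorem Zs_le_Gs (a : Γ) : Zs G a ≤ Gs G a := (OZ_le _).trans (Qs_le_Gs a)

theorem Rs_le [Finite G] (a b : Γ) : Rs G a b ≤ Zs G a :=
  comm_le_left (inf_le_left.trans (Gs_norm_Zs a))

/-- the abstract coset graph -/
structure Amal (G : Type u) [Group G] {Γ : Type v} [MulAction G Γ] (adj : Γ → Γ → Prop) :
    Prop where
  symm : ∀ {a b : Γ}, adj a b → adj b a
  smul : ∀ (g : G) {a b : Γ}, adj a b → adj (g • a) (g • b)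
  par : ∀ {a b : Γ}, adj a b → Par (Gs G a ⊓ Gs G b) (Gs G a)
  trans : ∀ {a b c : Γ}, adj a b → adj a c → ∃ g ∈ Gs G a, g • b = c
  faith : ∀ {a b : Γ}, adj a b → ∀ U : Subgroup G, U ≤ Gs G a ⊓ Gs G b → Gs G a ≤ N[U] →
    Gs G b ≤ N[U] → U = ⊥

variable {adj : Γ → Γ → Prop} [Finite G] {a b c d : Γ}

theorem Amal.Q_le (h : Amal G adj) (hab : adj a b) : Qs G a ≤ Gs G b :=
  (h.par hab).Qle.trans inf_le_right

theorem Amal.Z_le (h : Amal G adj) (hab : adj a b) : Zs G a ≤ Gs G b :=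
  (OZ_le _).trans (h.Q_le hab)

theorem Amal.mem_Q (h : Amal G adj) (hab : adj a b) (hac : adj a c) (hne : b ≠ c) {x : G}
    (ha : x ∈ Gs G a) (hb : x ∈ Gs G b) (hc : x ∈ Gs G c) : x ∈ Qs G a := by
  obtain ⟨g, hg, rfl⟩ := h.trans hab hac
  refine (h.par hab).mem_Q_of_cj hg (fun e => hne (mem_Gs.1 e.2).symm) ⟨ha, hb⟩ ?_
  rw [cj_inf, ← Gs_smul, ← Gs_smul, mem_Gs.1 hg]
  exact ⟨ha, hc⟩

omit [Finite G] in
theorem Amal.gen (h : Amal G adj) (hab : adj a b) {X : Subgroup G} {s : G} (hs : s ∈ Gs G a)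
    (hs' : s ∉ Gs G b) (h1 : Gs G a ⊓ Gs G b ≤ X) (h2 : s ∈ X) : Gs G a ≤ X :=
  (h.par hab).gen hs (fun e => hs' e.2) h1 h2

theorem Amal.gen2 (h : Amal G adj) (hab : adj a b) (hac : adj a c) (hne : b ≠ c)
    {X : Subgroup G} (h1 : Gs G a ⊓ Gs G b ≤ X) (h2 : Gs G a ⊓ Gs G c ≤ X) : Gs G a ≤ X := by
  obtain ⟨t, ht, ht'⟩ := (h.par hac).exists_T
  exact h.gen hab ht.1 (fun e => ht' (h.mem_Q hab hac hne ht.1 e ht.2)) h1 (h2 ht)

omit [Finite G] in
theorem Amal.exists_ne (h : Amal G adj) (hab : adj a b) : ∃ c, adj a c ∧ c ≠ b := by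
  obtain ⟨g, hg, hg'⟩ := (h.par hab).exists_not_mem
  refine ⟨g • b, ?_, fun e => hg' ⟨hg, e⟩⟩
  have := h.smul g hab
  rwa [mem_Gs.1 hg] at this

omit [Finite G] in
theorem Amal.adj_smul (h : Amal G adj) (hab : adj a b) {g : G} (hg : g ∈ Gs G a) :
    adj a (g • b) := by
  have := h.smul g hab
  rwa [mem_Gs.1 hg] at this

omit [Finite G] in
theorem Amal.cent (h : Amal G adj) (hab : adj a b) {x : G} (hx : x ∈ Gs G a)
    (hc : x ∈ C[Zs G a]) : x ∈ Qs G a := (h.par hab).mem_Q_of_cent hx hc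

theorem Amal.Q_not_le (h : Amal G adj) (hab : adj a b) : ¬ Qs G a ≤ Qs G b := fun e => by
  have h1 := h.par hab
  have h2 := h.par (h.symm hab)
  have c1 := card_mul_relIndex h1.Qle
  have c2 := card_mul_relIndex h2.Qle
  rw [h1.idxQ] at c1
  rw [h2.idxQ, inf_comm] at c2
  have e' : Qs G a = Qs G b := eq_of_card_eq e (by unfold Qs; omega)
  exact h1.Q_ne_bot (h.faith hab _ h1.Qle h1.normQ (by
    have := h2.normQ
    unfold Qs at e'
    rwa [← e'] at this))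

/-- the third neighbour -/
theorem Amal.third (h : Amal G adj) (hab : adj a b) (hac : adj a c) (hne : b ≠ c) {t : G}
    (ha : t ∈ Gs G a) (hb : t ∈ Gs G b) (ht : t ∉ Qs G a) :
    adj a (t • c) ∧ t • c ≠ b ∧ t • c ≠ c ∧ t • t • c = c := by
  refine ⟨h.adj_smul hac ha, fun e => hne ?_, fun e => ht (h.mem_Q hab hac hne ha hb e), ?_⟩
  · rw [← mem_Gs.1 hb] at e; exact (MulAction.injective t e).symm
  · rw [← mul_smul]; exact h.Q_le hac ((h.par hab).mul_self_mem ⟨ha, hb⟩)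

omit [Finite G] in
theorem Amal.three (h : Amal G adj) (hab : adj a b) (hac : adj a c) (had : adj a d) (h1 : b ≠ c)
    (h2 : b ≠ d) (h3 : c ≠ d) {e : Γ} (hae : adj a e) : e = b ∨ e = c ∨ e = d := by
  have hc : (MulAction.orbit (Gs G a) b).ncard = 3 := by
    rw [← MulAction.index_stabilizer, ← (h.par hab).idx, inf_relIndex_left]; rfl
  have hm : ∀ x, adj a x → x ∈ MulAction.orbit (Gs G a) b := fun x hx => by
    obtain ⟨g, hg, rfl⟩ := h.trans hab hx
    exact ⟨⟨g, hg⟩, rfl⟩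
  have hs : ({b, c, d} : Set Γ) = MulAction.orbit (Gs G a) b :=
    Set.eq_of_subset_of_ncard_le
      (by rintro x (rfl | rfl | rfl) <;> exact hm _ ‹_›)
      (by rw [hc, Set.ncard_eq_three.2 ⟨b, c, d, h1, h2, h3, rfl⟩])
      (Set.finite_of_ncard_ne_zero (by rw [hc]; norm_num))
  have := hm e hae
  rw [← hs] at this
  exact this

/-- data of a critical pair -/
structure CP (G : Type u) [Group G] {Γ : Type v} [MulAction G Γ] (adj : Γ → Γ → Prop)
    (a a1 c1 c : Γ) : Prop where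
  adj1 : adj a a1
  adj2 : adj c c1
  le1 : Zs G a ≤ Gs G c ⊓ Gs G c1
  le2 : Zs G c ≤ Gs G a ⊓ Gs G a1
  nle : ¬ Zs G a ≤ Qs G c

variable {a1 c1 : Γ}

omit [Finite G] in
theorem CP.symm (h : Amal G adj) (hc : CP G adj a a1 c1 c) : CP G adj c c1 a1 a := by
  refine ⟨hc.adj2, hc.adj1, hc.le2, hc.le1, fun e => hc.nle fun x hx => ?_⟩
  exact h.cent hc.adj2 (hc.le1 hx).1 (cents_symm (e.trans (le_C_OZ _)) hx)

/-- elements of `G_c ∩ G_{c1}` are `z q` -/
theorem CP.decomp (h : Amal G adj) (hc : CP G adj a a1 c1 c) {x : G}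
    (hx : x ∈ Gs G c ⊓ Gs G c1) : ∃ z ∈ Zs G a, ∃ q ∈ Qs G c, x = z * q := by
  obtain ⟨s, hs, hs'⟩ := SetLike.not_le_iff_exists.1 hc.nle
  rcases (h.par hc.adj2).decomp (hc.le1 hs) hs' hx with e | e
  · exact ⟨1, one_mem _, x, e, by simp⟩
  · exact ⟨s, hs, _, e, by simp⟩

theorem CP.R_eq (h : Amal G adj) (hc : CP G adj a a1 c1 c) : Rs G c c1 = ⁅Zs G c, Zs G a⁆ := by
  refine le_antisymm (commutator_le.2 fun s hs x hx => ?_) (comm_mono_right hc.le1)
  obtain ⟨z, hz, q, hq, rfl⟩ := hc.decomp h hx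
  have e : q * s⁻¹ = s⁻¹ * q := comm_of_cent (le_C_OZ _) hq (inv_mem hs)
  have : ⁅s, z * q⁆ = ⁅s, z⁆ := by
    simp only [commutatorElement_def]
    calc s * (z * q) * s⁻¹ * (z * q)⁻¹ = s * z * (q * s⁻¹) * q⁻¹ * z⁻¹ := by group
      _ = s * z * s⁻¹ * z⁻¹ := by rw [e]; group
  rw [this]; exact commutator_mem_commutator hs hz

theorem CP.R_symm (h : Amal G adj) (hc : CP G adj a a1 c1 c) : Rs G a a1 = Rs G c c1 := by
  rw [hc.R_eq h, (hc.symm h).R_eq h, commC]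

theorem CP.R_ne (h : Amal G adj) (hc : CP G adj a a1 c1 c) : Rs G a a1 ≠ ⊥ := fun e => by
  rw [(hc.symm h).R_eq h, comm_eq_bot] at e
  exact hc.nle fun x hx => h.cent hc.adj2 (hc.le1 hx).1 (e hx)

theorem CP.R_cent (h : Amal G adj) (hc : CP G adj a a1 c1 c) :
    Gs G a ⊓ Gs G a1 ≤ C[Rs G a a1] := fun x hx => by
  obtain ⟨z, hz, q, hq, rfl⟩ := (hc.symm h).decomp h hx
  refine mul_mem ?_ (C_anti (Rs_le a a1) (le_C_OZ _ hq))
  rw [hc.R_symm h]
  exact C_anti (Rs_le c c1) (le_C_OZ _ (OZ_le _ hz))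

theorem CP.exists_moves (h : Amal G adj) (hc : CP G adj a a1 c1 c) {x : Γ} (hx : adj a x)
    (hne : x ≠ a1) : ∃ s ∈ Zs G c, s ∈ Gs G a ∧ s ∉ Gs G x := by
  obtain ⟨s, hs, hs'⟩ := SetLike.not_le_iff_exists.1 (hc.symm h).nle
  exact ⟨s, hs, (hc.le2 hs).1, fun e => hs' (h.mem_Q hx hc.adj1 hne (hc.le2 hs).1 e (hc.le2 hs).2)⟩

/-- commutators of `G_c ∩ G_{c1}` with `Z_c` lie in `Z_a` -/
theorem CP.conj_mem (h : Amal G adj) (hc : CP G adj a a1 c1 c) {x s : G}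
    (hx : x ∈ Gs G c ⊓ Gs G c1) (hs : s ∈ Zs G c) : s * x * s⁻¹ * x⁻¹ ∈ Zs G a := by
  have : ⁅s, x⁆ ∈ Rs G c c1 := commutator_mem_commutator hs hx
  rw [← hc.R_symm h] at this
  exact Rs_le _ _ this

theorem CP.norm_sup (h : Amal G adj) (hc : CP G adj a a1 c1 c) {Y : Subgroup G}
    (hY : Y ≤ Gs G c ⊓ Gs G c1) : Zs G c ≤ N[Y ⊔ Zs G a] := by
  have hn : Y ⊔ Zs G a ≤ Gs G c ⊓ Gs G c1 := sup_le hY hc.le1
  rw [le_N_iff]
  intro s hs x hx
  have := mul_mem (mem_sup_right (S := Y) (hc.conj_mem h (hn hx) hs)) hx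
  simpa using this

/-- two elements of `Z_a`, `Z_c` outside `Q_c`, `Q_a` do not commute -/
theorem CP.not_comm (h : Amal G adj) (hc : CP G adj a a1 c1 c) {w w' : G} (hw : w ∈ Zs G a)
    (hwc : w ∉ Qs G c) (hw' : w' ∈ Zs G c) (hwa : w' ∉ Qs G a) : w * w' ≠ w' * w := fun e => by
  refine hwa (h.cent hc.adj1 (hc.le2 hw').1 (mem_C_iff_le_C1.2 fun x hx => ?_))
  rcases (h.par hc.adj2).decomp (hc.le1 hw) hwc (hc.le1 hx) with e' | e'
  · exact C_le_C1 hw' (le_C_OZ _ e')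
  · have := mul_mem (mem_C1.2 e) (C_le_C1 hw' (le_C_OZ _ e'))
    simpa using this

/-- `Q_a ∩ Q_u` does not depend on the neighbour `u` -/
def NN (G : Type u) [Group G] {Γ : Type v} [MulAction G Γ] (adj : Γ → Γ → Prop) (a : Γ) : Prop :=
  ∀ u v, adj a u → adj a v → Qs G a ⊓ Qs G u ≤ Qs G v

theorem NN.smul (h : Amal G adj) (hn : NN G adj a) (g : G) : NN G adj (g • a) := by
  intro u v hu hv
  have hu' := h.smul g⁻¹ hu
  have hv' := h.smul g⁻¹ hv
  rw [inv_smul_smul] at hu' hv'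
  have := cj_mono g (hn _ _ hu' hv')
  rwa [cj_inf, ← Qs_smul, ← Qs_smul, ← Qs_smul, smul_inv_smul, smul_inv_smul] at this

theorem NN.move (h : Amal G adj) (hn : NN G adj b) (hab : adj a b) (hac : adj a c) :
    NN G adj c := by
  obtain ⟨g, -, rfl⟩ := h.trans hab hac
  exact hn.smul h g

theorem CP.nn (h : Amal G adj) (hc : CP G adj a a1 c1 c) {x : Γ} (hx : adj a x) (hne : x ≠ a1)
    (hle : Zs G x ≤ Gs G c ⊓ Gs G c1) : NN G adj a := by
  obtain ⟨s, hs, hsa, hsx⟩ := hc.exists_moves h hx hne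
  have e : Gs G a ⊓ C[Zs G x ⊔ Zs G a] = Qs G a ⊓ Qs G x := by
    rw [C_sup]
    refine le_antisymm (fun y hy => ?_) (le_inf (inf_le_left.trans (Qs_le_Gs a))
      (le_inf (inf_le_right.trans (le_C_OZ _)) (inf_le_left.trans (le_C_OZ _))))
    have h1 := h.cent hx hy.1 hy.2.2
    exact ⟨h1, h.cent (h.symm hx) (h.Q_le hx h1) hy.2.1⟩
  have hn : Gs G a ≤ N[Qs G a ⊓ Qs G x] := by
    refine h.gen hx hsa hsx (norm_inf (inf_le_left.trans (pcore_nml _ _).norm)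
      (inf_le_right.trans (pcore_nml _ _).norm)) ?_
    rw [← e]
    exact norm_inf (X := Zs G c) (hc.le2.trans (inf_le_left.trans (norm_self _)))
      (norm_C (hc.norm_sup h hle)) hs
  have key : ∀ u, adj a u → Qs G a ⊓ Qs G u = Qs G a ⊓ Qs G x := fun u hu => by
    obtain ⟨g, hg, rfl⟩ := h.trans hx hu
    rw [← cj_of_mem_N (hn hg), cj_inf, ← Qs_smul, ← Qs_smul, mem_Gs.1 hg]
  intro u v hu hv
  rw [key u hu, ← key v hv]; exact inf_le_right

theorem Amal.R_indep (h : Amal G adj) (hab : adj a b) (hac : adj a c)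
    (hC : Gs G a ≤ C[Rs G b a]) : Rs G c a = Rs G b a := by
  obtain ⟨g, hg, rfl⟩ := h.trans hab hac
  rw [← cj_of_mem_C (hC hg), ← Rs_smul, mem_Gs.1 hg]

omit [Finite G] in
theorem Amal.eq_one (h : Amal G adj) (hab : adj a b) {x : G} (hx : x ∈ Gs G a ⊓ Gs G b)
    (h1 : Gs G a ≤ C{x}) (h2 : Gs G b ≤ C{x}) : x = 1 :=
  zpowers_eq_bot.1 (h.faith hab _ ((zpowers_le (G := G)).2 hx) (norm_zpowers_of_cent h1)
    (norm_zpowers_of_cent h2))

/-- walks of length `n` -/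
def Walk (adj : Γ → Γ → Prop) (n : ℕ) (f : ℕ → Γ) : Prop := ∀ i < n, adj (f i) (f (i + 1))

/-- prepend a vertex -/
def shift (x : Γ) (f : ℕ → Γ) : ℕ → Γ
  | 0 => x
  | i + 1 => f i

@[simp] theorem shift_zero (x : Γ) (f : ℕ → Γ) : shift x f 0 = x := rfl
@[simp] theorem shift_succ (x : Γ) (f : ℕ → Γ) (i : ℕ) : shift x f (i + 1) = f i := rfl

theorem Walk.shift {n : ℕ} {f : ℕ → Γ} (hf : Walk adj n f) {x : Γ} (hx : adj x (f 0)) :
    Walk adj n (shift x f)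
  | 0, _ => hx
  | i + 1, hi => hf i (by omega)

/-- minimality of the critical distance -/
def MinD (G : Type u) [Group G] {Γ : Type v} [MulAction G Γ] (adj : Γ → Γ → Prop) (n : ℕ) :
    Prop :=
  ∀ m < n, ∀ f, Walk adj m f → Zs G (f 0) ≤ Qs G (f m)

/-- critical walks -/
def Crit (G : Type u) [Group G] {Γ : Type v} [MulAction G Γ] (adj : Γ → Γ → Prop) (n : ℕ)
    (f : ℕ → Γ) : Prop :=
  Walk adj n f ∧ ¬ Zs G (f 0) ≤ Qs G (f n)

variable {n : ℕ} {f : ℕ → Γ} {x y : Γ}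

omit [Finite G] in
theorem Amal.walk_rev (h : Amal G adj) (hf : Walk adj n f) {i j : ℕ} (hij : i ≤ j) (hj : j ≤ n) :
    Walk adj (j - i) fun k => f (j - k) := fun k hk => by
  have := h.symm (hf (j - (k + 1)) (by omega))
  rwa [show j - (k + 1) + 1 = j - k by omega] at this

omit [Finite G] in
theorem Amal.near (h : Amal G adj) {m : ℕ} (hm : MinD G adj m) (hf : Walk adj n f) {i j : ℕ}
    (hij : i ≤ j) (hj : j ≤ n) (hd : j - i < m) :
    Zs G (f i) ≤ Qs G (f j) ∧ Zs G (f j) ≤ Qs G (f i) := by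
  constructor
  · have := hm (j - i) hd (fun k => f (i + k)) fun k hk => hf (i + k) (by omega)
    simpa [show i + (j - i) = j by omega] using this
  · have := hm (j - i) hd _ (h.walk_rev hf hij hj)
    simpa [show j - (j - i) = i by omega] using this

theorem Crit.cp (h : Amal G adj) (hm : MinD G adj (n + 1)) (hf : Crit G adj (n + 1) f) :
    CP G adj (f 0) (f 1) (f n) (f (n + 1)) := by
  have h1 := (h.near hm hf.1 (Nat.zero_le n) (by omega) (by omega)).1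
  have h2 := (h.near hm hf.1 (i := 1) (j := n + 1) (by omega) le_rfl (by omega)).2
  exact ⟨hf.1 0 (by omega), h.symm (hf.1 n (by omega)),
    le_inf (h1.trans (h.Q_le (hf.1 n (by omega)))) (h1.trans (Qs_le_Gs _)),
    le_inf (h2.trans (h.Q_le (h.symm (hf.1 0 (by omega))))) (h2.trans (Qs_le_Gs _)), hf.2⟩

theorem Crit.rev (h : Amal G adj) (hm : MinD G adj (n + 1)) (hf : Crit G adj (n + 1) f) :
    Crit G adj (n + 1) fun k => f (n + 1 - k) :=
  ⟨h.walk_rev hf.1 (Nat.zero_le _) le_rfl, by simpa using ((hf.cp h hm).symm h).nle⟩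

theorem Crit.nine (h : Amal G adj) (hm : MinD G adj (n + 1)) (hf : Crit G adj (n + 1) f)
    (hx : adj (f 0) x) (hne : x ≠ f 1) (hn : ¬ Crit G adj (n + 1) (shift x f)) :
    NN G adj (f 0) := by
  have : Zs G x ≤ Qs G (f n) := by
    by_contra e
    exact hn ⟨hf.1.shift (h.symm hx), e⟩
  exact (hf.cp h hm).nn h hx hne
    (le_inf (this.trans (h.Q_le (hf.1 n (by omega)))) (this.trans (Qs_le_Gs _)))

theorem Crit.ten1 (h : Amal G adj) (hm : MinD G adj (n + 2)) (hf : Crit G adj (n + 2) f)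
    (hx : adj (f 0) x) (hne : x ≠ f 1) (hg : Crit G adj (n + 2) (shift x f)) :
    Gs G (f 0) ≤ C[Rs G x (f 0)] := by
  obtain ⟨s, hs, hsa, hsx⟩ := (hf.cp h hm).exists_moves h hx hne
  have hc : CP G adj x (f 0) (f n) (f (n + 1)) := hg.cp h hm
  refine h.gen hx hsa hsx (by rw [inf_comm]; exact hc.R_cent h) ?_
  rw [hc.R_symm h]
  exact C_anti (Rs_le _ _) (le_C_OZ _
    ((h.near hm hf.1 (i := n + 1) (j := n + 2) (by omega) le_rfl (by omega)).2 hs))

theorem Crit.not_nn (h : Amal G adj) (hm : MinD G adj (n + 2)) (hf : Crit G adj (n + 2) f) :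
    ¬ NN G adj (f 1) := fun e =>
  ((hf.cp h hm).symm h).nle ((le_inf
    (h.near hm hf.1 (i := 1) (j := n + 2) (by omega) le_rfl (by omega)).2
    (h.near hm hf.1 (i := 2) (j := n + 2) (by omega) le_rfl (by omega)).2).trans
    (e _ _ (hf.1 1 (by omega)) (h.symm (hf.1 0 (by omega)))))

theorem Crit.ten2 (h : Amal G adj) (hm : MinD G adj (n + 2)) (hf : Crit G adj (n + 2) f)
    (hx : adj (f 0) x) (hg : Crit G adj (n + 2) (shift x f)) (hy : adj x y) (hne : y ≠ f 0) :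
    Crit G adj (n + 2) (shift y (shift x f)) := by
  by_contra e
  exact hf.not_nn h hm ((hg.nine h hm hy hne e).move h hx (hf.1 0 (by omega)))

theorem Crit.caseI_big (h : Amal G adj) (hm : MinD G adj (n + 3)) (hf : Crit G adj (n + 3) f)
    (hx : adj (f 0) x) (hg : Crit G adj (n + 3) (shift x f)) : False := by
  have key : ∀ y, adj x y → y ≠ f 0 → Rs G x y ≠ ⊥ ∧ Gs G y ≤ C[Rs G x y] ∧
      Rs G x y = Rs G (shift x f (n + 1)) (shift x f n) := by
    intro y hy hne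
    have h1 := hf.ten2 h hm hx hg hy hne
    obtain ⟨z, hz, hz'⟩ := h.exists_ne (h.symm hy)
    have h2 := hg.ten2 h hm hy h1 hz hz'
    have h3 : Gs G y ≤ C[Rs G z y] := h1.ten1 h hm hz hz' h2
    have h4 : CP G adj z y (shift x f n) (shift x f (n + 1)) := h2.cp h hm
    rw [h.R_indep hz (h.symm hy) h3]
    exact ⟨h4.R_ne h, h3, h4.R_symm h⟩
  obtain ⟨y, hy, hne⟩ := h.exists_ne (h.symm hx)
  obtain ⟨t, ht, ht'⟩ := (h.par (h.symm hx)).exists_T
  obtain ⟨hy', hne', hne'', -⟩ := h.third (h.symm hx) hy hne.symm ht.1 ht.2 ht'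
  obtain ⟨a1, a2, a3⟩ := key y hy hne
  obtain ⟨-, b2, b3⟩ := key _ hy' hne'
  rw [b3, ← a3] at b2
  exact a1 (h.faith hy _ ((Rs_le _ _).trans (le_inf (Zs_le_Gs _) (h.Z_le hy)))
    (norm_of_cent (h.gen2 hy hy' hne''.symm (inf_le_right.trans a2) (inf_le_right.trans b2)))
    (norm_of_cent a2))

/-- at critical distance two -/
theorem Amal.cp2 (h : Amal G adj) (hm : MinD G adj 2) (hab : adj a b) (hcb : adj c b)
    (hn : ¬ Zs G a ≤ Qs G c) : CP G adj a b b c := by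
  have key : ∀ x, adj x b → Zs G x ≤ Qs G b := fun x hx =>
    hm 1 (by omega) (shift x fun _ => b) fun i hi => by
      obtain rfl : i = 0 := by omega
      exact hx
  exact ⟨hab, hcb, le_inf ((key a hab).trans (h.Q_le (h.symm hcb))) ((key a hab).trans (Qs_le_Gs _)),
    le_inf ((key c hcb).trans (h.Q_le (h.symm hab))) ((key c hcb).trans (Qs_le_Gs _)), hn⟩

/-- at critical distance two, all pairs of distinct neighbours of `b` are critical -/
theorem Amal.all2 (h : Amal G adj) (hab : adj b a) (hcb : adj b c) (hac : a ≠ c)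
    (hn : ¬ Zs G a ≤ Qs G c) {u w : Γ} (hu : adj b u) (hw : adj b w) (huw : u ≠ w) :
    ¬ Zs G u ≤ Qs G w := by
  obtain ⟨g, hg, rfl⟩ := h.trans hab hu
  have h1 : ¬ Zs G (g • a) ≤ Qs G (g • c) := by rwa [Zs_smul, Qs_smul, cj_le_cj]
  have h2 : g • a ≠ g • c := fun e => hac (MulAction.injective g e)
  obtain ⟨t, ht, ht'⟩ := (h.par hu).exists_T
  obtain ⟨h3, h4, h5, -⟩ := h.third hu (h.adj_smul hcb hg) h2 ht.1 ht.2 ht'
  rcases h.three hu (h.adj_smul hcb hg) h3 h2 h4.symm h5.symm hw with e | e | e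
  · exact absurd e.symm huw
  · rwa [e]
  · rw [e, ← mem_Gs.1 ht.2, Zs_smul t, Qs_smul t, cj_le_cj]
    simpa [mem_Gs.1 ht.2] using h1

theorem Crit.caseI_two (h : Amal G adj) (hm : MinD G adj 2) (hf : Crit G adj 2 f)
    (hx : adj (f 0) x) (hne : x ≠ f 1) (hg : Crit G adj 2 (shift x f)) : False := by
  obtain ⟨y, hy, hy'⟩ := h.exists_ne (h.symm hx)
  have hh := hf.ten2 h hm hx hg hy hy'
  have C0 : Gs G (f 0) ≤ C[Rs G x (f 0)] := hf.ten1 h hm hx hne hg
  have Cx : Gs G x ≤ C[Rs G y x] := hg.ten1 h hm hy hy' hh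
  have c1 : CP G adj y x x (f 0) := hh.cp h hm
  have h01 := hf.1 0 (by omega)
  obtain ⟨t, ht, ht'⟩ := SetLike.not_le_iff_exists.1 c1.nle
  have ht0 := c1.le1 ht
  obtain ⟨h3, h4, h5, h6⟩ := h.third hx h01 hne ht0.1 ht0.2 ht'
  have all := fun {u w} => h.all2 (u := u) (w := w) hx h01 hne hg.2
  obtain ⟨w, hw, hw1, hw2⟩ := exists_not_mem_two (all h01 hx hne.symm) (all h01 h3 h5.symm)
  have hw' : t * w * t⁻¹ ∈ Zs G (t • f 1) := by rw [Zs_smul]; exact conj_mem_cj t hw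
  have hw1' : t * w * t⁻¹ ∉ Qs G x := by
    rw [← mem_Gs.1 ht0.2, Qs_smul, conj_mem_cj_iff]; exact hw1
  have hw2' : t * w * t⁻¹ ∉ Qs G (f 1) := by
    rw [← h6, Qs_smul, conj_mem_cj_iff]; exact hw2
  have c2 := h.cp2 hm (h.symm h01) (h.symm h3) (all h01 h3 h5.symm)
  have c3 := h.cp2 hm (h.symm h01) (h.symm hx) (all h01 hx hne.symm)
  have c4 := h.cp2 hm (h.symm h3) (h.symm hx) (all h3 hx h4)
  have hu : w * (t * w * t⁻¹) ∈ Qs G x :=
    (h.par (h.symm hx)).mul_memQ (c3.le1 hw) (c4.le1 hw') hw1 hw1'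
  have e1 := OZ_sq hw
  have e2 := OZ_sq ht
  have i1 : w⁻¹ = w := inv_eq_of_mul_eq_one_right e1
  have i2 : t⁻¹ = t := inv_eq_of_mul_eq_one_right e2
  have r1 : ⁅w, t * w * t⁻¹⁆ ∈ Rs G x (f 0) := by
    rw [← h.R_indep hx h01 C0]
    exact commutator_mem_commutator hw (c2.le2 hw')
  have r2 : ⁅t, w * (t * w * t⁻¹)⁆ ∈ Rs G y x :=
    commutator_mem_commutator ht ⟨h.Q_le hy hu, Qs_le_Gs _ hu⟩
  have e3 : ⁅t, w * (t * w * t⁻¹)⁆ = ⁅w, t * w * t⁻¹⁆⁻¹ := by
    simp only [commutatorElement_def, mul_inv_rev, i1, i2]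
    calc _ = t * w * t * w * (t * t) * (t * w * t * w) := by group
      _ = _ := by rw [e2]; group
  rw [e3, inv_mem_iff] at r2
  have := h.eq_one hx ⟨h.Z_le (h.symm hx) (Rs_le _ _ r1), Zs_le_Gs _ (Rs_le _ _ r1)⟩ (C0.trans (C_le_C1 r1))
    (Cx.trans (C_le_C1 r2))
  exact c2.not_comm h hw hw2 hw' hw2' (commutatorElement_eq_one_iff_mul_comm.1 this)

theorem Amal.Z_ne_bot (h : Amal G adj) (hab : adj a b) : Zs G a ≠ ⊥ :=
  OZ_ne_bot (pcore_pi _ _) (h.par hab).Q_ne_bot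

omit [Finite G] in
theorem MinD.one (hm : MinD G adj (n + 2)) (hab : adj a b) : Zs G a ≤ Qs G b :=
  hm 1 (by omega) (shift a fun _ => b) fun i hi => by
    obtain rfl : i = 0 := by omega
    exact hab

theorem Crit.caseII_A (h : Amal G adj) (hm : MinD G adj (n + 2)) (hf : Crit G adj (n + 2) f)
    (hx : adj (f 0) x) (hne : x ≠ f 1) (N0 : NN G adj (f 0)) (Nn : NN G adj (f n))
    (hy : adj x y) (hy' : y ≠ f 0) : Crit G adj (n + 2) (shift y (shift x f)) := by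
  have w1 := hf.1.shift (h.symm hx)
  have w2 := w1.shift (h.symm hy)
  refine ⟨w2, fun e => ?_⟩
  have c := hf.cp h hm
  have e1 : Zs G y ≤ Qs G (shift x f n) :=
    (h.near hm w2 (i := 0) (j := n + 1) (by omega) (by omega) (by omega)).1
  have e2 : Zs G y ≤ Qs G (f (n + 1)) :=
    (le_inf e e1).trans (Nn _ _ (h.symm (w1 n (by omega))) (hf.1 n (by omega)))
  have n1 := c.norm_sup h (le_inf (e2.trans (h.Q_le (hf.1 (n + 1) (by omega))))
    (e2.trans (Qs_le_Gs _)))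
  obtain ⟨q, hq, hq'⟩ := SetLike.not_le_iff_exists.1 (h.Q_not_le hx)
  obtain ⟨h3, h4, h5, -⟩ := h.third (h.symm hx) hy hy'.symm (h.Q_le hx hq) (Qs_le_Gs _ hq) hq'
  obtain ⟨s, hs, hsa, hsx⟩ := c.exists_moves h hx hne
  have n2 : Qs G x ≤ N[Zs G y ⊔ Zs G (f 0)] :=
    norm_sup ((h.Q_le hy).trans (Gs_norm_Zs _)) ((h.Q_le (h.symm hx)).trans (Gs_norm_Zs _))
  have k1 : s * q * s⁻¹ ∈ Qs G (f 0) := (pcore_nml _ _).conj_mem hsa hq
  have k2 : s * q * s⁻¹ ∉ Qs G x := fun e' => by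
    have := N0 _ _ hx (h.adj_smul hx hsa) ⟨k1, e'⟩
    rw [Qs_smul, conj_mem_cj_iff] at this
    exact hq' this
  have k3 : q⁻¹ * (s * q * s⁻¹) ∈ Qs G x := (h.par (h.symm hx)).mul_memQ
    (inv_mem ⟨h.Q_le hx hq, Qs_le_Gs _ hq⟩) ⟨h.Q_le hx k1, Qs_le_Gs _ k1⟩
    (fun e' => hq' (inv_mem_iff.1 e')) k2
  have n3 : s ∈ N[Zs G (q • y) ⊔ Zs G (f 0)] := by
    have := mul_mem (n2 k3) (n1 hs)
    rw [← mem_Gs.1 (Qs_le_Gs _ hq), Zs_smul, Zs_smul, ← cj_sup, ← cj_N, mem_cj]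
    simpa [mul_assoc] using this
  let V : Subgroup G := (Zs G y ⊔ Zs G (f 0)) ⊔ (Zs G (q • y) ⊔ Zs G (f 0))
  have hV : ∀ u, adj x u → Zs G u ≤ V := fun u hu => by
    rcases h.three (h.symm hx) hy h3 hy'.symm h4.symm h5.symm hu with rfl | rfl | rfl
    · exact le_sup_right.trans le_sup_left
    · exact le_sup_left.trans le_sup_left
    · exact le_sup_left.trans le_sup_right
  have hV' : ∀ X, (∀ u, adj x u → Zs G u ≤ X) → V ≤ X := fun X hX =>
    sup_le (sup_le (hX _ hy) (hX _ (h.symm hx))) (sup_le (hX _ h3) (hX _ (h.symm hx)))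
  have n4 : Gs G x ≤ N[V] := fun g hg => mem_N_of_le_cj (hV' _ fun u hu => by
    rw [le_cj_iff, ← Zs_smul]; exact hV _ (h.adj_smul hu (inv_mem hg)))
  have n5 : Gs G (f 0) ≤ N[V] := h.gen hx hsa hsx (inf_le_right.trans n4)
    (norm_sup (X := zpowers s) ((zpowers_le (G := G)).2 (n1 hs)) ((zpowers_le (G := G)).2 n3)
      (mem_zpowers s))
  have := h.faith hx V (hV' _ fun u hu => (hm.one (h.symm hu)).trans
    (le_inf (h.Q_le (h.symm hx)) (Qs_le_Gs _))) n5 n4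
  exact h.Z_ne_bot hx (eq_bot_of_le this (hV _ (h.symm hx)))

theorem Crit.caseII (h : Amal G adj) (hm : MinD G adj (n + 2)) (hf : Crit G adj (n + 2) f)
    (H : ∀ f, Crit G adj (n + 2) f → ∀ x, adj (f 0) x → x ≠ f 1 →
      ¬ Crit G adj (n + 2) (shift x f)) : False := by
  have hN : ∀ f, Crit G adj (n + 2) f → NN G adj (f 0) := fun f hf => by
    obtain ⟨x, hx, hne⟩ := h.exists_ne (hf.1 0 (by omega))
    exact hf.nine h hm hx hne (H f hf x hx hne)
  have N0 := hN f hf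
  have Nn : NN G adj (f n) :=
    (hN _ (hf.rev h hm)).move h (hf.1 (n + 1) (by omega)) (h.symm (hf.1 n (by omega)))
  obtain ⟨x, hx, hne⟩ := h.exists_ne (hf.1 0 (by omega))
  obtain ⟨y, hy, hy'⟩ := h.exists_ne (h.symm hx)
  obtain ⟨t, ht, ht'⟩ := (h.par (h.symm hx)).exists_T
  obtain ⟨hz, hz', hzy, -⟩ := h.third (h.symm hx) hy hy'.symm ht.1 ht.2 ht'
  have c := hf.cp h hm
  have c1 : CP G adj y x (shift x f n) (f n) :=
    (hf.caseII_A h hm hx hne N0 Nn hy hy').cp h hm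
  have c2 : CP G adj (t • y) x (shift x f n) (f n) :=
    (hf.caseII_A h hm hx hne N0 Nn hz hz').cp h hm
  have C1 : Gs G x ≤ C[Rs G y x] := by
    refine h.gen2 hy hz hzy.symm (by rw [inf_comm]; exact c1.R_cent h) ?_
    rw [c1.R_symm h, ← c2.R_symm h, inf_comm]; exact c2.R_cent h
  obtain ⟨s, hs, hsa, hsx⟩ := c.exists_moves h hx hne
  rcases n with _ | n
  · have all := fun {u w} => h.all2 (u := u) (w := w) hy (h.symm hx) hy' c1.nle
    obtain ⟨w, hw, hw1, hw2⟩ := exists_not_mem_two (all hy (h.symm hx) hy') (all hy hz hzy.symm)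
    obtain ⟨w', hw', hw1', hw2'⟩ := exists_not_mem_two (all hz (h.symm hx) hz') (all hz hy hzy)
    have c3 := h.cp2 hm (h.symm hy) (h.symm hz) (all hy hz hzy.symm)
    have u1 : w * w' ∈ Qs G (f 0) := (h.par hx).mul_memQ (c1.le1 hw) (c2.le1 hw') hw1 hw1'
    have u2 : w * w' ∈ Qs G x := mul_mem (hm.one (h.symm hy) hw) (hm.one (h.symm hz) hw')
    have u3 : w * w' ∈ Qs G (f 1) := N0 _ _ hx (hf.1 0 (by omega)) ⟨u1, u2⟩
    have v1 := c.conj_mem h ⟨h.Q_le (hf.1 1 (by omega)) u3, Qs_le_Gs _ u3⟩ hs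
    have i1 : w⁻¹ = w := inv_eq_of_mul_eq_one_right (OZ_sq hw)
    have i2 : w'⁻¹ = w' := inv_eq_of_mul_eq_one_right (OZ_sq hw')
    have e1 : ⁅w, w'⁆ = (w * w') * (w * w') := by
      simp only [commutatorElement_def, i1, i2]; group
    have r1 : ⁅w, w'⁆ ∈ Rs G y x := commutator_mem_commutator hw (c3.le2 hw')
    have e2 : s ∈ C{⁅w, w'⁆} := by
      rw [e1, mem_C1_iff_conj]
      generalize w * w' = u at u1 v1
      have a1 := OZ_sq v1
      have a2 := comm_of_cent (le_C_OZ _) u1 v1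
      generalize hv : s * u * s⁻¹ * u⁻¹ = v at a1 a2
      have a3 : s * u * s⁻¹ = v * u := by rw [← hv]; group
      calc s * (u * u) * s⁻¹ = (s * u * s⁻¹) * (s * u * s⁻¹) := by group
        _ = v * (u * v) * u := by rw [a3]; group
        _ = (v * v) * (u * u) := by rw [a2]; group
        _ = u * u := by rw [a1, one_mul]
    have C2 := C1.trans (C_le_C1 r1)
    have := h.eq_one hx (c1.le1 (Rs_le _ _ r1)) (h.gen hx hsa hsx (inf_le_right.trans C2) e2) C2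
    exact c3.not_comm h hw hw2 hw' hw2' (commutatorElement_eq_one_iff_mul_comm.1 this)
  · have e2 : s ∈ C[Rs G y x] := by
      rw [c1.R_symm h]
      exact C_anti (Rs_le _ _) (le_C_OZ _
        ((h.near hm hf.1 (i := n + 1) (j := n + 3) (by omega) le_rfl (by omega)).2 hs))
    exact c1.R_ne h (h.faith hx _ ((Rs_le _ _).trans ((hm.one (h.symm hy)).trans
      (le_inf (h.Q_le (h.symm hx)) (Qs_le_Gs _))))
      (norm_of_cent (h.gen hx hsa hsx (inf_le_right.trans C1) e2)) (norm_of_cent C1))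

theorem Amal.exists_crit (h : Amal G adj) (hab : adj a b) : ∃ n f, Crit G adj n f := by
  by_contra e
  push Not at e
  let S : Set Γ := {c | ∃ n f, Walk adj n f ∧ f n = c ∧ (f 0 = a ∨ f 0 = b)}
  have hS : ∀ g ∈ Gs G a ⊔ Gs G b, ∀ c ∈ S, g • c ∈ S := by
    have key : ∀ {a' b' : Γ}, adj a' b' → (a' = a ∨ a' = b) → ∀ g ∈ Gs G a', ∀ n f,
        Walk adj n f → (f 0 = a' ∨ f 0 = b') → g • f n ∈ S := by
      intro a' b' h' ha' g hg n f hf h0
      have w : Walk adj n fun i => g • f i := fun i hi => h.smul g (hf i hi)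
      rcases h0 with h0 | h0
      · exact ⟨n, _, w, rfl, by simpa [h0, mem_Gs.1 hg] using ha'⟩
      · refine ⟨n + 1, shift a' fun i => g • f i, ?_, rfl, ha'⟩
        rintro (_ | i) hi
        · simpa [h0] using h.adj_smul h' hg
        · exact w i (by omega)
    intro g hg
    rw [sup_eq_closure] at hg
    induction hg using closure_induction'' with
    | one => simp
    | mem g hg =>
      rintro _ ⟨n, f, hf, rfl, h0⟩
      rcases hg with hg | hg
      · exact key hab (Or.inl rfl) g hg n f hf h0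
      · exact key (h.symm hab) (Or.inr rfl) g hg n f hf h0.symm
    | inv_mem g hg =>
      rintro _ ⟨n, f, hf, rfl, h0⟩
      rcases hg with hg | hg
      · exact key hab (Or.inl rfl) _ (inv_mem (s := Gs G a) hg) n f hf h0
      · exact key (h.symm hab) (Or.inr rfl) _ (inv_mem (s := Gs G b) hg) n f hf h0.symm
    | mul g k _ _ h1 h2 => intro c hc; rw [mul_smul]; exact h1 _ (h2 _ hc)
  let U : Subgroup G := ⨅ c : S, Gs G (c : Γ)
  have hU : Gs G a ⊔ Gs G b ≤ N[U] := by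
    rw [le_N_iff]
    intro g hg x hx
    refine mem_iInf.2 fun c => ?_
    have := mem_iInf.1 hx ⟨g⁻¹ • (c : Γ), hS _ (inv_mem hg) _ c.2⟩
    rw [Gs_smul, mem_cj] at this
    simpa using this
  have h0 : ∀ c, c = a ∨ c = b → c ∈ S := fun c hc =>
    ⟨0, fun _ => c, fun i hi => absurd hi (by omega), rfl, hc⟩
  have := h.faith hab U (le_inf (iInf_le_of_le ⟨a, h0 a (Or.inl rfl)⟩ le_rfl)
    (iInf_le_of_le ⟨b, h0 b (Or.inr rfl)⟩ le_rfl)) (le_sup_left.trans hU) (le_sup_right.trans hU)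
  refine h.Z_ne_bot hab (eq_bot_of_le this (le_iInf ?_))
  rintro ⟨_, n, f, hf, rfl, h0 | h0⟩
  · have := e n f
    simp only [Crit, not_and, not_not] at this
    exact (h0 ▸ this hf).trans (Qs_le_Gs _)
  · have := e (n + 1) (shift a f)
    simp only [Crit, not_and, not_not] at this
    refine (this ?_).trans (Qs_le_Gs _)
    rintro (_ | i) hi
    · simpa [h0] using hab
    · exact hf i (by omega)

/-- the critical distance is one -/
theorem Amal.exists_edge (h : Amal G adj) (hab : adj a b) :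
    ∃ c d, adj c d ∧ ¬ Zs G c ≤ Qs G d := by
  classical
  have hex := h.exists_crit hab
  obtain ⟨f, hf⟩ := Nat.find_spec hex
  have hm : MinD G adj (Nat.find hex) := fun m hm f hf => by
    by_contra e
    exact Nat.find_min hex hm ⟨f, hf, e⟩
  generalize Nat.find hex = n at hf hm
  rcases n with _ | _ | n
  · exact absurd (OZ_le _) hf.2
  · exact ⟨_, _, hf.1 0 (by omega), hf.2⟩
  · refine (hf.caseII h hm fun f hf x hx hne hg => ?_).elim
    rcases n with _ | n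
    · exact hf.caseI_two h hm hx hne hg
    · exact hf.caseI_big h hm hx hg

end H11.ZN
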