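import Mathlib
import Cfsg.Agent.H11.Amalgam

/-!
# The amalgam theorem (Kurzweil–Stellmacher 10.3.11), structural form
-/

set_option autoImplicit false

namespace H11.ZN

open Subgroup Cfsg H24

universe u v

variable {G : Type u} [Group G] [Finite G] {T P₁ P₂ : Subgroup G}

/-- no nontrivial subgroup of `T` is normal in both `P₁` and `P₂` -/
def Free (T P₁ P₂ : Subgroup G) : Prop := ∀ U ≤ T, P₁ ≤ N[U] → P₂ ≤ N[U] → U = ⊥

omit [Finite G] in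
theorem Free.symm (h : Free T P₁ P₂) : Free T P₂ P₁ := fun U a b c => h U a c b

theorem Free.inf_eq (hF : Free T P₁ P₂) (h1 : Par T P₁) (h2 : Par T P₂) : P₁ ⊓ P₂ = T := by
  rcases h1.eq_or (le_inf h1.le h2.le) inf_le_left with e | e
  · exact e
  · have e1 : P₁ ≤ P₂ := e ▸ inf_le_right
    have e2 : P₁ = P₂ := by
      rcases h2.eq_or h1.le e1 with e' | e'
      · exact absurd e'.le h1.not_le
      · exact e'
    exact absurd (hF _ h1.Qle h1.normQ (e2 ▸ h1.normQ)) h1.Q_ne_bot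

theorem amal_of {Γ : Type v} [MulAction G Γ] (h1 : Par T P₁) (h2 : Par T P₂) (hF : Free T P₁ P₂)
    {α β : Γ} (hα : Gs G α = P₁) (hβ : Gs G β = P₂) (hne : ∀ g : G, g • α ≠ β) :
    Amal G fun a b : Γ => ∃ g : G, (a = g • α ∧ b = g • β) ∨ (a = g • β ∧ b = g • α) where
  symm := fun ⟨g, h⟩ => ⟨g, h.symm.imp And.symm And.symm⟩
  smul := by
    rintro k a b ⟨g, ⟨rfl, rfl⟩ | ⟨rfl, rfl⟩⟩
    · exact ⟨k * g, Or.inl ⟨(mul_smul _ _ _).symm, (mul_smul _ _ _).symm⟩⟩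
    · exact ⟨k * g, Or.inr ⟨(mul_smul _ _ _).symm, (mul_smul _ _ _).symm⟩⟩
  par := by
    rintro a b ⟨g, ⟨rfl, rfl⟩ | ⟨rfl, rfl⟩⟩
    · rw [Gs_smul, Gs_smul, hα, hβ, ← cj_inf, hF.inf_eq h1 h2]; exact h1.cj g
    · rw [Gs_smul, Gs_smul, hα, hβ, ← cj_inf, hF.symm.inf_eq h2 h1]; exact h2.cj g
  trans := by
    rintro a b c ⟨g, ⟨rfl, rfl⟩ | ⟨rfl, rfl⟩⟩ ⟨k, ⟨e, rfl⟩ | ⟨e, rfl⟩⟩
    · exact ⟨k * g⁻¹, by rw [mem_Gs, mul_smul, inv_smul_smul, e], by rw [mul_smul, inv_smul_smul]⟩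
    · exact absurd (by rw [mul_smul, e, inv_smul_smul]) (hne (k⁻¹ * g))
    · exact absurd (by rw [mul_smul, ← e, inv_smul_smul]) (hne (g⁻¹ * k))
    · exact ⟨k * g⁻¹, by rw [mem_Gs, mul_smul, inv_smul_smul, e], by rw [mul_smul, inv_smul_smul]⟩
  faith := by
    have key : ∀ {T P₁ P₂ : Subgroup G}, Free T P₁ P₂ → P₁ ⊓ P₂ = T → ∀ (g : G) (U : Subgroup G),
        U ≤ cj g P₁ ⊓ cj g P₂ → cj g P₁ ≤ N[U] → cj g P₂ ≤ N[U] → U = ⊥ := by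
      intro T P₁ P₂ hF e g U a b c
      rw [← cj_inf, e, le_cj_iff] at a
      rw [cj_le_iff, cj_N] at b c
      exact cj_eq_bot.1 (hF _ a b c)
    rintro a b ⟨g, ⟨rfl, rfl⟩ | ⟨rfl, rfl⟩⟩
    · rw [Gs_smul, Gs_smul, hα, hβ]; exact key hF (hF.inf_eq h1 h2) g
    · rw [Gs_smul, Gs_smul, hα, hβ]; exact key hF.symm (hF.symm.inf_eq h2 h1) g

theorem not_le_symm (h1 : Par T P₁) (h2 : Par T P₂) (h : ¬ OZ (Q2 P₁) ≤ Q2 P₂) :
    ¬ OZ (Q2 P₂) ≤ Q2 P₁ := fun e =>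
  h fun _ hx => h2.mem_Q_of_cent (h2.le (h1.Qle (OZ_le _ hx))) (cents_symm (e.trans (le_C_OZ _)) hx)

theorem amalgam_edge (h1 : Par T P₁) (h2 : Par T P₂) (hF : Free T P₁ P₂) :
    ¬ OZ (Q2 P₁) ≤ Q2 P₂ := by
  let α : (G ⧸ P₁) ⊕ (G ⧸ P₂) := Sum.inl ((1 : G) : G ⧸ P₁)
  let β : (G ⧸ P₁) ⊕ (G ⧸ P₂) := Sum.inr ((1 : G) : G ⧸ P₂)
  have hα : Gs G α = P₁ := by
    refine Eq.trans ?_ (MulAction.stabilizer_quotient P₁)
    ext g
    rw [mem_Gs, MulAction.mem_stabilizer_iff]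
    simp only [α, Sum.smul_inl, Sum.inl.injEq]
  have hβ : Gs G β = P₂ := by
    refine Eq.trans ?_ (MulAction.stabilizer_quotient P₂)
    ext g
    rw [mem_Gs, MulAction.mem_stabilizer_iff]
    simp only [β, Sum.smul_inr, Sum.inr.injEq]
  have h := amal_of h1 h2 hF hα hβ fun g => by simp [α, β]
  obtain ⟨c, d, ⟨g, ⟨rfl, rfl⟩ | ⟨rfl, rfl⟩⟩, hn⟩ :=
    h.exists_edge (a := α) (b := β) ⟨1, Or.inl ⟨(one_smul _ _).symm, (one_smul _ _).symm⟩⟩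
  · rw [Zs_smul, Qs_smul, cj_le_cj] at hn
    unfold Zs Qs at hn
    rwa [hα, hβ] at hn
  · rw [Zs_smul, Qs_smul, cj_le_cj] at hn
    unfold Zs Qs at hn
    rw [hα, hβ] at hn
    exact not_le_symm h2 h1 hn

theorem sq_mem_image (h2 : Par T P₂) (h1 : Par T P₁) (h : ¬ OZ (Q2 P₁) ≤ Q2 P₂) {x : G}
    (hx : x ∈ Q2 P₁) : ∃ y ∈ Q2 P₂, x * x = y * y := by
  obtain ⟨z, hz, hz'⟩ := SetLike.not_le_iff_exists.1 h
  rcases h2.decomp (h1.Qle (OZ_le _ hz)) hz' (h1.Qle hx) with e | e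
  · exact ⟨x, e, rfl⟩
  · refine ⟨_, e, ?_⟩
    have a1 := comm_of_cent (le_C_OZ _) hx (inv_mem hz)
    have a2 := OZ_sq (inv_mem hz)
    calc x * x = (z⁻¹ * z⁻¹) * (x * x) := by rw [a2, one_mul]
      _ = z⁻¹ * (z⁻¹ * x) * x := by group
      _ = z⁻¹ * (x * z⁻¹) * x := by rw [a1]
      _ = z⁻¹ * x * (z⁻¹ * x) := by group

theorem amalgam_ea (h1 : Par T P₁) (h2 : Par T P₂) (hF : Free T P₁ P₂) :
    IsElementaryAbelian 2 (Q2 P₁) := by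
  have e1 := amalgam_edge h1 h2 hF
  have e2 := amalgam_edge h2 h1 hF.symm
  have hn : ∀ {P : Subgroup G}, Par T P → P ≤ N[closure {y | ∃ x ∈ Q2 P, y = x * x}] :=
    fun hP => norm_closure (by
      rintro g hg _ ⟨x, hx, rfl⟩
      exact subset_closure ⟨_, conj_mem (hP.normQ hg) hx, by group⟩)
  have e : {y | ∃ x ∈ Q2 P₁, y = x * x} = {y | ∃ x ∈ Q2 P₂, y = x * x} := by
    ext y
    constructor
    · rintro ⟨x, hx, rfl⟩; exact sq_mem_image h2 h1 e1 hx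
    · rintro ⟨x, hx, rfl⟩; exact sq_mem_image h1 h2 e2 hx
  have h0 := hF _ ((closure_le _).2 (by
    rintro _ ⟨x, hx, rfl⟩; exact h1.Qle (mul_mem hx hx))) (hn h1) (e ▸ hn h2)
  have hsq : ∀ x ∈ Q2 P₁, x * x = 1 := fun x hx =>
    mem_bot.1 (h0 ▸ subset_closure ⟨x, hx, rfl⟩)
  refine H12.isEA_iff.2 ⟨fun x hx y hy => ?_, fun x hx => by rw [sq, hsq x hx]⟩
  calc x * y = (y * y) * (x * y) * (x * x) := by rw [hsq y hy, hsq x hx]; group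
    _ = y * (y * x * (y * x)) * x := by group
    _ = y * x := by rw [hsq _ (mul_mem hy hx)]; group

end H11.ZN
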