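import Mathlib
import Cfsg.Agent.H9.MB5
import Cfsg.Agent.H19.B0

/-!
# A system of nodes in `M` gives a homomorphism from the centraliser of two nodes
-/

set_option autoImplicit false
set_option linter.all false
set_option maxRecDepth 100000

namespace H10.Mon.MG.MB

open Cfsg H9 H29 Cfsg.Spor H10.YW H10.Mon.T H29.YB
open H10.Mon.Y hiding Nd lb

theorem u_std : ∃ s w, AA w ∧ qM s w = xm .f1 := by
  obtain ⟨e, he⟩ := TH.a01
  exact ⟨1 + TH.sN .f1, (TH.dN .f1).1, ⟨(TH.dN .f1).2, by rw [add_comm, he]; exact e.2⟩,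
    Subtype.ext (TH.xB_tv (.inl rfl)).symm⟩

noncomputable def xc (c : ℕ) : Subgroup.centralizer {tM tau} :=
  ⟨xm (bN (TB.gN c)), Subgroup.mem_centralizer_singleton_iff.2 (xb_cm _)⟩

theorem ev_xc (w : List ℕ) : (ev xc w).1.1 = (ev TB.xh w).1 := by
  induction w with
  | nil => rfl
  | cons c w ih => rw [ev_cons, ev_cons, Subgroup.coe_mul, Subgroup.coe_mul, Subgroup.coe_mul, ih]; rfl

theorem xc_sq (c : ℕ) : xc c * xc c = 1 := Subtype.ext (xsq (bne _))

theorem k2_xc {w : List ℕ} (hw : ∀ c ∈ w, c ∈ L3) : K2 (tM tau) (xm .f1) (ev xc w).1 := by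
  induction w with
  | nil => exact K2.one
  | cons c w ih =>
    rw [List.forall_mem_cons] at hw
    exact K2.mul (mem_XX.1 (n_XX ((show ∀ c ∈ L3, bN (TB.gN c) ∈ N333 by decide) c hw.1))) (ih hw.2)

theorem k2_word (hB : IsB BabyMonster) {a : MM tau} (h : K2 (tM tau) (xm .f1) a) :
    ∃ w : List ℕ, (∀ c ∈ w, c ∈ L3) ∧ (ev xc w).1 = a := by
  obtain ⟨-, -, -, h1⟩ := TB.main hB
  have ha : a.1 ∈ HH tau := by
    have := Subgroup.mem_centralizer_singleton_iff.2 h.1
    rwa [cent_tM] at this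
  obtain ⟨w, hw, e⟩ := exists_word (e := TB.xh) (iv := ivOf []) (iv_of_sq fun c =>
    Subtype.ext (congrArg (fun z => z.1.1) (xc_sq c))) (by decide)
    (h1 ⟨a.1, ha⟩ (mul_inv_eq_iff_eq_mul.2 (congrArg Subtype.val h.2)))
  exact ⟨w, hw, Subtype.ext ((ev_xc w).trans (congrArg Subtype.val e))⟩

theorem f1_xc : (ev xc [6, 5, 0, 1, 2, 3, 8] ^ 9).1 = xm .f1 := Subtype.ext (by
  rw [Subgroup.coe_pow, Subgroup.coe_pow, ev_xc]; exact TB.w_f)

theorem ident0 (hB : IsB BabyMonster) {N : Type*} [Group N] (m : ℕ → N) (hg : gen m L3 = ⊤)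
    (h1 : Tr PY.e m L3) (h2 : Tr m PY.e L3) : ∃ ι : MM tau → N,
    (∀ {a b}, K2 (tM tau) (xm .f1) a → K2 (tM tau) (xm .f1) b → ι (a * b) = ι a * ι b) ∧
    (∀ {a}, K2 (tM tau) (xm .f1) a → (ι a = 1 ↔ a = 1 ∨ a = tM tau)) ∧
    (∀ w : List ℕ, (∀ c ∈ w, c ∈ L3) → ι (ev xc w).1 = ev m w) ∧
    ∀ g, ∃ a, K2 (tM tau) (xm .f1) a ∧ ι a = g := by
  classical
  obtain ⟨φ, c1, c2⟩ := exists_phi hB
  have φw : ∀ w : List ℕ, (∀ c ∈ w, c ∈ L3) → φ (ev xc w) = ev PY.e w := fun w hw => by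
    rw [map_ev]
    refine ev_congr fun c hc => ?_
    have : c < 11 := (show ∀ c ∈ L3, c < 11 by decide) c (hw c hc)
    interval_cases c <;> exact c2 _ _
  let m' : ℕ → N := fun c => if c ∈ L3 then m c else 1
  have em : ∀ w : List ℕ, (∀ c ∈ w, c ∈ L3) → ev m' w = ev m w := fun w hw =>
    ev_congr fun c hc => if_pos (hw c hc)
  have sq : ∀ c, m' c * m' c = 1 := fun c => by
    by_cases k : c ∈ L3
    · have := h1 [c, c] (by simpa using k) (by simpa using PY_yr.sq c)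
      simpa [m', k] using this
    · simp [m', k]
  have iv : IvOK m' (ivOf []) := fun c => eq_inv_of_mul_eq_one_left (sq c)
  obtain ⟨f, hf⟩ := Tr.exists_hom (e := PY.e) (e' := m') (L := L3) (iv := ivOf [])
    (fun w hw e => (em w hw).trans (h1 w hw e)) (iv_of_sq PY_yr.sq) iv (by decide)
  choose! W W1 W2 using fun a (h : K2 (tM tau) (xm .f1) a) => k2_word hB h
  have key : ∀ w : List ℕ, (∀ c ∈ w, c ∈ L3) → ev m (W (ev xc w).1) = ev m w := fun w hw => by
    rw [← em _ hw, ← em _ (W1 _ (k2_xc hw)), ← hf _ hw, ← hf _ (W1 _ (k2_xc hw))]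
    exact congrArg f (Subtype.ext ((φw _ (W1 _ (k2_xc hw))).symm.trans
      ((congrArg φ (Subtype.ext (W2 _ (k2_xc hw)))).trans (φw w hw))))
  refine ⟨fun a => ev m (W a), fun {a b} ha hb => ?_, fun {a} ha => ?_, key, fun g => ?_⟩
  · have := key (W a ++ W b) fun c hc => (List.mem_append.1 hc).elim (W1 a ha c) (W1 b hb c)
    rwa [ev_append, ev_append, Subgroup.coe_mul, W2 a ha, W2 b hb] at this
  · have := c1.ker (ev xc (W a))
    rw [W2 a ha, φw _ (W1 a ha)] at this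
    exact ⟨fun e => this.1 (h2 _ (W1 a ha) e), fun e => h1 _ (W1 a ha) (this.2 e)⟩
  · obtain ⟨w, hw, e⟩ := exists_word (e := m') (l := L3) iv (by decide) (g := g) (by
      rw [gen_congr (e' := m) fun c hc => if_pos hc, hg]; trivial)
    exact ⟨_, k2_xc hw, (key w hw).trans ((em w hw).symm.trans e)⟩

theorem ident1 (hB : IsB BabyMonster) {G : Type*} [Group G] {t : G}
    {M : Subgroup (Subgroup.centralizer ({t} : Set G))} (hM : M.index = 2)
    (hout : Subgroup.centralizer (M : Set (Subgroup.centralizer ({t} : Set G))) ≤ M)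
    (m : ℕ → M) (hg : gen m L3 = ⊤) (h1 : Tr PY.e m L3) (h2 : Tr m PY.e L3)
    (ht : (ev m [6, 5, 0, 1, 2, 3, 8] ^ 9).1.1 = t) :
    ∃ ι : MM tau → G, Em2 (tM tau) (xm .f1) t ι := by
  obtain ⟨ι, a1, a2, a3, a4⟩ := ident0 hB m hg h1 h2
  have im : ∀ g : Subgroup.centralizer ({t} : Set G), g ∈ M →
      Im2 (tM tau) (xm .f1) (fun a => (ι a).1.1) g.1 := fun g hg =>
    (a4 ⟨g, hg⟩).imp fun a h => ⟨h.1, congrArg (fun z : M => z.1.1) h.2⟩
  have mc := fun g => (Subgroup.mem_centralizer_singleton_iff (g := t) (k := g)).2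
  refine ⟨fun a => (ι a).1.1, fun ha hb => congrArg (fun z : M => z.1.1) (a1 ha hb), fun ha => ?_, ?_,
    fun g h hg hh => ?_, fun g hg k => im ⟨g, mc g hg⟩ (hout fun z hz => ?_)⟩
  · rw [← a2 ha]
    exact ⟨fun e => Subtype.ext (Subtype.ext e), fun e => congrArg (fun z : M => z.1.1) e⟩
  · refine Eq.trans ?_ ht
    rw [← f1_xc, ← ev_powW, ← ev_powW]
    exact congrArg (fun z : M => z.1.1) (a3 _ (by decide +kernel))
  · have := Subgroup.mul_mem_iff_of_index_two hM (a := ⟨g, mc g hg⟩) (b := ⟨h, mc h hh⟩)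
    by_cases k1 : (⟨g, mc g hg⟩ : Subgroup.centralizer ({t} : Set G)) ∈ M
    · exact .inl (im _ k1)
    by_cases k2 : (⟨h, mc h hh⟩ : Subgroup.centralizer ({t} : Set G)) ∈ M
    · exact .inr (.inl (im _ k2))
    exact .inr (.inr (im _ (this.2 (iff_of_false k1 k2))))
  · obtain ⟨a, b1, b2⟩ := a4 ⟨z, hz⟩
    have := k a b1
    rw [b2] at this
    exact Subtype.ext this.symm

/-- The data of a nonsplit double cover. -/
theorem cover_data {G E : Type*} [Group G] [Group E] {t : G} (ht : orderOf t = 2)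
    {M : Subgroup (Subgroup.centralizer ({t} : Set G))}
    (hout : Subgroup.centralizer (M : Set (Subgroup.centralizer ({t} : Set G))) ≤ M)
    (hcov : IsNonsplitDoubleCover M E) : ∃ (p : M →* E) (z : M), z.1.1 = t ∧
      (∀ x, x * z = z * x) ∧ z * z = 1 ∧ z ≠ 1 ∧ (∀ x, p x = 1 ↔ x = 1 ∨ x = z) ∧
      Function.Surjective p ∧ Subgroup.center M = Subgroup.zpowers z ∧
      (∀ L : Subgroup M, (∀ g, g ∈ L ∨ g * z ∈ L) → z ∈ L) := by
  obtain ⟨h1, ⟨e⟩, h3⟩ := hcov
  have c0 : ∀ g : Subgroup.centralizer ({t} : Set G),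
      g * ⟨t, Subgroup.mem_centralizer_singleton_iff.2 rfl⟩ =
        ⟨t, Subgroup.mem_centralizer_singleton_iff.2 rfl⟩ * g := fun g =>
    Subtype.ext (Subgroup.mem_centralizer_singleton_iff.1 g.2)
  let z : M := ⟨_, hout fun g _ => c0 g⟩
  have c : ∀ x, x * z = z * x := fun x => Subtype.ext (c0 x.1)
  have z1 : z ≠ 1 := fun k => by
    rw [show t = 1 from congrArg (fun z : M => z.1.1) k, orderOf_one] at ht; cases ht
  have zz : z * z = 1 := Subtype.ext (Subtype.ext (by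
    change t * t = 1
    rw [← pow_two, ← ht, pow_orderOf_eq_one]))
  have zc : z ∈ Subgroup.center M := Subgroup.mem_center_iff.2 c
  obtain ⟨u, -, u2⟩ := (Nat.card_eq_two_iff' (1 : Subgroup.center M)).1 h1
  have mem : ∀ {g}, g ∈ Subgroup.center M ↔ g = 1 ∨ g = z := fun {g} => ⟨fun hg => by
    by_cases k : g = 1
    · exact .inl k
    · exact .inr (congrArg Subtype.val ((u2 ⟨g, hg⟩ fun e => k (congrArg Subtype.val e)).trans
        (u2 ⟨z, zc⟩ fun e => z1 (congrArg Subtype.val e)).symm)),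
    by rintro (rfl | rfl); exacts [one_mem _, zc]⟩
  refine ⟨e.toMonoidHom.comp (QuotientGroup.mk' _), z, rfl, c, zz, z1, fun g => ?_,
    e.surjective.comp (QuotientGroup.mk'_surjective _), le_antisymm (fun g hg => ?_)
    (Subgroup.zpowers_le.2 zc), fun L hL => by_contra fun k => h3 L ?_⟩
  · change e (QuotientGroup.mk g) = 1 ↔ _
    rw [map_eq_one_iff _ e.injective, QuotientGroup.eq_one_iff, mem]
  · rcases mem.1 hg with rfl | rfl
    exacts [one_mem _, Subgroup.mem_zpowers _]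
  · refine Subgroup.isComplement'_of_disjoint_and_mul_eq_univ
      (Subgroup.disjoint_def.2 fun a b => (mem.1 a).resolve_right fun e => k (e ▸ b))
      (Set.eq_univ_of_forall fun g => ?_)
    rcases hL g with a | a
    · exact ⟨1, one_mem _, g, a, one_mul _⟩
    · exact ⟨z, zc, _, a, by change z * (g * z) = g; rw [c, ← mul_assoc, zz, one_mul]⟩

end H10.Mon.MG.MB
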