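import Mathlib
import Cfsg.Agent.H11.BI1
import Cfsg.Agent.H6.BB17

/-!
# The centraliser of the centraliser of four nodes
-/

set_option autoImplicit false
set_option linter.all false
set_option maxRecDepth 100000

namespace H10.Mon.MG

/-- `a` is trivial or `g`. -/
def Op {M : Type*} [Group M] (g a : M) : Prop := a = 1 ∨ a = g

theorem perp_step {P : C → Prop} (add : ∀ a b, P a → P b → P (a + b)) {c e : C}
    (h : ∀ a, P a → pl a e = 0 → pl a c = 0) :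
    ∃ d, (d = 0 ∨ d = e) ∧ ∀ a, P a → pl a (c + d) = 0 := by
  by_cases h1 : ∀ a, P a → pl a c = 0
  · exact ⟨0, .inl rfl, by simpa using h1⟩
  push Not at h1
  obtain ⟨u, u1, u2⟩ := h1
  have u3 : pl u e = 1 := (z2 _).resolve_left fun e => u2 (h u u1 e)
  have u4 : pl u c = 1 := (z2 _).resolve_left u2
  refine ⟨e, .inr rfl, fun a ha => ?_⟩
  rw [pl_add]
  rcases z2 (pl a e) with k | k
  · rw [h a ha k, k, add_zero]
  · have := h (a + u) (add _ _ ha u1) (by rw [pl_add', k, u3]; rfl)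
    rwa [pl_add', u4, ← k] at this

theorem perp4 {c d e f g : C}
    (h : ∀ a, pl a d = 0 → pl a e = 0 → pl a f = 0 → pl a g = 0 → pl a c = 0) :
    ∃ d' e' f' g', (d' = 0 ∨ d' = d) ∧ (e' = 0 ∨ e' = e) ∧ (f' = 0 ∨ f' = f) ∧ (g' = 0 ∨ g' = g) ∧
      c = d' + e' + f' + g' := by
  have ad : ∀ {a b v}, pl a v = 0 → pl b v = 0 → pl (a + b) v = 0 := fun a b => by
    rw [pl_add', a, b, add_zero]
  obtain ⟨g', g1, g2⟩ := perp_step (P := fun a => pl a d = 0 ∧ pl a e = 0 ∧ pl a f = 0)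
    (fun a b k l => ⟨ad k.1 l.1, ad k.2.1 l.2.1, ad k.2.2 l.2.2⟩) fun a k => h a k.1 k.2.1 k.2.2
  obtain ⟨f', f1, f2⟩ := perp_step (P := fun a => pl a d = 0 ∧ pl a e = 0)
    (fun a b k l => ⟨ad k.1 l.1, ad k.2 l.2⟩) fun a k l => g2 a ⟨k.1, k.2, l⟩
  obtain ⟨e', e1, e2⟩ := perp_step (P := fun a => pl a d = 0) (fun a b => ad) fun a k l => f2 a ⟨k, l⟩
  refine ⟨c + g' + f' + e', e', f', g', perp1 e2, e1, f1, g1, ?_⟩
  rw [add_assoc _ e' e', cc2, add_zero, add_assoc _ f' f', cc2, add_zero, add_assoc, cc2, add_zero]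

variable {M : Type*} [Group M] {x y : M} {p : ZMod 2 → C → M} {eO eD s0 : G0}

theorem One.ex_y (H : One x y p) {n : M} (h : Ex x (n * y * n⁻¹) y) : n * y = y * n :=
  mul_inv_eq_iff_eq_mul.1 (h.resolve_right fun e => H.nc (H.A_yx.trans (cj_of e).symm))

theorem One.cen4 (H : One x y p) (L : LF eO eD s0) {e f g : C} (e0 : pl e c0.1 = 0)
    (f0 : pl f c0.1 = 0) (g0 : pl g c0.1 = 0) (ef : pl e f = 0) (eg : pl e g = 0) (fg : pl f g = 0)
    {n : M} (hx : n * x = x * n) (h : ∀ t c, pl c c0.1 = 0 → pl c e = 0 → pl c f = 0 → pl c g = 0 →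
      Ex x (n * p t c * n⁻¹) (p t c)) :
    ∃ t d' e' f' g', (d' = 0 ∨ d' = c0.1) ∧ (e' = 0 ∨ e' = e) ∧ (f' = 0 ∨ f' = f) ∧
      (g' = 0 ∨ g' = g) ∧ n = p t (d' + e' + f' + g') := by
  have z := pl_zero'
  obtain ⟨k, hk⟩ := H.s.up n (H.ex_y (H.s.one ▸ h 1 0 (z _) (z _) (z _) (z _)))
  have k0 := (H.rel_fix hk hx).1
  let W := PerpC (PerpC (PerpC (PerpC ⊤ c0.1) e) f) g
  have ec : ∀ c ∈ W, Ec (co k • c) c := fun c hc => by
    have := h 0 c hc.1.1.1.2 hc.1.1.2 hc.1.2 hc.2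
    rw [hk, Ex, ← H.hx, H.s.mul] at this
    exact this.imp (fun a => (H.s.inj a).2) fun a => (H.s.inj a).2
  have sq : ∀ c ∈ W, (co k * co k) • c = c := fun c hc => by
    rw [mul_smul]
    rcases ec c hc with a | a <;> rw [a]
    exacts [a, by rw [smul_add, a, k0, add_cc]]
  have mW : ∀ {c}, pl c c0.1 = 0 → pl c e = 0 → pl c f = 0 → pl c g = 0 → c ∈ W := fun a b c d =>
    ⟨⟨⟨⟨trivial, a⟩, b⟩, c⟩, d⟩
  have pW : ∀ c, (∀ a ∈ W, pl a c = 0) → c ∈ W := fun c hc => by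
    obtain ⟨d', e', f', g', a1, a2, a3, a4, rfl⟩ := perp4 fun a b1 b2 b3 b4 => hc a (mW b1 b2 b3 b4)
    have s := fun {a b} (h : pl a b = 0) => (pl_comm b a).trans h
    refine add_mem (add_mem (add_mem ?_ ?_) ?_) ?_
    · rcases a1 with rfl | rfl
      exacts [zero_mem _, mW (pl_self _) (s e0) (s f0) (s g0)]
    · rcases a2 with rfl | rfl
      exacts [zero_mem _, mW e0 (pl_self _) ef eg]
    · rcases a3 with rfl | rfl
      exacts [zero_mem _, mW f0 (s ef) (pl_self _) fg]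
    · rcases a4 with rfl | rfl
      exacts [zero_mem _, mW g0 (s eg) (s fg) (pl_self _)]
  have ac : Ac (co k) 1 := by
    refine fix18 L 2 (fun c => ?_) ?_
    · have := sq _ (pW ((co k * co k) • c + c) fun a ha => by
        rw [pl_add, ← pl_smul (co k * co k) a c, sq a ha, zz2])
      rw [smul_add, add_comm _ c] at this
      rw [show co k ^ 2 ^ 2 = co k * co k * (co k * co k) by simp [pow_succ, mul_assoc], mul_smul, one_smul]
      exact add_right_cancel this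
    · have h1 := card_perp ⊤ c0.1
      have h2 := card_perp (PerpC ⊤ c0.1) e
      have h3 := card_perp (PerpC (PerpC ⊤ c0.1) e) f
      have h4 := card_perp (PerpC (PerpC (PerpC ⊤ c0.1) e) f) g
      have h5 := card_le_two (W := FixC (co k)) (U := W) fun a ha b hb => by
        rcases ec a ha with a1 | a1
        · exact .inl a1
        rcases ec b hb with b1 | b1
        · exact .inr (.inl b1)
        · refine .inr (.inr ?_)
          change co k • (a + b) = a + b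
          rw [smul_add, a1, b1, add_add_add_comm, cc2, add_zero]
      rw [AddSubgroup.card_top, card_C] at h1
      change _ ≤ 2 * Nat.card W at h4
      omega
  obtain ⟨s, c, rfl⟩ := H.s.inQ hk ac
  obtain ⟨d', e', f', g', a1, a2, a3, a4, a5⟩ := perp4 (c := c) fun a b1 b2 b3 b4 => by
    have := h 0 a b1 b2 b3 b4
    rw [H.s.cj, Ex, ← H.hx, H.s.mul, zero_add] at this
    rcases this with a | a
    · exact (pl_comm _ _).trans (H.s.inj a).1
    · exact absurd (left_eq_add.1 (H.s.inj a).2) (isS_ne isS_c0)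
  exact ⟨s, d', e', f', g', a1, a2, a3, a4, a5 ▸ rfl⟩

theorem Sit.op (H : Sit y p) {s : ZMod 2} {e e' : C} (h : e' = 0 ∨ e' = e) :
    ∃ r, Op (p s e) (p r e') := by
  rcases h with rfl | rfl
  exacts [⟨0, .inl H.zero⟩, ⟨s, .inr rfl⟩]

theorem Op.cm {g a b : M} (h : Op g a) (e : b * g = g * b) : b * a = a * b := by
  rcases h with rfl | rfl
  exacts [by simp, e]

theorem One.cy (H : One x y p) (L : LF eO eD s0) {r1 r2 r3 : ZMod 2} {w1 w2 w3 : C} {u d e g n : M}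
    (e1 : u = p r1 w1) (e2 : d = p r2 w2) (e3 : e = p r3 w3) (ux : u * x = x * u) (kd : K2 x u d)
    (ke : K2 x u e) (de : d * e = e * d) (kg : K2 x u g) (gd : g * d = d * g) (ge : g * e = e * g)
    (gy : g * y ≠ y * g) (hx : n * x = x * n)
    (h : ∀ a, K2 x u a → a * d = d * a → a * e = e * a → Ex x (n * a * n⁻¹) a) :
    ∃ a b c f, Op x a ∧ Op u b ∧ Op d c ∧ Op e f ∧ n = a * b * c * f := by
  subst e1 e2 e3
  obtain ⟨t, d', e', f', g', a1, a2, a3, a4, a5⟩ := H.cen4 L (H.cm_x.1 ux) (H.cm_x.1 kd.1)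
    (H.cm_x.1 ke.1) (H.s.cm_iff.1 kd.2.symm) (H.s.cm_iff.1 ke.2.symm) (H.s.cm_iff.1 de) hx
    fun t c b0 b1 b2 b3 => h _ ⟨H.cm_x.2 b0, H.s.cm_iff.2 b1⟩ (H.s.cm_iff.2 b2) (H.s.cm_iff.2 b3)
  obtain ⟨s0, b0⟩ := H.s.op (s := 0) a1
  obtain ⟨s1, b1⟩ := H.s.op (s := r1) a2
  obtain ⟨s2, b2⟩ := H.s.op (s := r2) a3
  obtain ⟨s3, b3⟩ := H.s.op (s := r3) a4
  rw [H.hx] at b0
  refine ⟨_, _, _, _, b0, b1, b2, b3, ?_⟩
  obtain ⟨s, hs⟩ : ∃ s, p s0 d' * p s1 e' * p s2 f' * p s3 g' = p s (d' + e' + f' + g') := by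
    rw [H.s.mul, H.s.mul, H.s.mul]; exact ⟨_, rfl⟩
  rcases (show ∀ s t : ZMod 2, t = s ∨ t = s + 1 by decide) s t with e | e
  · rw [hs, a5, e]
  exfalso
  rw [e, ← H.s.mul_y, ← hs] at a5
  have am := cm_mul (cm_mul (cm_mul (b0.cm kg.1).symm (b1.cm kg.2).symm) (b2.cm gd).symm)
    (b3.cm ge).symm
  have my : _ * y = y * _ := hs ▸ H.s.cm _ _
  have := h _ kg gd ge
  generalize p s0 d' * p s1 e' * p s2 f' * p s3 g' = m at *
  rw [a5, my, show y * m * g * (y * m)⁻¹ = y * (m * g * m⁻¹) * y⁻¹ by group, am,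
    mul_inv_cancel_right] at this
  rcases this with k | k
  · exact gy (mul_inv_eq_iff_eq_mul.1 k).symm
  · refine H.nc (H.A_yx.trans (cj_of (a := g) ?_))
    rw [H.yx, ← mul_assoc, ← k]; group

namespace MB

open Cfsg H9 H29 Cfsg.Spor H10.YW H10.Mon.T H29.YB
open H10.Mon.Y hiding Nd lb

theorem pt_Q {n : Nd} (h : isL n = false) : ∃ r d, xm n = qM r d := by
  obtain ⟨s, e⟩ := point h
  exact e ▸ pL_Q _ _ _

theorem k2n {n : Nd} (h : n ∈ N333 := by decide) : K2 (tM tau) (xm .f1) (xm n) := mem_XX.1 (n_XX h)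
theorem f1x : xm .f1 * tM tau = tM tau * xm .f1 := xm_f2 ▸ xcm (by decide) (by decide) (.inl rfl)

/-- An element that centralises `C(x, f1, d2, d3)` modulo `x` lies in `⟨x, f1, d2, d3⟩`. -/
theorem CY {n : MM tau} (hx : n * tM tau = tM tau * n)
    (h : ∀ a, K2 (tM tau) (xm .f1) a → a * xm .d2 = xm .d2 * a → a * xm .d3 = xm .d3 * a →
      Ex (tM tau) (n * a * n⁻¹) a) :
    ∃ a b c d, Op (tM tau) a ∧ Op (xm .f1) b ∧ Op (xm .d2) c ∧ Op (xm .d3) d ∧ n = a * b * c * d := by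
  have H : One (tM tau) (zM tau) qM := twoM.choose_spec.one
  obtain ⟨_, _, _, L⟩ := exists_LF
  obtain ⟨r1, w1, e1⟩ := pt_Q (n := .f1) (by decide +kernel)
  obtain ⟨r2, w2, e2⟩ := pt_Q (n := .d2) (by decide +kernel)
  obtain ⟨r3, w3, e3⟩ := pt_Q (n := .d3) (by decide +kernel)
  refine H.cy L e1 e2 e3 f1x k2n k2n (xcm (by decide) (by decide) (.inl rfl)) (k2n (n := .a))
    (xcm (by decide) (by decide) (.inl rfl)) (xcm (by decide) (by decide) (.inl rfl)) (fun k => ?_) hx h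
  obtain ⟨h1, h2, -⟩ := a_y
  exact h2 (left_eq_mul.1 ((mul_inv_eq_iff_eq_mul.2 k).symm.trans h1))

/-- The form for the nodes. -/
theorem CY1 {n : MM tau} (hx : n * tM tau = tM tau * n)
    (h : ∀ a, K2 (tM tau) (xm .f1) a → a * xm .d2 = xm .d2 * a → a * xm .d3 = xm .d3 * a →
      Ex (tM tau) (n * a * n⁻¹) a) {e : MM tau} (e0 : e * tM tau = tM tau * e)
    (e2 : e * xm .d2 = xm .d2 * e) (e3 : e * xm .d3 = xm .d3 * e) :
    n * e * n⁻¹ = e ∨ n * e * n⁻¹ = xm .f1 * e * (xm .f1)⁻¹ := by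
  obtain ⟨a, b, c, d, a1, b1, c1, d1, rfl⟩ := CY hx h
  have : a * b * c * d * e * (a * b * c * d)⁻¹ = a * (b * (c * (d * e * d⁻¹) * c⁻¹) * b⁻¹) * a⁻¹ := by
    group
  rw [this, ← d1.cm e3, mul_inv_cancel_right, ← c1.cm e2, mul_inv_cancel_right]
  have f1 := f1x
  rcases b1 with rfl | rfl
  · left; rw [one_mul, inv_one, mul_one, ← a1.cm e0, mul_inv_cancel_right]
  · right; rw [← a1.cm (cm_mul (cm_mul f1 e0) (cm_inv f1)), mul_inv_cancel_right]

/-- The form for automorphisms. -/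
theorem CY2 {n : MM tau} (hx : n * tM tau = tM tau * n)
    (h : ∀ a, K2 (tM tau) (xm .f1) a → a * xm .d2 = xm .d2 * a → a * xm .d3 = xm .d3 * a →
      Ex (tM tau) (n * a * n⁻¹) a) : ∃ m, K2 (tM tau) (xm .f1) m ∧
      (∀ a, K2 (tM tau) (xm .f1) a → a * xm .d2 = xm .d2 * a → m * a = a * m) ∧
      ∀ a, a * xm .d3 = xm .d3 * a → n * a * n⁻¹ = m * a * m⁻¹ := by
  obtain ⟨a, b, c, d, a1, b1, c1, d1, rfl⟩ := CY hx h
  have f1 := f1x
  have k2 : K2 (tM tau) (xm .f1) (xm .d2) := k2n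
  have cm : ∀ e, K2 (tM tau) (xm .f1) e → e * xm .d2 = xm .d2 * e → a * b * c * e = e * (a * b * c) :=
    fun e k l => cm_mul (cm_mul (a1.cm k.1).symm (b1.cm k.2).symm) (c1.cm l).symm
  refine ⟨a * b * c, ⟨cm _ ⟨rfl, f1.symm⟩ k2.1.symm, cm _ ⟨f1, rfl⟩ k2.2.symm⟩, cm, fun e k => ?_⟩
  rw [mul_assoc _ d, ← d1.cm k]; group

end MB

end H10.Mon.MG
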