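import Mathlib
import Cfsg.Agent.H19.B4
import Cfsg.Agent.H9.BE1
import Cfsg.Agent.H9.MB1

/-!
# Comparison of the centralisers of two conjugate involutions
-/

set_option autoImplicit false
set_option linter.all false

namespace H10.Mon.MG.N11

variable {M G : Type*} [Group M] [Group G] {x y u d γ : M} {p : ZMod 2 → C → M} {eO eD s0 : G0}
  {w : C} {s : ZMod 2} {t : G} {ι κ : M → G}

theorem ex_cm {a b c : M} (h : Ex x b c) (hx : a * x = x * a) (e : a * c = c * a) : a * b = b * a := by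
  rcases h with rfl | rfl
  exacts [e, (cm_mul e.symm hx.symm).symm]

theorem ex_symm (xx : x * x = 1) {a b : M} (h : Ex x a b) : Ex x b a :=
  h.imp Eq.symm fun e => by rw [e, mul_assoc, xx, mul_one]

theorem ex_cj {a b m : M} (h : Ex x a b) (hx : m * x = x * m) : Ex x (m * a * m⁻¹) (m * b * m⁻¹) :=
  h.imp (fun e => by rw [e]) fun e => by rw [e, cj_mul hx]

theorem ex_trans (xx : x * x = 1) {a b c : M} (h : Ex x a b) (k : Ex x b c) : Ex x a c := by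
  rcases h with rfl | rfl <;> rcases k with rfl | rfl
  exacts [.inl rfl, .inr rfl, .inr rfl, .inl (by rw [mul_assoc, xx, mul_one])]

theorem ex_left {a b c : M} : Ex x (c * a) (c * b) ↔ Ex x a b := by
  rw [Ex, Ex, mul_assoc, mul_right_inj, mul_right_inj]

theorem ex_y (H : One x y p) {n : M} (h : Ex x (n * y * n⁻¹) y) : n * y = y * n :=
  mul_inv_eq_iff_eq_mul.1 (h.resolve_right fun e => H.nc (H.A_yx.trans (cj_of e).symm))

theorem cm_cj {m a b : M} : m * a * m⁻¹ * (m * b * m⁻¹) = m * b * m⁻¹ * (m * a * m⁻¹) ↔ a * b = b * a := by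
  rw [conj_mul, conj_mul, mul_left_inj, mul_right_inj]

theorem cj_cm {m a : M} (hx : m * x = x * m) : m * a * m⁻¹ * x = x * (m * a * m⁻¹) ↔ a * x = x * a := by
  conv_lhs => rw [← mul_inv_eq_iff_eq_mul.2 hx, cm_cj]

section
variable (E : Em2 x u t ι)
include E

theorem e1 : ι 1 = 1 := (E.ker K2.one).2 (.inl rfl)
theorem einv {a : M} (ha : K2 x u a) : ι a⁻¹ = (ι a)⁻¹ :=
  eq_inv_of_mul_eq_one_left (by rw [← E.mul ha.inv ha, inv_mul_cancel, e1 E])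
theorem ecj {a b : M} (ha : K2 x u a) (hb : K2 x u b) : ι (a * b * a⁻¹) = ι a * ι b * (ι a)⁻¹ := by
  rw [E.mul (ha.mul hb) ha.inv, E.mul ha hb, einv E ha]
theorem eex {a b : M} (ha : K2 x u a) (hb : K2 x u b) (e : ι a = ι b) : Ex x a b := by
  have := (E.ker (hb.inv.mul ha)).1 (by rw [E.mul hb.inv ha, einv E hb, e, inv_mul_cancel])
  rwa [inv_mul_eq_iff_eq_mul, inv_mul_eq_iff_eq_mul, mul_one] at this
theorem exe (ux : u * x = x * u) {a b : M} (hb : K2 x u b) (e : Ex x a b) : ι a = ι b := by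
  rcases e with rfl | rfl
  · rfl
  · rw [E.mul hb ⟨rfl, ux.symm⟩, (E.ker ⟨rfl, ux.symm⟩).2 (.inr rfl), mul_one]
theorem ecm {a b : M} (ha : K2 x u a) (hb : K2 x u b) (e : a * b = b * a) : ι a * ι b = ι b * ι a := by
  rw [← E.mul ha hb, e, E.mul hb ha]
theorem et (ux : u * x = x * u) {a : M} (ha : K2 x u a) : ι a * t = t * ι a :=
  E.hu ▸ ecm E ha ⟨ux, rfl⟩ ha.2
theorem imul {g h : G} (a : Im2 x u ι g) (b : Im2 x u ι h) : Im2 x u ι (g * h) :=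
  let ⟨_, a1, a2⟩ := a; let ⟨_, b1, b2⟩ := b; ⟨_, a1.mul b1, by rw [E.mul a1 b1, a2, b2]⟩
theorem iinv {g : G} (a : Im2 x u ι g) : Im2 x u ι g⁻¹ :=
  let ⟨_, a1, a2⟩ := a; ⟨_, a1.inv, by rw [einv E a1, a2]⟩
theorem isq {g : G} (h : g * t = t * g) : Im2 x u ι (g * g) :=
  (E.idx g g h h).elim (fun a => imul E a a) fun a => a.elim (fun a => imul E a a) id
theorem inrm (ux : u * x = x * u) {g : G} (h : g * t = t * g) {a : M} (ha : K2 x u a) :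
    Im2 x u ι (g * ι a * g⁻¹) := by
  have k : Im2 x u ι g → Im2 x u ι (g * ι a * g⁻¹) := fun k => imul E (imul E k ⟨a, ha, rfl⟩) (iinv E k)
  rcases E.idx _ _ (cm_mul h (et E ux ha)) (cm_inv h) with b | b | b
  exacts [k (by simpa using imul E b (iinv E ⟨a, ha, rfl⟩)), k (by simpa using iinv E b), b]

/-- Transport of the structure. -/
theorem emcj (xx : x * x = 1) (ux : u * x = x * u) {m : M} (hm : m * x = x * m)
    (e : Ex x (m * d * m⁻¹) u) (g : G) :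
    Em2 x d (g * t * g⁻¹) fun a => g * ι (m * a * m⁻¹) * g⁻¹ := by
  have k : ∀ {a}, K2 x d a → K2 x u (m * a * m⁻¹) := fun h =>
    ⟨(cj_cm hm).2 h.1, ex_cm (ex_symm xx e) ((cj_cm hm).2 h.1) (cm_cj.2 h.2)⟩
  have c : ∀ a : M, m * (m⁻¹ * a * m) * m⁻¹ = a := fun a => by group
  have k' : ∀ {a}, K2 x u a → K2 x d (m⁻¹ * a * m) := fun {a} h =>
    ⟨(cj_cm hm).1 ((c a).symm ▸ h.1), cm_cj.1 ((c a).symm ▸ ex_cm e h.1 h.2)⟩
  have im : ∀ h, Im2 x u ι (g⁻¹ * h * g) → Im2 x d (fun a => g * ι (m * a * m⁻¹) * g⁻¹) h :=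
    fun h ⟨a, a1, a2⟩ => ⟨_, k' a1, by simp only [c, a2]; group⟩
  have ct : ∀ {h}, h * (g * t * g⁻¹) = g * t * g⁻¹ * h → g⁻¹ * h * g * t = t * (g⁻¹ * h * g) :=
    fun {h} e => cm_cj.1 (show g * _ * g⁻¹ * _ = _ by
      rwa [show g * (g⁻¹ * h * g) * g⁻¹ = h by group])
  refine ⟨fun ha hb => by rw [conj_mul, ← E.mul (k ha) (k hb), conj_mul], fun ha => ?_,
    by rw [exe E ux ⟨ux, rfl⟩ e, E.hu], fun a b ha hb => ?_, fun a ha h => im a (E.out _ (ct ha) fun b hb => ?_)⟩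
  · rw [conj_eq_one_iff, E.ker (k ha), conj_eq_one_iff, mul_inv_eq_iff_eq_mul, ← hm, mul_right_inj]
  · refine (E.idx _ _ (ct ha) (ct hb)).imp (im a) (Or.imp (im b) fun h => im _ ?_)
    rwa [show g⁻¹ * (a * b) * g = g⁻¹ * a * g * (g⁻¹ * b * g) by group]
  · have := h _ (k' hb)
    simp only [c] at this
    exact cm_cj.1 (show g * _ * g⁻¹ * _ = _ by rwa [show g * (g⁻¹ * a * g) * g⁻¹ = a by group])

end

section
variable (H : One x y p) (hw : AA w) (hu : p s w = u) (hd : Ex x d (u * y))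
include H hw hu hd

theorem ux : u * x = x * u := hu ▸ H.cm_x.2 hw.pl
theorem uy : u * y = y * u := hu ▸ H.s.cm _ _
theorem uu : u * u = 1 := hu ▸ H.s.sq0 _ (bb_isS hw.1)
theorem p3 {a : M} : P3 x y u a ↔ K2 x u a ∧ a * d = d * a :=
  ⟨fun h => ⟨h.k2, ex_cm hd h.1 (cm_mul h.2.2.symm h.2.1.symm).symm⟩, fun ⟨h, k⟩ => ⟨h.1, by
    have := ex_cm (ex_symm H.xx hd) h.1 k
    rwa [← mul_assoc, h.2, mul_assoc, mul_assoc, mul_right_inj] at this, h.2⟩⟩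
theorem kd : K2 x u d :=
  ⟨(ex_cm hd rfl (cm_mul (ux H hw hu hd) H.yx).symm).symm,
    (ex_cm hd (ux H hw hu hd) (cm_mul rfl (uy H hw hu hd).symm).symm).symm⟩
theorem p3' {a : M} (h : P3 x y u a) : K2 x d a := ⟨h.1, ((p3 H hw hu hd).1 h).2⟩

theorem back (E : Em2 x u t ι) {a : M} (ha : K2 x u a) (e : ι a * ι d = ι d * ι a) : P3 x y u a := by
  have k := kd H hw hu hd
  have h1 := eex E (ha.conj k) k (by rw [ecj E ha k, e, mul_inv_cancel_right])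
  refine ⟨ha.1, ex_y H ((ex_left (c := u)).1 ?_), ha.2⟩
  rw [show u * (a * y * a⁻¹) = a * (u * y) * a⁻¹ by rw [← conj_mul, mul_inv_eq_iff_eq_mul.2 ha.2]]
  exact ex_trans H.xx (ex_trans H.xx (ex_symm H.xx (ex_cj hd ha.1)) h1) hd

theorem nrmP {n a : M} (hx : n * x = x * n) (hy : n * y = y * n) (e : Ex x (n * u * n⁻¹) u)
    (h : P3 x y u a) : P3 x y u (n * a * n⁻¹) :=
  ⟨(cj_cm hx).2 h.1, (cj_cm hy).2 h.2.1, ex_cm (ex_symm H.xx e) ((cj_cm hx).2 h.1) (cm_cj.2 h.2.2)⟩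

variable [Finite M] (L : LF eO eD s0) (E : Em2 x u t ι)
include L E

theorem two_em {t' : G} (E' : Em2 x d t' κ) (h1 : κ u = t) (h2 : ι d = t') :
    ∃ n, n * x = x * n ∧ n * y = y * n ∧ Ex x (n * u * n⁻¹) u ∧
      ∀ a, P3 x y u a → κ a = ι (n * a * n⁻¹) := by
  have k := kd H hw hu hd
  have q := @p3' _ _ _ _ _ _ _ _ _ H hw hu hd
  have ku : K2 x d u := ⟨ux H hw hu hd, k.2.symm⟩
  let K : Subgroup M :=
    { carrier := {a | P3 x y u a ∧ ∃ b, P3 x y u b ∧ κ a = ι b}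
      one_mem' := ⟨.one, 1, .one, (e1 E').trans (e1 E).symm⟩
      mul_mem' := fun ⟨a1, _, a2, a3⟩ ⟨b1, _, b2, b3⟩ => ⟨a1.mul b1, _, a2.mul b2, by
        rw [E'.mul (q a1) (q b1), E.mul a2.k2 b2.k2, a3, b3]⟩
      inv_mem' := fun ⟨a1, _, a2, a3⟩ => ⟨a1.inv, _, a2.inv, by rw [einv E' (q a1), einv E a2.k2, a3]⟩ }
  subst hu
  refine H.autP hw L (E.hp y) ⟨fun a b => E'.mul (q a) (q b), fun a => E'.ker (q a)⟩
    (fun a ha => (H.perf3 hw K ⟨H.p3_x hw, 1, .one,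
      ((E'.ker (q (H.p3_x hw))).2 (.inr rfl)).trans (e1 E).symm⟩ (fun a ha => ?_) ha).2)
    (h1.trans E.hu.symm)
  obtain ⟨b, b1, b2⟩ := isq E (h1 ▸ ecm E' (q ha) ku ha.2.2)
  have c := et E' k.1 (q ha)
  exact ⟨ha.mul ha, b, back H hw rfl hd E b1 (by rw [b2, h2]; exact cm_mul c c),
    (E'.mul (q ha) (q ha)).trans b2.symm⟩

theorem aut_em {g : G} (h1 : g * t = t * g) (h2 : g * ι d = ι d * g) :
    ∃ n, n * x = x * n ∧ ∀ a, P3 x y u a → P3 x y u (n * a * n⁻¹) ∧ g * ι a * g⁻¹ = ι (n * a * n⁻¹) := by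
  have k := kd H hw hu hd
  have c := ux H hw hu hd
  obtain ⟨n, n1, n2, n3, n4⟩ := (hu ▸ H.autP hw L (κ := fun a => g * ι a * g⁻¹) (hu.symm ▸ E.hp y)
    (hu.symm ▸ ⟨fun a b => by rw [conj_mul, E.mul a.k2 b.k2], fun a => by
      rw [conj_eq_one_iff, E.ker a.k2]⟩) (hu.symm ▸ fun a ha => by
      obtain ⟨b, b1, b2⟩ := inrm E c h1 ha.k2
      exact ⟨b, back H hw hu hd E b1 (b2.symm ▸ (cj_cm h2).2
        (ecm E ha.k2 k ((p3 H hw hu hd).1 ha).2)), b2.symm⟩)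
    (hu.symm ▸ by rw [E.hu, h1, mul_inv_cancel_right]) : ∃ n, n * x = x * n ∧ n * y = y * n ∧
      Ex x (n * u * n⁻¹) u ∧ ∀ a, P3 x y u a → g * ι a * g⁻¹ = ι (n * a * n⁻¹))
  exact ⟨n, n1, fun a ha => ⟨nrmP H hw hu hd n1 n2 n3 ha, n4 a ha⟩⟩

/-- The structure at the conjugate involution `ι d`. -/
theorem transport {h : M} (hx : h * x = x * h) (s1 : h * u * h⁻¹ = d) (s2 : h * d * h⁻¹ = u) {b : G}
    (b1 : b * t * b⁻¹ = t * ι y) (b2 : b * ι y * b⁻¹ = ι y) :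
    ∃ κ, Em2 x d (ι d) κ ∧ ∀ a, K2 x u a → a * d = d * a → κ a = ι a := by
  have k := kd H hw hu hd
  have c := ux H hw hu hd
  have ky : K2 x u y := ⟨H.yx, (uy H hw hu hd).symm⟩
  have e : ι d = t * ι y := by rw [exe E c (K2.mul ⟨c, rfl⟩ ky) hd, E.mul ⟨c, rfl⟩ ky, E.hu]
  have E' := emcj E H.xx c hx (.inl s2) b
  rw [b1, ← e] at E'
  obtain ⟨n, n1, n2, n3, n4⟩ := two_em H hw hu hd L E E' (by
    change b * ι (h * u * h⁻¹) * b⁻¹ = t
    rw [s1, e, ← conj_mul, b1, b2, mul_assoc, ← E.mul ky ky, H.s.yy, e1 E, mul_one]) rfl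
  have i1 := cm_inv n1
  have n5 : Ex x (n⁻¹ * u * n⁻¹⁻¹) u := by
    have := ex_symm H.xx (ex_cj n3 i1)
    rwa [show n⁻¹ * (n * u * n⁻¹) * n⁻¹⁻¹ = u by group] at this
  have E2 := emcj E' H.xx k.1 (d := d) i1 (ex_trans H.xx (ex_cj hd i1) (ex_trans H.xx (by
    rw [cj_mul (cm_inv n2)]
    exact n5.imp (fun e => by rw [e]) fun e => by rw [e, mul_assoc, ← H.yx, mul_assoc])
    (ex_symm H.xx hd))) 1
  rw [one_mul, inv_one, mul_one] at E2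
  refine ⟨_, E2, fun a a1 a2 => ?_⟩
  rw [one_mul, mul_one, n4 _ (nrmP H hw hu hd i1 (cm_inv n2) n5 ((p3 H hw hu hd).2 ⟨a1, a2⟩))]
  exact congrArg ι (by group)

end

/-- A frame for the pair `u`, `d`, and an element that interchanges them. -/
def Fr2 (x u d : M) : Prop := (∃ y p γ w s, Two x y p γ ∧ AA w ∧ p s w = u ∧ Ex x d (u * y)) ∧
  ∃ h, h * x = x * h ∧ h * u * h⁻¹ = d ∧ h * d * h⁻¹ = u

theorem Fr2.cj (F : Fr2 x u d) {m : M} (hm : m * x = x * m) : Fr2 x (m * u * m⁻¹) (m * d * m⁻¹) := by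
  obtain ⟨⟨y, p, γ, w, s, H, hw, rfl, hd⟩, h, h1, h2, h3⟩ := F
  have := H.conj m
  rw [mul_inv_eq_iff_eq_mul.2 hm] at this
  refine ⟨⟨_, _, _, w, s, this, hw, rfl, by rw [conj_mul]; exact ex_cj hd hm⟩, m * h * m⁻¹,
    (cj_cm hm).2 h1, ?_, ?_⟩
  · rw [← h2]; group
  · rw [← h3]; group

theorem braid {a b : M} (aa : a * a = 1) (bb : b * b = 1) (h : (a * b) ^ 3 = 1) :
    a * b * a * (a * b)⁻¹ = b := by
  rw [mul_inv_rev, inv_eq_of_mul_eq_one_right aa, inv_eq_of_mul_eq_one_right bb,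
    ← mul_left_inj b, bb, ← h, pow_three]; group

theorem Fr2.mv1 (F : Fr2 x u d) {v : M} (uu : u * u = 1) (vv : v * v = 1) (h : (u * v) ^ 3 = 1)
    (k : K2 x d u) (k' : K2 x d v) : Fr2 x v d := by
  have := F.cj (k.mul k').1
  rwa [braid uu vv h, mul_inv_eq_iff_eq_mul.2 (k.mul k').2] at this

theorem Fr2.mv2 (F : Fr2 x u d) {v : M} (uu : d * d = 1) (vv : v * v = 1) (h : (d * v) ^ 3 = 1)
    (k : K2 x u d) (k' : K2 x u v) : Fr2 x u v := by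
  have := F.cj (k.mul k').1
  rwa [braid uu vv h, mul_inv_eq_iff_eq_mul.2 (k.mul k').2] at this

theorem frame [Finite M] (H : Two x y p γ) (L : LF eO eD s0) (hw : AA w) {a : C} (ha : An w a)
    (r : ZMod 2) : ∃ y' p' γ' w' s', Two x y' p' γ' ∧ AA w' ∧ p' s' w' = p s w ∧
      Ex x (p r a) (p s w * y') := by
  obtain ⟨c, hc, e⟩ := An.rt hw ha
  obtain ⟨j, hj⟩ : ∃ j, Ex x (p r a) (p s w * p j c) := by
    simp only [Ex, ← H.hx]
    rcases e with e | e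
    · exact ⟨r + s + bb w c, .inl (by
        rw [H.s.mul, add_comm w, e]; congr 1; linear_combination -zz2 s - zz2 (bb w c))⟩
    · exact ⟨r + s + bb w c + bb (w + c) c0.1, .inr (by
        rw [H.s.mul, H.s.mul, add_comm w c, e, add_cc]; congr 1
        linear_combination -zz2 s - zz2 (bb w c) - zz2 (bb (a + c0.1) c0.1))⟩
  have v := hc.v0 hw
  have a1 : IsConj x (p j c * x) := by
    have := H.qA (j + 0 + bb c c0.1) hc.2.2.1
    rwa [← H.s.mul, H.hx] at this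
  obtain ⟨m, m1, m2⟩ := H.pAB L (H.one.cm_x.2 v.1) ⟨H.qB j hc.1 (hc.bb hw) hc.2.1, a1⟩
  have H' := H.conj m⁻¹
  rw [mul_inv_eq_iff_eq_mul.2 (cm_inv m1), ← m2, show m⁻¹ * (m * p j c * m⁻¹) * m⁻¹⁻¹ = p j c by group] at H'
  obtain ⟨s', w', e'⟩ := H'.inQ2 L (a := p s w) (H.s.cm_iff.2 (pl_comm _ _ ▸ v.2)) (H.qA s hw.1)
    (by rw [H.s.mul, add_comm w]; exact H.qA _ hc.2.2.2.1)
  refine ⟨_, _, _, w', s', H', ⟨H'.isS_of (e' ▸ H.qA s hw.1), H'.isS_of (s := s' + 0 + bb w' c0.1) ?_⟩,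
    e'.symm, hj⟩
  rw [← H'.s.mul, ← e', H'.hx, ← H.hx, H.s.mul, H.hx]
  exact H.qA _ hw.2

theorem flip (H : One x y p) (hw : AA w) (s : ZMod 2) :
    ∃ n, n * x = x * n ∧ n * p s w * n⁻¹ = p s w * x := by
  obtain ⟨g, g1, g2⟩ := hw.to0
  obtain ⟨g', g3, g4⟩ := (hw.ec (.inr (add_cc w).symm)).to0
  obtain ⟨a, k, a1, a2, a3⟩ := H.liftX (h := g' * g⁻¹) (by rw [mul_smul, inv_smul_eq_iff.2 g1.symm, g3])
  obtain ⟨e, e1, e2⟩ := dual2 (hw.ec (.inr (add_cc w).symm)) 0 (ep k w + bb w c0.1)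
  refine ⟨p 0 e * a, cm_mul (H.cm_x.2 e1) a3, ?_⟩
  rw [show p 0 e * a * p s w * (p 0 e * a)⁻¹ = p 0 e * (a * p s w * a⁻¹) * (p 0 e)⁻¹ by group, a1, a2,
    mul_smul, inv_smul_eq_iff.2 g2.symm, g4, H.s.cj, e2, ← H.hx, H.s.mul]
  congr 1
  linear_combination zz2 (ep k w)

end H10.Mon.MG.N11
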