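import Mathlib
import Cfsg.Agent.H11.BC1
import Cfsg.Agent.H11.BC2
import Cfsg.Agent.H9.MB3

/-!
# The homomorphism from the Baby Monster
-/

set_option autoImplicit false
set_option linter.all false
set_option maxRecDepth 100000

namespace H10.Mon.MG.MB.N12

open Cfsg H9 H29 Cfsg.Spor H10.YW H10.Mon.T H10.Mon.MS H29.YB H10.Mon.MG.N11
open H10.Mon.Y hiding Nd lb

theorem aa_n {n : Nd} (h : AdS c0 (TH.dN n)) : AA (TH.dN n).1 :=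
  ⟨(TH.dN n).2, by obtain ⟨e, he⟩ := h; rw [add_comm, he]; exact e.2⟩
theorem q_n {n : Nd} (h : n = .f1 ∨ n = .d1) : qM (1 + TH.sN n) (TH.dN n).1 = xm n :=
  Subtype.ext (TH.xB_tv h).symm

theorem fr_d1 : Fr2 (tM tau) (xm .f1) (xm .d1) := by
  obtain ⟨γ, H⟩ := twoM
  obtain ⟨_, _, _, L⟩ := exists_LF
  obtain ⟨e, he⟩ := TH.a12
  refine ⟨?_, ?_⟩
  · rw [← q_n (.inl rfl), ← q_n (.inr rfl)]
    refine frame H L (aa_n TH.a01) ⟨aa_n TH.a02, pl_of_isS (TH.dN _).2 (TH.dN _).2 ?_, ?_⟩ _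
    · rw [add_comm, he]; exact e.2
    · rintro (k | k)
      · exact isS_ne e.2 (by rw [← he, k, cc2])
      · exact TH.ne12 (by rw [k, add_comm])
  · have e1 : (xm .f1).1 = _ := TH.xB_tv (.inl rfl)
    have e2 : (xm .d1).1 = _ := TH.xB_tv (.inr rfl)
    obtain ⟨k, k1, k2, k3⟩ := F1.tri TH.a01 TH.a02 TH.a12 TH.ne12 TH.a02 TH.a01 TH.a12.symm
      (fun e => TH.ne12 (by rw [← e, ← add_assoc, cc2, zero_add])) 1 (TH.sN .f1) (TH.sN .d1) 1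
      (TH.sN .d1) (TH.sN .f1)
    exact ⟨rM k, mul_inv_eq_iff_eq_mul.1 (cj_ax k1 (u := tM tau) (v := tM tau) rfl rfl),
      cj_ax k2 e1 e2, cj_ax k3 e2 e1⟩

theorem kn {n m : Nd} (h : n ≠ .e3 ∧ m ≠ .e3 ∧ lb n .f2 = 2 ∧ (lb n m = 2 ∨ n = m) := by decide) :
    K2 (tM tau) (xm m) (xm n) :=
  ⟨xm_f2 ▸ xcm h.1 (by decide) (.inl h.2.2.1), xcm h.1 h.2.1 h.2.2.2⟩

theorem m1 {n m : Nd} (F : Fr2 (tM tau) (xm n) (xm m)) (k : Nd) (h : lb n k = 3 ∧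
    (n ≠ .e3 ∧ m ≠ .e3 ∧ lb n .f2 = 2 ∧ (lb n m = 2 ∨ n = m)) ∧
    (k ≠ .e3 ∧ m ≠ .e3 ∧ lb k .f2 = 2 ∧ (lb k m = 2 ∨ k = m)) := by decide) :
    Fr2 (tM tau) (xm k) (xm m) :=
  F.mv1 (xsq h.2.1.1) (xsq h.2.2.1) (h.1 ▸ cox h.2.2.1) (kn h.2.1) (kn h.2.2)

theorem m2 {n m : Nd} (F : Fr2 (tM tau) (xm m) (xm n)) (k : Nd) (h : lb n k = 3 ∧
    (n ≠ .e3 ∧ m ≠ .e3 ∧ lb n .f2 = 2 ∧ (lb n m = 2 ∨ n = m)) ∧
    (k ≠ .e3 ∧ m ≠ .e3 ∧ lb k .f2 = 2 ∧ (lb k m = 2 ∨ k = m)) := by decide) :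
    Fr2 (tM tau) (xm m) (xm k) :=
  F.mv2 (xsq h.2.1.1) (xsq h.2.2.1) (h.1 ▸ cox h.2.2.1) (kn h.2.1) (kn h.2.2)

theorem fr_a : Fr2 (tM tau) (xm .f1) (xm .a) := m2 (m2 (m2 fr_d1 .c1) .b1) .a
theorem fr_d2 : Fr2 (tM tau) (xm .f1) (xm .d2) := m2 (m2 (m2 fr_a .b2) .c2) .d2
theorem fr_d3 : Fr2 (tM tau) (xm .f1) (xm .d3) := m2 (m2 (m2 fr_a .b3) .c3) .d3
theorem fr_32 : Fr2 (tM tau) (xm .d3) (xm .d2) :=
  m1 (m1 (m1 (m1 (m1 (m1 (m1 (m1 fr_d2 .e1) .d1) .c1) .b1) .a) .b3) .c3) .d3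

theorem cj23 : ∃ m, K2 (tM tau) (xm .f1) m ∧ m * xm .d3 * m⁻¹ = xm .d2 := by
  have s : ∀ {n : Nd}, (∃ m, K2 (tM tau) (xm .f1) m ∧ m * xm .d3 * m⁻¹ = xm n) → ∀ k : Nd,
      lb n k = 3 ∧ n ∈ N333 ∧ k ∈ N333 ∧ n ≠ .e3 ∧ k ≠ .e3 →
      ∃ m, K2 (tM tau) (xm .f1) m ∧ m * xm .d3 * m⁻¹ = xm k := fun {n} ⟨m, a, b⟩ k h =>
    ⟨xm n * xm k * m, ((k2n h.2.1).mul (k2n h.2.2.1)).mul a, by
      refine Eq.trans ?_ (braid (xsq h.2.2.2.1) (xsq h.2.2.2.2) (h.1 ▸ cox h.2.2.2.2))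
      conv_rhs => enter [1, 2]; rw [← b]
      simp only [mul_inv_rev, mul_assoc]⟩
  exact s (s (s (s (s (s (n := .d3) ⟨1, .one, by simp⟩ .c3 (by decide)) .b3 (by decide)) .a (by decide)) .b2
    (by decide)) .c2 (by decide)) .d2 (by decide)

variable {G : Type*} [Group G] {t : G} {ι : MM tau → G} (hB : IsB BabyMonster)
  (E : Em2 (tM tau) (xm .f1) t ι)
include hB E

theorem f4 {g : G} (hg : g * t = t * g)
    (h : ∀ a, K2 (tM tau) (xm .f1) a → a * xm .d2 = xm .d2 * a → g * ι a = ι a * g) :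
    Im2 (tM tau) (xm .f1) ι g := by
  obtain ⟨⟨y, p, γ, w, s, H, hw, hu, hd⟩, -⟩ := fr_d3
  obtain ⟨_, _, _, L⟩ := exists_LF
  obtain ⟨n, n1, n2⟩ := aut_em H.one hw hu hd L E hg (h _ k2n (kn (m := .d2)).2)
  have P := fun a => p3 (a := a) H.one hw hu hd
  obtain ⟨m, m1, m2, m3⟩ := CY2 n1 fun a a1 a2 a3 => by
    obtain ⟨b1, b2⟩ := n2 a ((P a).2 ⟨a1, a3⟩)
    exact eex E b1.k2 a1 (by rw [← b2, h a a1 a2, mul_inv_cancel_right])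
  have k : ∀ c ∈ L3, (ι m)⁻¹ * g * ι (xc c).1 = ι (xc c).1 * ((ι m)⁻¹ * g) := fun c hc => by
    have a1 : K2 (tM tau) (xm .f1) (xc c).1 :=
      k2n ((show ∀ c ∈ L3, bN (TB.gN c) ∈ N333 by decide) c hc)
    by_cases e : c = 6
    · have a3 : (xc c).1 * xm .d3 = xm .d3 * (xc c).1 := e ▸ (kn (n := .c2)).2
      have := (n2 _ ((P _).2 ⟨a1, a3⟩)).2
      rw [m3 _ a3, ecj E m1 a1] at this
      calc _ = (ι m)⁻¹ * (g * ι (xc c).1 * g⁻¹) * g := by group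
        _ = _ := by rw [this]; group
    · have a2 : (xc c).1 * xm .d2 = xm .d2 * (xc c).1 := xcm (bne _) (by decide)
        ((show ∀ c ∈ L3, c ≠ 6 → lb (bN (TB.gN c)) .d2 = 2 ∨ bN (TB.gN c) = .d2 by decide) c hc e)
      exact cm_mul (cm_inv (ecm E m1 a1 (m2 _ a1 a2))) (h _ a1 a2)
  have := E.out _ (cm_mul (cm_inv (et E f1x m1)) hg) fun a ha => by
    obtain ⟨w, w1, rfl⟩ := k2_word hB ha
    clear ha
    induction w with
    | nil => rw [ev_nil, Subgroup.coe_one, e1 E]; exact cm_one.symm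
    | cons c w ih =>
      rw [List.forall_mem_cons] at w1
      have := k2_xc (w := [c]) (by simpa using w1.1)
      rw [ev_cons, ev_nil, mul_one] at this
      rw [ev_cons, Subgroup.coe_mul, E.mul this (k2_xc w1.2)]
      exact (cm_mul (k c w1.1).symm (ih w1.2).symm).symm
  simpa using imul E ⟨m, m1, rfl⟩ this

omit hB E in
theorem ev_em {d : MM tau} {t' : G} {κ : MM tau → G} (E' : Em2 (tM tau) d t' κ) {e : ℕ → G} :
    ∀ w : List ℕ, (∀ c ∈ w, K2 (tM tau) d (xc c).1 ∧ e c = κ (xc c).1) →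
      K2 (tM tau) d (ev xc w).1 ∧ ev e w = κ (ev xc w).1
  | [], _ => ⟨.one, (e1 E').symm⟩
  | c :: w, h => by
    rw [List.forall_mem_cons] at h
    obtain ⟨a, b⟩ := ev_em E' w h.2
    rw [ev_cons, ev_cons, Subgroup.coe_mul, E'.mul h.1.1 a, b, h.1.2]
    exact ⟨h.1.1.mul a, rfl⟩

theorem nodes {κ : MM tau → G} (E2 : Em2 (tM tau) (xm .d2) (ι (xm .d2)) κ)
    (h2 : ∀ a, K2 (tM tau) (xm .f1) a → a * xm .d2 = xm .d2 * a → κ a = ι a) :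
    ∃ f : BabyMonster →* G, ∀ c ∈ L3, f (PY.e c) = ι (xc c).1 := by
  obtain ⟨m, m1, m2⟩ := cj23
  have xx : tM tau * tM tau = 1 := oneM.xx
  obtain ⟨μ, E3, h3⟩ : ∃ μ, Em2 (tM tau) (xm .d3) (ι (xm .d3)) μ ∧
      ∀ a, K2 (tM tau) (xm .f1) a → a * xm .d3 = xm .d3 * a → μ a = ι a := by
    have := emcj E2 xx (k2n (n := .d2)).1 m1.1 (.inl m2) (ι m)⁻¹
    rw [← m2, ecj E m1 k2n, show (ι m)⁻¹ * (ι m * ι (xm .d3) * (ι m)⁻¹) * (ι m)⁻¹⁻¹ = ι (xm .d3) by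
      group] at this
    exact ⟨_, this, fun a a1 a3 => by
      rw [h2 _ (m1.conj a1) (m2 ▸ cm_cj.2 a3), ecj E m1 a1]; group⟩
  obtain ⟨⟨y, p, γ, w, s, H, hw, hu, hd⟩, -⟩ := fr_32
  obtain ⟨_, _, _, L⟩ := exists_LF
  obtain ⟨n, n1, n2, n3, n4⟩ := two_em H.one hw hu hd L E3 E2 (h2 _ k2n (kn (m := .d2)).2)
    (h3 _ k2n (kn (m := .d3)).2)
  have P := fun a => p3 (a := a) H.one hw hu hd
  have ke : K2 (tM tau) (xm .d3) (xm .e1) := kn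
  have ke2 : K2 (tM tau) (xm .d2) (xm .e1) := kn
  have c9 : μ (xm .e1) * ι (xm .c3) = ι (xm .c3) * μ (xm .e1) := by
    have a := ecm E2 ke2 (kn (n := .c3)) (kn (m := .c3)).2
    rw [h2 (xm .c3) k2n (kn (m := .d2)).2, n4 _ ((P _).2 ⟨ke, ke2.2⟩)] at a
    rcases CY1 n1 (fun a a1 a2 a3 => by
      have b := (P a).2 ⟨⟨a1.1, a3⟩, a2⟩
      exact eex E3 (nrmP H.one hw hu hd n1 n2 n3 b).k2 b.k2 (by
        rw [← n4 a b, h2 a a1 a2, h3 a a1 a3])) ke.1 ke2.2 ke.2 with k | k <;> rw [k] at a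
    · exact a
    · rwa [ecj E3 kn ke, h3 _ kn (kn (m := .d3)).2, E.hu, cj_cm (et E f1x k2n).symm] at a
  obtain ⟨φ, c1, c2⟩ := exists_phi hB
  have φw : ∀ w : List ℕ, (∀ c ∈ w, c < 11) → φ (ev xc w) = ev PY.e w := fun w hw => by
    rw [map_ev]
    refine ev_congr fun c hc => ?_
    have := hw c hc
    interval_cases c <;> exact c2 _ _
  let e : ℕ → G := fun c => if c = 4 then μ (xm .e1) else if c ∈ L3 then ι (xc c).1 else 1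
  have e3 : ∀ c ∈ L3, e c = ι (xc c).1 := fun c hc =>
    (if_neg (by rintro rfl; revert hc; decide)).trans (if_pos hc)
  have k3 : ∀ c ∈ L3, K2 (tM tau) (xm .f1) (xc c).1 := fun c hc =>
    k2n ((show ∀ c ∈ L3, bN (TB.gN c) ∈ N333 by decide) c hc)
  have r3 : ∀ w : List ℕ, (∀ c ∈ w, c ∈ L3) → ev PY.e w = 1 → ev e w = 1 := fun w hw r => by
    obtain ⟨a, b⟩ := ev_em E (e := e) w fun c hc => ⟨k3 c (hw c hc), e3 c (hw c hc)⟩
    exact b.trans ((E.ker a).2 ((c1.ker _).1 ((φw w fun c hc =>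
      (show ∀ c ∈ L3, c < 11 by decide) c (hw c hc)).trans r)))
  have r9 : ∀ w : List ℕ, (∀ c ∈ w, c < 11 ∧ c ≠ 9) → ev PY.e w = 1 → ev e w = 1 := fun w hw r => by
    obtain ⟨a, b⟩ := ev_em E3 (e := e) w fun c hc => by
      have k : K2 (tM tau) (xm .d3) (xc c).1 := kn ((show ∀ c < 11, c ≠ 9 → bN (TB.gN c) ≠ .e3 ∧
        Bimonster.Gen.d3 ≠ .e3 ∧ lb (bN (TB.gN c)) .f2 = 2 ∧ (lb (bN (TB.gN c)) .d3 = 2 ∨
        bN (TB.gN c) = .d3) by decide) c (hw c hc).1 (hw c hc).2)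
      refine ⟨k, ?_⟩
      by_cases h4 : c = 4
      · subst h4; rfl
      · have := (show ∀ c < 11, c ≠ 4 → c ∈ L3 by decide) c (hw c hc).1 h4
        rw [e3 c this, h3 _ (k3 c this) k.2]
    exact b.trans ((E3.ker a).2 ((c1.ker _).1 ((φw w fun c hc => (hw c hc).1).trans r)))
  have sq : ∀ c, e c * e c = 1 := fun c => by
    by_cases h : c ∈ L3
    · simpa using r3 [c, c] (by simpa using h) (by simpa using PY_yr.sq c)
    by_cases h4 : c = 4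
    · simpa [h4] using r9 [4, 4] (by decide) (by simpa using PY_yr.sq 4)
    · simp [e, h, h4]
  obtain ⟨f, hf⟩ := PData.exists_hom coh hg (σ := e) (fun c => eq_inv_of_mul_eq_one_left (sq c))
    fun r hr => by
      have c : e 4 * e 9 = e 9 * e 4 := c9
      rcases (show ∀ r ∈ PY.relL, (∀ c ∈ r, c ∈ L3) ∨ (∀ c ∈ r, c < 11 ∧ c ≠ 9) ∨ r = [4, 9, 4, 9] ∨
        r = [9, 4, 9, 4] by decide +kernel) r hr with k | k | rfl | rfl
      exacts [r3 r k (PData.rels coh hg r hr), r9 r k (PData.rels coh hg r hr), by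
        simp only [ev_cons, ev_nil, mul_one]; rw [c, ← mul_assoc (e 9), sq, one_mul, sq], by
        simp only [ev_cons, ev_nil, mul_one]; rw [← c, ← mul_assoc (e 4), sq, one_mul, sq]]
  exact ⟨f, fun c hc => (hf c ((show ∀ c ∈ L3, c < 11 by decide) c hc)).trans (e3 c hc)⟩

/-- The image of the Baby Monster contains the centraliser of `t`. -/
theorem phi (f : BabyMonster →* G) (hf : ∀ c ∈ L3, f (PY.e c) = ι (xc c).1) :
    Function.Injective f ∧ ∃ Φ : Subgroup.centralizer {tM tau} →* G, Φ.range = f.range ∧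
      (∀ a, Φ a = 1 ↔ a.1 = 1 ∨ a.1 = tM tau) ∧
      (∀ a, K2 (tM tau) (xm .f1) a.1 → Φ a = ι a.1) ∧ ∀ g, g * t = t * g → g ∈ Φ.range := by
  obtain ⟨φ, c1, c2⟩ := exists_phi hB
  have mc := fun {a} (h : a * tM tau = tM tau * a) => Subgroup.mem_centralizer_singleton_iff.2 h
  have k : ∀ a, K2 (tM tau) (xm .f1) a.1 → f (φ a) = ι a.1 := fun a ha => by
    obtain ⟨w, w1, w2⟩ := k2_word hB ha
    rw [← show ev xc w = a from Subtype.ext w2, map_ev, map_ev]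
    refine (ev_em E w fun c hc => ⟨k2n ((show ∀ c ∈ L3, bN (TB.gN c) ∈ N333 by decide) c (w1 c hc)),
      Eq.trans (congrArg f ?_) (hf c (w1 c hc))⟩).2
    have : c < 11 := (show ∀ c ∈ L3, c < 11 by decide) c (w1 c hc)
    interval_cases c <;> exact c2 _ _
  obtain ⟨s, w, hw, hu⟩ := u_std
  obtain ⟨n, n1, n2⟩ := flip oneM hw s
  rw [hu] at n2
  have nc : n * xm .f1 ≠ xm .f1 * n := fun e =>
    oneM.x_ne (left_eq_mul.1 ((mul_inv_eq_iff_eq_mul.2 e).symm.trans n2))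
  have ku := k ⟨_, mc f1x⟩ ⟨f1x, rfl⟩
  have := hB.1
  have inj : Function.Injective f := (MonoidHom.ker_eq_bot_iff f).1
    (f.normal_ker.eq_bot_or_eq_top.resolve_right fun e => by
      rcases (E.ker ⟨f1x, rfl⟩).1 (ku.symm.trans (e ▸ Subgroup.mem_top _ : _ ∈ f.ker)) with a | a
      exacts [nc (a.symm ▸ cm_one.symm), nc (a.symm ▸ n1)])
  have ker : ∀ a, f (φ a) = 1 ↔ a.1 = 1 ∨ a.1 = tM tau := fun a => by
    rw [map_eq_one_iff f inj, c1.ker]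
  have im : ∀ g, Im2 (tM tau) (xm .f1) ι g → g ∈ (f.comp φ).range := fun g ⟨a, a1, a2⟩ =>
    ⟨⟨a, mc a1.1⟩, (k _ a1).trans a2⟩
  refine ⟨inj, f.comp φ, by rw [MonoidHom.range_comp, MonoidHom.range_eq_top.2 c1.surj,
    ← MonoidHom.range_eq_map], ker, k, fun g hg => ?_⟩
  have nt : f (φ ⟨n, mc n1⟩) * t = t * f (φ ⟨n, mc n1⟩) := by
    have : (⟨n, mc n1⟩ * ⟨_, mc f1x⟩ : Subgroup.centralizer {tM tau}) =
        ⟨_, mc f1x⟩ * ⟨_, mc rfl⟩ * ⟨n, mc n1⟩ := Subtype.ext (mul_inv_eq_iff_eq_mul.1 n2)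
    have := congrArg (fun a => f (φ a)) this
    simp only [map_mul] at this
    rwa [ku, E.hu, (ker ⟨_, mc rfl⟩).2 (.inr rfl), mul_one] at this
  rcases E.idx g _ hg nt with a | ⟨a, a1, a2⟩ | a
  · exact im _ a
  · have := (ker (⟨a, mc a1.1⟩⁻¹ * ⟨n, mc n1⟩)).1 (by
      rw [map_mul, map_mul, map_inv, map_inv, k _ a1, a2, inv_mul_cancel])
    change a⁻¹ * n = 1 ∨ a⁻¹ * n = _ at this
    rw [inv_mul_eq_iff_eq_mul, inv_mul_eq_iff_eq_mul, mul_one] at this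
    exact absurd (ex_cm this f1x a1.2.symm).symm nc
  · exact ((f.comp φ).range.mul_mem_cancel_right ⟨⟨n, mc n1⟩, rfl⟩).1 (im _ a)

/-- From the fusion of `t` to the homomorphism. -/
theorem hom_of_fus
    (fus : ∀ y p γ w s, Two (tM tau) y p γ → AA w → p s w = xm .f1 →
      (∀ g, g * t = t * g → (∀ a, P3 (tM tau) y (xm .f1) a → g * ι a = ι a * g) →
        Im2 (tM tau) (xm .f1) ι g) → ∃ b, b * t * b⁻¹ = t * ι y ∧ b * ι y * b⁻¹ = ι y) :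
    ∃ f : BabyMonster →* G, ∀ c ∈ L3, f (PY.e c) = ι (xc c).1 := by
  obtain ⟨⟨y, p, γ, w, s, H, hw, hu, hd⟩, h, h1, h2, h3⟩ := fr_d2
  obtain ⟨_, _, _, L⟩ := exists_LF
  obtain ⟨b, b1, b2⟩ := fus y p γ w s H hw hu fun g hg k =>
    f4 hB E hg fun a a1 a2 => k a ((p3 H.one hw hu hd).2 ⟨a1, a2⟩)
  obtain ⟨κ, E2, k⟩ := transport H.one hw hu hd L E h1 h2 h3 b1 b2
  exact nodes hB E E2 k

end H10.Mon.MG.MB.N12
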