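import Mathlib
import Cfsg.Agent.H11.BC3
import Cfsg.Agent.H9.BE3

/-!
# The image of the Baby Monster contains the centraliser of `t`
-/

set_option autoImplicit false
set_option linter.all false

namespace H10.Mon.MG.MB.N12

open Cfsg H29 Cfsg.Spor H10.Mon.T H29.YB

theorem pre {G : Type*} [Group G] [Finite G] [IsSimpleGroup G] (hB : IsB BabyMonster) {t : G}
    {M : Subgroup (Subgroup.centralizer ({t} : Set G))} (hM : M.index = 2)
    (hout : Subgroup.centralizer (M : Set (Subgroup.centralizer ({t} : Set G))) ≤ M)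
    (m : ℕ → M) (hg : gen m L3 = ⊤) (h1 : Tr PY.e m L3) (h2 : Tr m PY.e L3)
    (ht : (ev m [6, 5, 0, 1, 2, 3, 8] ^ 9).1.1 = t)
    (onto : ∀ (γ : MM tau) (s : ZMod 2) (w : C), Two (tM tau) (zM tau) qM γ → AA w →
      ∀ Φ : Subgroup.centralizer {tM tau} →* G, (∀ a, Φ a = 1 ↔ a.1 = 1 ∨ a.1 = tM tau) →
      ∀ u : Subgroup.centralizer {tM tau}, u.1 = qM s w →
      (∀ g, g * Φ u = Φ u * g → g ∈ Φ.range) → Function.Surjective Φ) : IsoB G := by
  obtain ⟨ι, E⟩ := ident1 hB hM hout m hg h1 h2 ht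
  obtain ⟨_, _, _, L⟩ := exists_LF
  obtain ⟨f, hf⟩ := hom_of_fus hB E fun y p γ w s H hw hu F =>
    Em2.fuse (hu.symm ▸ E) H L hw (hu.symm ▸ F)
  obtain ⟨inj, Φ, a1, a2, a3, a4⟩ := phi hB E f hf
  obtain ⟨s, w, hw, hu⟩ := u_std
  obtain ⟨γ, H⟩ := twoM
  have := onto γ s w H hw Φ a2 ⟨_, Subgroup.mem_centralizer_singleton_iff.2 f1x⟩ hu.symm (by
    rw [a3 _ ⟨f1x, rfl⟩, E.hu]; exact a4)
  exact ⟨(MulEquiv.ofBijective f ⟨inj, MonoidHom.range_eq_top.1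
    (a1 ▸ MonoidHom.range_eq_top.2 this)⟩).symm⟩

end H10.Mon.MG.MB.N12
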