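import Mathlib
import Cfsg.Agent.H9.BE2
import Cfsg.Agent.H22.HoQ

/-!
# The image of the centraliser of `x` is the whole simple group
-/

set_option autoImplicit false
set_option linter.all false

namespace H10.Mon.MG.BO

open Subgroup

variable {M G : Type*} [Group M] [Group G] {x y γ : M} {q : ZMod 2 → C → M}

theorem cardXY [Finite M] (H : One x y q) :
    Nat.card ↥(centralizer ({y} : Set M) ⊓ centralizer {x}) = 84610842624000 * 2 ^ 23 := by
  have c3 := H.s.cardK 0 (isS_ne (isS_val c0))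
  rw [H.hx, show MulAction.orbit G0 c0.1 = {c | IsS c} from Set.ext fun d => ⟨fun ⟨g, e⟩ =>
    e ▸ (isS_val c0).smul g, fun hd => (trans_S c0 (toS d hd)).imp fun g e => congrArg Subtype.val e⟩,
    ncard_isS] at c3
  omega

theorem sylR [Finite M] [Finite G] (H : One x y q) (Φ : centralizer {x} →* G)
    (ker : ∀ a, Φ a = 1 ↔ a.1 = 1 ∨ a.1 = x) {z : G} (zz : z * z = 1) (hz : z ∈ Φ.range)
    (hu : ∀ g, g⁻¹ * z * g ∈ Φ.range → g ∈ Φ.range) {P : Subgroup G} (hP : IsPGroup 2 P) :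
    ∃ g, ∀ p ∈ P, g * p * g⁻¹ ∈ ((centralizer {y}).subgroupOf (centralizer {x})).map Φ := by
  obtain ⟨n, -, hn⟩ := odd_idx (Q := zpowers z) (H := Φ.range) (L := ⊤) (pg_zp zz)
    (zpowers_le.2 hz) le_top (fun n _ T h1 h2 h3 => inv_mem_iff.1 (hu n⁻¹ (by
      rw [inv_inv]; exact h2 (h3 z (h1 (mem_zpowers z)))))) hP le_top
  obtain ⟨m, hm, h⟩ := H.syl
    (P := ((P.map (MulAut.conj n).toMonoidHom).comap Φ).map (centralizer {x}).subtype)
    (by
      refine IsPGroup.map ?_ _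
      rintro ⟨a, p, hp, e⟩
      obtain ⟨k, hk⟩ := hP ⟨p, hp⟩
      have : Φ (a ^ 2 ^ k) = 1 := by
        rw [map_pow, ← e, ← map_pow, show p ^ 2 ^ k = 1 from congrArg Subtype.val hk, map_one]
      refine ⟨k + 1, Subtype.ext (Subtype.ext ?_)⟩
      show a.1 ^ 2 ^ (k + 1) = 1
      rw [pow_succ, pow_mul, pow_two]
      rcases (ker _).1 this with e | e <;> rw [show a.1 ^ 2 ^ k = _ from e]
      exacts [mul_one _, H.xx])
    (by rintro _ ⟨a, -, rfl⟩; exact mem_centralizer_singleton_iff.1 a.2)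
  let m' : centralizer {x} := ⟨m, mem_centralizer_singleton_iff.2 hm⟩
  refine ⟨Φ m' * n, fun p hp => ?_⟩
  obtain ⟨a, ha⟩ := hn p hp
  refine ⟨m' * a * m'⁻¹, mem_centralizer_singleton_iff.2 (h a.1 ⟨a, ⟨p, hp, ha.symm⟩, rfl⟩), ?_⟩
  rw [map_mul, map_mul, map_inv, ha]; group

theorem cen2 [Finite M] [Finite G] (H : One x y q) (Φ : centralizer {x} →* G)
    (ker : ∀ a, Φ a = 1 ↔ a.1 = 1 ∨ a.1 = x) (y' : centralizer {x}) (hy : y'.1 = y)
    (hu : ∀ g, g⁻¹ * Φ y' * g ∈ Φ.range → g ∈ Φ.range) :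
    Cfsg.IsTwoCentralInvolution (Φ y') ∧ ¬ 2 ^ 43 ∣ Nat.card G := by
  haveI : Fact (Nat.Prime 2) := ⟨Nat.prime_two⟩
  have zz : Φ y' * Φ y' = 1 := by
    rw [← map_mul, (ker _).2 (.inl (by rw [coe_mul, hy, H.s.yy]))]
  have z1 : Φ y' ≠ 1 := fun e => ((ker _).1 e).elim (fun e => H.s.y_ne (hy ▸ e))
    fun e => H.nc (by rw [← e, hy])
  obtain ⟨S⟩ : Nonempty (Sylow 2 G) := inferInstance
  obtain ⟨g, hg⟩ := sylR H Φ ker zz ⟨_, rfl⟩ hu S.2
  have le : ((g • S : Sylow 2 G) : Subgroup G) ≤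
      ((centralizer {y}).subgroupOf (centralizer {x})).map Φ := by
    rintro _ ⟨p, hp, rfl⟩
    exact hg p hp
  have cm : ∀ p ∈ g • S, p * Φ y' = Φ y' * p := fun p hp => by
    obtain ⟨a, ha, rfl⟩ := le hp
    rw [← map_mul, ← map_mul]
    exact congrArg Φ (Subtype.ext (by
      rw [coe_mul, coe_mul, hy]; exact mem_centralizer_singleton_iff.1 ha))
  refine ⟨⟨orderOf_eq_prime (by rw [pow_two, zz]) z1, g • S, ?_, cm⟩, fun h => ?_⟩
  · have := (g • S).3 (((g • S).2.to_sup_of_normal_left' (pg_zp zz) (zpowers_le.2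
      (centralizer_le_normalizer _ fun p hp => cm p hp)))) le_sup_left
    exact this.le (mem_sup_right (mem_zpowers _))
  · have := (((g • S).pow_dvd_card_of_pow_dvd_card h).trans (card_dvd_of_le le)).trans
      (card_map_dvd _ _)
    rw [← inf_subgroupOf_right, Nat.card_congr (subgroupOfEquivOfLe inf_le_right).toEquiv,
      cardXY H] at this
    norm_num at this

theorem deg (H : One x y q) {n : ℕ} (ψ : centralizer {x} →* Equiv.Perm (Fin n))
    (y' : centralizer {x}) (hy : y'.1 = y) (h : ψ y' ≠ 1) : 2 ^ 11 ≤ n := by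
  obtain ⟨o, ho⟩ : ∃ o, ψ y' o ≠ o := by
    by_contra! hn
    exact h (Equiv.ext hn)
  let U : AddSubgroup C :=
    { carrier := {c | ∃ s, ∃ a : centralizer {x}, a.1 = q s c ∧ ψ a o = o}
      zero_mem' := ⟨0, 1, H.s.zero.symm, by rw [map_one]; rfl⟩
      add_mem' := fun ⟨s, a, h1, h2⟩ ⟨t, b, h3, h4⟩ => ⟨_, a * b, by rw [coe_mul, h1, h3, H.s.mul],
        by rw [map_mul, Equiv.Perm.mul_apply, h4, h2]⟩
      neg_mem' := fun {a} ha => by rwa [neg_eq_iff_add_eq_zero.2 (cc2 a)] }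
  have h1 := BE.isoU (U := U) fun c ⟨s, a, h1, h2⟩ d ⟨t, b, h3, h4⟩ => (z2 _).resolve_right fun e => by
    have : a * b * a⁻¹ = b * y' := Subtype.ext (by
      rw [coe_mul, coe_mul, coe_inv, coe_mul, h1, h3, hy, H.s.cj, e, H.s.mul_y])
    have := congrArg (fun u => ψ u o) this
    simp only [map_mul, map_inv, Equiv.Perm.mul_apply] at this
    rw [Equiv.Perm.inv_eq_iff_eq.2 h2.symm, h4, h2] at this
    exact ho ((ψ b).injective (this.symm.trans h4.symm))
  have h2 := card_perp ⊤ c0.1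
  rw [AddSubgroup.card_top, card_C] at h2
  let a : PerpC ⊤ c0.1 → centralizer {x} := fun c =>
    ⟨q 0 c, mem_centralizer_singleton_iff.2 (H.cm_x.2 c.2.2)⟩
  let φ : PerpC ⊤ c0.1 → Fin n := fun c => ψ (a c) o
  have h3 := Nat.card_le_card_of_injective (fun c : PerpC ⊤ c0.1 =>
    ((φ c, ⟨(Function.invFun φ (φ c)).1 + c.1, _, (a (Function.invFun φ (φ c)))⁻¹ * a c, by
      rw [coe_mul, coe_inv, H.s.q_inv, H.s.mul], by
      rw [map_mul, map_inv, Equiv.Perm.mul_apply, Equiv.Perm.inv_eq_iff_eq]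
      exact (Function.invFun_eq (f := φ) ⟨c, rfl⟩).symm⟩) : Fin n × U)) fun c d e => by
    have e1 := congrArg Prod.fst e
    have e2 := congrArg (fun u => u.2.1) e
    simp only at e1 e2
    rw [e1] at e2
    exact Subtype.ext (add_left_cancel e2)
  rw [Nat.card_prod, Nat.card_eq_fintype_card (α := Fin n), Fintype.card_fin] at h3
  have := Nat.mul_le_mul_left n h1
  omega

theorem fin [Finite M] [Finite G] (H : Two x y q γ) (Φ : centralizer {x} →* G)
    (ker : ∀ a, Φ a = 1 ↔ a.1 = 1 ∨ a.1 = x) {s : ZMod 2} {w : C} (h1 : IsS w)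
    (h2 : IsS (w + c0.1)) (t y' : centralizer {x}) (ht : t.1 = q s w) (hy : y'.1 = y)
    [IsSimpleGroup G] (nc : ¬ IsConj (Φ t) (Φ y'))
    (hu : ∀ g, g⁻¹ * Φ y' * g ∈ Φ.range → g ∈ Φ.range) : Function.Surjective Φ := by
  by_contra hs
  obtain ⟨c1, c2⟩ := cen2 H.one Φ ker y' hy hu
  rcases H22.Ho.holt_cosets (H := Φ.range) (fun c => hs fun g => hu g ⟨y', by
    rw [mul_assoc, c.is_comm.comm _ g, inv_mul_cancel_left]⟩) (mt MonoidHom.range_eq_top.1 hs) c1 ⟨_, rfl⟩ hu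
    with h | ⟨n, -, h7, ⟨e⟩⟩
  · haveI : Fact (Nat.Prime 2) := ⟨Nat.prime_two⟩
    refine nc (H6.isConj_of_isStronglyEmbedded h (orderOf_eq_prime (by
      rw [pow_two, ← map_mul, (ker _).2 (.inl (by rw [coe_mul, ht, H.s.sq0 _ (bb_isS h1)]))]) fun e => ?_) c1.1)
    rw [ker, ht, ← H.s.zero, ← H.hx] at e
    rcases e with e | e
    · exact isS_ne h1 (H.s.inj e).2
    · exact isS_ne h2 (by rw [(H.s.inj e).2, cc2])
  · have := deg H.one (((alternatingGroup (Fin n)).subtype.comp e.toMonoidHom).comp Φ) y' hy fun h => by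
      have : Φ y' = 1 := e.injective (Subtype.ext (by rw [map_one]; exact h))
      simpa [this] using c1.1
    haveI : Nontrivial (Fin n) := Fin.nontrivial_iff_two_le.2 (by omega)
    have k := two_mul_nat_card_alternatingGroup (α := Fin n)
    rw [← Nat.card_congr e.toEquiv, Nat.card_perm, Nat.card_eq_fintype_card (α := Fin n),
      Fintype.card_fin] at k
    refine c2 (Nat.dvd_of_mul_dvd_mul_left two_pos ?_)
    rw [k]
    exact (show 2 * 2 ^ 43 ∣ Nat.factorial 48 by decide +kernel).trans (Nat.factorial_dvd_factorial (by omega))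

end H10.Mon.MG.BO
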