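import Mathlib
import Cfsg.Agent.H11.C3BD

set_option autoImplicit false
set_option maxRecDepth 100000
set_option Elab.async false
set_option linter.all false

namespace H11.C3AD

open H29

open H7.Cay H11.C3 H11.C3BT H11.C3BD

/-- Equality of words modulo the centre. -/
noncomputable def ez (u v : List ℕ) : Bool := or2 (eq4 9 C3KX.T u v) (eq4 9 C3KX.T u (14 :: v))
/-- Lifts of the 63 transvections. -/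
def W : List (List ℕ) := [[0], [2], [4], [6], [8], [10], [12], [4, 0, 4], [6, 2, 6], [6, 4, 6], [8, 6, 8], [10, 8, 10], [12, 10, 12], [6, 4, 0, 4, 6], [4, 6, 2, 6, 4], [8, 6, 2, 6, 8], [8, 6, 4, 6, 8], [10, 8, 6, 8, 10], [12, 10, 8, 10, 12], [2, 6, 4, 0, 4, 6, 2], [8, 6, 4, 0, 4, 6, 8], [8, 4, 6, 2, 6, 4, 8], [10, 8, 6, 2, 6, 8, 10], [10, 8, 6, 4, 6, 8, 10], [12, 10, 8, 6, 8, 10, 12], [8, 2, 6, 4, 0, 4, 6, 2, 8], [10, 8, 6, 4, 0, 4, 6, 8, 10], [6, 8, 4, 6, 2, 6, 4, 8, 6], [10, 8, 4, 6, 2, 6, 4, 8, 10], [12, 10, 8, 6, 2, 6, 8, 10, 12], [12, 10, 8, 6, 4, 6, 8, 10, 12], [6, 8, 2, 6, 4, 0, 4, 6, 2, 8, 6], [10, 8, 2, 6, 4, 0, 4, 6, 2, 8, 10], [12, 10, 8, 6, 4, 0, 4, 6, 8, 10, 12], [10, 6, 8, 4, 6, 2, 6, 4, 8, 6, 10], [12, 10, 8, 4, 6, 2, 6, 4, 8, 10, 12], [4, 6, 8, 2, 6, 4, 0, 4, 6, 2,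 8, 6, 4], [10, 6, 8, 2, 6, 4, 0, 4, 6, 2, 8, 6, 10], [12, 10, 8, 2, 6, 4, 0, 4, 6, 2, 8, 10, 12], [8, 10, 6, 8, 4, 6, 2, 6, 4, 8, 6, 10, 8], [12, 10, 6, 8, 4, 6, 2, 6, 4, 8, 6, 10, 12], [10, 4, 6, 8, 2, 6, 4, 0, 4, 6, 2, 8, 6, 4, 10], [8, 10, 6, 8, 2, 6, 4, 0, 4, 6, 2, 8, 6, 10, 8], [12, 10, 6, 8, 2, 6, 4, 0, 4, 6, 2, 8, 6, 10, 12], [12, 8, 10, 6, 8, 4, 6, 2, 6, 4, 8, 6, 10, 8, 12], [8, 10, 4, 6, 8, 2, 6, 4, 0, 4, 6, 2, 8, 6, 4, 10, 8], [12, 10, 4, 6, 8, 2, 6, 4, 0, 4, 6, 2, 8, 6, 4, 10, 12], [12, 8, 10, 6, 8, 2, 6, 4, 0, 4, 6, 2, 8, 6, 10, 8, 12], [10, 12, 8, 10, 6, 8, 4, 6, 2, 6, 4, 8, 6, 10, 8, 12, 10], [6, 8, 10, 4, 6, 8, 2, 6, 4, 0, 4, 6, 2, 8, 6, 4, 10, 8, 6], [12, 8, 10, 4, 6, 8, 2, 6, 4, 0, 4, 6, 2, 8, 6, 4, 10, 8, 12], [10, 12, 8, 10, 6, 8, 2, 6, 4, 0, 4, 6, 2, 8, 6, 10,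 8, 12, 10], [2, 6, 8, 10, 4, 6, 8, 2, 6, 4, 0, 4, 6, 2, 8, 6, 4, 10, 8, 6, 2], [12, 6, 8, 10, 4, 6, 8, 2, 6, 4, 0, 4, 6, 2, 8, 6, 4, 10, 8, 6, 12], [10, 12, 8, 10, 4, 6, 8, 2, 6, 4, 0, 4, 6, 2, 8, 6, 4, 10, 8, 12, 10], [12, 2, 6, 8, 10, 4, 6, 8, 2, 6, 4, 0, 4, 6, 2, 8, 6, 4, 10, 8, 6, 2, 12], [10, 12, 6, 8, 10, 4, 6, 8, 2, 6, 4, 0, 4, 6, 2, 8, 6, 4, 10, 8, 6, 12, 10], [10, 12, 2, 6, 8, 10, 4, 6, 8, 2, 6, 4, 0, 4, 6, 2, 8, 6, 4, 10, 8, 6, 2, 12, 10], [8, 10, 12, 6, 8, 10, 4, 6, 8, 2, 6, 4, 0, 4, 6, 2, 8, 6, 4, 10, 8, 6, 12, 10, 8], [8, 10, 12, 2, 6, 8, 10, 4, 6, 8, 2, 6, 4, 0, 4, 6, 2, 8, 6, 4, 10, 8, 6, 2, 12, 10, 8], [6, 8, 10, 12, 2, 6, 8, 10, 4, 6, 8, 2, 6, 4, 0, 4, 6, 2, 8, 6, 4, 10, 8, 6, 2, 12, 10, 8, 6], [4, 6, 8, 10, 12, 2, 6, 8, 10, 4, 6, 8, 2, 6, 4, 0, 4, 6, 2, 8, 6, 4,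 10, 8, 6, 2, 12, 10, 8, 6, 4], [0, 4, 6, 8, 10, 12, 2, 6, 8, 10, 4, 6, 8, 2, 6, 4, 0, 4, 6, 2, 8, 6, 4, 10, 8, 6, 2, 12, 10, 8, 6, 4, 0]]
def tab : List (List ℕ) := [[0, 1, 7, 3, 4, 5, 6, 2, 8, 13, 10, 11, 12, 9, 19, 15, 20, 17, 18, 14, 16, 25, 22, 26, 24, 21, 23, 31, 32, 29, 33, 27, 28, 30, 37, 38, 36, 34, 35, 42, 43, 41, 39, 40, 47, 45, 46, 44, 51, 49, 50, 48, 52, 53, 54, 55, 56, 57, 58, 59, 60, 62, 61], [0, 1, 7, 3, 4, 5, 6, 2, 8, 13, 10, 11, 12, 9, 19, 15, 20, 17, 18, 14, 16, 25, 22, 26, 24, 21, 23, 31, 32, 29, 33, 27, 28, 30, 37, 38, 36, 34, 35, 42, 43, 41, 39, 40, 47, 45, 46, 44, 51, 49, 50, 48, 52, 53, 54, 55, 56, 57, 58, 59, 60, 62, 61], [0, 1, 2, 8, 4, 5, 6, 7, 3, 14, 15, 11, 12, 19, 9, 10, 21, 22, 18, 13, 25, 16, 17, 28, 29, 20, 32, 27, 23, 24, 35, 31, 26, 38, 34, 30, 36,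 37, 33, 39, 40, 41, 42, 43, 44, 45, 46, 47, 48, 52, 50, 51, 49, 55, 54, 53, 57, 56, 59, 58, 60, 61, 62], [0, 1, 2, 8, 4, 5, 6, 7, 3, 14, 15, 11, 12, 19, 9, 10, 21, 22, 18, 13, 25, 16, 17, 28, 29, 20, 32, 27, 23, 24, 35, 31, 26, 38, 34, 30, 36, 37, 33, 39, 40, 41, 42, 43, 44, 45, 46, 47, 48, 52, 50, 51, 49, 55, 54, 53, 57, 56, 59, 58, 60, 61, 62], [7, 1, 2, 9, 4, 5, 6, 0, 14, 3, 16, 11, 12, 13, 8, 21, 10, 23, 18, 19, 20, 15, 28, 17, 30, 25, 26, 27, 22, 35, 24, 36, 32, 33, 34, 29, 31, 41, 38, 39, 40, 37, 45, 46, 44, 42, 43, 50, 48, 49, 47, 54, 52, 53, 51, 55, 56, 57, 58, 59, 61, 60, 62], [7, 1, 2, 9, 4, 5, 6, 0, 14, 3, 16, 11, 12, 13, 8, 21, 10, 23, 18, 19, 20, 15, 28, 17, 30, 25, 26, 27, 22, 35, 24, 36, 32, 33, 34, 29, 31, 41, 38, 39, 40, 37, 45, 46, 44, 42, 43, 50, 48, 49, 47, 54,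 52, 53, 51, 55, 56, 57, 58, 59, 61, 60, 62], [0, 8, 9, 3, 10, 5, 6, 13, 1, 2, 4, 17, 12, 7, 14, 15, 16, 11, 24, 19, 20, 27, 22, 23, 18, 31, 26, 21, 34, 29, 30, 25, 37, 33, 28, 40, 36, 32, 43, 39, 35, 41, 42, 38, 44, 49, 46, 47, 48, 45, 53, 51, 52, 50, 56, 55, 54, 57, 58, 60, 59, 61, 62], [0, 8, 9, 3, 10, 5, 6, 13, 1, 2, 4, 17, 12, 7, 14, 15, 16, 11, 24, 19, 20, 27, 22, 23, 18, 31, 26, 21, 34, 29, 30, 25, 37, 33, 28, 40, 36, 32, 43, 39, 35, 41, 42, 38, 44, 49, 46, 47, 48, 45, 53, 51, 52, 50, 56, 55, 54, 57, 58, 60, 59, 61, 62], [0, 1, 2, 10, 4, 11, 6, 7, 15, 16, 3, 5, 18, 20, 21, 8, 9, 17, 12, 25, 13, 14, 22, 23, 24, 19, 26, 27, 28, 29, 30, 31, 32, 33, 39, 35, 36, 42, 38, 34, 44, 45, 37, 47, 40, 41, 50, 43, 48, 49, 46, 51, 52, 53, 54, 55, 58, 59, 56, 57, 60, 61, 62], [0, 1, 2, 10,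 4, 11, 6, 7, 15, 16, 3, 5, 18, 20, 21, 8, 9, 17, 12, 25, 13, 14, 22, 23, 24, 19, 26, 27, 28, 29, 30, 31, 32, 33, 39, 35, 36, 42, 38, 34, 44, 45, 37, 47, 40, 41, 50, 43, 48, 49, 46, 51, 52, 53, 54, 55, 58, 59, 56, 57, 60, 61, 62], [0, 1, 2, 3, 11, 5, 12, 7, 8, 9, 17, 4, 6, 13, 14, 22, 23, 10, 18, 19, 26, 28, 15, 16, 24, 32, 20, 34, 21, 29, 30, 37, 25, 33, 27, 35, 41, 31, 38, 39, 40, 36, 42, 43, 48, 45, 46, 51, 44, 49, 54, 47, 52, 56, 50, 57, 53, 55, 58, 59, 60, 61, 62], [0, 1, 2, 3, 11, 5, 12, 7, 8, 9, 17, 4, 6, 13, 14, 22, 23, 10, 18, 19, 26, 28, 15, 16, 24, 32, 20, 34, 21, 29, 30, 37, 25, 33, 27, 35, 41, 31, 38, 39, 40, 36, 42, 43, 48, 45, 46, 51, 44, 49, 54, 47, 52, 56, 50, 57, 53, 55, 58, 59, 60, 61, 62], [0, 1, 2, 3, 4, 12, 6, 7, 8, 9, 10, 18, 5, 13, 14, 15, 16, 24, 11, 19, 20,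 21, 29, 30, 17, 25, 33, 27, 35, 22, 23, 31, 38, 26, 40, 28, 36, 43, 32, 44, 34, 46, 47, 37, 39, 50, 41, 42, 48, 53, 45, 51, 55, 49, 54, 52, 56, 57, 58, 59, 60, 61, 62], [0, 1, 2, 3, 4, 12, 6, 7, 8, 9, 10, 18, 5, 13, 14, 15, 16, 24, 11, 19, 20, 21, 29, 30, 17, 25, 33, 27, 35, 22, 23, 31, 38, 26, 40, 28, 36, 43, 32, 44, 34, 46, 47, 37, 39, 50, 41, 42, 48, 53, 45, 51, 55, 49, 54, 52, 56, 57, 58, 59, 60, 61, 62], [0, 1, 2, 3, 4, 5, 6, 7, 8, 9, 10, 11, 12, 13, 14, 15, 16, 17, 18, 19, 20, 21, 22, 23, 24, 25, 26, 27, 28, 29, 30, 31, 32, 33, 34, 35, 36, 37, 38, 39, 40, 41, 42, 43, 44, 45, 46, 47, 48, 49, 50, 51, 52, 53, 54, 55, 56, 57, 58, 59, 60, 61, 62]]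
/-- The order of a product of two generators modulo the centre. -/
noncomputable def mo (i j : ℕ) : ℕ := nth 2 (nth [] [[2, 2, 3, 2, 2, 2, 2], [2, 2, 2, 3, 2, 2, 2], [3, 2, 2, 3, 2, 2, 2], [2, 3, 3, 2, 3, 2, 2], [2, 2, 2, 3, 2, 3, 2], [2, 2, 2, 2, 3, 2, 3], [2, 2, 2, 2, 2, 3, 2]] i) j
/-- One step of the normalisation of the images of the generators. -/
noncomputable def chkL (i : ℕ) (D : List ℕ) (l : List (List ℕ)) : Bool :=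
  and2 (allL D fun j => and2 (Bool.not (ez [Nat.mul 2 i] [Nat.mul 2 j]))
    (ez (powW (mo i j) [Nat.mul 2 i, Nat.mul 2 j]) []))
  (allF 63 fun v => or2 (anyL D fun j => or2 (ez (nth [] W v) [Nat.mul 2 j])
      (Bool.not (ez (powW (mo i j) (nth [] W v ++ [Nat.mul 2 j])) [])))
    (and2 (ez (nth [] l v ++ nth [] W v) (Nat.mul 2 i :: nth [] l v))
      (allL D fun j => ez (nth [] l v ++ [Nat.mul 2 j]) (Nat.mul 2 j :: nth [] l v))))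
def l0 : List (List ℕ) := [[], [4, 6, 0, 4, 2, 6, 0, 4, 2, 0], [0, 4, 0], [0, 4, 6, 0, 4, 0], [0, 4, 6, 8, 0, 4, 6, 0, 4, 0], [0, 4, 6, 8, 10, 0, 4, 6, 8, 4, 6, 0, 4, 0], [0, 4, 6, 8, 10, 12, 0, 4, 6, 8, 10, 6, 8, 4, 6, 0, 4, 0], [4], [0, 4, 2, 6, 0, 4, 2, 0], [0, 4, 6, 4, 0], [0, 4, 6, 8, 6, 0, 4, 0], [0, 4, 6, 8, 10, 8, 0, 4, 6, 0, 4, 0], [0, 4, 6, 8, 10, 12, 10, 0, 4, 6, 8, 4, 6, 0, 4, 0], [4, 6, 4], [0, 4, 2, 6, 4, 2, 0], [0, 4, 2, 6, 8, 6, 0, 4, 2, 0], [0, 4, 6, 8, 6, 4, 0], [0, 4, 6, 8, 10, 8, 6, 0, 4, 0], [0, 4, 6, 8, 10, 12, 10, 8, 0, 4, 6, 0, 4, 0], [4, 2, 6, 4, 2], [4, 6, 8, 6, 4], [0, 4, 2, 6, 8, 6, 4, 2, 0], [0, 4, 2, 6, 8, 10, 8, 6, 0, 4, 2, 0], [0, 4, 6, 8, 10, 8, 6, 4, 0], [0, 4, 6, 8, 10, 12, 10, 8, 6, 0, 4, 0], [4, 2, 6, 8, 6, 4, 2], [4, 6, 8, 10, 8, 6, 4], [6, 0,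 4, 2, 6, 8, 6, 4, 2, 6, 0], [0, 4, 2, 6, 8, 10, 8, 6, 4, 2, 0], [0, 4, 2, 6, 8, 10, 12, 10, 8, 6, 0, 4, 2, 0], [0, 4, 6, 8, 10, 12, 10, 8, 6, 4, 0], [6, 4, 2, 6, 8, 6, 4, 2, 6], [4, 2, 6, 8, 10, 8, 6, 4, 2], [4, 6, 8, 10, 12, 10, 8, 6, 4], [6, 0, 4, 2, 6, 8, 10, 8, 6, 4, 2, 6, 0], [0, 4, 2, 6, 8, 10, 12, 10, 8, 6, 4, 2, 0], [6, 4, 2, 6, 8, 6, 4, 2, 6, 4], [6, 4, 2, 6, 8, 10, 8, 6, 4, 2, 6], [4, 2, 6, 8, 10, 12, 10, 8, 6, 4, 2], [8, 6, 0, 4, 2, 6, 8, 10, 8, 6, 4, 2, 6, 8, 0], [6, 0, 4, 2, 6, 8, 10, 12, 10, 8, 6, 4, 2, 6, 0], [6, 4, 2, 6, 8, 10, 8, 6, 4, 2, 6, 4], [8, 6, 4, 2, 6, 8, 10, 8, 6, 4, 2, 6, 8], [6, 4, 2, 6, 8, 10, 12, 10, 8, 6, 4, 2, 6], [8, 6, 0, 4, 2, 6, 8, 10, 12, 10, 8, 6, 4, 2, 6, 8, 0], [8, 6, 4, 2, 6, 8, 10, 8, 6, 4, 2, 6, 8, 4], [6, 4, 2, 6, 8, 10, 12, 10, 8, 6, 4,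 2, 6, 4], [8, 6, 4, 2, 6, 8, 10, 12, 10, 8, 6, 4, 2, 6, 8], [10, 8, 6, 0, 4, 2, 6, 8, 10, 12, 10, 8, 6, 4, 2, 6, 8, 10, 0], [8, 6, 4, 2, 6, 8, 10, 8, 6, 4, 2, 6, 8, 4, 6, 4], [8, 6, 4, 2, 6, 8, 10, 12, 10, 8, 6, 4, 2, 6, 8, 4], [10, 8, 6, 4, 2, 6, 8, 10, 12, 10, 8, 6, 4, 2, 6, 8, 10], [8, 6, 4, 2, 6, 8, 10, 8, 6, 4, 2, 6, 8, 4, 2, 6, 4, 2], [8, 6, 4, 2, 6, 8, 10, 12, 10, 8, 6, 4, 2, 6, 8, 4, 6, 4], [10, 8, 6, 4, 2, 6, 8, 10, 12, 10, 8, 6, 4, 2, 6, 8, 10, 4], [8, 6, 4, 2, 6, 8, 10, 12, 10, 8, 6, 4, 2, 6, 8, 4, 2, 6, 4, 2], [10, 8, 6, 4, 2, 6, 8, 10, 12, 10, 8, 6, 4, 2, 6, 8, 10, 4, 6, 4], [10, 8, 6, 4, 2, 6, 8, 10, 12, 10, 8, 6, 4, 2, 6, 8, 10, 4, 2, 6, 4, 2], [12, 10, 8, 6, 4, 2, 6, 8, 10, 12, 10, 8, 6, 4, 2, 6, 8, 10, 8, 6, 4, 2, 6, 8, 6], [12, 10, 8, 6, 4, 2, 6, 8, 10, 12, 10, 8,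 6, 4, 2, 6, 8, 10, 8, 6, 4, 2, 6, 8, 4, 6, 2], [12, 10, 8, 6, 4, 2, 6, 8, 10, 12, 10, 8, 6, 4, 2, 6, 8, 10, 8, 6, 4, 2, 6, 8, 6, 4, 2, 6, 2], [12, 10, 8, 6, 4, 2, 6, 8, 10, 12, 10, 8, 6, 4, 2, 6, 8, 10, 8, 6, 4, 2, 6, 8, 6, 4, 2, 6, 4, 2], [4, 6, 8, 10, 2, 6, 8, 4, 6, 0, 4, 2, 6, 8, 10, 12, 10, 8, 6, 4, 2, 6, 8, 10, 0, 4, 6, 8, 2, 6, 4]]
theorem c0 : chkL 0 [] l0 = true := by decide +kernel
def l1 : List (List ℕ) := [[], [], [], [], [], [], [], [2, 6, 8, 4, 6, 0, 4, 2, 6, 8, 4, 6, 0, 4, 2, 6, 0, 4, 2], [], [6], [], [], [], [2, 6, 8, 4, 6, 0, 4, 2, 6, 8, 6, 0, 4, 2, 6, 0, 4, 2], [2, 6, 2], [], [6, 8, 6], [], [], [6, 8, 4, 6, 0, 4, 2, 6, 8, 6, 0, 4, 2, 6, 0, 4], [4, 6, 0, 4, 2, 6, 8, 4, 6, 0, 4, 2, 6, 0, 4, 2], [2, 6, 8, 6, 2], [], [6, 8, 10, 8, 6], [], [4, 6, 0, 4, 2, 6, 8, 6, 0, 4,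 2, 6, 0, 4], [4, 6, 0, 4, 2, 6, 8, 10, 8, 4, 6, 0, 4, 2, 6, 0, 4, 2], [2, 6, 8, 2, 6, 2], [2, 6, 8, 10, 8, 6, 2], [], [6, 8, 10, 12, 10, 8, 6], [4, 6, 0, 4, 2, 6, 8, 6, 4, 2, 6, 0, 4], [4, 6, 0, 4, 2, 6, 8, 10, 8, 6, 0, 4, 2, 6, 0, 4], [4, 6, 0, 4, 2, 6, 8, 10, 12, 10, 8, 4, 6, 0, 4, 2, 6, 0, 4, 2], [2, 6, 8, 10, 8, 2, 6, 2], [2, 6, 8, 10, 12, 10, 8, 6, 2], [], [4, 6, 0, 4, 2, 6, 8, 10, 8, 6, 4, 2, 6, 0, 4], [4, 6, 0, 4, 2, 6, 8, 10, 12, 10, 8, 6, 0, 4, 2, 6, 0, 4], [2, 6, 8, 10, 2, 6, 8, 2, 6, 2], [2, 6, 8, 10, 12, 10, 8, 2, 6, 2], [], [8, 4, 6, 0, 4, 2, 6, 8, 10, 8, 6, 4, 2, 6, 8, 0, 4], [4, 6, 0, 4, 2, 6, 8, 10, 12, 10, 8, 6, 4, 2, 6, 0, 4], [2, 6, 8, 10, 12, 10, 2, 6, 8, 2, 6, 2], [], [], [8, 4, 6, 0, 4, 2, 6, 8, 10, 12, 10, 8, 6, 4, 2, 6, 8, 0, 4], [2, 6, 8, 10, 12, 2, 6, 8,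 10, 6, 8, 2, 6, 2], [], [], [10, 8, 4, 6, 0, 4, 2, 6, 8, 10, 12, 10, 8, 6, 4, 2, 6, 8, 10, 0, 4], [], [], [], [], [], [], [], [], [], [6, 8, 10, 2, 6, 8, 4, 6, 0, 4, 2, 6, 8, 10, 12, 10, 8, 6, 4, 2, 6, 8, 10, 0, 4, 6, 8, 2, 6], [10, 8, 4, 6, 0, 4, 2, 6, 8, 10, 12, 10, 8, 6, 4, 2, 6, 8, 10, 6, 4, 2, 6, 8, 6, 4, 2, 6, 0, 4]]
theorem c1 : chkL 2 [0] l1 = true := by decide +kernel
def l2 : List (List ℕ) := [[], [], [], [], [], [], [], [], [2], [], [8], [], [], [], [], [8, 2], [], [8, 10, 8], [], [], [], [], [8, 10, 8, 2], [], [8, 10, 12, 10, 8], [], [], [], [], [8, 10, 12, 10, 8, 2], [], [], [], [], [], [], [8, 10, 6, 8, 4, 6, 0, 4, 2, 6, 8, 10, 8, 6, 0, 4, 2, 6, 8, 0, 4, 6], [], [], [], [], [6, 8, 4, 6, 0, 4, 2, 6, 8, 10, 8, 6, 0, 4, 2, 6, 8, 0, 4, 6], [], [], [], [6, 8, 4, 6, 0, 4,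 2, 6, 8, 10, 8, 6, 4, 2, 6, 8, 0, 4, 6], [6, 8, 4, 6, 0, 4, 2, 6, 8, 10, 12, 10, 8, 6, 0, 4, 2, 6, 8, 0, 4, 6], [], [], [], [6, 8, 4, 6, 0, 4, 2, 6, 8, 10, 12, 10, 8, 6, 4, 2, 6, 8, 0, 4, 6], [], [], [], [10, 6, 8, 4, 6, 0, 4, 2, 6, 8, 10, 12, 10, 8, 6, 4, 2, 6, 8, 10, 0, 4, 6], [], [], [], [], [], [8, 10, 2, 6, 8, 4, 6, 0, 4, 2, 6, 8, 10, 12, 10, 8, 6, 4, 2, 6, 8, 10, 0, 4, 6, 8, 2], [], []]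
theorem c2 : chkL 3 [2, 0] l2 = true := by decide +kernel
def l3 : List (List ℕ) := [[], [], [], [], [12, 2, 6, 8, 4, 6, 0, 4, 2, 6, 8, 4, 6, 0, 4, 2, 6, 0, 4, 2, 0], [], [], [], [], [], [], [10, 12, 2, 6, 8, 4, 6, 0, 4, 2, 6, 8, 10, 4, 6, 0, 4, 2, 6, 0, 4, 2, 0], [], [], [], [], [], [], [12, 10, 2, 6, 8, 4, 6, 0, 4, 2, 6, 8, 10, 12, 10, 4, 6, 0, 4, 2, 6, 0, 4, 2, 0], [], [], [], [], [], [], [], [], [], [], [], [], [], [], [], [], [], [], [], [], [], [], [], [], [], [], [], [], [], [], [2, 6, 8, 4, 6, 0, 4, 2, 6, 8, 10, 8, 6, 4, 2, 6, 8, 0, 4, 6, 2], [], [], [], [2, 6, 8, 4, 6, 0, 4, 2, 6, 8, 10, 12, 10, 8, 6, 4, 2, 6, 8, 0, 4, 6, 2], [], [], [10, 2, 6, 8, 4, 6, 0, 4, 2, 6, 8, 10, 12, 10, 8, 6, 4, 2, 6, 8, 10, 0, 4, 6, 2], [], [], [8, 10, 6, 8, 4, 6, 0, 4, 2, 6, 8, 10, 12, 10, 8,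 6, 4, 2, 6, 8, 10, 0, 4, 6, 8], [], [], []]
theorem c3 : chkL 1 [3, 2, 0] l3 = true := by decide +kernel
def l4 : List (List ℕ) := [[], [], [], [], [], [], [], [], [], [], [], [10], [], [], [], [], [], [], [10, 12, 10], [], [], [], [], [], [], [], [], [], [], [], [], [], [], [], [], [], [], [], [], [], [], [], [], [], [], [], [], [], [], [], [], [], [], [], [], [], [], [], [], [], [], [], []]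
theorem c4 : chkL 4 [1, 3, 2, 0] l4 = true := by decide +kernel
def l5 : List (List ℕ) := [[], [], [], [], [], [], [], [], [], [], [], [], [12], [], [], [], [], [], [], [], [], [], [], [], [], [], [], [], [], [], [], [], [], [], [], [], [], [], [], [], [], [], [], [], [], [], [], [], [], [], [], [], [], [], [], [], [], [], [], [], [], [], []]
theorem c5 : chkL 5 [4, 1, 3, 2, 0] l5 = true := by decide +kernel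
def l6 : List (List ℕ) := [[], [], [], [], [], [], [], [], [], [], [], [], [], [], [], [], [], [], [], [], [], [], [], [], [], [], [], [], [], [], [], [], [], [], [], [], [], [], [], [], [], [], [], [], [], [], [], [], [], [], [], [], [], [], [], [], [], [], [], [], [], [], []]
theorem c6 : chkL 6 [5, 4, 1, 3, 2, 0] l6 = true := by decide +kernel
theorem cT : (allF 15 fun c => allF 63 fun v => lit (nth 0 (nth [] tab c) v) fun u => and2 (lt u 63)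
    (ez (c :: nth [] W v) (nth [] W u ++ [c]))) = true := by decide +kernel
theorem c3t : (allF 63 fun v => ez (powW 6 (0 :: nth [] W v)) []) = true := by decide +kernel
/-- The elements with square the central involution. -/
def CL : List (ℕ × ℕ × ℕ × List ℕ × List ℕ) := [(16, 18, 4640, [], [5, 1, 7, 5, 9, 7, 11, 9, 13, 11]), (17, 18, 4640, [], [3, 5, 1, 7, 5, 9, 7, 11, 9, 13, 11]), (18, 16, 4608, [11, 1], [0, 10]), (19, 16, 4608, [11, 1], [0, 10]), (24, 16, 32, [11, 1], [0, 10]), (25, 16, 32, [11, 1], [0, 10]), (26, 16, 32, [11, 7], [6, 10]), (27, 16, 32, [11, 7], [6, 10]), (32, 24, 44, [], [5, 1, 7, 3, 9, 7, 11, 9, 13, 11]), (33, 24, 44, [], [3, 5, 1, 7, 3, 9, 7, 11, 9, 13, 11]), (34, 24, 44, [11, 9, 7, 5, 1], [0, 4, 6, 8, 10]), (35, 24, 44, [11, 9, 7, 5, 1], [0, 4, 6, 8, 10]),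 (44, 16, 32, [7, 1], [0, 6]), (45, 16, 32, [7, 1], [0, 6]), (46, 16, 32, [7, 1], [0, 6]), (47, 16, 32, [7, 1], [0, 6]), (48, 24, 44, [11, 1], [0, 10]), (49, 24, 44, [11, 1], [0, 10]), (50, 24, 44, [], [5, 7, 3, 9, 7, 5, 11, 9, 7, 3, 13, 11, 9, 7, 5, 1]), (51, 24, 44, [], [3, 5, 7, 3, 9, 7, 5, 11, 9, 7, 3, 13, 11, 9, 7, 5, 1]), (52, 16, 32, [7, 1], [0, 6]), (53, 16, 32, [7, 1], [0, 6]), (54, 16, 32, [7, 1], [0, 6]), (55, 16, 32, [7, 1], [0, 6]), (64, 16, 32, [3, 1], [0, 2]), (65, 16, 32, [3, 1], [0, 2]), (66, 16, 32, [3, 1], [0, 2]), (67, 16, 32, [3, 1], [0, 2]), (116, 16, 32, [3, 1], [0, 2]), (117, 16, 32, [3, 1], [0, 2]), (118, 16, 32, [3, 1], [0, 2]), (119, 16, 32, [3, 1], [0, 2]), (128, 16, 32, [3, 1], [0, 2]), (129, 16, 32, [3, 1], [0, 2]), (130, 16, 32, [3, 1], [0, 2]), (131,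 16, 32, [3, 1], [0, 2]), (172, 16, 32, [3, 1], [0, 2]), (173, 16, 32, [3, 1], [0, 2]), (174, 16, 32, [3, 1], [0, 2]), (175, 16, 32, [3, 1], [0, 2]), (192, 16, 32, [11, 3], [2, 10]), (193, 16, 32, [11, 3], [2, 10]), (194, 16, 32, [11, 1], [0, 10]), (195, 16, 32, [11, 1], [0, 10]), (216, 16, 32, [11, 1], [0, 10]), (217, 16, 32, [11, 1], [0, 10]), (218, 16, 32, [11, 3], [2, 10]), (219, 16, 32, [11, 3], [2, 10]), (4608, 18, 34, [], [5, 1, 7, 5]), (4609, 18, 34, [], [3, 5, 1, 7, 5]), (4624, 18, 32, [11, 9], [8, 10]), (4625, 18, 32, [11, 9], [8, 10]), (4640, 16, 34, [5, 1], [0, 4]), (4641, 16, 34, [5, 1], [0, 4]), (4658, 16, 32, [5, 1], [0, 4]), (4659, 16, 32, [5, 1], [0, 4]), (4678, 16, 32, [3, 1], [0, 2]), (4679, 16, 32, [3, 1], [0, 2]), (4692, 16, 34, [3, 1], [0, 2]), (4693, 16, 34,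 [3, 1], [0, 2]), (4708, 18, 32, [11, 9], [8, 10]), (4709, 18, 32, [11, 9], [8, 10]), (4724, 18, 34, [], [5, 1, 7, 3]), (4725, 18, 34, [], [3, 5, 1, 7, 3]), (4750, 16, 34, [3, 1], [0, 2]), (4751, 16, 34, [3, 1], [0, 2]), (4764, 16, 32, [3, 1], [0, 2]), (4765, 16, 32, [3, 1], [0, 2]), (4782, 18, 34, [], [5, 1, 7, 9]), (4783, 18, 34, [], [3, 5, 1, 7, 9]), (4798, 18, 32, [11, 1], [0, 10]), (4799, 18, 32, [11, 1], [0, 10]), (4810, 18, 32, [11, 3], [2, 10]), (4811, 18, 32, [11, 3], [2, 10]), (4826, 18, 34, [], [3, 5, 1, 7, 3, 5, 9]), (4827, 18, 34, [], [5, 1, 7, 3, 5, 9]), (4840, 16, 32, [5, 1], [0, 4]), (4841, 16, 32, [5, 1], [0, 4]), (4858, 16, 34, [5, 1], [0, 4]), (4859, 16, 34, [5, 1], [0, 4]), (4864, 18, 34, [], [5, 1, 7, 3, 5, 7]), (4865, 18, 34, [], [3, 5, 1, 7, 3, 5, 7]), (4870,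 16, 32, [7, 1], [0, 6]), (4871, 16, 32, [7, 1], [0, 6]), (4874, 18, 32, [11, 7], [6, 10]), (4875, 18, 32, [11, 7], [6, 10]), (4876, 16, 34, [7, 1], [0, 6]), (4877, 16, 34, [7, 1], [0, 6]), (4880, 18, 32, [11, 9, 7], [6, 8, 10]), (4881, 18, 32, [11, 9, 7], [6, 8, 10]), (4884, 16, 34, [7, 1], [0, 6]), (4885, 16, 34, [7, 1], [0, 6]), (4890, 18, 34, [], [3, 5, 1, 7, 5, 9, 7]), (4891, 18, 34, [], [5, 1, 7, 5, 9, 7]), (4894, 16, 32, [7, 1], [0, 6]), (4895, 16, 32, [7, 1], [0, 6]), (4896, 16, 34, [7, 5, 1], [0, 4, 6]), (4897, 16, 34, [7, 5, 1], [0, 4, 6]), (4900, 18, 32, [11, 9, 7], [6, 8, 10]), (4901, 18, 32, [11, 9, 7], [6, 8, 10]), (4904, 16, 32, [7, 5, 1], [0, 4, 6]), (4905, 16, 32, [7, 5, 1], [0, 4, 6]), (4908, 18, 34, [], [5, 1, 7, 3, 9, 7]), (4909, 18, 34, [], [3, 5, 1, 7, 3, 9, 7]),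 (4914, 16, 32, [7, 5, 1], [0, 4, 6]), (4915, 16, 32, [7, 5, 1], [0, 4, 6]), (4916, 18, 34, [], [3, 5, 1]), (4917, 18, 34, [], [5, 1]), (4922, 16, 34, [11, 1], [0, 10]), (4923, 16, 34, [11, 1], [0, 10]), (4924, 18, 32, [11, 1], [0, 10]), (4925, 18, 32, [11, 1], [0, 10]), (5120, 18, 34, [], [5, 1, 7, 3, 5]), (5121, 18, 34, [], [3, 5, 1, 7, 3, 5]), (5136, 18, 32, [11, 9], [8, 10]), (5137, 18, 32, [11, 9], [8, 10]), (5152, 16, 34, [5, 1], [0, 4]), (5153, 16, 34, [5, 1], [0, 4]), (5170, 16, 32, [5, 1], [0, 4]), (5171, 16, 32, [5, 1], [0, 4]), (5184, 18, 34, [], [5, 1, 7]), (5185, 18, 34, [], [3, 5, 1, 7]), (5200, 18, 32, [11, 9], [8, 10]), (5201, 18, 32, [11, 9], [8, 10]), (5216, 16, 34, [3, 1], [0, 2]), (5217, 16, 34, [3, 1], [0, 2]), (5234, 16, 32, [3, 1], [0, 2]), (5235, 16, 32, [3,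 1], [0, 2]), (5250, 18, 34, [], [5, 1, 7, 3, 9]), (5251, 18, 34, [], [3, 5, 1, 7, 3, 9]), (5266, 18, 32, [11, 1], [0, 10]), (5267, 18, 32, [11, 1], [0, 10]), (5282, 16, 34, [3, 1], [0, 2]), (5283, 16, 34, [3, 1], [0, 2]), (5296, 16, 32, [3, 1], [0, 2]), (5297, 16, 32, [3, 1], [0, 2]), (5312, 18, 34, [], [3, 5, 1, 7, 5, 9]), (5313, 18, 34, [], [5, 1, 7, 5, 9]), (5328, 18, 32, [11, 3], [2, 10]), (5329, 18, 32, [11, 3], [2, 10]), (5344, 16, 34, [5, 1], [0, 4]), (5345, 16, 34, [5, 1], [0, 4]), (5362, 16, 32, [5, 1], [0, 4]), (5363, 16, 32, [5, 1], [0, 4]), (6912, 16, 4608, [11, 1], [0, 10]), (6913, 16, 4608, [11, 1], [0, 10]), (6920, 16, 4708, [11, 3], [2, 10]), (6921, 16, 4708, [11, 3], [2, 10]), (6930, 16, 4608, [11, 3], [2, 10]), (6931, 16, 4608, [11, 3], [2, 10]), (6938, 16, 4708,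 [11, 1], [0, 10]), (6939, 16, 4708, [11, 1], [0, 10]), (7104, 16, 4708, [11, 1], [0, 10]), (7105, 16, 4708, [11, 1], [0, 10]), (7114, 16, 4608, [11, 1], [0, 10]), (7115, 16, 4608, [11, 1], [0, 10]), (7122, 16, 4708, [11, 5], [4, 10]), (7123, 16, 4708, [11, 5], [4, 10]), (7128, 16, 4608, [11, 5], [4, 10]), (7129, 16, 4608, [11, 5], [4, 10]), (7680, 32, 4608, [5, 1], [0, 4]), (7681, 32, 4608, [5, 1], [0, 4]), (7692, 32, 4692, [5, 1], [0, 4]), (7693, 32, 4692, [5, 1], [0, 4]), (7714, 32, 4608, [5, 1], [0, 4]), (7715, 32, 4608, [5, 1], [0, 4]), (7726, 32, 4692, [5, 1], [0, 4]), (7727, 32, 4692, [5, 1], [0, 4]), (7808, 32, 4692, [3, 1], [0, 2]), (7809, 32, 4692, [3, 1], [0, 2]), (7822, 32, 4608, [3, 1], [0, 2]), (7823, 32, 4608, [3, 1], [0, 2]), (7842, 32, 4692, [3, 1], [0, 2]), (7843,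 32, 4692, [3, 1], [0, 2]), (7852, 32, 4608, [3, 1], [0, 2]), (7853, 32, 4608, [3, 1], [0, 2]), (8448, 50, 4608, [3, 1], [0, 2]), (8449, 50, 4608, [3, 1], [0, 2]), (8452, 50, 4764, [3, 1], [0, 2]), (8453, 50, 4764, [3, 1], [0, 2]), (8496, 50, 4608, [3, 1], [0, 2]), (8497, 50, 4608, [3, 1], [0, 2]), (8500, 50, 4764, [3, 1], [0, 2]), (8501, 50, 4764, [3, 1], [0, 2]), (8512, 50, 4764, [7, 1], [0, 6]), (8513, 50, 4764, [7, 1], [0, 6]), (8518, 50, 4608, [9, 1], [0, 8]), (8519, 50, 4608, [9, 1], [0, 8]), (8560, 50, 4764, [7, 1], [0, 6]), (8561, 50, 4764, [7, 1], [0, 6]), (8566, 50, 4608, [9, 1], [0, 8]), (8567, 50, 4608, [9, 1], [0, 8])]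
/-- A quaternion group in the centraliser. -/
noncomputable def q8 (c a b : ℕ) : Bool := and2 (and2 (and2 (lt a 9216) (lt b 9216))
  (and2 (Nat.beq (M.mul c a) (M.mul a c)) (Nat.beq (M.mul c b) (M.mul b c))))
  (and2 (and2 (Nat.beq (M.mul a a) 1) (Nat.beq (M.mul b b) 1))
    (lit (M.mul a b) fun d => Nat.beq (M.mul d d) 1))
/-- The number of points fixed by the centre and moved by a coded element. -/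
noncomputable def cnt (c : ℕ) : ℕ := fixc (fun i => Bool.rec (Nat.succ i) i
  (and2 (Nat.beq (ap 9 C3KX.T [14] i) i) (Bool.not (Nat.beq (ap 9 C3KX.T (wd c) i) i)))) 276
theorem cCL : (allL CL fun p => and2 (and2 (q8 p.1 p.2.1 p.2.2.1) (Nat.beq (Nat.mod (cnt p.1) 8) 4))
    (or2 (eq4 9 C3KX.T (p.2.2.2.2 ++ wd p.1) (0 :: p.2.2.2.2)) (and2 (eq4 9 C3KX.T (p.2.2.2.2 ++ p.2.2.2.1) [])
      (Bool.not (ez (powW 6 (wd p.1 ++ (p.2.2.2.2 ++ wd p.1 ++ p.2.2.2.1))) []))))) = true := by decide +kernel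
theorem cB : (all2 36 256 fun b => lit (M.mul b b) fun c => and2
    (imp2 (Nat.beq c 1) (anyL CL fun p => Nat.beq p.1 b))
    (imp2 (lt (M.mul c b) 2) (lt b 2304))) = true := by decide +kernel
theorem cO : (all2 9 256 fun b => lit (M.mul b b) fun c =>
    imp2 (lt (M.mul c c) 2) (lt c 4)) = true := by decide +kernel
theorem cU : (allF 9 fun a => allF 9 fun b => lt (B2 (Nat.add (Nat.mul a 36) b)) 2304) = true := by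
  decide +kernel
theorem cI : (all2 18 256 fun c => imp2 (Nat.beq (M.mul c 4) (M.mul 4 c))
    (imp2 (Nat.beq (M.mul c 8) (M.mul 8 c)) (imp2 (Nat.beq (M.mul c 68) (M.mul 68 c)) (lt c 4)))) = true := by
  decide +kernel

end H11.C3AD
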