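import Mathlib
import Cfsg.Agent.H29.Ext

set_option autoImplicit false
set_option maxRecDepth 100000
set_option Elab.async false
set_option linter.all false

namespace H11.C3T0

open H29

noncomputable def n0 : Net := ben 5 [(nat_lit 0x5500),
 (nat_lit 0x53300),
 (nat_lit 0x660f00),
 (nat_lit 0x0),
 (nat_lit 0x60)]
noncomputable def t0 : List ℕ := [(nat_lit 0x2d910a4),
 (nat_lit 0xbac40b6),
 (nat_lit 0x3b014b8),
 (nat_lit 0x3bd5500),
 (nat_lit 0xc400000)]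
noncomputable def d0 : ℕ := (nat_lit 0x2a000)
noncomputable def n1 : Net := n0.rev
noncomputable def t1 : List ℕ := mapPull n1 t0
noncomputable def d1 : ℕ := (nat_lit 0x15000)
noncomputable def n2 : Net := ben 5 [(nat_lit 0x5410050),
 (nat_lit 0x30),
 (nat_lit 0xcc0000),
 (nat_lit 0xc0000),
 (nat_lit 0x0)]
noncomputable def t2 : List ℕ := [(nat_lit 0x8254e44),
 (nat_lit 0x2365556),
 (nat_lit 0x2383958),
 (nat_lit 0x23ffe00),
 (nat_lit 0x8800000)]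
noncomputable def d2 : ℕ := (nat_lit 0x4000080)
noncomputable def n3 : Net := n2.rev
noncomputable def t3 : List ℕ := mapPull n3 t2
noncomputable def d3 : ℕ := (nat_lit 0xa000040)
noncomputable def n4 : Net := ben 5 [(nat_lit 0x145050),
 (nat_lit 0x0),
 (nat_lit 0xcc0000),
 (nat_lit 0xf0f0),
 (nat_lit 0xf0)]
noncomputable def t4 : List ℕ := [(nat_lit 0x3831d04),
 (nat_lit 0xa961626),
 (nat_lit 0x3925828),
 (nat_lit 0x3955fc0),
 (nat_lit 0xc400000)]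
noncomputable def d4 : ℕ := (nat_lit 0x280000)
noncomputable def n5 : Net := n4.rev
noncomputable def t5 : List ℕ := mapPull n5 t4
noncomputable def d5 : ℕ := (nat_lit 0x140020)
noncomputable def n6 : Net := ben 5 [(nat_lit 0x3530030),
 (nat_lit 0x3a05a0),
 (nat_lit 0x884408),
 (nat_lit 0x280c0),
 (nat_lit 0x80)]
noncomputable def t6 : List ℕ := [(nat_lit 0x7164e34),
 (nat_lit 0x417d486),
 (nat_lit 0x71238b0),
 (nat_lit 0x715ff00),
 (nat_lit 0x8400000)]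
noncomputable def d6 : ℕ := (nat_lit 0x800000)
noncomputable def n7 : Net := n6.rev
noncomputable def t7 : List ℕ := mapPull n7 t6
noncomputable def d7 : ℕ := (nat_lit 0x1400110)
noncomputable def n8 : Net := ben 5 [(nat_lit 0x44104),
 (nat_lit 0x0),
 (nat_lit 0xcc0000),
 (nat_lit 0xc0000),
 (nat_lit 0x0)]
noncomputable def t8 : List ℕ := [(nat_lit 0xfa88828),
 (nat_lit 0xeb9d4aa),
 (nat_lit 0x37438b0),
 (nat_lit 0x33ffe40),
 (nat_lit 0xcc00000)]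
noncomputable def d8 : ℕ := (nat_lit 0x0)
noncomputable def n9 : Net := n8.rev
noncomputable def t9 : List ℕ := mapPull n9 t8
noncomputable def d9 : ℕ := (nat_lit 0x208)
noncomputable def n10 : Net := ben 5 [(nat_lit 0x330cc0c),
 (nat_lit 0x1a02202),
 (nat_lit 0x2a0000),
 (nat_lit 0x20000),
 (nat_lit 0x0)]
noncomputable def t10 : List ℕ := [(nat_lit 0x57429a8),
 (nat_lit 0xdadbcbc),
 (nat_lit 0x5b850b0),
 (nat_lit 0x5bffd40),
 (nat_lit 0xa400000)]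
noncomputable def d10 : ℕ := (nat_lit 0x0)
noncomputable def n11 : Net := n10.rev
noncomputable def t11 : List ℕ := mapPull n11 t10
noncomputable def d11 : ℕ := (nat_lit 0x404)
noncomputable def n12 : Net := ben 5 [(nat_lit 0x4501401),
 (nat_lit 0x0),
 (nat_lit 0x0),
 (nat_lit 0x0),
 (nat_lit 0x0)]
noncomputable def t12 : List ℕ := [(nat_lit 0x2f441a6),
 (nat_lit 0xf35f2b0),
 (nat_lit 0x33838b8),
 (nat_lit 0x33ffb40),
 (nat_lit 0xcc00000)]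
noncomputable def d12 : ℕ := (nat_lit 0x0)
noncomputable def n13 : Net := n12.rev
noncomputable def t13 : List ℕ := mapPull n13 t12
noncomputable def d13 : ℕ := (nat_lit 0x802)
noncomputable def n14 : Net := ben 5 [(nat_lit 0x0),
 (nat_lit 0x0),
 (nat_lit 0x0),
 (nat_lit 0x0),
 (nat_lit 0x0)]
noncomputable def t14 : List ℕ := [(nat_lit 0x864e790),
 (nat_lit 0x33555a6),
 (nat_lit 0x33839b8),
 (nat_lit 0x33ffe40),
 (nat_lit 0xcc00000)]
noncomputable def d14 : ℕ := (nat_lit 0x0)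
def ivl : List ℕ := [1, 0, 3, 2, 5, 4, 7, 6, 9, 8, 11, 10, 13, 12, 14]
def cols : List ℕ := [0, 1, 2, 3, 4, 5, 6, 7, 8, 9, 10, 11, 12, 13, 14]
def hcols : List ℕ := [0, 1, 2, 3, 4, 5, 6, 7, 8, 9, 10, 11, 14]
def G0 : List (List ℕ) := [[0, 0, 14],
 [2, 2, 14],
 [4, 4, 14],
 [6, 6, 14],
 [8, 8, 14],
 [10, 10, 14],
 [12, 12, 14],
 [0, 4, 0, 5, 1, 5],
 [4, 6, 4, 7, 5, 7],
 [2, 6, 2, 7, 3, 7],
 [6, 8, 6, 9, 7, 9],
 [8, 10, 8, 11, 9, 11],
 [10, 12, 10, 13, 11, 13],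
 [0, 2, 1, 3, 14],
 [0, 6, 1, 7, 14],
 [0, 8, 1, 9, 14],
 [0, 10, 1, 11, 14],
 [0, 12, 1, 13, 14],
 [2, 4, 3, 5, 14],
 [2, 8, 3, 9, 14],
 [2, 10, 3, 11, 14],
 [2, 12, 3, 13, 14],
 [4, 8, 5, 9, 14],
 [4, 10, 5, 11, 14],
 [4, 12, 5, 13, 14],
 [6, 10, 7, 11, 14],
 [6, 12, 7, 13, 14],
 [8, 12, 9, 13, 14],
 [0, 2, 4, 6, 8, 10, 12, 0, 2, 4, 6, 8, 10, 12, 0, 2, 4, 6, 8, 10, 12, 0, 2, 4, 6, 8, 10, 12, 0, 2, 4, 6, 8, 10, 12, 0, 2, 4, 6, 8, 10, 12, 0, 2, 4, 6, 8, 10, 12, 0, 2, 4, 6, 8, 10, 12, 0, 2, 4, 6, 8, 10, 12]]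
def R0 : List (List ℕ) := G0
theorem hii : ∀ c, ivOf ivl (ivOf ivl c) = c := ivOf_ivOf (by decide +kernel)
theorem der : Derives (ivOf ivl) R0 R0 := Derives.refl _ _
noncomputable def nl : List Net := [n0, n1, n2, n3, n4, n5, n6, n7, n8, n9, n10, n11, n12, n13, n14]
noncomputable def T : TCData := ⟨28, 28, 5, 5, nth Net.nil nl, ivOf ivl, cols, hcols, R0,
  nth [] [t0, t1, t2, t3, t4, t5, t6, t7, t8, t9, t10, t11, t12, t13, t14], nth 0 [d0, d1, d2, d3, d4, d5, d6, d7, d8, d9, d10, d11, d12, d13, d14]⟩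
theorem hn : NetsOK 28 (nth Net.nil nl) := netsOK_of_all (by decide +kernel)
theorem hiv : IvOK (sg (nth Net.nil nl)) (ivOf ivl) :=
  ivOK_of_chk (k := 5) hn (by decide) (n := 15) (by decide) (by decide) (allN_true.1 (by decide +kernel))
theorem hb : T.Basic := TCData.basic_of_chk hn hiv (by decide +kernel)
theorem hG0 : ∀ r ∈ G0, ev (sg (nth Net.nil nl)) r = 1 :=
  rels_of_chk (k := 5) hn (by decide) hiv (allN_true.1 (by decide +kernel))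
noncomputable def s0 : List TCData.Step := [.pts 13 2 0 7 [7],
 .all 14 2 0,
 .pts 15 2 0 4 [3],
 .pts 16 2 0 3 [2],
 .pts 16 2 0 16 [26],
 .pts 17 2 0 2 [1]]
noncomputable def s1 : List TCData.Step := [.all 0 0 0,
 .all 0 1 0,
 .pts 7 0 0 10 [18],
 .pts 7 0 0 13 [20],
 .pts 7 2 0 11 [19],
 .pts 7 2 0 14 [21],
 .pts 13 0 0 15 [25],
 .pts 13 0 0 18 [27]]
noncomputable def s2 : List TCData.Step := [.pts 13 3 0 9 [16],
 .pts 18 2 0 11 [18],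
 .pts 18 2 0 12 [19],
 .pts 18 2 0 15 [21],
 .pts 19 2 0 4 [3],
 .pts 19 2 0 9 [9],
 .pts 19 2 0 11 [14],
 .pts 20 2 0 3 [2],
 .pts 20 2 0 11 [10],
 .pts 20 2 0 14 [20],
 .pts 21 2 0 2 [1],
 .pts 21 2 0 13 [11]]
noncomputable def s3 : List TCData.Step := [.pts 1 0 0 7 [5],
 .pts 1 1 0 6 [7],
 .pts 1 1 0 10 [16],
 .pts 9 0 0 6 [8],
 .pts 9 0 0 14 [24],
 .pts 9 0 0 17 [22],
 .pts 9 2 0 16 [26],
 .pts 13 1 0 8 [15],
 .pts 13 1 0 12 [13],
 .pts 13 1 0 14 [12]]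
noncomputable def s4 : List TCData.Step := [.pts 7 3 0 7 [17],
 .pts 7 3 0 15 [12],
 .pts 7 5 0 9 [16],
 .pts 8 4 0 9 [8],
 .pts 18 3 0 8 [6],
 .pts 18 3 0 15 [25],
 .pts 18 3 0 18 [27],
 .pts 22 2 0 4 [3],
 .pts 22 2 0 10 [9],
 .pts 22 2 0 12 [14],
 .all 23 2 0,
 .pts 24 2 0 2 [1],
 .pts 24 2 0 13 [11]]
noncomputable def s5 : List TCData.Step := [.pts 2 0 0 10 [15],
 .pts 8 0 0 6 [4],
 .pts 8 0 0 13 [24],
 .pts 8 0 0 16 [22],
 .pts 8 2 0 15 [23],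
 .pts 18 1 0 8 [6]]
noncomputable def s6 : List TCData.Step := [.pts 8 5 0 5 [5],
 .pts 8 5 0 11 [18],
 .pts 9 3 0 6 [7],
 .pts 9 3 0 15 [26],
 .pts 9 5 0 8 [8],
 .pts 9 5 0 13 [25],
 .pts 9 5 0 16 [27],
 .pts 10 4 0 9 [9],
 .pts 25 2 0 3 [2],
 .pts 25 2 0 11 [10],
 .pts 25 2 0 15 [20],
 .pts 26 2 0 2 [1],
 .pts 26 2 0 13 [11]]
noncomputable def s7 : List TCData.Step := [.pts 3 0 0 13 [19],
 .pts 3 0 0 16 [21],
 .pts 10 0 0 5 [3],
 .pts 10 2 0 11 [14],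
 .all 14 1 0]
noncomputable def s8 : List TCData.Step := [.pts 10 3 0 20 [22],
 .pts 10 5 0 4 [4],
 .pts 10 5 0 13 [24],
 .pts 15 3 0 10 [14],
 .pts 19 3 0 15 [25],
 .pts 27 2 0 2 [1],
 .pts 27 2 0 13 [11]]
noncomputable def s9 : List TCData.Step := [.pts 4 0 0 3 [2],
 .pts 4 0 0 8 [8],
 .pts 4 1 0 11 [14],
 .pts 4 1 0 12 [19],
 .pts 11 0 0 10 [10],
 .pts 11 2 0 14 [20],
 .pts 15 1 0 8 [17],
 .pts 15 1 0 12 [13],
 .pts 15 1 0 14 [12],
 .pts 19 1 0 6 [7],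
 .pts 19 1 0 8 [6],
 .pts 19 1 0 10 [16],
 .pts 22 1 0 7 [5],
 .pts 22 1 0 11 [18],
 .pts 22 1 0 15 [21],
 .pts 28 4 0 19 [22, 23, 27]]
noncomputable def s10 : List TCData.Step := [.pts 11 5 0 3 [3],
 .pts 23 3 0 13 [20]]
noncomputable def s11 : List TCData.Step := [.pts 5 0 0 10 [9],
 .pts 5 1 0 14 [20],
 .pts 5 1 0 16 [26],
 .pts 12 0 0 2 [1],
 .pts 12 0 0 11 [11],
 .all 16 1 0,
 .all 20 1 0,
 .pts 23 1 0 7 [5],
 .pts 23 1 0 11 [18],
 .pts 23 1 0 15 [21],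
 .all 25 1 0]
noncomputable def s12 : List TCData.Step := [.pts 12 5 0 1 [2],
 .pts 12 5 0 12 [11],
 .pts 21 3 0 18 [27],
 .pts 26 3 0 17 [22]]
noncomputable def s13 : List TCData.Step := [.pts 6 0 0 1 [0],
 .pts 17 1 0 8 [17],
 .pts 17 1 0 10 [15],
 .pts 17 1 0 14 [12, 13],
 .all 21 1 0,
 .pts 24 1 0 7 [5],
 .pts 24 1 0 11 [18],
 .pts 24 1 0 15 [20, 21],
 .all 26 1 0,
 .all 27 1 0]
noncomputable def s14 : List TCData.Step := [.all 0 2 0,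
 .pts 1 2 0 7 [8],
 .pts 1 2 0 8 [6],
 .all 2 2 0,
 .all 3 2 0,
 .all 4 2 0,
 .pts 5 2 0 4 [3],
 .pts 5 2 0 12 [11],
 .pts 6 2 0 2 [1, 2],
 .pts 13 4 0 9 [15],
 .pts 25 4 0 13 [13]]
theorem hR0 : ∀ r ∈ R0, ev (sg (nth Net.nil nl)) r = 1 := hG0
theorem col0 : T.ColOK 0 := TCData.colOK_of_chk (U := (T.stepsMask 0 s0 (T.mask0 0))) (V := (T.stepsMask 1 s1 (T.mask0 1))) hb (TCData.cov_stepsMask hb (by decide) s0 _ (T.cov_mask0 0)) (TCData.cov_stepsMask hb (by decide) s1 _ (T.cov_mask0 1)) (by decide +kernel)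
theorem col1 : T.ColOK 1 := TCData.colOK_of_chk (U := (T.stepsMask 1 s1 (T.mask0 1))) (V := (T.stepsMask 0 s0 (T.mask0 0))) hb (TCData.cov_stepsMask hb (by decide) s1 _ (T.cov_mask0 1)) (TCData.cov_stepsMask hb (by decide) s0 _ (T.cov_mask0 0)) (by decide +kernel)
theorem col2 : T.ColOK 2 := TCData.colOK_of_chk (U := (T.stepsMask 2 s2 (T.mask0 2))) (V := (T.stepsMask 3 s3 (T.mask0 3))) hb (TCData.cov_stepsMask hb (by decide) s2 _ (T.cov_mask0 2)) (TCData.cov_stepsMask hb (by decide) s3 _ (T.cov_mask0 3)) (by decide +kernel)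
theorem col3 : T.ColOK 3 := TCData.colOK_of_chk (U := (T.stepsMask 3 s3 (T.mask0 3))) (V := (T.stepsMask 2 s2 (T.mask0 2))) hb (TCData.cov_stepsMask hb (by decide) s3 _ (T.cov_mask0 3)) (TCData.cov_stepsMask hb (by decide) s2 _ (T.cov_mask0 2)) (by decide +kernel)
theorem col4 : T.ColOK 4 := TCData.colOK_of_chk (U := (T.stepsMask 4 s4 (T.mask0 4))) (V := (T.stepsMask 5 s5 (T.mask0 5))) hb (TCData.cov_stepsMask hb (by decide) s4 _ (T.cov_mask0 4)) (TCData.cov_stepsMask hb (by decide) s5 _ (T.cov_mask0 5)) (by decide +kernel)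
theorem col5 : T.ColOK 5 := TCData.colOK_of_chk (U := (T.stepsMask 5 s5 (T.mask0 5))) (V := (T.stepsMask 4 s4 (T.mask0 4))) hb (TCData.cov_stepsMask hb (by decide) s5 _ (T.cov_mask0 5)) (TCData.cov_stepsMask hb (by decide) s4 _ (T.cov_mask0 4)) (by decide +kernel)
theorem col6 : T.ColOK 6 := TCData.colOK_of_chk (U := (T.stepsMask 6 s6 (T.mask0 6))) (V := (T.stepsMask 7 s7 (T.mask0 7))) hb (TCData.cov_stepsMask hb (by decide) s6 _ (T.cov_mask0 6)) (TCData.cov_stepsMask hb (by decide) s7 _ (T.cov_mask0 7)) (by decide +kernel)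
theorem col7 : T.ColOK 7 := TCData.colOK_of_chk (U := (T.stepsMask 7 s7 (T.mask0 7))) (V := (T.stepsMask 6 s6 (T.mask0 6))) hb (TCData.cov_stepsMask hb (by decide) s7 _ (T.cov_mask0 7)) (TCData.cov_stepsMask hb (by decide) s6 _ (T.cov_mask0 6)) (by decide +kernel)
theorem col8 : T.ColOK 8 := TCData.colOK_of_chk (U := (T.stepsMask 8 s8 (T.mask0 8))) (V := (T.stepsMask 9 s9 (T.mask0 9))) hb (TCData.cov_stepsMask hb (by decide) s8 _ (T.cov_mask0 8)) (TCData.cov_stepsMask hb (by decide) s9 _ (T.cov_mask0 9)) (by decide +kernel)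
theorem col9 : T.ColOK 9 := TCData.colOK_of_chk (U := (T.stepsMask 9 s9 (T.mask0 9))) (V := (T.stepsMask 8 s8 (T.mask0 8))) hb (TCData.cov_stepsMask hb (by decide) s9 _ (T.cov_mask0 9)) (TCData.cov_stepsMask hb (by decide) s8 _ (T.cov_mask0 8)) (by decide +kernel)
theorem col10 : T.ColOK 10 := TCData.colOK_of_chk (U := (T.stepsMask 10 s10 (T.mask0 10))) (V := (T.stepsMask 11 s11 (T.mask0 11))) hb (TCData.cov_stepsMask hb (by decide) s10 _ (T.cov_mask0 10)) (TCData.cov_stepsMask hb (by decide) s11 _ (T.cov_mask0 11)) (by decide +kernel)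
theorem col11 : T.ColOK 11 := TCData.colOK_of_chk (U := (T.stepsMask 11 s11 (T.mask0 11))) (V := (T.stepsMask 10 s10 (T.mask0 10))) hb (TCData.cov_stepsMask hb (by decide) s11 _ (T.cov_mask0 11)) (TCData.cov_stepsMask hb (by decide) s10 _ (T.cov_mask0 10)) (by decide +kernel)
theorem col12 : T.ColOK 12 := TCData.colOK_of_chk (U := (T.stepsMask 12 s12 (T.mask0 12))) (V := (T.stepsMask 13 s13 (T.mask0 13))) hb (TCData.cov_stepsMask hb (by decide) s12 _ (T.cov_mask0 12)) (TCData.cov_stepsMask hb (by decide) s13 _ (T.cov_mask0 13)) (by decide +kernel)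
theorem col13 : T.ColOK 13 := TCData.colOK_of_chk (U := (T.stepsMask 13 s13 (T.mask0 13))) (V := (T.stepsMask 12 s12 (T.mask0 12))) hb (TCData.cov_stepsMask hb (by decide) s13 _ (T.cov_mask0 13)) (TCData.cov_stepsMask hb (by decide) s12 _ (T.cov_mask0 12)) (by decide +kernel)
theorem col14 : T.ColOK 14 := TCData.colOK_of_chk (U := (T.stepsMask 14 s14 (T.mask0 14))) (V := (T.stepsMask 14 s14 (T.mask0 14))) hb (TCData.cov_stepsMask hb (by decide) s14 _ (T.cov_mask0 14)) (TCData.cov_stepsMask hb (by decide) s14 _ (T.cov_mask0 14)) (by decide +kernel)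
theorem ok : T.OK := ⟨hb, TCData.treeOK_of_chk hn (by decide +kernel), (List.forall_mem_cons.2 ⟨col0, (List.forall_mem_cons.2 ⟨col1, (List.forall_mem_cons.2 ⟨col2, (List.forall_mem_cons.2 ⟨col3, (List.forall_mem_cons.2 ⟨col4, (List.forall_mem_cons.2 ⟨col5, (List.forall_mem_cons.2 ⟨col6, (List.forall_mem_cons.2 ⟨col7, (List.forall_mem_cons.2 ⟨col8, (List.forall_mem_cons.2 ⟨col9, (List.forall_mem_cons.2 ⟨col10, (List.forall_mem_cons.2 ⟨col11, (List.forall_mem_cons.2 ⟨col12, (List.forall_mem_cons.2 ⟨col13, (List.forall_mem_cons.2 ⟨col14, (fun _ h => absurd h List.not_mem_nil)⟩)⟩)⟩)⟩)⟩)⟩)⟩)⟩)⟩)⟩)⟩)⟩)⟩)⟩)⟩), der _ _ hiv hR0⟩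
theorem bd {G : Type} [Group G] {e : ℕ → G} (h1 : IvOK e (ivOf ivl)) (h2 : ∀ r ∈ R0, ev e r = 1)
    {m : ℕ} (h : Bd (gen e hcols) m) : Bd (gen e cols) (28 * m) := ok.bd h1 (der G e h1 h2) h
theorem cm {G : Type} [Group G] {e : ℕ → G} (h1 : IvOK e (ivOf ivl)) (h2 : ∀ r ∈ R0, ev e r = 1)
    (h3 : gen e cols = ⊤) {ρ : G →* Equiv.Perm ℕ} (h4 : ∀ c, ρ (e c) = sg (nth Net.nil nl) c) :
    CosetModel ρ (gen e hcols) 28 := ok.cosetModel h1 (der G e h1 h2) h3 fun c _ => h4 c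

end H11.C3T0
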