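import Mathlib
import Cfsg.Agent.H11.C3T0
import Cfsg.Agent.H29.Cert

set_option autoImplicit false
set_option maxRecDepth 100000
set_option Elab.async false
set_option linter.all false

namespace H11.C3SX

open H29

noncomputable def x15 : Net := ben 5 [(nat_lit 0x5455654),
 (nat_lit 0xf05b130),
 (nat_lit 0x772f2a),
 (nat_lit 0xb2022),
 (nat_lit 0x60)]
noncomputable def x17 : Net := ben 5 [(nat_lit 0x3a74134),
 (nat_lit 0x63a24a2),
 (nat_lit 0xbd4408),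
 (nat_lit 0x380c0),
 (nat_lit 0x80)]
noncomputable def x19 : Net := ben 5 [(nat_lit 0x5415550),
 (nat_lit 0x53330),
 (nat_lit 0xee0f00),
 (nat_lit 0xc0000),
 (nat_lit 0x60)]
noncomputable def x21 : Net := ben 5 [(nat_lit 0x5500),
 (nat_lit 0x53300),
 (nat_lit 0x660f00),
 (nat_lit 0x0),
 (nat_lit 0x60)]
noncomputable def x23 : Net := ben 5 [(nat_lit 0x4874134),
 (nat_lit 0x0),
 (nat_lit 0xa64402),
 (nat_lit 0xe2060),
 (nat_lit 0x20)]
noncomputable def x25 : Net := ben 5 [(nat_lit 0x54614a4),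
 (nat_lit 0xbb130),
 (nat_lit 0x990f08),
 (nat_lit 0x20),
 (nat_lit 0xe90)]
noncomputable def x27 : Net := ben 5 [(nat_lit 0x2f218a0),
 (nat_lit 0x8005ac2),
 (nat_lit 0x95245d),
 (nat_lit 0x8070022),
 (nat_lit 0x24b)]
noncomputable def x29 : Net := ben 5 [(nat_lit 0x70c10c0),
 (nat_lit 0xb021000),
 (nat_lit 0x7708),
 (nat_lit 0x10),
 (nat_lit 0x700)]
noncomputable def x31 : Net := ben 5 [(nat_lit 0x70c10c0),
 (nat_lit 0xb021000),
 (nat_lit 0x7708),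
 (nat_lit 0x10),
 (nat_lit 0x700)]
noncomputable def x33 : Net := ben 5 [(nat_lit 0x40fc400),
 (nat_lit 0x50050),
 (nat_lit 0x110000),
 (nat_lit 0x80),
 (nat_lit 0xd14)]
noncomputable def x35 : Net := ben 5 [(nat_lit 0x6410050),
 (nat_lit 0xf5030),
 (nat_lit 0xee0044),
 (nat_lit 0xc000010),
 (nat_lit 0xd60)]
noncomputable def x37 : Net := ben 5 [(nat_lit 0x70f0400),
 (nat_lit 0xa750f0),
 (nat_lit 0x11012a),
 (nat_lit 0x2026060),
 (nat_lit 0xc76)]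
noncomputable def x39 : Net := ben 5 [(nat_lit 0x300),
 (nat_lit 0x5f100a0),
 (nat_lit 0x226608),
 (nat_lit 0x2021030),
 (nat_lit 0x610)]
noncomputable def x41 : Net := ben 5 [(nat_lit 0x4f019a9),
 (nat_lit 0x214e671),
 (nat_lit 0xfa2c8c),
 (nat_lit 0x30ce040),
 (nat_lit 0xff0)]
noncomputable def ly : List Net := [x15, x17, x19, x21, x23, x25, x27, x29, x31, x33, x35, x37, x39, x41]
noncomputable def nx : ℕ → Net := nth Net.nil (C3T0.nl ++ dbl ly)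
def ivx : List ℕ := [1, 0, 3, 2, 5, 4, 7, 6, 9, 8, 11, 10, 13, 12, 14, 16, 15, 18, 17, 20, 19, 22, 21, 24, 23, 26, 25, 28, 27, 30, 29, 32, 31, 34, 33, 36, 35, 38, 37, 40, 39, 42, 41]
def defs : List (List ℕ) := [[13, 11, 12, 11, 13, 11, 14, 8, 0, 13, 7, 12, 3],
 [3, 11, 15, 7, 12, 3, 7, 0, 6, 13],
 [15, 18, 16, 16, 18, 16, 16, 16, 16, 16, 16],
 [16, 18, 19, 16, 16, 20, 16, 18, 15, 17, 16, 16],
 [20, 15, 20, 16, 19, 19, 22, 20, 17],
 [16, 16, 10, 16, 19, 11, 4, 10, 8, 22, 17, 2],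
 [25, 20, 15, 17, 19, 17, 16, 25, 17, 26, 26, 19, 22, 17, 26],
 [20, 15, 26, 13, 17, 1, 7, 23, 19, 11, 26, 8, 14, 20, 13, 4, 1],
 [27, 30, 28, 28, 28, 30, 27, 30, 28, 30, 28, 30, 28],
 [30, 25, 32, 27, 29, 29, 31, 24, 24, 29, 24, 30, 32],
 [27, 30, 34, 25, 24, 17, 26, 31, 19, 31, 20, 21, 26, 30, 24, 17, 28, 20],
 [33, 33, 29, 32, 36, 31, 31, 29, 36, 32, 29, 31],
 [30, 34, 36, 37, 35, 32, 34, 29, 29, 36, 33, 36, 34, 30],
 [10, 6, 9, 3, 4, 6, 0, 8, 4, 13, 1, 3, 0, 3]]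
theorem hext : chkExt 15 defs C3T0.ivl ivx = true := by decide +kernel
theorem hn : NetsOK 28 nx := netsOK_ext C3T0.hn (by decide +kernel)
theorem hiv : IvOK (sg nx) (ivOf ivx) := ivOK_ext C3T0.hiv hext rfl rfl
theorem hdef : ∀ r ∈ defRels defs 15, ev (sg nx) r = 1 :=
  rels_of_chk (k := 5) hn (by decide) hiv (allN_true.1 (by decide +kernel))
theorem ch : chkChain 28 5 nx [(0, 2, 28, [15, 17, 19, 21, 23, 25, 27, 29, 31, 33, 35, 37, 39]),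
 (20, 2, 27, [19, 21, 23, 25, 27, 29, 31, 33, 35, 37, 39]),
 (9, 1, 10, [27, 29, 31, 33, 35, 37, 39]),
 (1, 2, 8, [29, 31, 33, 35, 37, 39]),
 (25, 1, 6, [33, 37, 39]),
 (11, 1, 2, [39]),
 (12, 1, 2, [])] [0, 1, 2, 3, 4, 5, 6, 7, 8, 9, 10, 11, 12, 13, 14, 15, 17, 19, 21, 23, 25, 27, 29, 31, 33, 35, 37, 39] = true := by decide +kernel
theorem prim : Prim nx 28 [0, 1, 2, 3, 4, 5, 6, 7, 8, 9, 10, 11, 14] [13] := prim_of_chk (r1 := 8) (r2 := 5) hn (by decide +kernel)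
theorem wit : ∀ r ∈ [powW 7 [41], powW 2 [0], powW 7 [41, 0]], ev (sg nx) r = 1 :=
  rels_of_chk (k := 5) hn (by decide) hiv (allN_true.1 (by decide +kernel))
theorem reach : Reach nx [0, 1, 2, 3, 4, 5, 6, 7, 8, 9, 10, 11, 12, 13, 14] (bit 0) (ones 28) := reach_of_chk (r := 6) hn (by decide +kernel)
theorem map {G : Type} [Group G] {e : ℕ → G} {ρ : G →* Equiv.Perm ℕ}
    (h : ∀ c, ρ (e c) = sg (nth Net.nil C3T0.nl) c) : ∀ c, ρ (extE e 15 defs c) = sg nx c :=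
  map_ext hext hiv hdef rfl rfl h

end H11.C3SX
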