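import Mathlib
import Cfsg.Agent.H29.Ext

set_option autoImplicit false
set_option maxRecDepth 100000
set_option Elab.async false
set_option linter.all false

namespace H11.C3T1

open H29

noncomputable def n0 : Net := ben 5 [(nat_lit 0x155001),
 (nat_lit 0x0),
 (nat_lit 0x330000),
 (nat_lit 0x3030),
 (nat_lit 0x30)]
noncomputable def t0 : List ℕ := [(nat_lit 0x6ea2ea6),
 (nat_lit 0x3aca9b0),
 (nat_lit 0x4ae01b8),
 (nat_lit 0xaeae40),
 (nat_lit 0x7500000)]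
noncomputable def d0 : ℕ := (nat_lit 0x10000)
noncomputable def n1 : Net := n0.rev
noncomputable def t1 : List ℕ := mapPull n1 t0
noncomputable def d1 : ℕ := (nat_lit 0x28002)
noncomputable def n2 : Net := ben 5 [(nat_lit 0x540350),
 (nat_lit 0xf00a30),
 (nat_lit 0xc0000),
 (nat_lit 0x8),
 (nat_lit 0x0)]
noncomputable def t2 : List ℕ := [(nat_lit 0x5438b44),
 (nat_lit 0x191ea56),
 (nat_lit 0x6121350),
 (nat_lit 0x13fc00),
 (nat_lit 0x7c40000)]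
noncomputable def d2 : ℕ := (nat_lit 0x200080)
noncomputable def n3 : Net := n2.rev
noncomputable def t3 : List ℕ := mapPull n3 t2
noncomputable def d3 : ℕ := (nat_lit 0x100140)
noncomputable def n4 : Net := ben 5 [(nat_lit 0xc0d40c),
 (nat_lit 0x207202),
 (nat_lit 0x40e00),
 (nat_lit 0x0),
 (nat_lit 0x0)]
noncomputable def t4 : List ℕ := [(nat_lit 0x65840a8),
 (nat_lit 0x21185bc),
 (nat_lit 0x41a11b0),
 (nat_lit 0x1bd440),
 (nat_lit 0x7440000)]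
noncomputable def d4 : ℕ := (nat_lit 0x802000)
noncomputable def n5 : Net := n4.rev
noncomputable def t5 : List ℕ := mapPull n5 t4
noncomputable def d5 : ℕ := (nat_lit 0x405004)
noncomputable def n6 : Net := ben 5 [(nat_lit 0xc0004),
 (nat_lit 0x5070a00),
 (nat_lit 0x55cc00),
 (nat_lit 0x410d0),
 (nat_lit 0x10)]
noncomputable def t6 : List ℕ := [(nat_lit 0x6a1b068),
 (nat_lit 0x3b5882a),
 (nat_lit 0x4b41130),
 (nat_lit 0xb5fa40),
 (nat_lit 0x7000000)]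
noncomputable def d6 : ℕ := (nat_lit 0x80400)
noncomputable def n7 : Net := n6.rev
noncomputable def t7 : List ℕ := mapPull n7 t6
noncomputable def d7 : ℕ := (nat_lit 0x1040208)
noncomputable def n8 : Net := ben 5 [(nat_lit 0x1011730),
 (nat_lit 0xa0),
 (nat_lit 0x2208),
 (nat_lit 0x20),
 (nat_lit 0x0)]
noncomputable def t8 : List ℕ := [(nat_lit 0x119234),
 (nat_lit 0x254db86),
 (nat_lit 0x41f23b0),
 (nat_lit 0x1ff840),
 (nat_lit 0x6e00000)]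
noncomputable def d8 : ℕ := (nat_lit 0x0)
noncomputable def n9 : Net := n8.rev
noncomputable def t9 : List ℕ := mapPull n9 t8
noncomputable def d9 : ℕ := (nat_lit 0x2000810)
noncomputable def n10 : Net := ben 5 [(nat_lit 0x300cc50),
 (nat_lit 0x1052200),
 (nat_lit 0x440000),
 (nat_lit 0x4040),
 (nat_lit 0x40)]
noncomputable def t10 : List ℕ := [(nat_lit 0x1178604),
 (nat_lit 0x15de926),
 (nat_lit 0x41e1128),
 (nat_lit 0x1ffec0),
 (nat_lit 0x5e00000)]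
noncomputable def d10 : ℕ := (nat_lit 0x0)
noncomputable def n11 : Net := n10.rev
noncomputable def t11 : List ℕ := mapPull n11 t10
noncomputable def d11 : ℕ := (nat_lit 0x4000020)
noncomputable def n14 : Net := ben 5 [(nat_lit 0x0),
 (nat_lit 0x0),
 (nat_lit 0x0),
 (nat_lit 0x0),
 (nat_lit 0x0)]
noncomputable def t14 : List ℕ := [(nat_lit 0x71fdd90),
 (nat_lit 0x255a8a6),
 (nat_lit 0x41e11b8),
 (nat_lit 0x1ffe40),
 (nat_lit 0x7e00000)]
noncomputable def d14 : ℕ := (nat_lit 0x0)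
def ivl : List ℕ := [1, 0, 3, 2, 5, 4, 7, 6, 9, 8, 11, 10, 13, 12, 14]
def cols : List ℕ := [0, 1, 2, 3, 4, 5, 6, 7, 8, 9, 10, 11, 14]
def hcols : List ℕ := [2, 3, 4, 5, 6, 7, 8, 9, 10, 11, 14]
def G0 : List (List ℕ) := [[0, 0, 14],
 [2, 2, 14],
 [4, 4, 14],
 [6, 6, 14],
 [8, 8, 14],
 [10, 10, 14],
 [0, 4, 0, 5, 1, 5],
 [4, 6, 4, 7, 5, 7],
 [2, 6, 2, 7, 3, 7],
 [6, 8, 6, 9, 7, 9],
 [8, 10, 8, 11, 9, 11],
 [0, 2, 1, 3, 14],
 [0, 6, 1, 7, 14],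
 [0, 8, 1, 9, 14],
 [0, 10, 1, 11, 14],
 [2, 4, 3, 5, 14],
 [2, 8, 3, 9, 14],
 [2, 10, 3, 11, 14],
 [4, 8, 5, 9, 14],
 [4, 10, 5, 11, 14],
 [6, 10, 7, 11, 14]]
def R0 : List (List ℕ) := G0
theorem hii : ∀ c, ivOf ivl (ivOf ivl c) = c := ivOf_ivOf (by decide +kernel)
theorem der : Derives (ivOf ivl) R0 R0 := Derives.refl _ _
noncomputable def nl : List Net := [n0, n1, n2, n3, n4, n5, n6, n7, n8, n9, n10, n11, Net.nil, Net.nil, n14]
noncomputable def T : TCData := ⟨27, 27, 5, 5, nth Net.nil nl, ivOf ivl, cols, hcols, R0,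
  nth [] [t0, t1, t2, t3, t4, t5, t6, t7, t8, t9, t10, t11, [], [], t14], nth 0 [d0, d1, d2, d3, d4, d5, d6, d7, d8, d9, d10, d11, 0, 0, d14]⟩
theorem hn : NetsOK 27 (nth Net.nil nl) := netsOK_of_all (by decide +kernel)
theorem hiv : IvOK (sg (nth Net.nil nl)) (ivOf ivl) :=
  ivOK_of_chk (k := 5) hn (by decide) (n := 15) (by decide) (by decide) (allN_true.1 (by decide +kernel))
theorem hb : T.Basic := TCData.basic_of_chk hn hiv (by decide +kernel)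
theorem hG0 : ∀ r ∈ G0, ev (sg (nth Net.nil nl)) r = 1 :=
  rels_of_chk (k := 5) hn (by decide) hiv (allN_true.1 (by decide +kernel))
noncomputable def s0 : List TCData.Step := [.all 11 2 0,
 .pts 12 2 0 4 [3],
 .pts 12 2 0 9 [9, 10],
 .pts 13 2 0 6 [4],
 .pts 13 2 0 11 [11],
 .pts 13 2 0 19 [25],
 .pts 14 2 0 7 [5],
 .pts 14 2 0 21 [26]]
noncomputable def s1 : List TCData.Step := [.pts 0 0 0 1 [0],
 .pts 0 0 0 10 [14],
 .all 0 1 0,
 .pts 6 0 0 1 [2],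
 .pts 6 0 0 13 [12],
 .pts 6 0 0 17 [22],
 .pts 6 2 0 15 [23],
 .pts 12 0 0 14 [19],
 .pts 12 0 0 18 [24]]
noncomputable def s2 : List TCData.Step := [.pts 15 2 0 3 [2],
 .pts 15 2 0 10 [13],
 .all 16 2 0,
 .pts 17 2 0 21 [26]]
noncomputable def s3 : List TCData.Step := [.all 1 0 0,
 .all 1 1 0,
 .pts 8 0 0 7 [9],
 .pts 8 0 0 19 [24],
 .pts 8 2 0 8 [10],
 .pts 11 1 0 2 [1],
 .pts 11 1 0 11 [15, 16],
 .pts 15 0 0 10 [14],
 .pts 15 0 0 17 [23]]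
noncomputable def s4 : List TCData.Step := [.pts 6 3 0 10 [16],
 .pts 6 5 0 2 [2],
 .pts 6 5 0 10 [15],
 .pts 6 5 0 12 [17],
 .pts 18 2 0 6 [4],
 .pts 18 2 0 19 [25],
 .pts 19 2 0 7 [5],
 .pts 19 2 0 21 [26]]
noncomputable def s5 : List TCData.Step := [.pts 2 0 0 12 [11],
 .pts 2 0 0 17 [21],
 .pts 2 1 0 16 [23],
 .pts 7 0 0 3 [3],
 .pts 7 0 0 9 [9],
 .pts 7 0 0 16 [24],
 .pts 7 2 0 10 [13],
 .pts 7 2 0 13 [19],
 .all 15 1 0]
noncomputable def s6 : List TCData.Step := [.pts 7 3 0 9 [13],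
 .pts 7 3 0 15 [23],
 .pts 7 5 0 8 [14],
 .pts 7 5 0 18 [24],
 .pts 8 3 0 9 [6],
 .pts 8 3 0 15 [21],
 .pts 8 5 0 4 [8],
 .pts 8 5 0 14 [20],
 .pts 20 2 0 7 [5],
 .pts 20 2 0 21 [26]]
noncomputable def s7 : List TCData.Step := [.all 3 0 0,
 .pts 9 0 0 4 [4],
 .pts 9 0 0 10 [11],
 .pts 9 0 0 19 [25],
 .pts 9 2 0 13 [19],
 .pts 12 1 0 2 [1],
 .pts 12 1 0 11 [15, 16]]
noncomputable def s8 : List TCData.Step := [.pts 9 3 0 12 [19],
 .pts 9 5 0 5 [4],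
 .pts 9 5 0 7 [9],
 .pts 9 5 0 14 [18],
 .pts 13 3 0 12 [17],
 .pts 18 3 0 3 [2],
 .pts 18 3 0 10 [14],
 .pts 18 3 0 11 [12]]
noncomputable def s9 : List TCData.Step := [.pts 4 0 0 10 [10],
 .pts 4 0 0 18 [24],
 .pts 4 1 0 12 [12],
 .pts 4 1 0 13 [17],
 .pts 10 0 0 5 [5],
 .pts 10 0 0 20 [26],
 .pts 13 1 0 2 [1],
 .pts 13 1 0 11 [15],
 .all 16 1 0,
 .pts 18 1 0 16 [23]]
noncomputable def s10 : List TCData.Step := [.pts 10 3 0 12 [12],
 .pts 10 3 0 13 [17],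
 .pts 10 5 0 10 [11],
 .pts 17 3 0 8 [6],
 .pts 19 3 0 3 [2],
 .pts 20 3 0 19 [24]]
noncomputable def s11 : List TCData.Step := [.pts 5 0 0 6 [4],
 .pts 5 0 0 20 [25],
 .pts 14 1 0 2 [1],
 .pts 14 1 0 11 [15, 16],
 .pts 14 1 0 15 [18],
 .all 17 1 0,
 .pts 19 1 0 10 [13, 14],
 .pts 19 1 0 16 [23],
 .pts 20 1 0 4 [3],
 .pts 20 1 0 9 [9, 10],
 .pts 20 1 0 14 [19]]
noncomputable def s14 : List TCData.Step := [.all 0 2 0,
 .pts 1 2 0 8 [6],
 .pts 1 2 0 9 [10],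
 .all 2 2 0,
 .all 3 2 0,
 .all 4 2 0,
 .pts 16 4 0 7 [7]]
theorem hR0 : ∀ r ∈ R0, ev (sg (nth Net.nil nl)) r = 1 := hG0
theorem col0 : T.ColOK 0 := TCData.colOK_of_chk (U := (T.stepsMask 0 s0 (T.mask0 0))) (V := (T.stepsMask 1 s1 (T.mask0 1))) hb (TCData.cov_stepsMask hb (by decide) s0 _ (T.cov_mask0 0)) (TCData.cov_stepsMask hb (by decide) s1 _ (T.cov_mask0 1)) (by decide +kernel)
theorem col1 : T.ColOK 1 := TCData.colOK_of_chk (U := (T.stepsMask 1 s1 (T.mask0 1))) (V := (T.stepsMask 0 s0 (T.mask0 0))) hb (TCData.cov_stepsMask hb (by decide) s1 _ (T.cov_mask0 1)) (TCData.cov_stepsMask hb (by decide) s0 _ (T.cov_mask0 0)) (by decide +kernel)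
theorem col2 : T.ColOK 2 := TCData.colOK_of_chk (U := (T.stepsMask 2 s2 (T.mask0 2))) (V := (T.stepsMask 3 s3 (T.mask0 3))) hb (TCData.cov_stepsMask hb (by decide) s2 _ (T.cov_mask0 2)) (TCData.cov_stepsMask hb (by decide) s3 _ (T.cov_mask0 3)) (by decide +kernel)
theorem col3 : T.ColOK 3 := TCData.colOK_of_chk (U := (T.stepsMask 3 s3 (T.mask0 3))) (V := (T.stepsMask 2 s2 (T.mask0 2))) hb (TCData.cov_stepsMask hb (by decide) s3 _ (T.cov_mask0 3)) (TCData.cov_stepsMask hb (by decide) s2 _ (T.cov_mask0 2)) (by decide +kernel)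
theorem col4 : T.ColOK 4 := TCData.colOK_of_chk (U := (T.stepsMask 4 s4 (T.mask0 4))) (V := (T.stepsMask 5 s5 (T.mask0 5))) hb (TCData.cov_stepsMask hb (by decide) s4 _ (T.cov_mask0 4)) (TCData.cov_stepsMask hb (by decide) s5 _ (T.cov_mask0 5)) (by decide +kernel)
theorem col5 : T.ColOK 5 := TCData.colOK_of_chk (U := (T.stepsMask 5 s5 (T.mask0 5))) (V := (T.stepsMask 4 s4 (T.mask0 4))) hb (TCData.cov_stepsMask hb (by decide) s5 _ (T.cov_mask0 5)) (TCData.cov_stepsMask hb (by decide) s4 _ (T.cov_mask0 4)) (by decide +kernel)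
theorem col6 : T.ColOK 6 := TCData.colOK_of_chk (U := (T.stepsMask 6 s6 (T.mask0 6))) (V := (T.stepsMask 7 s7 (T.mask0 7))) hb (TCData.cov_stepsMask hb (by decide) s6 _ (T.cov_mask0 6)) (TCData.cov_stepsMask hb (by decide) s7 _ (T.cov_mask0 7)) (by decide +kernel)
theorem col7 : T.ColOK 7 := TCData.colOK_of_chk (U := (T.stepsMask 7 s7 (T.mask0 7))) (V := (T.stepsMask 6 s6 (T.mask0 6))) hb (TCData.cov_stepsMask hb (by decide) s7 _ (T.cov_mask0 7)) (TCData.cov_stepsMask hb (by decide) s6 _ (T.cov_mask0 6)) (by decide +kernel)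
theorem col8 : T.ColOK 8 := TCData.colOK_of_chk (U := (T.stepsMask 8 s8 (T.mask0 8))) (V := (T.stepsMask 9 s9 (T.mask0 9))) hb (TCData.cov_stepsMask hb (by decide) s8 _ (T.cov_mask0 8)) (TCData.cov_stepsMask hb (by decide) s9 _ (T.cov_mask0 9)) (by decide +kernel)
theorem col9 : T.ColOK 9 := TCData.colOK_of_chk (U := (T.stepsMask 9 s9 (T.mask0 9))) (V := (T.stepsMask 8 s8 (T.mask0 8))) hb (TCData.cov_stepsMask hb (by decide) s9 _ (T.cov_mask0 9)) (TCData.cov_stepsMask hb (by decide) s8 _ (T.cov_mask0 8)) (by decide +kernel)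
theorem col10 : T.ColOK 10 := TCData.colOK_of_chk (U := (T.stepsMask 10 s10 (T.mask0 10))) (V := (T.stepsMask 11 s11 (T.mask0 11))) hb (TCData.cov_stepsMask hb (by decide) s10 _ (T.cov_mask0 10)) (TCData.cov_stepsMask hb (by decide) s11 _ (T.cov_mask0 11)) (by decide +kernel)
theorem col11 : T.ColOK 11 := TCData.colOK_of_chk (U := (T.stepsMask 11 s11 (T.mask0 11))) (V := (T.stepsMask 10 s10 (T.mask0 10))) hb (TCData.cov_stepsMask hb (by decide) s11 _ (T.cov_mask0 11)) (TCData.cov_stepsMask hb (by decide) s10 _ (T.cov_mask0 10)) (by decide +kernel)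
theorem col14 : T.ColOK 14 := TCData.colOK_of_chk (U := (T.stepsMask 14 s14 (T.mask0 14))) (V := (T.stepsMask 14 s14 (T.mask0 14))) hb (TCData.cov_stepsMask hb (by decide) s14 _ (T.cov_mask0 14)) (TCData.cov_stepsMask hb (by decide) s14 _ (T.cov_mask0 14)) (by decide +kernel)
theorem ok : T.OK := ⟨hb, TCData.treeOK_of_chk hn (by decide +kernel), (List.forall_mem_cons.2 ⟨col0, (List.forall_mem_cons.2 ⟨col1, (List.forall_mem_cons.2 ⟨col2, (List.forall_mem_cons.2 ⟨col3, (List.forall_mem_cons.2 ⟨col4, (List.forall_mem_cons.2 ⟨col5, (List.forall_mem_cons.2 ⟨col6, (List.forall_mem_cons.2 ⟨col7, (List.forall_mem_cons.2 ⟨col8, (List.forall_mem_cons.2 ⟨col9, (List.forall_mem_cons.2 ⟨col10, (List.forall_mem_cons.2 ⟨col11, (List.forall_mem_cons.2 ⟨col14, (fun _ h => absurd h List.not_mem_nil)⟩)⟩)⟩)⟩)⟩)⟩)⟩)⟩)⟩)⟩)⟩)⟩)⟩), der _ _ hiv hR0⟩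
theorem bd {G : Type} [Group G] {e : ℕ → G} (h1 : IvOK e (ivOf ivl)) (h2 : ∀ r ∈ R0, ev e r = 1)
    {m : ℕ} (h : Bd (gen e hcols) m) : Bd (gen e cols) (27 * m) := ok.bd h1 (der G e h1 h2) h
theorem cm {G : Type} [Group G] {e : ℕ → G} (h1 : IvOK e (ivOf ivl)) (h2 : ∀ r ∈ R0, ev e r = 1)
    (h3 : gen e cols = ⊤) {ρ : G →* Equiv.Perm ℕ} (h4 : ∀ c, ρ (e c) = sg (nth Net.nil nl) c) :
    CosetModel ρ (gen e hcols) 27 := ok.cosetModel h1 (der G e h1 h2) h3 fun c _ => h4 c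

end H11.C3T1
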