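import Mathlib
import Cfsg.Agent.H29.Ext

set_option autoImplicit false
set_option maxRecDepth 100000
set_option Elab.async false
set_option linter.all false

namespace H11.C3T2

open H29

noncomputable def n2 : Net := ben 4 [(nat_lit 0x1501),
 (nat_lit 0x0),
 (nat_lit 0x300),
 (nat_lit 0x0)]
noncomputable def t2 : List ℕ := [(nat_lit 0x8a66),
 (nat_lit 0x4830),
 (nat_lit 0x80f8),
 (nat_lit 0xea00)]
noncomputable def d2 : ℕ := (nat_lit 0x1000)
noncomputable def n3 : Net := n2.rev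
noncomputable def t3 : List ℕ := mapPull n3 t2
noncomputable def d3 : ℕ := (nat_lit 0x2802)
noncomputable def n4 : Net := ben 4 [(nat_lit 0x4054),
 (nat_lit 0x0),
 (nat_lit 0xc),
 (nat_lit 0x0)]
noncomputable def t4 : List ℕ := [(nat_lit 0x1a88),
 (nat_lit 0xfa2),
 (nat_lit 0x8328),
 (nat_lit 0xbc00)]
noncomputable def d4 : ℕ := (nat_lit 0x40)
noncomputable def n5 : Net := n4.rev
noncomputable def t5 : List ℕ := mapPull n5 t4
noncomputable def d5 : ℕ := (nat_lit 0x80a0)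
noncomputable def n6 : Net := ben 4 [(nat_lit 0xc00c),
 (nat_lit 0x502),
 (nat_lit 0x6e00),
 (nat_lit 0x60)]
noncomputable def t6 : List ℕ := [(nat_lit 0x588),
 (nat_lit 0x219c),
 (nat_lit 0xe110),
 (nat_lit 0xd420)]
noncomputable def d6 : ℕ := (nat_lit 0x200)
noncomputable def n7 : Net := n6.rev
noncomputable def t7 : List ℕ := mapPull n7 t6
noncomputable def d7 : ℕ := (nat_lit 0x4104)
noncomputable def n8 : Net := ben 4 [(nat_lit 0xc44),
 (nat_lit 0x5200),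
 (nat_lit 0x400),
 (nat_lit 0x0)]
noncomputable def t8 : List ℕ := [(nat_lit 0x94a8),
 (nat_lit 0x192a),
 (nat_lit 0xc1f0),
 (nat_lit 0xfc00)]
noncomputable def d8 : ℕ := (nat_lit 0x0)
noncomputable def n9 : Net := n8.rev
noncomputable def t9 : List ℕ := mapPull n9 t8
noncomputable def d9 : ℕ := (nat_lit 0x408)
noncomputable def n10 : Net := ben 4 [(nat_lit 0x1130),
 (nat_lit 0xb0),
 (nat_lit 0x8),
 (nat_lit 0x0)]
noncomputable def t10 : List ℕ := [(nat_lit 0xbc74),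
 (nat_lit 0x866),
 (nat_lit 0xc0f0),
 (nat_lit 0xff00)]
noncomputable def d10 : ℕ := (nat_lit 0x0)
noncomputable def n11 : Net := n10.rev
noncomputable def t11 : List ℕ := mapPull n11 t10
noncomputable def d11 : ℕ := (nat_lit 0x10)
noncomputable def n14 : Net := ben 4 [(nat_lit 0x0),
 (nat_lit 0x0),
 (nat_lit 0x0),
 (nat_lit 0x0)]
noncomputable def t14 : List ℕ := [(nat_lit 0xf130),
 (nat_lit 0x6566),
 (nat_lit 0xa9f8),
 (nat_lit 0xde00)]
noncomputable def d14 : ℕ := (nat_lit 0x0)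
def ivl : List ℕ := [1, 0, 3, 2, 5, 4, 7, 6, 9, 8, 11, 10, 13, 12, 14]
def cols : List ℕ := [2, 3, 4, 5, 6, 7, 8, 9, 10, 11, 14]
def hcols : List ℕ := [4, 5, 6, 7, 8, 9, 10, 11, 14]
def G0 : List (List ℕ) := [[2, 2, 14],
 [4, 4, 14],
 [6, 6, 14],
 [8, 8, 14],
 [10, 10, 14],
 [4, 6, 4, 7, 5, 7],
 [2, 6, 2, 7, 3, 7],
 [6, 8, 6, 9, 7, 9],
 [8, 10, 8, 11, 9, 11],
 [2, 4, 3, 5, 14],
 [2, 8, 3, 9, 14],
 [2, 10, 3, 11, 14],
 [4, 8, 5, 9, 14],
 [4, 10, 5, 11, 14],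
 [6, 10, 7, 11, 14]]
def R0 : List (List ℕ) := G0
theorem hii : ∀ c, ivOf ivl (ivOf ivl c) = c := ivOf_ivOf (by decide +kernel)
theorem der : Derives (ivOf ivl) R0 R0 := Derives.refl _ _
noncomputable def nl : List Net := [Net.nil, Net.nil, n2, n3, n4, n5, n6, n7, n8, n9, n10, n11, Net.nil, Net.nil, n14]
noncomputable def T : TCData := ⟨16, 16, 4, 4, nth Net.nil nl, ivOf ivl, cols, hcols, R0,
  nth [] [[], [], t2, t3, t4, t5, t6, t7, t8, t9, t10, t11, [], [], t14], nth 0 [0, 0, d2, d3, d4, d5, d6, d7, d8, d9, d10, d11, 0, 0, d14]⟩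
theorem hn : NetsOK 16 (nth Net.nil nl) := netsOK_of_all (by decide +kernel)
theorem hiv : IvOK (sg (nth Net.nil nl)) (ivOf ivl) :=
  ivOK_of_chk (k := 4) hn (by decide) (n := 15) (by decide) (by decide) (allN_true.1 (by decide +kernel))
theorem hb : T.Basic := TCData.basic_of_chk hn hiv (by decide +kernel)
theorem hG0 : ∀ r ∈ G0, ev (sg (nth Net.nil nl)) r = 1 :=
  rels_of_chk (k := 4) hn (by decide) hiv (allN_true.1 (by decide +kernel))
noncomputable def s2 : List TCData.Step := [.all 9 2 0,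
 .pts 10 2 0 4 [3],
 .pts 11 2 0 6 [4]]
noncomputable def s3 : List TCData.Step := [.pts 0 0 0 1 [0],
 .pts 0 0 0 11 [10],
 .pts 6 0 0 1 [2],
 .pts 6 0 0 8 [8],
 .pts 6 0 0 10 [14],
 .pts 6 2 0 9 [12]]
noncomputable def s4 : List TCData.Step := [.pts 9 3 0 8 [13],
 .pts 12 2 0 10 [10],
 .pts 12 2 0 11 [11]]
noncomputable def s5 : List TCData.Step := [.all 1 0 0,
 .pts 1 1 0 5 [6],
 .pts 5 0 0 6 [8],
 .pts 5 2 0 7 [9],
 .pts 9 1 0 2 [1],
 .pts 9 1 0 9 [12]]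
noncomputable def s6 : List TCData.Step := [.pts 5 3 0 8 [5],
 .pts 5 5 0 3 [7],
 .pts 5 5 0 12 [15],
 .pts 6 3 0 8 [12],
 .pts 6 5 0 2 [2],
 .pts 6 5 0 6 [13],
 .pts 14 2 0 6 [4]]
noncomputable def s7 : List TCData.Step := [.pts 2 0 0 7 [6],
 .pts 2 1 0 12 [11],
 .pts 7 0 0 3 [3],
 .pts 7 0 0 9 [10]]
noncomputable def s8 : List TCData.Step := [.pts 7 5 0 6 [8],
 .pts 7 5 0 12 [14],
 .pts 10 3 0 8 [13],
 .pts 10 3 0 10 [11]]
noncomputable def s9 : List TCData.Step := [.pts 3 0 0 3 [2],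
 .pts 3 0 0 9 [9],
 .pts 3 1 0 11 [11],
 .pts 8 0 0 4 [4],
 .pts 10 1 0 2 [1],
 .all 12 1 0]
noncomputable def s10 : List TCData.Step := [.pts 8 3 0 11 [11],
 .pts 8 5 0 5 [4],
 .pts 8 5 0 9 [10],
 .pts 14 3 0 3 [2],
 .pts 14 3 0 12 [14]]
noncomputable def s11 : List TCData.Step := [.pts 11 1 0 2 [1],
 .pts 11 1 0 9 [12, 13],
 .pts 13 1 0 4 [7],
 .pts 13 1 0 7 [5, 6],
 .pts 13 1 0 13 [15],
 .pts 14 1 0 8 [8, 9]]
noncomputable def s14 : List TCData.Step := [.all 0 2 0,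
 .all 1 2 0,
 .all 2 2 0,
 .pts 3 2 0 5 [4],
 .pts 3 2 0 7 [8],
 .pts 12 4 0 6 [6]]
theorem hR0 : ∀ r ∈ R0, ev (sg (nth Net.nil nl)) r = 1 := hG0
theorem col2 : T.ColOK 2 := TCData.colOK_of_chk (U := (T.stepsMask 2 s2 (T.mask0 2))) (V := (T.stepsMask 3 s3 (T.mask0 3))) hb (TCData.cov_stepsMask hb (by decide) s2 _ (T.cov_mask0 2)) (TCData.cov_stepsMask hb (by decide) s3 _ (T.cov_mask0 3)) (by decide +kernel)
theorem col3 : T.ColOK 3 := TCData.colOK_of_chk (U := (T.stepsMask 3 s3 (T.mask0 3))) (V := (T.stepsMask 2 s2 (T.mask0 2))) hb (TCData.cov_stepsMask hb (by decide) s3 _ (T.cov_mask0 3)) (TCData.cov_stepsMask hb (by decide) s2 _ (T.cov_mask0 2)) (by decide +kernel)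
theorem col4 : T.ColOK 4 := TCData.colOK_of_chk (U := (T.stepsMask 4 s4 (T.mask0 4))) (V := (T.stepsMask 5 s5 (T.mask0 5))) hb (TCData.cov_stepsMask hb (by decide) s4 _ (T.cov_mask0 4)) (TCData.cov_stepsMask hb (by decide) s5 _ (T.cov_mask0 5)) (by decide +kernel)
theorem col5 : T.ColOK 5 := TCData.colOK_of_chk (U := (T.stepsMask 5 s5 (T.mask0 5))) (V := (T.stepsMask 4 s4 (T.mask0 4))) hb (TCData.cov_stepsMask hb (by decide) s5 _ (T.cov_mask0 5)) (TCData.cov_stepsMask hb (by decide) s4 _ (T.cov_mask0 4)) (by decide +kernel)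
theorem col6 : T.ColOK 6 := TCData.colOK_of_chk (U := (T.stepsMask 6 s6 (T.mask0 6))) (V := (T.stepsMask 7 s7 (T.mask0 7))) hb (TCData.cov_stepsMask hb (by decide) s6 _ (T.cov_mask0 6)) (TCData.cov_stepsMask hb (by decide) s7 _ (T.cov_mask0 7)) (by decide +kernel)
theorem col7 : T.ColOK 7 := TCData.colOK_of_chk (U := (T.stepsMask 7 s7 (T.mask0 7))) (V := (T.stepsMask 6 s6 (T.mask0 6))) hb (TCData.cov_stepsMask hb (by decide) s7 _ (T.cov_mask0 7)) (TCData.cov_stepsMask hb (by decide) s6 _ (T.cov_mask0 6)) (by decide +kernel)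
theorem col8 : T.ColOK 8 := TCData.colOK_of_chk (U := (T.stepsMask 8 s8 (T.mask0 8))) (V := (T.stepsMask 9 s9 (T.mask0 9))) hb (TCData.cov_stepsMask hb (by decide) s8 _ (T.cov_mask0 8)) (TCData.cov_stepsMask hb (by decide) s9 _ (T.cov_mask0 9)) (by decide +kernel)
theorem col9 : T.ColOK 9 := TCData.colOK_of_chk (U := (T.stepsMask 9 s9 (T.mask0 9))) (V := (T.stepsMask 8 s8 (T.mask0 8))) hb (TCData.cov_stepsMask hb (by decide) s9 _ (T.cov_mask0 9)) (TCData.cov_stepsMask hb (by decide) s8 _ (T.cov_mask0 8)) (by decide +kernel)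
theorem col10 : T.ColOK 10 := TCData.colOK_of_chk (U := (T.stepsMask 10 s10 (T.mask0 10))) (V := (T.stepsMask 11 s11 (T.mask0 11))) hb (TCData.cov_stepsMask hb (by decide) s10 _ (T.cov_mask0 10)) (TCData.cov_stepsMask hb (by decide) s11 _ (T.cov_mask0 11)) (by decide +kernel)
theorem col11 : T.ColOK 11 := TCData.colOK_of_chk (U := (T.stepsMask 11 s11 (T.mask0 11))) (V := (T.stepsMask 10 s10 (T.mask0 10))) hb (TCData.cov_stepsMask hb (by decide) s11 _ (T.cov_mask0 11)) (TCData.cov_stepsMask hb (by decide) s10 _ (T.cov_mask0 10)) (by decide +kernel)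
theorem col14 : T.ColOK 14 := TCData.colOK_of_chk (U := (T.stepsMask 14 s14 (T.mask0 14))) (V := (T.stepsMask 14 s14 (T.mask0 14))) hb (TCData.cov_stepsMask hb (by decide) s14 _ (T.cov_mask0 14)) (TCData.cov_stepsMask hb (by decide) s14 _ (T.cov_mask0 14)) (by decide +kernel)
theorem ok : T.OK := ⟨hb, TCData.treeOK_of_chk hn (by decide +kernel), (List.forall_mem_cons.2 ⟨col2, (List.forall_mem_cons.2 ⟨col3, (List.forall_mem_cons.2 ⟨col4, (List.forall_mem_cons.2 ⟨col5, (List.forall_mem_cons.2 ⟨col6, (List.forall_mem_cons.2 ⟨col7, (List.forall_mem_cons.2 ⟨col8, (List.forall_mem_cons.2 ⟨col9, (List.forall_mem_cons.2 ⟨col10, (List.forall_mem_cons.2 ⟨col11, (List.forall_mem_cons.2 ⟨col14, (fun _ h => absurd h List.not_mem_nil)⟩)⟩)⟩)⟩)⟩)⟩)⟩)⟩)⟩)⟩)⟩), der _ _ hiv hR0⟩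
theorem bd {G : Type} [Group G] {e : ℕ → G} (h1 : IvOK e (ivOf ivl)) (h2 : ∀ r ∈ R0, ev e r = 1)
    {m : ℕ} (h : Bd (gen e hcols) m) : Bd (gen e cols) (16 * m) := ok.bd h1 (der G e h1 h2) h
theorem cm {G : Type} [Group G] {e : ℕ → G} (h1 : IvOK e (ivOf ivl)) (h2 : ∀ r ∈ R0, ev e r = 1)
    (h3 : gen e cols = ⊤) {ρ : G →* Equiv.Perm ℕ} (h4 : ∀ c, ρ (e c) = sg (nth Net.nil nl) c) :
    CosetModel ρ (gen e hcols) 16 := ok.cosetModel h1 (der G e h1 h2) h3 fun c _ => h4 c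

end H11.C3T2
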