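import Mathlib
import Cfsg.Agent.H29.Ext

set_option autoImplicit false
set_option maxRecDepth 100000
set_option Elab.async false
set_option linter.all false

namespace H11.C3T3

open H29

noncomputable def n4 : Net := ben 7 [(nat_lit 0x555555555555555555555555555555),
 (nat_lit 0x6f6f06660f6f03cca002a1c0132390),
 (nat_lit 0x542ebbbbc00cc02ce2e22ff381000d),
 (nat_lit 0x2020ccb3939089006e330f004c8),
 (nat_lit 0x700ff05480dbc002b03ab0000f4f0),
 (nat_lit 0x700021004400930100000006000bef),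
 (nat_lit 0xc61026c930049b)]
noncomputable def t4 : List ℕ := [(nat_lit 0x2acaa8ac6955505312da520554588a),
 (nat_lit 0x8d09c2a0c81c90d0016800065403d2),
 (nat_lit 0x2f97f88ce07c12c0018210674458da),
 (nat_lit 0x10000080c07c12c30008d267010321),
 (nat_lit 0xc3fffa242b83e8109a700008000000)]
noncomputable def d4 : ℕ := (nat_lit 0x5500000052000052000a80000)
noncomputable def n5 : Net := n4.rev
noncomputable def t5 : List ℕ := mapPull n5 t4
noncomputable def d5 : ℕ := (nat_lit 0xaac00000ad0000ad000540000)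
noncomputable def n6 : Net := ben 7 [(nat_lit 0x555555555555555555555555555555),
 (nat_lit 0x330f9f00990f0f0660f009999f6030),
 (nat_lit 0x11b80021bbde881d0c11478b3f00),
 (nat_lit 0x5644303320100084181884ff0003),
 (nat_lit 0x18001814000400000210234200d600),
 (nat_lit 0x184200001842003000000020021000),
 (nat_lit 0x8043418f20c)]
noncomputable def t6 : List ℕ := [(nat_lit 0x7934426b48c1570aa5502c94523556),
 (nat_lit 0x9fc451d36c0106e7238504450a1542),
 (nat_lit 0xff4540c810145c7a01328101a0514),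
 (nat_lit 0x50000000407c7a3d4ecd5410000),
 (nat_lit 0xfff017ffedf0102814000000000000)]
noncomputable def d6 : ℕ := (nat_lit 0xaa000100aa00040200102004080)
noncomputable def n7 : Net := n6.rev
noncomputable def t7 : List ℕ := mapPull n7 t6
noncomputable def d7 : ℕ := (nat_lit 0x550000c055000301000c1003040)
noncomputable def n8 : Net := ben 7 [(nat_lit 0x555555555555555555555555555555),
 (nat_lit 0xc8b3363055ccc33a033330a3600ca3),
 (nat_lit 0x64d1900ffdb0099998100090c6609),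
 (nat_lit 0x24a1bdbd08610090009000000060),
 (nat_lit 0x80025080021400000108000000000),
 (nat_lit 0x9c00000900000009000000),
 (nat_lit 0x9000000)]
noncomputable def t8 : List ℕ := [(nat_lit 0x88a3e8aa022d663c021af4509134),
 (nat_lit 0xa287e86ca881ec10b8498e64433514),
 (nat_lit 0x228f8e0f8401e500bc0972105b8d00),
 (nat_lit 0x806600080060502bc4efcf4a40000),
 (nat_lit 0x82880fe72e880afc00000000000000)]
noncomputable def d8 : ℕ := (nat_lit 0x553000004130000100800000000000)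
noncomputable def n9 : Net := n8.rev
noncomputable def t9 : List ℕ := mapPull n9 t8
noncomputable def d9 : ℕ := (nat_lit 0xa2000000a20000028c400234008d34)
noncomputable def n10 : Net := ben 7 [(nat_lit 0x555555555555555555555555555555),
 (nat_lit 0x3f0f0ff03f0f053f0f06000a3000),
 (nat_lit 0x33448b0c33cc11cc00cc00990000),
 (nat_lit 0x4878008440708098404c90900000),
 (nat_lit 0x48004800008080c04000d000),
 (nat_lit 0x80000048804000000040804000),
 (nat_lit 0x8040000000)]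
noncomputable def t10 : List ℕ := [(nat_lit 0xd109702012842d7632a8c54b153a52),
 (nat_lit 0x53a76c180120c1f52e8ab043056630),
 (nat_lit 0x138c7e7d1c20c1c42cb4b038351ec8),
 (nat_lit 0x2407a000002721c72e3f75fbc80000),
 (nat_lit 0xc3a81fe5df881e3050000000000000)]
noncomputable def d10 : ℕ := (nat_lit 0x84000020040000801000800020000)
noncomputable def n11 : Net := n10.rev
noncomputable def t11 : List ℕ := mapPull n11 t10
noncomputable def d11 : ℕ := (nat_lit 0x800001008000040200040801020a)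
noncomputable def n14 : Net := ben 7 [(nat_lit 0x0),
 (nat_lit 0x0),
 (nat_lit 0x0),
 (nat_lit 0x0),
 (nat_lit 0x0),
 (nat_lit 0x0),
 (nat_lit 0x0)]
noncomputable def t14 : List ℕ := [(nat_lit 0xbacc072355571bc1c8e0e071810600),
 (nat_lit 0xe2f49a3c17e1c0eb8cf715eb2ba6a2),
 (nat_lit 0x229ebc5f2861c3d0ce9b391c3bdedc),
 (nat_lit 0x1d076000006623c3cf7cfeffc40100),
 (nat_lit 0xc3f81fe7ff981c3c30000000000000)]
noncomputable def d14 : ℕ := (nat_lit 0x0)
def ivl : List ℕ := [1, 0, 3, 2, 5, 4, 7, 6, 9, 8, 11, 10, 13, 12, 14]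
def cols : List ℕ := [4, 5, 6, 7, 8, 9, 10, 11, 14]
def hcols : List ℕ := [14]
def G0 : List (List ℕ) := [[4, 4, 14],
 [6, 6, 14],
 [8, 8, 14],
 [10, 10, 14],
 [4, 6, 4, 7, 5, 7],
 [6, 8, 6, 9, 7, 9],
 [8, 10, 8, 11, 9, 11],
 [4, 8, 5, 9, 14],
 [4, 10, 5, 11, 14],
 [6, 10, 7, 11, 14]]
def R0 : List (List ℕ) := G0
theorem hii : ∀ c, ivOf ivl (ivOf ivl c) = c := ivOf_ivOf (by decide +kernel)
theorem der : Derives (ivOf ivl) R0 R0 := Derives.refl _ _
noncomputable def nl : List Net := [Net.nil, Net.nil, Net.nil, Net.nil, n4, n5, n6, n7, n8, n9, n10, n11, Net.nil, Net.nil, n14]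
noncomputable def T : TCData := ⟨120, 120, 7, 5, nth Net.nil nl, ivOf ivl, cols, hcols, R0,
  nth [] [[], [], [], [], t4, t5, t6, t7, t8, t9, t10, t11, [], [], t14], nth 0 [0, 0, 0, 0, d4, d5, d6, d7, d8, d9, d10, d11, 0, 0, d14]⟩
theorem hn : NetsOK 120 (nth Net.nil nl) := netsOK_of_all (by decide +kernel)
theorem hiv : IvOK (sg (nth Net.nil nl)) (ivOf ivl) :=
  ivOK_of_chk (k := 7) hn (by decide) (n := 15) (by decide) (by decide) (allN_true.1 (by decide +kernel))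
theorem hb : T.Basic := TCData.basic_of_chk hn hiv (by decide +kernel)
theorem hG0 : ∀ r ∈ G0, ev (sg (nth Net.nil nl)) r = 1 :=
  rels_of_chk (k := 7) hn (by decide) hiv (allN_true.1 (by decide +kernel))
noncomputable def s4 : List TCData.Step := [.all 7 2 0,
 .all 8 2 0]
noncomputable def s5 : List TCData.Step := [.all 0 0 0,
 .all 0 1 0,
 .pts 4 0 0 9 [31],
 .pts 4 0 0 15 [53, 69],
 .pts 4 0 0 19 [94],
 .pts 4 0 0 20 [101],
 .all 4 2 0,
 .all 7 0 0,
 .pts 8 0 0 16 [72],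
 .pts 8 0 0 21 [104]]
noncomputable def s6 : List TCData.Step := [.all 4 3 0,
 .all 4 5 0,
 .pts 5 4 0 9 [46],
 .pts 5 4 0 13 [55],
 .pts 5 4 0 17 [50],
 .pts 5 4 0 18 [85],
 .all 9 2 0]
noncomputable def s7 : List TCData.Step := [.all 1 0 0,
 .all 1 1 0,
 .all 4 1 0,
 .all 5 0 0,
 .all 5 2 0,
 .all 9 0 0]
noncomputable def s8 : List TCData.Step := [.all 5 3 0,
 .all 5 5 0,
 .pts 6 4 0 6 [16],
 .pts 6 4 0 10 [34],
 .pts 7 3 0 7 [22],
 .pts 7 3 0 13 [36],
 .pts 7 3 0 18 [60]]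
noncomputable def s9 : List TCData.Step := [.all 2 0 0,
 .all 2 1 0,
 .all 5 1 0,
 .all 6 0 0,
 .pts 6 2 0 8 [116],
 .pts 6 2 0 16 [58],
 .pts 6 2 0 18 [110],
 .all 7 1 0]
noncomputable def s10 : List TCData.Step := [.all 6 3 0,
 .all 6 5 0,
 .all 8 3 0,
 .all 9 3 0]
noncomputable def s11 : List TCData.Step := [.all 3 0 0,
 .all 3 1 0,
 .all 6 1 0,
 .all 8 1 0,
 .all 9 1 0]
noncomputable def s14 : List TCData.Step := [.all 0 2 0,
 .all 1 2 0,
 .all 2 2 0,
 .all 3 2 0,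
 .all 7 4 0,
 .all 8 4 0,
 .pts 9 4 0 4 [14],
 .pts 9 4 0 6 [7],
 .pts 9 4 0 21 [89]]
theorem hR0 : ∀ r ∈ R0, ev (sg (nth Net.nil nl)) r = 1 := hG0
theorem col4 : T.ColOK 4 := TCData.colOK_of_chk (U := (T.stepsMask 4 s4 (T.mask0 4))) (V := (T.stepsMask 5 s5 (T.mask0 5))) hb (TCData.cov_stepsMask hb (by decide) s4 _ (T.cov_mask0 4)) (TCData.cov_stepsMask hb (by decide) s5 _ (T.cov_mask0 5)) (by decide +kernel)
theorem col5 : T.ColOK 5 := TCData.colOK_of_chk (U := (T.stepsMask 5 s5 (T.mask0 5))) (V := (T.stepsMask 4 s4 (T.mask0 4))) hb (TCData.cov_stepsMask hb (by decide) s5 _ (T.cov_mask0 5)) (TCData.cov_stepsMask hb (by decide) s4 _ (T.cov_mask0 4)) (by decide +kernel)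
theorem col6 : T.ColOK 6 := TCData.colOK_of_chk (U := (T.stepsMask 6 s6 (T.mask0 6))) (V := (T.stepsMask 7 s7 (T.mask0 7))) hb (TCData.cov_stepsMask hb (by decide) s6 _ (T.cov_mask0 6)) (TCData.cov_stepsMask hb (by decide) s7 _ (T.cov_mask0 7)) (by decide +kernel)
theorem col7 : T.ColOK 7 := TCData.colOK_of_chk (U := (T.stepsMask 7 s7 (T.mask0 7))) (V := (T.stepsMask 6 s6 (T.mask0 6))) hb (TCData.cov_stepsMask hb (by decide) s7 _ (T.cov_mask0 7)) (TCData.cov_stepsMask hb (by decide) s6 _ (T.cov_mask0 6)) (by decide +kernel)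
theorem col8 : T.ColOK 8 := TCData.colOK_of_chk (U := (T.stepsMask 8 s8 (T.mask0 8))) (V := (T.stepsMask 9 s9 (T.mask0 9))) hb (TCData.cov_stepsMask hb (by decide) s8 _ (T.cov_mask0 8)) (TCData.cov_stepsMask hb (by decide) s9 _ (T.cov_mask0 9)) (by decide +kernel)
theorem col9 : T.ColOK 9 := TCData.colOK_of_chk (U := (T.stepsMask 9 s9 (T.mask0 9))) (V := (T.stepsMask 8 s8 (T.mask0 8))) hb (TCData.cov_stepsMask hb (by decide) s9 _ (T.cov_mask0 9)) (TCData.cov_stepsMask hb (by decide) s8 _ (T.cov_mask0 8)) (by decide +kernel)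
theorem col10 : T.ColOK 10 := TCData.colOK_of_chk (U := (T.stepsMask 10 s10 (T.mask0 10))) (V := (T.stepsMask 11 s11 (T.mask0 11))) hb (TCData.cov_stepsMask hb (by decide) s10 _ (T.cov_mask0 10)) (TCData.cov_stepsMask hb (by decide) s11 _ (T.cov_mask0 11)) (by decide +kernel)
theorem col11 : T.ColOK 11 := TCData.colOK_of_chk (U := (T.stepsMask 11 s11 (T.mask0 11))) (V := (T.stepsMask 10 s10 (T.mask0 10))) hb (TCData.cov_stepsMask hb (by decide) s11 _ (T.cov_mask0 11)) (TCData.cov_stepsMask hb (by decide) s10 _ (T.cov_mask0 10)) (by decide +kernel)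
theorem col14 : T.ColOK 14 := TCData.colOK_of_chk (U := (T.stepsMask 14 s14 (T.mask0 14))) (V := (T.stepsMask 14 s14 (T.mask0 14))) hb (TCData.cov_stepsMask hb (by decide) s14 _ (T.cov_mask0 14)) (TCData.cov_stepsMask hb (by decide) s14 _ (T.cov_mask0 14)) (by decide +kernel)
theorem ok : T.OK := ⟨hb, TCData.treeOK_of_chk hn (by decide +kernel), (List.forall_mem_cons.2 ⟨col4, (List.forall_mem_cons.2 ⟨col5, (List.forall_mem_cons.2 ⟨col6, (List.forall_mem_cons.2 ⟨col7, (List.forall_mem_cons.2 ⟨col8, (List.forall_mem_cons.2 ⟨col9, (List.forall_mem_cons.2 ⟨col10, (List.forall_mem_cons.2 ⟨col11, (List.forall_mem_cons.2 ⟨col14, (fun _ h => absurd h List.not_mem_nil)⟩)⟩)⟩)⟩)⟩)⟩)⟩)⟩)⟩), der _ _ hiv hR0⟩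
theorem bd {G : Type} [Group G] {e : ℕ → G} (h1 : IvOK e (ivOf ivl)) (h2 : ∀ r ∈ R0, ev e r = 1)
    {m : ℕ} (h : Bd (gen e hcols) m) : Bd (gen e cols) (120 * m) := ok.bd h1 (der G e h1 h2) h
theorem cm {G : Type} [Group G] {e : ℕ → G} (h1 : IvOK e (ivOf ivl)) (h2 : ∀ r ∈ R0, ev e r = 1)
    (h3 : gen e cols = ⊤) {ρ : G →* Equiv.Perm ℕ} (h4 : ∀ c, ρ (e c) = sg (nth Net.nil nl) c) :
    CosetModel ρ (gen e hcols) 120 := ok.cosetModel h1 (der G e h1 h2) h3 fun c _ => h4 c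

end H11.C3T3
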