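import Mathlib
import Cfsg.Agent.H11.C3T0
import Cfsg.Agent.H11.C3T1
import Cfsg.Agent.H11.C3T2
import Cfsg.Agent.H11.C3T3
import Cfsg.Agent.H11.C3SX
import Cfsg.Agent.H9.CG2
import Cfsg.Agent.S0245

set_option autoImplicit false
set_option maxRecDepth 100000
set_option Elab.async false
set_option linter.all false

namespace H11.C3S

open H29

open H9 H9.MX

theorem bdz {G : Type} [Group G] {e : ℕ → G} (h1 : IvOK e (ivOf C3T0.ivl))
    (h2 : ∀ r ∈ C3T0.R0, ev e r = 1) {m : ℕ} (h : Bd (gen e [14]) m) :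
    Bd (gen e C3T0.cols) (1451520 * m) := by
  have := C3T0.bd h1 h2 (C3T1.bd h1 (rels_sub h2 (by decide +kernel))
    (C3T2.bd h1 (rels_sub h2 (by decide +kernel)) (C3T3.bd h1 (rels_sub h2 (by decide +kernel)) h)))
  rwa [← mul_assoc, ← mul_assoc, ← mul_assoc] at this
theorem bd_one {G : Type} [Group G] {e : ℕ → G} (h : e 14 = 1) : Bd (gen e [14]) 1 :=
  (bd_nil e).of_le (gen_le.2 fun c hc => by rw [List.mem_singleton.1 hc, h]; exact one_mem _)
theorem bd_two {G : Type} [Group G] {e : ℕ → G} (h1 : IvOK e (ivOf C3T0.ivl)) :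
    Bd (gen e [14]) 2 := by
  have h2 : e 14 * e 14 = 1 := by nth_rw 1 [show e 14 = (e 14)⁻¹ from h1 14]; simp
  have h3 : gen e [14] ≤ Subgroup.zpowers (e 14) :=
    gen_le.2 fun c hc => by rw [List.mem_singleton.1 hc]; exact Subgroup.mem_zpowers _
  have h4 : orderOf (e 14) ∣ 2 := orderOf_dvd_of_pow_eq_one (by rw [pow_two, h2])
  refine Bd.of_le ⟨?_, ?_⟩ h3
  · exact finite_zpowers.2 (isOfFinOrder_iff_pow_eq_one.2 ⟨2, by norm_num, by rw [pow_two, h2]⟩)
  · rw [Nat.card_zpowers]; exact Nat.le_of_dvd (by norm_num) h4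
theorem ubd : UBd (ivOf C3T0.ivl) C3T0.R0 C3T0.cols 2903040 := fun _ _ _ h1 h2 =>
  bdz h1 h2 (bd_two h1)
def R1 : List (List ℕ) := C3T0.R0 ++ [[14]]
theorem ubd1 : UBd (ivOf C3T0.ivl) R1 C3T0.cols 1451520 := fun _ _ _ h1 h2 =>
  bdz h1 (rels_sub h2 (by decide +kernel)) (bd_one (by simpa using h2 [14] (by decide)))
/-- The symplectic group on 28 points. -/
abbrev S : Type := PG C3T0.nl
noncomputable abbrev τ : ℕ → S := pe C3T0.nl
theorem hL : ∀ c ∈ C3T0.cols, ivOf C3T0.ivl c ∈ C3T0.cols := by decide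
theorem top : gen τ C3T0.cols = ⊤ := pe_top (by decide +kernel)
theorem hiv : IvOK τ (ivOf C3T0.ivl) := ivOK_sub _ C3T0.hiv
theorem rel {R : List (List ℕ)}
    (h : allN 5 (chkRelP 28 5 (nth Net.nil C3T0.nl) (ivOf C3T0.ivl) R) = true) :
    ∀ r ∈ R, ev τ r = 1 :=
  rels_subE _ (rels_of_chk (k := 5) C3T0.hn (by decide) C3T0.hiv (allN_true.1 h))
theorem hR : ∀ r ∈ R1, ev τ r = 1 := rel (by decide +kernel)
theorem card : Nat.card S = 1451520 :=
  (card_eq_of_chain C3SX.hn ((ubd1 _ _ hiv hR).of_top top) (fun c _ => C3SX.map (pe_rho _) c)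
    C3SX.ch (by decide +kernel)).1
theorem simple : IsSimpleGroup S :=
  simple_of_cert (q := 7) (m := 207360) C3SX.hn C3SX.prim
    (trans_of_reach (by decide) (PG_lt C3T0.hn) (fun c _ => C3SX.map (pe_rho _) c) C3SX.reach)
    (C3SX.map (pe_rho _)) (PG_faithful C3T0.hn) card C3SX.wit (ivOK_extE hiv C3SX.hext)
    (rels_extE (R := [[0, 4, 0, 5, 1, 5], [4, 6, 4, 7, 5, 7], [2, 6, 2, 7, 3, 7], [6, 8, 6, 9, 7, 9], [8, 10, 8, 11, 9, 11], [10, 12, 10, 13, 11, 13], [0, 0, 14]]) (rel (by decide +kernel)) (by decide +kernel))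
    ((gen_extE _ _ (by decide)).trans top) (l := [(0, 0), (1, 0), (2, 0), (3, 0), (4, 0), (5, 0), (6, 0)]) (by decide +kernel) (by norm_num)
def P : Par := ⟨6, 4, 2, 1, 1, 1, 12, 0, 0,
  (nat_lit 0xf00000f00000f00000f00000f00000f),
  (nat_lit 0xffffff),
  (nat_lit 0x777777777777777777777777777777777777),
  (nat_lit 0x111111111111111111111111111111111111),
  (nat_lit 0x100000010000001000000100000010000001)⟩
def l : List MM := [⟨(nat_lit 0x100000010000001000000100000010001001), 0⟩,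
 ⟨(nat_lit 0x100000010000001000000100000010001001), 0⟩,
 ⟨(nat_lit 0x100000010000001000000100010010000001), 0⟩,
 ⟨(nat_lit 0x100000010000001000000100010010000001), 0⟩,
 ⟨(nat_lit 0x100000010000001001000100000010000001), 0⟩,
 ⟨(nat_lit 0x100000010000001001000100000010000001), 0⟩,
 ⟨(nat_lit 0x100000011010001000000100000010001011), 0⟩,
 ⟨(nat_lit 0x100000011010001000000100000010001011), 0⟩,
 ⟨(nat_lit 0x100000010000001000110100110010000001), 0⟩,
 ⟨(nat_lit 0x100000010000001000110100110010000001), 0⟩,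
 ⟨(nat_lit 0x100100010000001000000100000010000001), 0⟩,
 ⟨(nat_lit 0x100100010000001000000100000010000001), 0⟩,
 ⟨(nat_lit 0x100000010000001000100100000010000001), 0⟩,
 ⟨(nat_lit 0x100000010000001000100100000010000001), 0⟩,
 ⟨(nat_lit 0x100000010000001000000100000010000001), 0⟩]
def lt : List MM := [⟨(nat_lit 0x100000010000001001000100000010000001), 0⟩,
 ⟨(nat_lit 0x100000010000001001000100000010000001), 0⟩,
 ⟨(nat_lit 0x100000010010001000000100000010000001), 0⟩,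
 ⟨(nat_lit 0x100000010010001000000100000010000001), 0⟩,
 ⟨(nat_lit 0x100000010000001000000100000010001001), 0⟩,
 ⟨(nat_lit 0x100000010000001000000100000010001001), 0⟩,
 ⟨(nat_lit 0x100000010000011001000100010011000001), 0⟩,
 ⟨(nat_lit 0x100000010000011001000100010011000001), 0⟩,
 ⟨(nat_lit 0x100110010110001000000100000010000001), 0⟩,
 ⟨(nat_lit 0x100110010110001000000100000010000001), 0⟩,
 ⟨(nat_lit 0x100000010000001000100100000010000001), 0⟩,
 ⟨(nat_lit 0x100000010000001000100100000010000001), 0⟩,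
 ⟨(nat_lit 0x100100010000001000000100000010000001), 0⟩,
 ⟨(nat_lit 0x100100010000001000000100000010000001), 0⟩,
 ⟨(nat_lit 0x100000010000001000000100000010000001), 0⟩]
def J : MM := ⟨(nat_lit 0x100000010000001100000010000001000), 0⟩
def I : Interp P (ZMod 2) (Fin 3 ⊕ Fin 3) :=
  interpP 2 finSumFinEquiv (Par.ok_of (by decide +kernel)) ⟨rfl, rfl, rfl⟩
theorem iso : Nonempty (S ≃* Matrix.symplecticGroup (Fin 3) (ZMod 2)) := by
  obtain ⟨e, he⟩ := exists_Sp I (l := l) (by decide +kernel) (J := J) (by decide +kernel) (lt := lt)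
    (by decide +kernel)
  have h1 := he.ivOK (ivl := C3T0.ivl) (by decide +kernel)
  have := simple
  exact equiv_of_simple_card (tr_of_bd ubd1 hL hiv h1 hR (he.rels (by decide +kernel))
    (by rw [top, Subgroup.card_top, card])) hiv h1 hL top
    ⟨[0], by decide, he.ne_one (v := [4]) (i := 3) (j := 3) (by decide +kernel)⟩ (by decide) card
    (by rw [Cfsg.Agent.S0245.result (ZMod.card 2)]; decide)
/-- Words that conjugate the first reflection to the others. -/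
def W1 : List (List ℕ) := [[], [6, 4, 2, 6, 0, 4], [0, 4], [4, 6, 0, 4], [6, 8, 4, 6, 0, 4], [8, 10, 6, 8, 4, 6, 0, 4], [10, 12, 8, 10, 6, 8, 4, 6, 0, 4]]
/-- Commuting pairs with words that conjugate the first pair to them. -/
def W2 : List (ℕ × ℕ × List ℕ) := [(0, 1, []), (0, 3, [2, 6]), (0, 4, [6, 8, 2, 6]), (0, 5, [8, 10, 6, 8, 2, 6]), (0, 6, [10, 12, 8, 10, 6, 8, 2, 6]), (1, 2, [6, 4, 2, 6, 0, 4]), (1, 4, [10, 8, 6, 4, 2, 6, 8, 10, 0, 4, 6, 8, 2, 6]), (1, 5, [6, 4, 2, 6, 8, 10, 0, 4, 6, 8, 2, 6]), (1, 6, [10, 12, 6, 4, 2, 6, 8, 10, 0, 4, 6, 8, 2, 6]), (2, 4, [0, 4, 6, 8, 2, 6]), (2, 5, [8, 10, 0, 4, 6, 8, 2, 6]), (2, 6, [10, 12, 8, 10, 0, 4, 6, 8, 2, 6]), (3, 5, [4, 6, 8, 10, 0, 4, 6, 8, 2, 6]), (3, 6, [10, 12, 4, 6, 8, 10, 0, 4, 6, 8, 2, 6]), (4, 6, [6, 8, 10, 12, 4, 6, 8, 10, 0, 4, 6, 8, 2, 6])]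
def W3 : List ℕ := [4, 6, 8, 10, 12, 4, 6, 8, 10, 2, 6, 8, 4, 6, 0, 4, 2, 6, 8, 10, 8, 4, 6, 0, 4, 2, 6, 0]

end H11.C3S
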