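import Mathlib
import Cfsg.Agent.H11.C3BD
import Cfsg.Agent.H11.C3KC
import Cfsg.Agent.H11.C3S

/-! The double cover of `Sp₆(2)` on 276 points and its subgroup of order 9216 on codes. -/

set_option autoImplicit false
set_option maxRecDepth 100000

namespace H11.C3

open H29 H7.Cay H9.MX C3BT C3BD Subgroup

/-- The double cover. -/
abbrev K : Type := PG C3K0.nl
/-- The base letters. -/
noncomputable abbrev eK : ℕ → K := pe C3K0.nl
/-- The extended letters. -/
noncomputable def eX : ℕ → K := extE eK 15 C3KX.defs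
/-- The action on the points. -/
noncomputable abbrev ρ : K →* Equiv.Perm ℕ := (PG C3K0.nl).subtype

theorem hivK : IvOK eK (ivOf C3T0.ivl) := ivOK_sub _ C3K0.hiv
theorem topK : gen eK C3T0.cols = ⊤ := pe_top (by decide +kernel)
theorem hRK : ∀ r ∈ C3T0.R0, ev eK r = 1 := rels_subE _ C3K0.hR
theorem cardK' : Nat.card K = 2903040 ∧ ∀ g : K, (∀ i < 4, ρ g i = i) → g = 1 :=
  card_eq_of_chain C3KC.hn ((C3S.ubd _ _ hivK hRK).of_top topK)
    (fun c _ => C3KC.map (pe_rho _) c) C3KC.ch (by decide +kernel)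
theorem cardK : Nat.card K = 2903040 := cardK'.1
instance instFiniteK : Finite K := Nat.finite_of_card_ne_zero (by rw [cardK]; norm_num)
theorem ρX : ∀ c, ρ (eX c) = sg C3KX.nx c := C3KX.map (pe_rho _)
theorem ρ_lt (g : K) : ∀ i < 276, ρ g i < 276 := fun _ hi => lt_of_fix (PG_lt C3K0.hn g) hi

theorem e4 {u v : List ℕ} (h : eq4 9 C3KX.T u v = true) : ev eX u = ev eX v :=
  C3KX.tab.eq4 ρX (by norm_num) cardK'.2 h

theorem e4' {u v : List ℕ} (h : Bool.not (eq4 9 C3KX.T u v) = true) : ev eX u ≠ ev eX v :=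
  fun e => by rw [C3KX.tab.eq4_of ρX (by norm_num) e] at h; exact absurd h (by decide)

theorem ev_base {w : List ℕ} (h : ∀ c ∈ w, c < 15) : ev eX w = ev eK w :=
  ev_congr fun c hc => extE_lt _ _ _ (h c hc)

theorem ev1 {G : Type*} [Group G] (e : ℕ → G) (a : ℕ) : ev e [a] = e a := by simp
theorem ev2 {G : Type*} [Group G] (e : ℕ → G) (a b : ℕ) : ev e [a, b] = e a * e b := by simp
theorem ev3 {G : Type*} [Group G] (e : ℕ → G) (a b c : ℕ) : ev e [a, b, c] = e a * e b * e c := by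
  simp [mul_assoc]

/-- The element with a code. -/
noncomputable def φ (c : ℕ) : K := ev eX (wd c)

theorem φ_eq : φ = fun c => eX (lE (c % 256 % 16)) * eX (lQ (c % 256 / 16)) * eX (lB (c / 256)) := by
  funext c; exact ev3 _ _ _ _

theorem snd_inj : M.Sound φ ∧ M.Inj φ := by
  have z := z0
  simp only [and2_true] at z
  have zE : eX (lE 0) = 1 := by simpa using e4 z.1
  have s0 : X0.Sound fun c => eX (lE c) := by
    have c := c0
    simp only [allF_true, and2_true, lt_true] at c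
    refine ⟨by decide, zE, fun a ha b hb => (c a ha b hb).1, fun a ha => ha,
      fun a ha b hb => (ev1 _ _).symm.trans ((e4 (c a ha b hb).2).trans (ev2 _ _ _)), fun a ha => ?_⟩
    have := e4 (c a ha a ha).2
    rw [xor_eq, Nat.xor_self, ev1, ev2, zE] at this
    exact eq_inv_of_mul_eq_one_left this.symm
  have i0 : X0.Inj fun c => eX (lE c) := s0.inj_of_ker (fun a ha h => by
    refine (or2_true.1 (allF_true.1 k0 a ha)).elim nbeq.1 fun h1 => absurd ?_ (e4' h1)
    simpa using h) (by decide)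
  have s1 : M1.Sound fun c => eX (lE (c % 16)) * eX (lQ (c / 16)) :=
    ext_sound (t := fun c => eX (lQ c)) s0 rfl (by norm_num) (by simpa using e4 z.2.1)
      (fun c hc => by
        have := all2_true a1 c hc
        simp only [lit_eq, and2_true, lt_true] at this
        exact ⟨this.1, (ev2 _ _ _).symm.trans ((e4 this.2).trans (ev2 _ _ _))⟩)
      (fun c hc => by
        have := all2_true b1 c hc
        simp only [lit_eq, and2_true, lt_true] at this
        exact ⟨this.1, (ev2 _ _ _).symm.trans ((e4 this.2).trans (ev2 _ _ _))⟩) i1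
  have j1 : M1.Inj fun c => eX (lE (c % 16)) * eX (lQ (c / 16)) :=
    ext_inj (t := fun c => eX (lQ c)) i0 rfl s1 (fun a ha h => by
      refine (or2_true.1 (allF_true.1 k1 a ha)).elim nbeq.1 fun h1 => absurd ?_ (e4' h1)
      exact (ev2 _ _ _).trans h) fun c hc h => nbeq.1 (imp2_true.1 (all2_true q1 c hc) (lt_true.2 h))
  have s2 : M.Sound fun c => eX (lE (c % 256 % 16)) * eX (lQ (c % 256 / 16)) * eX (lB (c / 256)) :=
    ext_sound (t := fun c => eX (lB c)) s1 rfl (by norm_num) (by simpa using e4 z.2.2)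
      (fun c hc => by
        have := all2_true a2 c hc
        simp only [lit_eq, and2_true, lt_true] at this
        exact ⟨this.1, (mul_assoc _ _ _).symm.trans
          ((ev3 _ _ _ _).symm.trans ((e4 this.2).trans (ev3 _ _ _ _)))⟩)
      (fun c hc => by
        have := all2_true b2 c hc
        simp only [lit_eq, and2_true, lt_true] at this
        exact ⟨this.1, (ev2 _ _ _).symm.trans ((e4 this.2).trans (congrFun φ_eq _))⟩) i2
  rw [φ_eq]
  exact ⟨s2, ext_inj (t := fun c => eX (lB c)) j1 rfl s2 (fun a ha h => by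
    refine (or2_true.1 (all2_true k2 a ha)).elim nbeq.1 fun h1 => absurd ?_ (e4' h1)
    exact (congrFun φ_eq a).trans h)
    fun c hc h => nbeq.1 (imp2_true.1 (all2_true q2 c hc) (lt_true.2 h))⟩

theorem snd : M.Sound φ := snd_inj.1
theorem inj {a b : ℕ} (ha : a < 9216) (hb : b < 9216) (h : φ a = φ b) : a = b :=
  snd_inj.2 a ha b hb h
theorem φ0 : φ 0 = 1 := snd.zero
theorem mul_lt {a b : ℕ} (ha : a < 9216) (hb : b < 9216) : M.mul a b < 9216 := snd.mul_lt a ha b hb
theorem inv_lt {a : ℕ} (ha : a < 9216) : M.inv a < 9216 := snd.inv_lt a ha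
theorem φ_mul {a b : ℕ} (ha : a < 9216) (hb : b < 9216) : φ (M.mul a b) = φ a * φ b :=
  snd.map_mul a ha b hb
theorem φ_inv {a : ℕ} (ha : a < 9216) : φ (M.inv a) = (φ a)⁻¹ := snd.map_inv a ha
theorem cc_lt {k a : ℕ} (hk : k < 9216) (ha : a < 9216) : cc k a < 9216 :=
  mul_lt (mul_lt hk ha) (inv_lt hk)
theorem φ_cc {k a : ℕ} (hk : k < 9216) (ha : a < 9216) : φ (cc k a) = φ k * φ a * (φ k)⁻¹ := by
  rw [← φ_mul hk ha, ← φ_inv hk, ← φ_mul (mul_lt hk ha) (inv_lt hk)]; rfl
theorem φ_ne {a : ℕ} (ha : a < 9216) (h : a ≠ 0) : φ a ≠ 1 := fun e =>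
  h (inj ha (by norm_num) (e.trans φ0.symm))
/-- A product of two coded elements. -/
theorem φ_mul' {a b c : ℕ} (h : and2 (and2 (lt a 9216) (lt b 9216)) (Nat.beq (M.mul a b) c) = true) :
    φ a * φ b = φ c := by
  simp only [and2_true, lt_true, nbeq] at h
  rw [← h.2, φ_mul h.1.1 h.1.2]

theorem φ1 : φ 1 = eK 14 :=
  ((e4 (u := wd 1) (v := [14]) (by decide +kernel)).trans (ev_base (by decide))).trans (ev1 _ _)

theorem z_comm (k : K) : k * φ 1 = φ 1 * k := by
  have : gen eK C3T0.cols ≤ centralizer {φ 1} := gen_le.2 fun c hc => by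
    have h : (allL C3T0.cols fun c => and2 (lt c 15)
      (eq4 9 C3KX.T (c :: wd 1) (wd 1 ++ [c]))) = true := by decide +kernel
    have h1 := allL_true.1 h c hc
    rw [and2_true, lt_true] at h1
    have h2 := e4 h1.2
    rw [ev_append, ev_cons, ev_cons, ev_nil, mul_one, eX, extE_lt _ _ _ h1.1] at h2
    exact mem_centralizer_singleton_iff.2 h2
  exact mem_centralizer_singleton_iff.1 (this (topK ▸ mem_top k))

theorem card_B : Nat.card snd.sub = 9216 := snd.card_of_inj snd_inj.2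

theorem exists_conj_le {G : Type*} [Group G] [Finite G] {C P : Subgroup G} (hC : ¬ 2 ∣ C.index)
    (hp : IsPGroup 2 P) : ∃ g, ∀ u ∈ P, g * u * g⁻¹ ∈ C := by
  obtain ⟨q, hq⟩ := hp.nonempty_fixed_point_of_prime_not_dvd_card (G ⧸ C) hC
  induction q using QuotientGroup.induction_on with
  | H g =>
    refine ⟨g⁻¹, fun u hu => ?_⟩
    have := hq ⟨u, hu⟩
    change ((u * g : G) : G ⧸ C) = g at this
    rw [eq_comm, QuotientGroup.eq] at this
    simpa [mul_assoc] using this

theorem isPGroup_of_pow {G : Type*} [Group G] {u : G} {n : ℕ} (h : u ^ 2 ^ n = 1) :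
    IsPGroup 2 (zpowers u) := by
  rintro ⟨_, m, rfl⟩
  exact ⟨n, Subtype.ext (by
    change (u ^ m) ^ 2 ^ n = 1
    rw [← zpow_natCast, ← zpow_mul, mul_comm, zpow_mul, zpow_natCast, h, one_zpow])⟩

theorem conj_B {u : K} (h : u ^ 2 ^ 2 = 1) : ∃ k, ∃ c < 9216, φ c = k * u * k⁻¹ := by
  have h1 := snd.sub.card_mul_index
  rw [card_B, cardK] at h1
  obtain ⟨k, hk⟩ := exists_conj_le (C := snd.sub) (by omega) (isPGroup_of_pow h)
  exact ⟨k, hk u (mem_zpowers u)⟩

theorem mem_IL {c : ℕ} (hc : c < 9216) (h : φ c * φ c = 1) (h0 : c ≠ 0) : ∃ p ∈ IL, p.1 = c := by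
  have h1 := all2_true cSq c hc
  simp only [lit_eq, and2_true, imp2_true, or2_true, nbeq, anyL_true] at h1
  exact (h1.2 (inj (mul_lt hc hc) (by norm_num) (by rw [φ_mul hc hc, h, φ0]))).resolve_left h0

theorem code_class {c : ℕ} (hc : c < 9216) (h : φ c * φ c = 1) :
    c = 0 ∨ c = 1 ∨ IsConj (φ c) (φ 2) ∨ tb YM c = true ∧ IsConj (φ c) (φ 20) := by
  by_cases h0 : c = 0
  · exact Or.inl h0
  obtain ⟨p, hp, rfl⟩ := mem_IL hc h h0
  have h1 := allL_true.1 cIL p hp
  simp only [lit_eq, and2_true, or2_true, lt_true, memL_true] at h1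
  obtain ⟨⟨-, h2⟩, -, h3⟩ := h1
  have h4 : IsConj (φ p.1) (φ (cc p.2 p.1)) := isConj_iff.2 ⟨_, (φ_cc h2 hc).symm⟩
  have hW := cW
  simp only [and2_true, allL_true] at hW
  have key : ∀ (q : ℕ × List ℕ) (r : ℕ), eq4 9 C3KX.T (q.2 ++ wd q.1) (wd r ++ q.2) = true →
      IsConj (φ q.1) (φ r) := fun q r e => by
    have := e4 e
    rw [ev_append, ev_append] at this
    exact isConj_iff.2 ⟨ev eX q.2, mul_inv_eq_of_eq_mul this⟩
  refine Or.inr ?_
  rcases h3 with h3 | ⟨h3, h5⟩
  · rcases List.mem_cons.1 h3 with h3 | h3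
    · obtain ⟨k, hk⟩ := isConj_iff.1 h4.symm
      rw [h3, z_comm, mul_inv_cancel_right] at hk
      exact Or.inl (inj hc (by norm_num) hk.symm)
    · obtain ⟨q, hq, e⟩ : ∃ q ∈ WX, q.1 = cc p.2 p.1 := by
        revert h3; generalize cc p.2 p.1 = r; revert r; decide
      exact Or.inr (Or.inl (h4.trans (e ▸ key q 2 (hW.1 q hq))))
  · obtain ⟨q, hq, e⟩ : ∃ q ∈ WY, q.1 = cc p.2 p.1 := by
      revert h5; generalize cc p.2 p.1 = r; revert r; decide
    exact Or.inr (Or.inr ⟨h3, h4.trans (e ▸ key q 20 (hW.2 q hq))⟩)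

theorem eq_z_of_conj {a : K} (h : IsConj a (φ 1)) : a = φ 1 := by
  obtain ⟨k, hk⟩ := isConj_iff.1 h.symm
  rw [← hk, z_comm, mul_inv_cancel_right]

theorem inv_class {a : K} (h : a * a = 1) :
    a = 1 ∨ a = φ 1 ∨ IsConj a (φ 2) ∨ IsConj a (φ 20) := by
  obtain ⟨k, c, hc, e⟩ := conj_B (u := a) (by rw [pow_two 2, pow_mul, pow_two a, h, one_pow])
  have h1 : IsConj a (φ c) := isConj_iff.2 ⟨k, e.symm⟩
  rcases code_class hc (by rw [e, conj_mul, h]; simp) with rfl | rfl | h2 | h2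
  · exact Or.inl (by rwa [φ0, isConj_one_left] at h1)
  · exact Or.inr (Or.inl (eq_z_of_conj h1))
  · exact Or.inr (Or.inr (Or.inl (h1.trans h2)))
  · exact Or.inr (Or.inr (Or.inr (h1.trans h2.2)))

theorem sq_class {a : K} (h : a * a * (a * a) = 1) :
    a * a = 1 ∨ a * a = φ 1 ∨ IsConj (a * a) (φ 2) := by
  obtain ⟨k, c, hc, e⟩ := conj_B (u := a) (by rw [pow_two 2, pow_mul, pow_two, pow_two, h])
  have e2 : φ (M.mul c c) = k * (a * a) * k⁻¹ := by rw [φ_mul hc hc, e, conj_mul]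
  have h1 : IsConj (a * a) (φ (M.mul c c)) := isConj_iff.2 ⟨k, e2.symm⟩
  rcases code_class (mul_lt hc hc) (by rw [e2, conj_mul, h]; simp) with h2 | h2 | h2 | h2
  · exact Or.inl (by rwa [h2, φ0, isConj_one_left] at h1)
  · exact Or.inr (Or.inl (eq_z_of_conj (h2 ▸ h1)))
  · exact Or.inr (Or.inr (h1.trans h2))
  · have h3 := all2_true cSq c hc
    simp only [lit_eq, and2_true, h2.1] at h3
    exact absurd h3.1 (by decide)

/-- The number of fixed points of a coded element. -/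
noncomputable def fx (c : ℕ) : ℕ := fixc (ap 9 C3KX.T (wd c)) 276

theorem fx_eq {a b : ℕ} (h : IsConj (φ a) (φ b)) : fx a = fx b := by
  obtain ⟨k, hk⟩ := isConj_iff.1 h
  rw [fx, fx, ← C3KX.tab.fixc ρX, ← C3KX.tab.fixc ρX, ← fixc_conj ρ_lt k]
  exact congrArg (fun g => fixc (ρ g) 276) hk

theorem not_conj : ¬ IsConj (φ 2) (φ 20) := fun h => absurd (fx_eq h) (by decide +kernel)

theorem comm_x {c : ℕ} (hc : c < 4608) : φ c * φ 2 = φ 2 * φ c := by
  rw [← φ_mul (by omega) (by norm_num), nbeq.1 (all2_true cD c hc), φ_mul (by norm_num) (by omega)]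

theorem cent_x {k : K} (h : k * φ 2 = φ 2 * k) : ∃ c < 4608, φ c = k := by
  have hV := cV
  simp only [and2_true, lt_true, allF_true, nbeq] at hV
  have h1 : ∀ i < 276, V.testBit i = true ↔ ρ (φ 2) i = i := fun i hi => by
    rw [← tb_eq, φ, C3KX.tab.map ρX _ hi, ← nbeq]
    have := hV.2 i hi
    revert this
    cases tb V i <;> cases Nat.beq _ i <;> simp
  have h2 := card_mul_le_of_grow C3K0.hn (pe_rho _) cgl (C := centralizer {φ 2}) fun g hg i hi => by
    have h3 : i < 276 := by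
      by_contra h3
      rw [Nat.testBit_lt_two_pow (hV.1.trans_le (Nat.pow_le_pow_right Nat.two_pos (not_lt.1 h3)))]
        at hi
      exact absurd hi (by simp)
    rw [h1 _ (ρ_lt g i h3), ← Equiv.Perm.mul_apply, ← map_mul,
      ← mem_centralizer_singleton_iff.1 hg, map_mul, Equiv.Perm.mul_apply, (h1 i h3).1 hi]
  rw [cardK] at h2
  let f : Fin 4608 → centralizer {φ 2} := fun c =>
    ⟨φ c, mem_centralizer_singleton_iff.2 (comm_x c.2)⟩
  have h3 : Function.Injective f := fun a b e =>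
    Fin.ext (inj (by omega) (by omega) (congrArg Subtype.val e))
  have h4 := (Nat.bijective_iff_injective_and_card f).2 ⟨h3, le_antisymm
    (Nat.card_le_card_of_injective f h3) (by
      rw [Nat.card_fin]; exact Nat.le_of_mul_le_mul_left h2 (by norm_num))⟩
  obtain ⟨c, hc⟩ := h4.2 ⟨k, mem_centralizer_singleton_iff.2 h⟩
  exact ⟨c, c.2, congrArg Subtype.val hc⟩

theorem aln_ok {c : ℕ} (hc : c < 9216) (h : aln c < 9216) : φ c * eX 151 = eX 151 * φ (aln c) := by
  have := e4 (imp2_true.1 (all2_true cn c hc) (lt_true.2 h))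
  rwa [ev_append, ev_cons, ev_cons, ev_nil, mul_one] at this

theorem n_sq : eX 151 * eX 151 = 1 := by
  simpa using e4 (u := [151, 151]) (v := []) (by decide +kernel)

end H11.C3
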