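import Mathlib
import Cfsg.Agent.H11.C3B
import Cfsg.Agent.H11.C3DD

/-! The amalgam of the third Conway group and the bound on the order of its completions. -/

set_option autoImplicit false
set_option maxRecDepth 100000

namespace H11.C3

open H29 H7.Cay H9.MX C3BT C3BD C3DD Subgroup

variable {G : Type*} [Group G]

/-- The relations between the image of the double cover and a further involution. -/
structure Amal (j : K →* G) (g : G) : Prop where
  sq : g * g = 1
  cj : ∀ y ∈ Y, j (φ y.1) * g = g * j (φ y.2)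
  r3 : (g * j (φ 4608)) ^ 3 * j (φ 3215) = 1
  r5 : (g * j (eX 151)) ^ 5 = 1

theorem alg_ok {j : K →* G} {g : G} (h : ∀ y ∈ Y, j (φ y.1) * g = g * j (φ y.2)) {c : ℕ}
    (hc : c < 9216) (h1 : alg c < 9216) : j (φ c) * g = g * j (φ (alg c)) :=
  al_sound (snd.comp j) h cal c hc h1

/-- Codes separated by the letter 151. -/
def jw : List ℕ → List ℕ
  | [] => []
  | c :: l => wd c ++ 151 :: jw l

theorem jw_mem : ∀ l : List ℕ, (∀ c ∈ l, c < 9216) → ev eX (jw l) ∈ snd.sub ⊔ zpowers (eX 151)
  | [], _ => one_mem _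
  | c :: l, h => by
    rw [jw, ev_append, ev_cons]
    exact mul_mem (mem_sup_left (snd.mem (h c (by simp)))) (mul_mem (mem_sup_right (mem_zpowers _))
      (jw_mem l fun a ha => h a (by simp [ha])))

theorem B_sup : snd.sub ⊔ zpowers (eX 151) = ⊤ := by
  have h : (allL [(0, [1600, 520, 3558]), (2, [4864]), (4, [4917]), (6, [4608]), (8, [4891]),
      (10, [128, 520, 4326]), (12, [16]), (14, [1])] fun p => and2 (lt p.1 15)
        (and2 (allL p.2 fun c => lt c 9216) (eq4 9 C3KX.T [p.1, 151] (jw p.2)))) = true := by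
    decide +kernel
  simp only [allL_true, and2_true, lt_true] at h
  rw [eq_top_iff, ← topK]
  refine (gen_sub_iv (l' := [0, 2, 4, 6, 8, 10, 12, 14]) hivK (by decide)).trans
    (gen_le.2 fun c hc => ?_)
  obtain ⟨p, hp, rfl⟩ : ∃ p ∈ [(0, [1600, 520, 3558]), (2, [4864]), (4, [4917]), (6, [4608]),
      (8, [4891]), (10, [128, 520, 4326]), (12, [16]), (14, [1])], p.1 = c := by
    revert c; decide
  obtain ⟨h1, h2, h3⟩ := h p hp
  have h4 := jw_mem _ h2
  rw [← e4 h3, ev2, eX, extE_lt _ _ _ h1] at h4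
  exact (mul_mem_cancel_right (mem_sup_right (mem_zpowers _))).1 h4

theorem Amal.bd {j : K →* G} {g : G} (h : Amal j g) (hj : Function.Injective j) :
    Bd (j.range ⊔ zpowers g) 495766656000 := by
  let gg : ℕ → G := fun l => if l = 0 then g else j (eX 151)
  have s := snd.comp j
  have iv : IvOK gg fun l => l := fun l => by
    refine eq_inv_of_mul_eq_one_left ?_
    by_cases hl : l = 0
    · simp only [gg, if_pos hl, h.sq]
    · simp only [gg, if_neg hl, ← map_mul, n_sq, map_one]
  have key : ∀ R : List (ℕ × ℕ), (∀ a ∈ R, a.1 = 1) → evR (fun c => j (φ c)) gg R =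
      j (ev eX (R.flatMap fun a => 151 :: wd a.2)) := by
    intro R hR
    induction R with
    | nil => simp [evR]
    | cons a R ih =>
      rw [evR, ih fun b hb => hR b (by simp [hb]), hR a (by simp), List.flatMap_cons, ev_append,
        ev_cons, map_mul, map_mul]
      rfl
  have hB : ∀ R ∈ RB, Good M.n (fun c => j (φ c)) gg R := by
    have k2 : ∀ R ∈ RB.take 3, evR (fun c => j (φ c)) gg R = 1 := fun R hR => by
      have h1 : (allL (RB.take 3) fun R => and2 (allL R fun a => Nat.beq a.1 1)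
        (eq4 9 C3KX.T (R.flatMap fun a => 151 :: wd a.2) [])) = true := by decide +kernel
      have h2 := allL_true.1 h1 R hR
      simp only [and2_true, allL_true, nbeq] at h2
      rw [key R h2.1, e4 h2.2, ev_nil, map_one]
    intro R hR
    refine ⟨by revert R; decide, ?_⟩
    rw [← List.take_append_drop 3 RB, List.mem_append] at hR
    refine hR.elim (k2 R) fun hR => ?_
    simp only [RB, List.drop_succ_cons, List.drop_zero, List.mem_cons, List.not_mem_nil,
      or_false] at hR
    rcases hR with rfl | rfl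
    · rw [← h.r3]
      simp only [evR, gg, ← φ_mul' (a := 4608) (b := 3215) (c := 7823) (by decide +kernel), map_mul,
        if_true, pow_succ, pow_zero, mul_assoc, one_mul, mul_one]
    · rw [← h.r5]
      simp [evR, gg, φ0, pow_succ, mul_assoc]
  have hy : D.Hyp j.range (fun c => j (φ c)) gg := ⟨s, fun c _ => ⟨_, rfl⟩, iv, fun l c hc h1 => by
    by_cases hl : l = 0
    · subst hl; exact alg_ok h.cj hc h1
    · have e : D.al l c = aln c := by
        obtain ⟨l, rfl⟩ := Nat.exists_eq_succ_of_ne_zero hl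
        rfl
      rw [e] at h1 ⊢
      simp only [gg, if_neg hl, ← map_mul, aln_ok hc h1], good_of_eq s iv hB hO⟩
  have := C3DD.bd hy ⟨_, rfl⟩ (fun a ha b hb e => inj ha hb (hj e)) (m := 2903040)
    ⟨.of_surjective _ j.rangeRestrict_surjective,
      cardK ▸ Nat.card_le_card_of_surjective _ j.rangeRestrict_surjective⟩
  refine this.of_le (sup_le ?_ (zpowers_le.2 (mem_sup_right (subset_closure ⟨0, by decide, rfl⟩))))
  refine j.range_eq_map.le.trans ?_
  rw [← B_sup, Subgroup.map_sup, MonoidHom.map_zpowers]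
  refine sup_le ?_ (zpowers_le.2 (mem_sup_right (subset_closure ⟨1, by decide, rfl⟩)))
  rintro _ ⟨_, ⟨c, hc, rfl⟩, rfl⟩
  exact mem_sup_left ⟨c, hc, rfl⟩

theorem amal_of_rels {e : ℕ → G} {j : K →* G} (hj : ∀ c < 15, j (eK c) = e c)
    (hR : ∀ r ∈ RA, ev e r = 1) : Amal j (e 15) := by
  have k1 : ∀ w : List ℕ, (∀ c ∈ w, c < 15) → j (ev eX w) = ev e w := fun w hw => by
    rw [ev_base hw, map_ev]; exact ev_congr fun c hc => hj c (hw c hc)
  have k2 : ∀ p ∈ WA, j (φ p.1) = ev e p.2 := fun p hp => by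
    have h1 : (allL WA fun p => and2 (allL p.2 fun c => lt c 15)
      (eq4 9 C3KX.T (wd p.1) p.2)) = true := by decide +kernel
    have h2 := allL_true.1 h1 p hp
    simp only [and2_true, allL_true, lt_true] at h2
    rw [← k1 _ h2.1, ← e4 h2.2, φ]
  have k3 : j (eX 151) = ev e wn := by
    rw [← k1 _ (by decide), ← e4 (u := [151]) (by decide +kernel), ev1]
  have sq : e 15 * e 15 = 1 := by simpa using hR [15, 15] (by decide)
  refine ⟨sq, fun y hy => ?_, ?_, ?_⟩
  · obtain ⟨p, hp, q, hq, e1, e2, e3⟩ : ∃ p ∈ WA, ∃ q ∈ WA, p.1 = y.1 ∧ q.1 = y.2 ∧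
        p.2 ++ 15 :: (q.2 ++ [15]) ∈ RA := by revert y; decide +kernel
    have h1 := hR _ e3
    rw [ev_append, ev_cons, ev_append, ev1, ← k2 p hp, ← k2 q hq, e1, e2] at h1
    have h2 : φ y.2 * φ y.2 = 1 := by
      rw [← φ0]; apply φ_mul'; clear * - hy; revert y; decide +kernel
    have h3 : j (φ y.2) * j (φ y.2) = 1 := by rw [← map_mul, h2, map_one]
    rw [eq_inv_of_mul_eq_one_left h1, mul_inv_rev, mul_inv_rev, ← eq_inv_of_mul_eq_one_left h3,
      inv_mul_cancel_right, ← eq_inv_of_mul_eq_one_left sq]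
  · have h1 := hR (powW 3 [15, 6] ++ (nth (0, []) WA 7).2) (by decide +kernel)
    rwa [ev_append, ev_powW, ← k2 _ (by decide +kernel), ev_cons, ← k2 (4608, [6]) (by decide)] at h1
  · have h1 := hR (powW 5 (15 :: wn)) (by decide +kernel)
    rwa [ev_powW, ev_cons, ← k3] at h1

end H11.C3
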