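import Mathlib
import Cfsg.Agent.H11.C3B

set_option autoImplicit false
set_option maxRecDepth 100000
set_option Elab.async false
set_option linter.all false

namespace H11.C3FD

open H29

open H7.Cay H11.C3 H11.C3BT H11.C3BD

/-- The code of a word. -/
noncomputable def evc (f : ℕ → ℕ) (w : List ℕ) : ℕ :=
  List.rec (motive := fun _ => ℕ) 0 (fun y _ ih => lit ih fun x => lit (f y) fun a => M.mul a x) w
/-- Three codes. -/
noncomputable def tri (a b c i : ℕ) : ℕ := nth 0 [a, b, c] i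
noncomputable def dd : ℕ → ℕ := tri 2304 2596 3788
/-- The sixth power of the product is `v` and the fourth is not trivial. -/
noncomputable def f6 (a b v : ℕ) : Bool :=
  lit (M.mul a b) fun p => lit (M.mul p p) fun q => lit (M.mul q q) fun r =>
    and2 (Nat.beq (M.mul r q) v) (Bool.not (Nat.beq r 0))
/-- A chain of conjugations that ends at a square root of `1` with a wrong number of fixed points. -/
noncomputable def path (t : ℕ → ℕ) (l : List (ℕ × ℕ × List ℕ)) : ℕ → Bool :=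
  List.rec (motive := fun _ => ℕ → Bool)
    (fun c => and2 (Nat.beq (M.mul c c) 1) (Bool.not (Nat.beq (fx c) 16)))
    (fun m _ ih c => and2 (lt m.1 9216) (lit (cc m.1 c) fun c1 =>
      Nat.rec (motive := fun _ => Bool) (lit (aln c1) fun c2 => and2 (lt c2 9216) (ih c2))
        (fun ty _ => Nat.rec (motive := fun _ => Bool)
          (and2 (Nat.beq (evc dd m.2.2) c1) (lit (evc t m.2.2) ih))
          (fun _ _ => and2 (Nat.beq (evc t m.2.2) c1) (lit (evc dd m.2.2) ih)) ty) m.2.1)) l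
noncomputable def cm (a b : ℕ) : Bool := Nat.beq (M.mul a b) (M.mul b a)
def P2 : List (ℕ × ℕ) := [(2604, 0), (2605, 0), (2606, 0), (2607, 0), (2620, 0), (2621, 68), (2622, 0), (2623, 0), (2760, 68), (2761, 68), (2762, 68), (2763, 68), (2776, 68), (2777, 68), (2778, 68), (2779, 0), (3712, 3840), (3713, 3840), (3714, 3840), (3715, 3840), (3744, 3840), (3745, 3840), (3746, 3840), (3747, 3908), (3788, 3908), (3789, 3908), (3790, 3908), (3791, 3908), (3820, 3908), (3821, 3908), (3822, 3840), (3823, 3908)]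
def R2 : List ℕ := [2779, 2604, 2605, 2606, 2607, 2620, 2622, 2623]
def w1 : List ℕ := [0, 1, 0, 2, 0, 1, 0, 2, 0, 1, 0, 2]
def w2 : List ℕ := [0, 1, 2, 1, 0, 1, 2, 1, 0, 1, 2, 1]
def KL : List (List (ℕ × ℕ × List ℕ)) := [[(0, 1, [1, 0, 1, 0, 1, 0]), (5128, 0, []), (280, 2, [0, 1, 0, 2, 1, 0, 2]), (1424, 0, []), (6436, 2, [2, 1, 0, 2, 0, 2, 0, 1, 2, 1])],
 [(0, 1, [1, 0, 1, 0, 1, 0]), (5128, 0, []), (256, 2, [2, 0, 2, 1, 2, 0, 1]), (5904, 0, []), (6436, 2, [2, 1, 0, 2, 0, 2, 0, 1, 2, 1])],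
 [(0, 1, [1, 0, 1, 0, 1, 0]), (5128, 0, []), (1040, 2, [2, 0, 1]), (2072, 0, []), (260, 2, [0, 1, 2, 0, 1, 0, 2, 0, 1, 0, 2, 1])]]
theorem s1 : (allL [1, 2, 3, 4, 20] fun r => allL IL fun p =>
    imp2 (lt p.1 4608) (Bool.not (f6 r p.1 2))) = true := by decide +kernel
theorem s2 : (allL IL fun p => imp2 (lt p.1 4608) (imp2 (f6 3909 p.1 2) (anyL P2 fun q =>
    and2 (Nat.beq q.1 p.1) (and2 (and2 (lt q.2 4608) (Nat.beq (cc q.2 3909) 3909))
      (memL (cc q.2 q.1) R2))))) = true := by decide +kernel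
theorem s3 : (allL R2 fun r => allL IL fun p => imp2 (lt p.1 4608) (imp2 (f6 3909 p.1 3)
    (imp2 (f6 r p.1 1) (imp2 (Nat.beq (evc (tri 3909 r p.1) w1) 3)
      (imp2 (Nat.beq (evc (tri 3909 r p.1) w2) 2) (or2 (and2 (Nat.beq r 2779) (Nat.beq p.1 3019))
        (anyL KL fun l => path (tri 3909 r p.1) l 16))))))) = true := by decide +kernel
theorem cV : (all2 18 256 fun c =>
    imp2 (cm c 2304) (imp2 (cm c 2596) (imp2 (cm c 3788) (lt c 4)))) = true := by decide +kernel
theorem cE : (all2 18 256 fun c => imp2 (cm c 4) (imp2 (cm c 8) (lt c 16))) = true := by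
  decide +kernel

end H11.C3FD
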