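import Mathlib
import Cfsg.Agent.H11.C3D
import Cfsg.Agent.H11.C3FD

/-! A group with the double cover of `Sp₆(2)` as an involution centraliser contains the amalgam. -/

set_option autoImplicit false
set_option maxRecDepth 100000

namespace H11.C3

open H29 H7.Cay H9.MX C3BT C3BD C3DD C3FD Subgroup

variable {G : Type*} [Group G]

/-- `j` identifies the double cover with the centraliser of the image of its centre. -/
structure Fr (j : K →* G) : Prop where
  inj : Function.Injective j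
  cent : ∀ g, j (φ 1) * g = g * j (φ 1) → ∃ k, j k = g

/-- `g` conjugates the element with code `a` to the one with code `c`. -/
def R (j : K →* G) (g : G) (c a : ℕ) : Prop := c < 9216 ∧ a < 9216 ∧ j (φ c) * g = g * j (φ a)

variable {j : K →* G} {g h : G} {a b c a' c' : ℕ}

theorem R.mul (h1 : R j g c a) (h2 : R j g c' a') : R j g (M.mul c c') (M.mul a a') :=
  ⟨mul_lt h1.1 h2.1, mul_lt h1.2.1 h2.2.1, by
    rw [φ_mul h1.1 h2.1, φ_mul h1.2.1 h2.2.1, map_mul, map_mul, mul_assoc, h2.2.2, ← mul_assoc,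
      h1.2.2, mul_assoc]⟩

theorem R.zero : R j g 0 0 := ⟨by norm_num, by norm_num, by simp [φ0]⟩

theorem R.trans (h1 : R j g c b) (h2 : R j h b a) : R j (g * h) c a :=
  ⟨h1.1, h2.2.1, by rw [← mul_assoc, h1.2.2, mul_assoc, h2.2.2, mul_assoc]⟩

theorem R.symm (h1 : R j g c a) : R j g⁻¹ a c :=
  ⟨h1.2.1, h1.1, by rw [mul_inv_eq_iff_eq_mul, mul_assoc, h1.2.2, inv_mul_cancel_left]⟩

theorem R.uniq (F : Fr j) (h1 : R j g c a) (h2 : R j g c' a) : c = c' :=
  inj h1.1 h2.1 (F.inj (mul_right_cancel (h1.2.2.trans h2.2.2.symm)))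

theorem R_cc {k : ℕ} (hk : k < 9216) (ha : a < 9216) : R j (j (φ k)) (cc k a) a :=
  ⟨cc_lt hk ha, ha, by rw [φ_cc hk ha, ← map_mul, ← map_mul, inv_mul_cancel_right]⟩

theorem R_n (ha : a < 9216) (h1 : aln a < 9216) : R j (j (eX 151)) a (aln a) :=
  ⟨ha, h1, by rw [← map_mul, aln_ok ha h1, map_mul]⟩

theorem R.evc {s t : ℕ → ℕ} (h1 : ∀ i, R j g (t i) (s i)) : ∀ w, R j g (evc t w) (evc s w)
  | [] => R.zero
  | y :: w => (h1 y).mul (R.evc h1 w)

theorem R.tri {x y z x' y' z' : ℕ} (h1 : R j g x x') (h2 : R j g y y') (h3 : R j g z z') :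
    ∀ i, R j g (tri x y z i) (tri x' y' z' i)
  | 0 => h1
  | 1 => h2
  | 2 => h3
  | _ + 3 => R.zero

theorem R.f6 (F : Fr j) {v v' : ℕ} (h1 : R j g c a) (h2 : R j g c' a') (h3 : R j g v' v)
    (h4 : f6 a a' v = true) : f6 c c' v' = true := by
  simp only [C3FD.f6, lit_eq, and2_true, nbeq, Bool.not_eq_true', ← Bool.not_eq_true] at h4 ⊢
  have p := h1.mul h2
  have q := p.mul p
  have r := q.mul q
  exact ⟨(h4.1 ▸ r.mul q).uniq F h3, fun e => h4.2 ((e ▸ r).symm.uniq F R.zero)⟩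

theorem path_spec (F : Fr j) {t : ℕ → ℕ} (h1 : ∀ i, R j g (t i) (dd i)) :
    ∀ (l : List (ℕ × ℕ × List ℕ)) (c : ℕ) (h : G), R j h c 16 → path t l c = true → False
  | [], c, h, h2, h3 => by
    change and2 _ _ = true at h3
    simp only [and2_true, nbeq, Bool.not_eq_true', ← Bool.not_eq_true] at h3
    have h4 := h2.mul h2
    rw [h3.1, show M.mul 16 16 = 1 by decide +kernel] at h4
    obtain ⟨k, rfl⟩ := F.cent h h4.2.2
    refine h3.2 ((fx_eq (isConj_iff.2 ⟨k, mul_inv_eq_of_eq_mul (F.inj ?_)⟩)).symm.trans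
      (show fx 16 = 16 by decide +kernel))
    rw [map_mul, map_mul, h2.2.2]
  | (k, ty, w) :: l, c, h, h2, h3 => by
    change and2 _ _ = true at h3
    rw [and2_true, lt_true, lit_eq] at h3
    have h4 := (R_cc h3.1 h2.1).trans h2
    match ty, h3.2 with
    | 0, h5 =>
      change and2 _ _ = true at h5
      rw [and2_true, lt_true] at h5
      exact path_spec F h1 l _ _ ((R_n h4.1 h5.1).symm.trans h4) h5.2
    | 1, h5 =>
      change and2 _ _ = true at h5
      rw [and2_true, nbeq] at h5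
      exact path_spec F h1 l _ _ ((R.evc h1 w).trans (h5.1 ▸ h4)) h5.2
    | _ + 2, h5 =>
      change and2 _ _ = true at h5
      rw [and2_true, nbeq] at h5
      exact path_spec F h1 l _ _ ((R.evc h1 w).symm.trans (h5.1 ▸ h4)) h5.2

theorem Fr.memD (F : Fr j) (h1 : R j g 1 1) (h2 : R j g 2 2) : ∃ c < 4608, j (φ c) = g := by
  obtain ⟨k, rfl⟩ := F.cent g h1.2.2
  obtain ⟨c, hc, rfl⟩ := cent_x (k := k) (F.inj (by rw [map_mul, map_mul, h2.2.2]))
  exact ⟨c, hc, rfl⟩

theorem R_D (hc : c < 4608) : R j (j (φ c)) 1 1 ∧ R j (j (φ c)) 2 2 :=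
  ⟨⟨by norm_num, by norm_num, by rw [← map_mul, ← z_comm, map_mul]⟩,
    by norm_num, by norm_num, by rw [← map_mul, ← comm_x hc, map_mul]⟩

theorem R.cm (F : Fr j) (hc : c < 9216) (h1 : R j (j (φ c)) a a) : cm c a = true :=
  nbeq.2 (inj (mul_lt hc h1.1) (mul_lt h1.1 hc) (F.inj (by
    rw [φ_mul hc h1.1, φ_mul h1.1 hc, map_mul, map_mul, h1.2.2])))

theorem Fr.memV (F : Fr j) (h1 : ∀ c ∈ [1, 2, 2304, 2596, 3788], R j g c c) :
    ∃ c < 4, j (φ c) = g := by
  obtain ⟨c, hc, rfl⟩ := F.memD (h1 1 (by simp)) (h1 2 (by simp))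
  have := all2_true C3FD.cV c hc
  simp only [imp2_true, lt_true] at this
  exact ⟨c, this ((h1 _ (by simp)).cm F (by omega)) ((h1 _ (by simp)).cm F (by omega))
    ((h1 _ (by simp)).cm F (by omega)), rfl⟩

/-- The image of an involution of the centraliser of the four group. -/
theorem Fr.img (F : Fr j) (h1 : R j g 1 2) (h2 : R j g 2 1) (ha : a < 4608) (h3 : M.mul a a = 0)
    (h4 : a ≠ 0) : ∃ p ∈ IL, p.1 < 4608 ∧ R j g p.1 a := by
  obtain ⟨c, hc, e⟩ := F.memD (g := g * j (φ a) * g⁻¹) ((h1.trans (R_D ha).2).trans h1.symm)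
    ((h2.trans (R_D ha).1).trans h2.symm)
  have h5 : R j g c a := ⟨by omega, by omega, by rw [e, inv_mul_cancel_right]⟩
  have h6 := h5.mul h5
  rw [h3] at h6
  obtain ⟨p, hp, rfl⟩ := mem_IL h5.1 (by rw [← φ_mul h5.1 h5.1, h6.uniq F R.zero, φ0])
    fun e => h4 (R.uniq F (by rw [e] at h5; exact h5.symm) (R.zero (g := g⁻¹)))
  exact ⟨p, hp, hc, h5⟩

theorem Fr.search (F : Fr j) (h1 : R j g 1 2) (h2 : R j g 2 1) :
    ∃ g, ∀ i, R j g (tri 3909 2779 3019 i) (dd i) := by
  have sw : ∀ {g : G} {k : ℕ}, k < 4608 → R j g 1 2 ∧ R j g 2 1 →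
      R j (j (φ k) * g) 1 2 ∧ R j (j (φ k) * g) 2 1 := fun hk h =>
    ⟨(R_D hk).1.trans h.1, (R_D hk).2.trans h.2⟩
  have st1 : ∃ g, (R j g 1 2 ∧ R j g 2 1) ∧ R j g 3909 2304 := by
    obtain ⟨p, hp, p1, p2⟩ := F.img (a := 2304) h1 h2 (by norm_num) (by decide +kernel) (by norm_num)
    have a1 := allL_true.1 cIL p hp
    simp only [lit_eq, and2_true, imp2_true, lt_true, memL_true] at a1
    obtain ⟨a2, a3⟩ := a1.2.1 p1
    have a4 := (R_cc a1.1.2 a1.1.1).trans p2
    have a5 := sw a2 ⟨h1, h2⟩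
    refine ⟨_, a5, ?_⟩
    obtain ⟨q, hq, q1, q2⟩ := F.img (a := 2596) a5.1 a5.2 (by norm_num) (by decide +kernel)
      (by norm_num)
    have a6 := a4.f6 F q2 a5.2 (by decide +kernel)
    by_cases e : cc p.2 p.1 = 3909
    · exact e ▸ a4
    · have := imp2_true.1 (allL_true.1 (allL_true.1 s1 (cc p.2 p.1) (by
        simp only [List.mem_cons, List.not_mem_nil, e, or_false] at a3 ⊢; exact a3)) q hq)
        (lt_true.2 q1)
      rw [a6] at this
      exact absurd this (by decide)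
  obtain ⟨g, a1, a2⟩ := st1
  have st2 : ∃ g, (R j g 1 2 ∧ R j g 2 1) ∧ R j g 3909 2304 ∧ ∃ r ∈ R2, R j g r 2596 := by
    obtain ⟨p, hp, p1, p2⟩ := F.img (a := 2596) a1.1 a1.2 (by norm_num) (by decide +kernel)
      (by norm_num)
    have a3 := allL_true.1 s2 p hp
    simp only [and2_true, imp2_true, lt_true, memL_true, anyL_true, nbeq] at a3
    obtain ⟨q, -, q1, ⟨q2, q3⟩, q4⟩ := a3 p1 (a2.f6 F p2 a1.2 (by decide +kernel))
    refine ⟨_, sw q2 a1, q3 ▸ (R_cc (by omega) a2.1).trans a2, _, q4, ?_⟩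
    rw [q1]
    exact (R_cc (by omega) p2.1).trans p2
  obtain ⟨g, a1, a2, r, hr, a3⟩ := st2
  obtain ⟨p, hp, p1, p2⟩ := F.img (a := 3788) a1.1 a1.2 (by norm_num) (by decide +kernel)
    (by norm_num)
  have a4 : R j g 3 3 := by
    have := a1.1.mul a1.2
    rwa [show M.mul 1 2 = 3 by decide +kernel, show M.mul 2 1 = 3 by decide +kernel] at this
  have a5 := allL_true.1 (allL_true.1 s3 r hr) p hp
  simp only [and2_true, imp2_true, lt_true, or2_true, anyL_true, nbeq] at a5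
  have a6 : ∀ i, R j g (tri 3909 r p.1 i) (dd i) := R.tri a2 a3 p2
  rcases a5 p1 (a2.f6 F p2 a4 (by decide +kernel)) (a3.f6 F p2 a1.1 (by decide +kernel))
    ((R.evc a6 w1).uniq F ((show evc dd w1 = 3 by decide +kernel) ▸ a4))
    ((R.evc a6 w2).uniq F ((show evc dd w2 = 1 by decide +kernel) ▸ a1.2)) with ⟨e1, e2⟩ | ⟨l, -, e⟩
  · exact ⟨g, e1 ▸ e2 ▸ a6⟩
  · exact (path_spec F a6 l 16 1 ⟨by norm_num, by norm_num, by simp⟩ e).elim

theorem R_g (h1 : ∀ i, R j g (tri 3909 2779 3019 i) (dd i)) (hc : and2 (lt c 9216)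
    (lt (alg c) 9216) = true) : R j g c (alg c) := by
  rw [and2_true, lt_true, lt_true] at hc
  refine ⟨hc.1, hc.2, alg_ok (fun y hy => ?_) hc.1 hc.2⟩
  simp only [Y, List.mem_cons, List.not_mem_nil, or_false] at hy
  rcases hy with rfl | rfl | rfl
  exacts [(h1 0).2.2, (h1 1).2.2, (h1 2).2.2]

theorem R.cast (h1 : R j g c a) (hc : and2 (Nat.beq c c') (Nat.beq a a') = true) : R j g c' a' := by
  rw [and2_true, nbeq, nbeq] at hc
  exact hc.1 ▸ hc.2 ▸ h1

theorem R.of_comm (F : Fr j) (h1 : R j g c a) (h2 : j (φ c) * g = g * j (φ c)) : a = c :=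
  h1.symm.uniq F (R.symm ⟨h1.1, h1.1, h2⟩)

theorem R_cc' {k : ℕ} (hk : k < 9216) (ha : a < 9216) : R j (j (φ k)) a (cc (M.inv k) a) := by
  have := (R_cc (j := j) (inv_lt hk) ha).symm
  rwa [φ_inv hk, map_inv, inv_inv] at this

theorem Fr.amal (F : Fr j) (h1 : R j g 1 2) (h2 : R j g 2 1) : ∃ g, Amal j g := by
  obtain ⟨g, a⟩ := F.search h1 h2
  obtain ⟨g, a, sq⟩ : ∃ g, (∀ i, R j g (tri 3909 2779 3019 i) (dd i)) ∧ g * g = 1 := by
    obtain ⟨c, hc, e⟩ := F.memV (g := g * g) fun c hc =>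
      ((R_g a (c := c) (by revert c; decide +kernel)).trans
        (R_g a (by revert c; decide +kernel))).cast (by revert c; decide +kernel)
    have b1 := (R_g a (c := c) (by clear e; revert c; decide +kernel)).of_comm F
      (by rw [e, mul_assoc])
    obtain rfl | rfl : c = 0 ∨ c = 3 := by clear e; revert c; decide +kernel
    · exact ⟨g, a, by rw [← e, φ0, map_one]⟩
    · refine ⟨g * j (φ 1), fun i => (a i).trans ⟨(a i).2.1, (a i).2.1, by
        rw [← map_mul, z_comm, map_mul]⟩, ?_⟩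
      have b2 := ((R_g a (c := 1) (by decide +kernel)).cast (c' := 1) (a' := 2)
        (by decide +kernel)).2.2
      rw [mul_assoc, ← mul_assoc (j _), b2, ← mul_assoc, ← mul_assoc, ← e, ← map_mul, ← map_mul,
        φ_mul' (c := 1) (by decide +kernel), φ_mul' (c := 0) (by decide +kernel), φ0, map_one]
  have b1 : ∀ {c}, and2 (lt c 9216) (lt (alg c) 9216) = true →
      R j (g * j (φ 4608)) c (cc (M.inv 4608) (alg c)) := fun hc =>
    (R_g a hc).trans (R_cc' (by norm_num) (R_g a hc).2.1)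
  have b2 : ∀ c < 16, aln (alg c) < 16 ∧ R j (g * j (eX 151)) c (aln (alg c)) := fun c hc => by
    have h3 : aln (alg c) < 16 := by revert c; decide +kernel
    have h4 := R_g a (c := c) (by clear h3; revert c; decide +kernel)
    exact ⟨h3, h4.trans (R_n h4.2.1 (by omega))⟩
  refine ⟨g, sq, fun y hy => ?_, ?_, ?_⟩
  · simp only [Y, List.mem_cons, List.not_mem_nil, or_false] at hy
    rcases hy with rfl | rfl | rfl
    exacts [(a 0).2.2, (a 1).2.2, (a 2).2.2]
  · obtain ⟨c, hc, e⟩ := F.memV (g := (g * j (φ 4608)) ^ 3 * j (φ 3215)) fun c hc => by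
      rw [pow_three']
      have h3 := ((b1 (c := c) (by revert c; decide +kernel)).trans
        (b1 (by revert c; decide +kernel))).trans (b1 (by revert c; decide +kernel))
      exact (h3.trans (R_cc' (by norm_num) h3.2.1)).cast (by clear h3; revert c; decide +kernel)
    have h3 := (b1 (c := c) (by clear e; revert c; decide +kernel)).of_comm F (by
      have h4 := ((b1 (c := 3215) (by decide +kernel)).cast (c' := 3215) (a' := 3215)
        (by decide +kernel)).2.2
      generalize g * j (φ 4608) = x at *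
      rw [e, mul_assoc, h4, ← mul_assoc, ← mul_assoc, pow_mul_comm'])
    obtain rfl : c = 0 := by clear e; revert c; decide +kernel
    rw [← e, φ0, map_one]
  · have h3 : ∀ n, ∀ c < 16, (fun c => aln (alg c))^[n] c < 16 ∧
        R j ((g * j (eX 151)) ^ n) c ((fun c => aln (alg c))^[n] c) := fun n => by
      induction n with
      | zero => exact fun c hc => ⟨hc, by omega, by simp; omega, by simp⟩
      | succ n ih =>
        intro c hc
        rw [pow_succ', Function.iterate_succ_apply]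
        exact ⟨(ih _ (b2 c hc).1).1, (b2 c hc).2.trans (ih _ (b2 c hc).1).2⟩
    have h4 : ∀ c < 16, R j ((g * j (eX 151)) ^ 5) c c := fun c hc =>
      (h3 5 c hc).2.cast (by revert c; decide +kernel)
    obtain ⟨c, hc, e⟩ := F.memD (h4 1 (by norm_num)) (h4 2 (by norm_num))
    have h5 := all2_true cE c hc
    simp only [imp2_true, lt_true] at h5
    have h6 := h5 (R.cm F (by omega) (e ▸ h4 4 (by norm_num)))
      (R.cm F (by omega) (e ▸ h4 8 (by norm_num)))
    have h7 := (b2 c h6).2.of_comm F (by rw [e, pow_mul_comm'])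
    obtain rfl : c = 0 := by clear e h5 hc; revert c; decide +kernel
    rw [← e, φ0, map_one]

end H11.C3
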