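import Mathlib
import Cfsg.Agent.H11.C3D
import Cfsg.Agent.H11.C3MX
import Cfsg.Agent.H11.C3L

/-! The third Conway group on 276 points is the universal completion of the amalgam. -/

set_option autoImplicit false
set_option maxRecDepth 100000

namespace H11.C3

open H29 H7.Cay H9.MX C3BT C3BD C3DD Subgroup

/-- The model. -/
abbrev M0 : Type := PG C3M0.nl
/-- The base letters. -/
noncomputable abbrev eM : ℕ → M0 := pe C3M0.nl
/-- The action on the points. -/
noncomputable abbrev ρM : M0 →* Equiv.Perm ℕ := (PG C3M0.nl).subtype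

theorem sg_eq : ∀ c < 15, sg (nth Net.nil C3K0.nl) c = sg (nth Net.nil C3M0.nl) c := fun c hc => by
  interval_cases c <;> rfl

theorem K_le : PG C3K0.nl ≤ PG C3M0.nl := by
  refine (closure_le _).2 ?_
  rintro _ ⟨c, rfl⟩
  by_cases hc : c < 15
  · rw [sg_eq c hc]; exact mem_PG _ c
  · rw [sg_nth_eq_one (not_lt.1 hc)]; exact one_mem _

/-- The embedding of the double cover. -/
noncomputable def j0 : K →* M0 := inclusion K_le

theorem j0_inj : Function.Injective j0 := inclusion_injective _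
theorem j0_e : ∀ c < 15, j0 (eK c) = eM c := fun c hc => Subtype.ext (sg_eq c hc)
theorem hivM : IvOK eM (ivOf C3M0.ivl) := ivOK_sub _ C3M0.hiv
theorem relM {R : List (List ℕ)}
    (h : allN 9 (chkRelP 276 9 (nth Net.nil C3M0.nl) (ivOf C3M0.ivl) R) = true) :
    ∀ r ∈ R, ev eM r = 1 :=
  rels_subE _ (rels_of_chk (k := 9) C3M0.hn (by decide) C3M0.hiv (allN_true.1 h))
theorem amal0 : Amal j0 (eM 15) := amal_of_rels j0_e (relM (by decide +kernel))
theorem topM : gen eM (List.range 16) = ⊤ := pe_top (by decide +kernel)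
theorem top0 : j0.range ⊔ zpowers (eM 15) = ⊤ := by
  rw [eq_top_iff, ← topM]
  refine gen_le.2 fun c hc => ?_
  by_cases h : c < 15
  · exact mem_sup_left ⟨_, j0_e c h⟩
  · obtain rfl : c = 15 := by have := List.mem_range.1 hc; omega
    exact mem_sup_right (mem_zpowers _)

/-- The extended letters. -/
noncomputable def eY : ℕ → M0 := extE eM 16 C3MX.defs
theorem ρY : ∀ c, ρM (eY c) = sg C3MX.nx c := C3MX.map (pe_rho _)

theorem cardM : Nat.card M0 = 495766656000 :=
  (card_eq_of_chain C3MX.hn ((amal0.bd j0_inj).of_top top0) (fun c _ => ρY c) C3MX.cA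
    (by decide +kernel)).1
instance instFiniteM0 : Finite M0 := Nat.finite_of_card_ne_zero (by rw [cardM]; norm_num)
theorem transM : Trans ρM 276 :=
  trans_of_reach (by decide) (PG_lt C3M0.hn) (fun c _ => ρY c) C3MX.reach
instance instSimpleM0 : IsSimpleGroup M0 :=
  simple_of_cert (q := 23) (m := 21555072000) C3MX.hn C3MX.prim transM ρY (PG_faithful C3M0.hn)
    cardM C3MX.wit (ivOK_extE hivM C3MX.hext)
    (rels_extE (R := C3MX.KR) (relM (by decide +kernel)) (by decide +kernel))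
    ((gen_extE _ _ (by decide)).trans topM) (l := C3MX.ks) (by decide +kernel) (by norm_num)

theorem Amal.exists_hom {G : Type*} [Group G] {j : K →* G} {g : G} (h : Amal j g) :
    ∃ J : M0 →* G, (∀ k, J (j0 k) = j k) ∧ J (eM 15) = g := by
  have a : Amal (j0.prod j) (eM 15, g) := ⟨Prod.ext amal0.sq h.sq,
    fun y hy => Prod.ext (amal0.cj y hy) (h.cj y hy), Prod.ext amal0.r3 h.r3,
    Prod.ext amal0.r5 h.r5⟩
  obtain ⟨J, hJ⟩ := exists_hom_of_bd (X := (j0.prod j).range ⊔ zpowers (eM 15, g))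
    (cardM ▸ a.bd fun a b e => j0_inj (congrArg Prod.fst e)) (by
      rw [Subgroup.map_sup, MonoidHom.map_range, MonoidHom.map_zpowers]; exact top0)
  exact ⟨J, fun k => hJ _ (mem_sup_left ⟨k, rfl⟩), hJ _ (mem_sup_right (mem_zpowers _))⟩

theorem inj_of_ne {G : Type*} [Group G] {J : M0 →* G} {x : M0} (h : J x ≠ 1) :
    Function.Injective J := by
  rcases J.normal_ker.eq_bot_or_eq_top with h1 | h1
  · exact (MonoidHom.ker_eq_bot_iff J).1 h1
  · exact absurd (h1 ▸ mem_top x : x ∈ J.ker) h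

open H10 in
theorem iso_co3 : Nonempty (M0 ≃* Cfsg.Spor.Co3) := by
  have hl := C3L.hl
  simp only [allL_true, and2_true, nbeq] at hl
  have hc : ∀ M ∈ C3L.gl, isCo M = true := fun M hM => (hl M hM).1
  have hm := coE_mem (H := H10.C3) fun M hM => ⟨hc M hM, coM_fixV (hc M hM) (hl M hM).2⟩
  have i2 := ivOK_sub hm (ivOK_coE hc (by decide) C3L.hi)
  obtain ⟨j, -, hj⟩ := exists_hom_of_tr (tr_of_bd C3S.ubd C3S.hL hivK i2 hRK
    (rels_subE hm (rels_coE hc C3L.h0)) (by rw [topK, card_top, cardK])) hivK i2 C3S.hL topK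
  obtain ⟨J, -, hJ⟩ := (amal_of_rels (fun c h => hj c (by revert c; decide))
    (rels_subE hm (rels_coE hc C3L.hA))).exists_hom
  have h1 : J (eM 15) ≠ 1 := fun h => ev_coE_ne hc (w := [15]) (k := 0) (by norm_num)
    (by decide +kernel) (by rw [← coe_ev_sub hm, ev1, ← hJ, h, OneMemClass.coe_one])
  have f1 : M0 ≃* H10.C3 := MulEquiv.ofBijective J ((Nat.bijective_iff_injective_and_card J).2
    ⟨inj_of_ne h1, by rw [cardM, card_C3]⟩)
  exact ⟨f1.trans ((MulEquiv.subgroupCongr (by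
    ext g; exact ⟨fun h => ⟨g.2, h⟩, fun h => h.2⟩)).trans
    (subgroupOfEquivOfLe (show Cfsg.Spor.Co3 ≤ Cfsg.Co0 from fun g h => h.1)))⟩

end H11.C3
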