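import Mathlib
import Cfsg.Agent.H1.Coprime
import Cfsg.Agent.H3.Frobenius

/-! Sylow subgroups of prime order. -/

set_option autoImplicit false

namespace H11.C3

open Subgroup

variable {G : Type*} [Group G] [Finite G] {p : ℕ} [hp : Fact p.Prime]

omit [Finite G] in
theorem exists_conj_le' {C P : Subgroup G} (hC : ¬ p ∣ C.index) (h : IsPGroup p P) :
    ∃ g, ∀ u ∈ P, g * u * g⁻¹ ∈ C := by
  obtain ⟨q, hq⟩ := h.nonempty_fixed_point_of_prime_not_dvd_card (G ⧸ C) hC
  induction q using QuotientGroup.induction_on with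
  | H g =>
    refine ⟨g⁻¹, fun u hu => ?_⟩
    have := hq ⟨u, hu⟩
    change ((u * g : G) : G ⧸ C) = g at this
    rw [eq_comm, QuotientGroup.eq] at this
    simpa [mul_assoc] using this

omit hp [Finite G] in
theorem cent_zpowers (a : G) : centralizer (zpowers a : Set G) = centralizer {a} := by
  rw [zpowers_eq_closure, centralizer_closure]

omit [Finite G] in
theorem exists_sylow_eq {a : G} (ha : orderOf a = p) (h2 : ¬ p ^ 2 ∣ Nat.card G) :
    ∃ P : Sylow p G, (P : Subgroup G) = zpowers a := by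
  have h1 : Nat.card (zpowers a) = p ^ 1 := by rw [Nat.card_zpowers, ha, pow_one]
  refine ⟨(IsPGroup.of_card h1).toSylow fun h => h2 ?_, rfl⟩
  rw [← (zpowers a).card_mul_index, h1, pow_succ p 1]
  exact Nat.mul_dvd_mul_left _ h

theorem norm_card {a : G} (ha : orderOf a = p) (h2 : ¬ p ^ 2 ∣ Nat.card G) :
    ∃ b, b ∣ p - 1 ∧ Nat.card (normalizer (zpowers a : Set G)) = Nat.card (centralizer {a}) * b ∧
      (normalizer (zpowers a : Set G)).index ≡ 1 [MOD p] ∧
      ∀ x ∈ normalizer (zpowers a : Set G), x ^ b ∈ centralizer {a} := by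
  obtain ⟨P, hP⟩ := exists_sylow_eq ha h2
  have h1 : Nat.card (zpowers a) = p := by rw [Nat.card_zpowers, ha]
  have key := card_dvd_of_injective _ (QuotientGroup.kerLift_injective
    (zpowers a).normalizerMonoidHom)
  rw [normalizerMonoidHom_ker, ← index, (isCyclic_of_prime_card h1).card_mulAut, h1,
    Nat.totient_prime hp.1] at key
  have a4 := card_sylow_modEq_one p G
  rw [P.card_eq_index_normalizer, ← P.coe_coe, hP] at a4
  refine ⟨_, key, ?_, a4, fun x hx => ?_⟩
  · rw [← cent_zpowers, ← Nat.card_congr (subgroupOfEquivOfLe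
      (centralizer_le_normalizer (zpowers a : Set G))).toEquiv, card_mul_index]
  · rw [← cent_zpowers]
    exact pow_index_mem ((centralizer (zpowers a : Set G)).subgroupOf _) ⟨x, hx⟩

theorem no_npc {a : G} (ha : orderOf a = p) (h2 : ¬ p ^ 2 ∣ Nat.card G) (h5 : 25 ∣ Nat.card G)
    (h6 : ¬ 625 ∣ Nat.card G) (hC : ¬ 5 ∣ Nat.card (centralizer {a}))
    (hn : p ≠ 5 ∧ 25 % p ≠ 1 % p ∧ 125 % p ≠ 1 % p) :
    ¬ normalizer (zpowers a : Set G) ≤ centralizer {a} := fun h => by
  obtain ⟨P, hP⟩ := exists_sylow_eq ha h2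
  have h0 : normalizer ((P : Subgroup G) : Set G) ≤ centralizer ((P : Subgroup G) : Set G) := by
    rwa [hP, cent_zpowers]
  have h1 : Nat.card (P : Subgroup G) = p := by rw [hP, Nat.card_zpowers, ha]
  have h3 := (MonoidHom.ker_transferSylow_isComplement' P h0).card_mul_card
  have h4 := MonoidHom.normal_ker (MonoidHom.transferSylow P h0)
  generalize (MonoidHom.transferSylow P h0).ker = N at h3 h4
  rw [h1] at h3
  have : Fact (Nat.Prime 5) := ⟨by norm_num⟩
  have := isCyclic_of_prime_card h1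
  obtain ⟨Q, hQ⟩ := H1.exists_invariant_sylow (P : Subgroup G) N (by simp [normalizer_eq_top])
    (by
      rw [h1, hp.1.coprime_iff_not_dvd]
      exact fun h => h2 (h3 ▸ pow_two p ▸ Nat.mul_dvd_mul_right h p))
    (Or.inl (Group.isSolvable_of_comm fun a b => mul_comm' a b)) 5
  have h7 := H3.card_modEq_card_inf_centralizer (k := 1) hp.1 (hQ (hP ▸ mem_zpowers a))
    (by rw [pow_one, ← ha, pow_orderOf_eq_one])
  obtain ⟨k, hk⟩ := Q.2.exists_card_eq
  have h8 : Nat.card ((Q : Subgroup N).map N.subtype) = 5 ^ k := by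
    rw [card_map_of_injective N.subtype_injective, hk]
  have h9 : Nat.card ↥((Q : Subgroup N).map N.subtype ⊓ centralizer {a}) = 1 := by
    obtain ⟨m, -, hm⟩ := (Nat.dvd_prime_pow (by norm_num)).1
      (h8 ▸ card_dvd_of_le (inf_le_left (b := centralizer {a})))
    rcases m with _ | m
    · exact hm
    · exact absurd ((hm ▸ dvd_pow_self 5 m.succ_ne_zero).trans (card_dvd_of_le inf_le_right)) hC
  rw [h8, h9] at h7
  have b1 := (Q : Subgroup N).card_mul_index
  have b2 := Q.not_dvd_index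
  rw [hk] at b1
  rw [← h3, ← b1] at h5 h6
  have b3 : Nat.Coprime 5 ((Q : Subgroup N).index * p) := Nat.Coprime.mul_right
    ((Nat.Prime.coprime_iff_not_dvd (by norm_num)).2 b2)
    ((Nat.coprime_primes (by norm_num) hp.1).2 hn.1.symm)
  have b4 : 5 ^ 2 ∣ 5 ^ k :=
    (Nat.Coprime.pow_left 2 b3).dvd_of_dvd_mul_right (by rwa [← mul_assoc])
  rw [Nat.pow_dvd_pow_iff_le_right (by norm_num)] at b4
  have b5 : k < 4 := by
    by_contra b5
    exact h6 (((pow_dvd_pow 5 (not_lt.1 b5)).mul_right _).mul_right _)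
  interval_cases k
  exacts [hn.2.1 h7, hn.2.2 h7]

theorem sylow_norm {a : G} (ha : orderOf a = p) (h2 : ¬ p ^ 2 ∣ Nat.card G) {D : Subgroup G}
    (h4 : p ∣ Nat.card D) (h5 : 25 ∣ Nat.card D) (h6 : ¬ 625 ∣ Nat.card D)
    (hC : ¬ 5 ∣ Nat.card (centralizer {a})) (hn : p ≠ 5 ∧ 25 % p ≠ 1 % p ∧ 125 % p ≠ 1 % p) :
    ∃ N ≤ normalizer (zpowers a : Set G), a ∈ N ∧ ¬ N ≤ centralizer {a} ∧
      ∃ n, Nat.card N * n = Nat.card D ∧ n ≡ 1 [MOD p] := by
  obtain ⟨D', h1, h3⟩ : ∃ D' : Subgroup G, a ∈ D' ∧ Nat.card D' = Nat.card D := by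
    obtain ⟨x, hx⟩ := exists_prime_orderOf_dvd_card' p h4
    rw [← orderOf_coe] at hx
    obtain ⟨P, hP⟩ := exists_sylow_eq ha h2
    obtain ⟨g, hg⟩ := exists_conj_le' (C := zpowers a) (hP ▸ P.not_dvd_index)
      (IsPGroup.of_card (n := 1) (by rw [Nat.card_zpowers, hx, pow_one]) :
        IsPGroup p (zpowers (x : G)))
    have h7 : zpowers (g * x * g⁻¹) = zpowers a := eq_of_le_of_card_ge
      (zpowers_le.2 (hg _ (mem_zpowers _))) (by
        rw [Nat.card_zpowers, Nat.card_zpowers, ha, ← hx]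
        exact ((MulAut.conj g).orderOf_eq (x : G)).ge)
    refine ⟨D.map (MulAut.conj g).toMonoidHom, ?_, card_map_of_injective (MulAut.conj g).injective⟩
    exact zpowers_le.2 (mem_map_of_mem (MulAut.conj g).toMonoidHom x.2) (h7.ge (mem_zpowers a))
  rw [← h3] at h5 h6 ⊢
  have b1 : orderOf (⟨a, h1⟩ : D') = p := by rw [← orderOf_coe, ha]
  have b2 : ¬ p ^ 2 ∣ Nat.card D' := fun h => h2 (h.trans (card_subgroup_dvd_card _))
  obtain ⟨-, -, -, b3, -⟩ := norm_card b1 b2
  refine ⟨(normalizer (zpowers (⟨a, h1⟩ : D') : Set D')).map D'.subtype, ?_,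
    ⟨_, le_normalizer (mem_zpowers _), rfl⟩, fun h => ?_, _, ?_, b3⟩
  · refine (le_normalizer_map _).trans ?_
    rw [MonoidHom.map_zpowers]; rfl
  · refine no_npc b1 b2 h5 h6 (fun h7 => hC (h7.trans ?_)) hn fun x hx => ?_
    · rw [← card_map_of_injective D'.subtype_injective]
      refine card_dvd_of_le ?_
      rintro _ ⟨x, hx, rfl⟩
      exact mem_centralizer_singleton_iff.2
        (congrArg Subtype.val (mem_centralizer_singleton_iff.1 hx))
    · exact mem_centralizer_singleton_iff.2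
        (Subtype.ext (mem_centralizer_singleton_iff.1 (h ⟨x, hx, rfl⟩)))
  · rw [card_map_of_injective D'.subtype_injective, card_mul_index]

end H11.C3
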