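import Mathlib
import Cfsg.Agent.H11.C3M
import Cfsg.Agent.H11.C3Syl

/-! Elements of order 11 and 23 in the model, and a subgroup order that does not occur. -/

set_option autoImplicit false
set_option maxRecDepth 100000

namespace H11.C3

open H29 H7.Cay H9.MX C3BT C3BD C3MX Subgroup

section

variable {G : Type*} [Group G] {e : ℕ → G} {ρ : G →* Equiv.Perm ℕ} {nets : ℕ → Net} {K : ℕ}

theorem card_mul_le_chain [Finite G] {N k : ℕ} (hn : NetsOK K nets) {F : Subgroup G} :
    ∀ (ch : List (ℕ × ℕ × ℕ × List ℕ)) (L : List ℕ), (∀ c ∈ L, ρ (e c) = sg nets c) →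
      chkChain N k nets ch L = true → (∀ a ∈ ch, F ≤ stab ρ a.1) →
      (ch.map fun a => a.2.2.1).prod * Nat.card F ≤ Nat.card ↥(gen e L ⊔ F)
  | [], L, _, _, _ => by simpa using Subgroup.card_le_of_le le_sup_right
  | a :: ch, L, hρ, h, hF => by
    change and2 _ (and2 _ (chkChain N k nets ch a.2.2.2)) = true at h
    simp only [and2_true, ble_true, allL_true, memL_true] at h
    obtain ⟨⟨-, h2⟩, h3, h4⟩ := h
    have ih := card_mul_le_chain hn ch a.2.2.2 (fun c hc => hρ c (h3 c hc).1) h4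
      fun b hb => hF b (by simp [hb])
    rw [List.map_cons, List.prod_cons, mul_assoc]
    refine (Nat.mul_le_mul_left _ ih).trans (card_mul_le_of_orbit (ρ := ρ) (b := a.1)
      (sup_le_sup_right (gen_mono fun c hc => (h3 c hc).1) _) ?_ (h2.trans ?_))
    · have : gen e a.2.2.2 ⊔ F ≤ stab ρ a.1 := by
        refine sup_le (gen_le.2 fun c hc => ?_) (hF a (by simp))
        have := sub_true (h3 c hc).2 (i := a.1) (by simp [testBit_bit])
        rw [Net.testBit_pull (hn c), testBit_bit, decide_eq_true_eq] at this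
        rw [mem_stab, hρ c (h3 c hc).1]
        exact this.symm
      exact fun g hg => this hg
    · refine popc_le_ncard ?_ fun i hi => ?_
      · exact (Set.finite_range fun g : G => ρ g a.1).subset fun i ⟨g, _, hg⟩ => ⟨g, hg⟩
      · obtain ⟨g, hg, h5⟩ := ((Reach.refl nets L _).orb hn a.2.1).exists_bit hρ hi
        exact ⟨g, Subgroup.mem_sup_left hg, h5⟩

/-- The elements that fix the points of a bit set. -/
def fixS (ρ : G →* Equiv.Perm ℕ) (S : ℕ) : Subgroup G := ⨅ i : {i // S.testBit i = true}, stab ρ i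

theorem mem_fixS {S : ℕ} {g : G} : g ∈ fixS ρ S ↔ ∀ i, S.testBit i = true → ρ g i = i := by
  simp [fixS, mem_iInf, mem_stab]

/-- The union of the listed orbits of the letter `a`. -/
noncomputable def covM (nets : ℕ → Net) (a r : ℕ) (l : List (ℕ × List ℕ)) : ℕ :=
  List.rec (motive := fun _ => ℕ) 0 (fun q _ ih => Nat.lor (orb nets [a] r (bit q.1)) ih) l

/-- The listed words map `S` into the union of `W` and the orbit. -/
noncomputable def chkCov (nets : ℕ → Net) (a r W S : ℕ) (l : List (ℕ × List ℕ)) : Bool :=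
  allL l fun q => sub S (pullW nets q.2 (Nat.lor W (orb nets [a] r (bit q.1))))

theorem fix_cover (hn : NetsOK K nets) (hρ : ∀ c, ρ (e c) = sg nets c) {a r W S i : ℕ} {c : G}
    (hc : c ∈ centralizer {e a}) (hW : ∀ i, W.testBit i = true → ρ c i = i) (hf : ρ c i = i) :
    ∀ {l : List (ℕ × List ℕ)}, chkCov nets a r W S l = true →
      (covM nets a r l).testBit i = true → ∃ m : G, m⁻¹ * c * m ∈ fixS ρ S
  | [], _, hi => absurd hi (by simp [show covM nets a r [] = 0 from rfl])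
  | q :: l, h, hi => by
    rw [chkCov, allL_true, List.forall_mem_cons, ← allL_true] at h
    rw [show covM nets a r (q :: l) = orb nets [a] r (bit q.1) ||| covM nets a r l from rfl,
      Nat.testBit_or, Bool.or_eq_true] at hi
    refine hi.elim (fun hi => ?_) (fix_cover hn hρ hc hW hf h.2)
    have key : ∀ t, (orb nets [a] r (bit q.1)).testBit t = true → (ρ c t = t ↔ ρ c q.1 = q.1) := by
      intro t ht
      obtain ⟨g, hg, rfl⟩ := ((Reach.refl nets [a] _).orb hn r).exists_bit (fun c _ => hρ c) ht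
      have h1 : gen e [a] ≤ centralizer {c} := gen_le.2 fun b hb => by
        rw [List.mem_singleton.1 hb, mem_centralizer_singleton_iff]
        exact (mem_centralizer_singleton_iff.1 hc).symm
      rw [← Equiv.Perm.mul_apply, ← map_mul, ← mem_centralizer_singleton_iff.1 (h1 hg), map_mul,
        Equiv.Perm.mul_apply, (ρ g).injective.eq_iff]
    refine ⟨ev e q.2, mem_fixS.2 fun t ht => ?_⟩
    have h2 := sub_true h.1 ht
    rw [testBit_pullW hn, ← map_ev_sg fun c _ => hρ c, lor_eq, Nat.testBit_or,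
      Bool.or_eq_true] at h2
    rw [map_mul, map_mul, map_inv, Equiv.Perm.mul_apply, Equiv.Perm.mul_apply,
      h2.elim (hW _) fun h3 => (key _ h3).2 ((key _ hi).1 hf)]
    simp

end

theorem ρM_lt (g : M0) : ∀ i < 276, ρM g i < 276 := fun _ hi => lt_of_fix (PG_lt C3M0.hn g) hi

theorem card_fixS {S n : ℕ} {ch : List (ℕ × ℕ × ℕ × List ℕ)}
    (h : chkChain 276 9 nx ch L0 = true) (h1 : (and2 (allL ch fun a => tb S a.1)
      (lt 495766656000 ((ch.map fun a => a.2.2.1).prod * (n + 1)))) = true) :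
    Nat.card (fixS ρM S) ≤ n := by
  simp only [and2_true, allL_true, lt_true, tb_eq] at h1
  have := (card_mul_le_chain hn (F := fixS ρM S) ch L0 (fun c _ => ρY c) h
    fun a ha g hg => mem_fixS.1 hg _ (h1.1 a ha)).trans (card_le_card_group _)
  rw [cardM] at this
  exact Nat.lt_succ_iff.1 (Nat.lt_of_mul_lt_mul_left (this.trans_lt h1.2))

theorem pow_of_card {G : Type*} [Group G] [Finite G] {F : Subgroup G} {c m : G} {n : ℕ}
    (h : m⁻¹ * c * m ∈ F) (h1 : Nat.card F ∣ n) : c ^ n = 1 := by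
  have h2 : (m⁻¹ * c * m⁻¹⁻¹) ^ n = 1 := by
    rw [inv_inv]
    exact orderOf_dvd_iff_pow_eq_one.1 ((F.orderOf_dvd_natCard h).trans h1)
  rwa [conj_pow, mul_inv_eq_one, mul_eq_left] at h2

theorem dvd_two {n : ℕ} (h : 0 < n) (h1 : n ≤ 2) : n ∣ 2 := by interval_cases n <;> decide

theorem fixA : Nat.card (fixS ρM 16415) ∣ 1 :=
  (le_antisymm (card_fixS cA (by decide +kernel)) Nat.card_pos).dvd
theorem fixB : Nat.card (fixS ρM 63) ∣ 2 := dvd_two Nat.card_pos (card_fixS cB (by decide +kernel))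
theorem fixC : Nat.card (fixS ρM 95) ∣ 1 :=
  (le_antisymm (card_fixS cC (by decide +kernel)) Nat.card_pos).dvd

theorem card_le_of_reg {C : Subgroup M0} {p : ℕ} (hp : p < 276)
    (h : ∀ c ∈ C, ρM c p = p → c = 1) : Nat.card C ≤ 276 := by
  rw [← Nat.card_fin 276]
  refine Nat.card_le_card_of_injective (fun c : C => (⟨ρM c p, ρM_lt _ p hp⟩ : Fin 276))
    fun a b e => Subtype.ext (inv_mul_eq_one.1 (h _ (mul_mem (inv_mem a.2) b.2) ?_))
  have e' : ρM a p = ρM b p := congrArg Fin.val e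
  rw [map_mul, map_inv, Equiv.Perm.mul_apply, ← e']
  simp

theorem invM_class {u : M0} (h : u * u = 1) :
    u = 1 ∨ IsConj u (j0 (φ 1)) ∨ IsConj u (j0 (φ 2)) ∨ IsConj u (j0 (φ 20)) := by
  have h1 := (snd.sub.map j0).card_mul_index
  rw [card_map_of_injective j0_inj, card_B, cardM] at h1
  obtain ⟨g, hg⟩ := exists_conj_le (C := snd.sub.map j0) (by omega)
    (isPGroup_of_pow (u := u) (n := 1) (by rw [pow_one, pow_two, h]))
  obtain ⟨k, -, hk⟩ := hg u (mem_zpowers u)
  have h2 : IsConj u (j0 k) := isConj_iff.2 ⟨g, hk.symm⟩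
  rcases inv_class (a := k) (j0_inj (by rw [map_mul, hk, conj_mul, h]; simp)) with
    rfl | rfl | h3 | h3
  · exact Or.inl (by rwa [map_one, isConj_one_left] at h2)
  · exact Or.inr (Or.inl h2)
  · exact Or.inr (Or.inr (Or.inl (h2.trans (j0.map_isConj h3))))
  · exact Or.inr (Or.inr (Or.inr (h2.trans (j0.map_isConj h3))))

theorem inv_fix {u : M0} (h : u * u = 1) : ∃ i < 276, ρM u i = i := by
  have key : ∀ c i, and2 (lt i 276) (Nat.beq (ap 9 C3KX.T (wd c) i) i) = true →
      IsConj u (j0 (φ c)) → ∃ i < 276, ρM u i = i := fun c i h1 h2 => by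
    rw [and2_true, lt_true, nbeq] at h1
    obtain ⟨g, hg⟩ := isConj_iff.1 h2.symm
    have h3 : ρM (j0 (φ c)) i = i := (C3KX.tab.map ρX _ h1.1).trans h1.2
    exact ⟨_, ρM_lt g i h1.1, by
      rw [← hg, ← Equiv.Perm.mul_apply, ← map_mul, inv_mul_cancel_right, map_mul,
        Equiv.Perm.mul_apply, h3]⟩
  rcases invM_class h with rfl | h1 | h1 | h1
  · exact ⟨0, by norm_num, by simp⟩
  · exact key 1 3 (by decide +kernel) h1
  · exact key 2 9 (by decide +kernel) h1
  · exact key 20 36 (by decide +kernel) h1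

theorem relY : eY 38 ^ 23 = 1 ∧ eY 40 ^ 11 = 1 ∧ eY 42 * eY 42 = 1 ∧ eY 42 * eY 40 = eY 40 * eY 42 ∧
    eY 44 ^ 5 = 1 ∧ eY 44 * eY 40 * (eY 44)⁻¹ = eY 40 ^ 3 := by
  have h := rels_of_faithful (PG_faithful C3M0.hn) ρY C3MX.rel
  have i : IvOK eY (ivOf ivx) := ivOK_extE hivM hext
  simp only [List.forall_mem_cons, ev_powW, ev_cons, ev_nil, mul_one, show eY 41 = _ from i 40,
    show eY 45 = _ from i 44] at h
  obtain ⟨h1, h2, h3, h4, h5, h6, -⟩ := h
  refine ⟨h1, h2, h3, ?_, h5, ?_⟩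
  · rw [← mul_assoc, ← mul_assoc, mul_inv_eq_one] at h4
    nth_rw 2 [← h4]
    rw [mul_assoc, mul_assoc, h3, mul_one]
  · rw [← mul_inv_eq_one, ← h6]; group

theorem ne_one_Y {w : List ℕ} (h : disj (bit 0) (pullW nx w (bit 0)) = true) : ev eY w ≠ 1 :=
  ev_ne_one_of_chk hn (fun c _ => ρY c) h

theorem ord23 : orderOf (eY 38) = 23 :=
  haveI : Fact (Nat.Prime 23) := ⟨by norm_num⟩
  orderOf_eq_prime relY.1 (by simpa using ne_one_Y (w := [38]) (by decide +kernel))

theorem ord11 : orderOf (eY 40) = 11 :=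
  haveI : Fact (Nat.Prime 11) := ⟨by norm_num⟩
  orderOf_eq_prime relY.2.1 (by simpa using ne_one_Y (w := [40]) (by decide +kernel))

theorem norm23 : Nat.card (normalizer (zpowers (eY 38) : Set M0)) = 253 := by
  have : Fact (Nat.Prime 23) := ⟨by norm_num⟩
  have h1 : ∀ c ∈ centralizer {eY 38}, ∀ i < 276, ρM c i = i → c = 1 := fun c hc i hi h => by
    obtain ⟨m, hm⟩ := fix_cover (r := 22) (W := 0) (S := 16415) (l := m23) hn ρY hc (by simp) h
      (by decide +kernel) (sub_true (a := ones 276) (by decide +kernel) (by simp [testBit_ones, hi]))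
    simpa using pow_of_card hm fixA
  have h2 := card_le_of_reg (p := 0) (by norm_num) fun c hc => h1 c hc 0 (by norm_num)
  have h3 : ¬ 2 ∣ Nat.card (centralizer {eY 38}) := fun h => by
    obtain ⟨c, hc⟩ := exists_prime_orderOf_dvd_card' 2 h
    obtain ⟨i, hi, h4⟩ := inv_fix (u := c) (by
      rw [← pow_two, ← hc, ← orderOf_coe, pow_orderOf_eq_one])
    rw [show c = 1 from Subtype.ext (h1 c c.2 i hi h4)] at hc
    simp at hc
  obtain ⟨a, h4⟩ : 23 ∣ Nat.card (centralizer {eY 38}) := by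
    rw [← ord23, ← Nat.card_zpowers]
    exact card_dvd_of_le (zpowers_le.2 (mem_centralizer_singleton_iff.2 rfl))
  obtain ⟨b, b1, b2, b3, -⟩ := norm_card ord23 (by rw [cardM]; norm_num)
  have h5 := (normalizer (zpowers (eY 38) : Set M0)).card_mul_index
  rw [cardM, b2, h4] at h5
  rw [b2, h4]
  rw [h4] at h2 h3
  generalize (normalizer (zpowers (eY 38) : Set M0)).index = n at *
  have h6 : a * b * n = 21555072000 := by nlinarith
  have h7 : a * b ≡ 11 [MOD 23] := by
    have := (Nat.ModEq.refl (a * b)).mul b3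
    rw [h6, mul_one] at this
    exact this.symm.trans (by decide)
  exact (by decide +kernel : ∀ a < 13, ∀ b ∈ Nat.divisors 22, ¬ 2 ∣ 23 * a → a * b % 23 = 11 % 23 →
    23 * a * b = 253) a (by omega) b (Nat.mem_divisors.2 ⟨b1, by norm_num⟩) h3 h7

theorem norm11 : Nat.card (normalizer (zpowers (eY 40) : Set M0)) = 110 ∧
    Nat.card (centralizer {eY 40}) = 22 ∧
    ∀ x ∈ normalizer (zpowers (eY 40) : Set M0), x ^ 5 ∈ centralizer {eY 40} := by
  have : Fact (Nat.Prime 11) := ⟨by norm_num⟩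
  have h0 : ∀ c ∈ centralizer {eY 40}, ∀ i, (bit 9).testBit i = true → ρM c i = i := by
    intro c hc i hi
    obtain rfl : 9 = i := by simpa [testBit_bit] using hi
    have h1 : (allF 276 fun i => Nat.beq (Bool.toNat (Nat.beq i 9))
      (Bool.toNat (tb ((nx 40).pull (bit i)) i))) = true := by decide +kernel
    have h2 : ∀ i < 276, ρM (eY 40) i = i ↔ i = 9 := fun i hi => by
      have := nbeq.1 (allF_true.1 h1 i hi)
      rw [tb_eq, Net.testBit_pull (hn 40), testBit_bit] at this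
      rw [ρY, ← nbeq (a := i), eq_comm, ← decide_eq_true_iff (p := i = _), sg]
      revert this
      cases Nat.beq i 9 <;> cases decide (i = _) <;> simp
    rw [← h2 _ (ρM_lt c 9 (by norm_num)), ← Equiv.Perm.mul_apply, ← map_mul,
      ← mem_centralizer_singleton_iff.1 hc, map_mul, Equiv.Perm.mul_apply,
      (h2 9 (by norm_num)).2 rfl]
  have hA : ∀ c ∈ centralizer {eY 40}, ∀ i, (covM nx 40 10 m11).testBit i = true → ρM c i = i →
      c = 1 := fun c hc i hi h => by
    obtain ⟨m, hm⟩ := fix_cover (S := 16415) hn ρY hc (h0 c hc) h (by decide +kernel) hi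
    simpa using pow_of_card hm fixA
  have h2 := card_le_of_reg (p := 3) (by norm_num) fun c hc => hA c hc 3 (by decide +kernel)
  have h3 : ¬ 3 ∣ Nat.card (centralizer {eY 40}) := fun h => by
    have : Fact (Nat.Prime 3) := ⟨by norm_num⟩
    obtain ⟨c, hc⟩ := exists_prime_orderOf_dvd_card' 3 h
    rw [← orderOf_coe] at hc
    obtain ⟨i, h4, h5⟩ := Equiv.Perm.exists_fixed_point_of_prime' (p := 3) (n := 1)
      (σ := transM.toFin c) (a := ⟨9, by norm_num⟩) (by simp)
      (by rw [← map_pow, pow_one, ← hc, pow_orderOf_eq_one, map_one])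
      (Fin.ext (h0 c c.2 9 (by decide)))
    have h6 : ρM c i = i := congrArg Fin.val h4
    have h7 := sub_true (b := Nat.lor (Nat.lor (bit 9) (covM nx 40 10 m11))
      (Nat.lor (covM nx 40 10 m11b) (covM nx 40 10 m11c))) (a := ones 276) (i := i)
      (by decide +kernel) (by simp [testBit_ones])
    simp only [lor_eq, Nat.testBit_or, Bool.or_eq_true, testBit_bit, decide_eq_true_eq] at h7
    have h8 : (c : M0) ^ 2 = 1 := by
      rcases h7 with (h7 | h7) | h7 | h7
      · exact absurd (Fin.ext h7.symm) h5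
      · rw [hA c c.2 i h7 h6, one_pow]
      · obtain ⟨m, hm⟩ := fix_cover (S := 63) hn ρY c.2 (h0 c c.2) h6 (by decide +kernel) h7
        exact pow_of_card hm fixB
      · obtain ⟨m, hm⟩ := fix_cover (S := 95) hn ρY c.2 (h0 c c.2) h6 (by decide +kernel) h7
        exact pow_of_card hm (fixC.trans (one_dvd _))
    exact absurd (hc ▸ orderOf_dvd_of_pow_eq_one h8) (by decide)
  obtain ⟨a, h4⟩ : 11 * 2 ∣ Nat.card (centralizer {eY 40}) := by
    refine Nat.Coprime.mul_dvd_of_dvd_of_dvd (by norm_num) ?_ ?_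
    · rw [← ord11, ← Nat.card_zpowers]
      exact card_dvd_of_le (zpowers_le.2 (mem_centralizer_singleton_iff.2 rfl))
    · rw [← orderOf_eq_prime (p := 2) (x := eY 42) (by rw [pow_two, relY.2.2.1])
        (by simpa using ne_one_Y (w := [42]) (by decide +kernel)), ← Nat.card_zpowers]
      exact card_dvd_of_le (zpowers_le.2 (mem_centralizer_singleton_iff.2 relY.2.2.2.1))
  obtain ⟨b, b1, b2, b3, b4⟩ := norm_card ord11 (by rw [cardM]; norm_num)
  have b5 : ¬ b ∣ 2 := fun ⟨d, hd⟩ => by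
    have c1 : eY 44 ∈ normalizer (zpowers (eY 40) : Set M0) := by
      refine mem_normalizer_fintype fun x ⟨k, hk⟩ => ?_
      rw [← hk, ← conj_zpow, relY.2.2.2.2.2]
      exact zpow_mem (pow_mem (mem_zpowers _) _) _
    have c2 := pow_mem (pow_mem (b4 _ c1) d) 3
    rw [← pow_mul, ← pow_mul, ← mul_assoc, ← hd, show 2 * 3 = 5 + 1 from rfl, pow_succ,
      relY.2.2.2.2.1, one_mul, mem_centralizer_singleton_iff] at c2
    have c3 := relY.2.2.2.2.2
    rw [c2, mul_inv_cancel_right, pow_three, left_eq_mul, ← pow_two] at c3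
    exact absurd (ord11 ▸ orderOf_dvd_of_pow_eq_one c3) (by decide)
  have h5 := (normalizer (zpowers (eY 40) : Set M0)).card_mul_index
  rw [cardM, b2, h4] at h5
  rw [b2, h4]
  rw [h4] at h2 h3
  generalize (normalizer (zpowers (eY 40) : Set M0)).index = n at b3 h5
  have h6 : 2 * a * b * n = 45069696000 := by nlinarith
  have h7 : 2 * a * b ≡ 10 [MOD 11] := by
    have := (Nat.ModEq.refl (2 * a * b)).mul b3
    rw [h6, mul_one] at this
    exact this.symm.trans (by decide)
  obtain ⟨rfl, rfl⟩ := (by decide +kernel : ∀ a < 13, ∀ b ∈ Nat.divisors 10, ¬ 3 ∣ 11 * 2 * a ∧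
    ¬ b ∣ 2 ∧ 2 * a * b % 11 = 10 % 11 → a = 1 ∧ b = 5) a (by omega) b
    (Nat.mem_divisors.2 ⟨b1, by norm_num⟩) ⟨h3, b5, h7⟩
  exact ⟨rfl, rfl, b4⟩

theorem arith {d n m n' : ℕ} (h1 : 170775 ∣ d) (h2 : ¬ 128 ∣ d) (h3 : d ∣ 495766656000)
    (a4 : 253 * n = d) (a5 : n ≡ 1 [MOD 23]) (c4 : m * n' = d) (c5 : n' ≡ 1 [MOD 11])
    (c6 : m = 55 ∨ m = 110) : False := by
  obtain ⟨c, rfl⟩ := h1
  have d1 : c ∣ 2 ^ 10 * 2835 := Nat.dvd_of_mul_dvd_mul_left (by norm_num : 0 < 170775) h3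
  obtain ⟨x, y, e1, e2, rfl⟩ := exists_dvd_and_dvd_of_dvd_mul d1
  obtain ⟨k, -, rfl⟩ := (Nat.dvd_prime_pow Nat.prime_two).1 e1
  have hk : k < 7 := by
    by_contra hk
    exact h2 (((pow_dvd_pow 2 (not_lt.1 hk)).mul_right y).mul_left _)
  have d7 := (by decide +kernel : ∀ c ∈ Nat.divisors 2835, ∀ k < 7, 675 * (2 ^ k * c) % 23 = 1 →
    3105 * (2 ^ k * c) % 11 ≠ 1 ∧ 3105 * (2 ^ k * c) % 11 ≠ 2) y
    (Nat.mem_divisors.2 ⟨e2, by norm_num⟩) k hk
  unfold Nat.ModEq at a5 c5
  generalize 2 ^ k * y = c at a4 c4 d7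
  clear h2 h3 d1 e1 e2 hk
  obtain rfl : n = 675 * c := by omega
  have := d7 a5
  rcases c6 with rfl | rfl
  · exact this.1 (by rw [show 3105 * c = n' by omega]; exact c5)
  · exact this.2 (by rw [show 3105 * c = 2 * n' by omega]; omega)

theorem no_sub {D : Subgroup M0} (h1 : 170775 ∣ Nat.card D) (h2 : ¬ 128 ∣ Nat.card D) : False := by
  have : Fact (Nat.Prime 23) := ⟨by norm_num⟩
  have : Fact (Nat.Prime 11) := ⟨by norm_num⟩
  have h3 : Nat.card D ∣ 495766656000 := cardM ▸ card_subgroup_dvd_card D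
  have h4 : ¬ 625 ∣ Nat.card D := fun h => absurd (h.trans h3) (by norm_num)
  obtain ⟨N, a1, a2, a3, n, a4, a5⟩ := sylow_norm ord23 (by rw [cardM]; norm_num)
    (Dvd.dvd.trans (by norm_num) h1) (Dvd.dvd.trans (by norm_num) h1) h4 (fun h => by
      have := h.trans (card_dvd_of_le (cent_zpowers (eY 38) ▸ centralizer_le_normalizer _))
      rw [norm23] at this
      omega) (by decide)
  have a6 : Nat.card N = 253 := by
    have b1 := card_dvd_of_le a1
    have b2 := card_dvd_of_le (zpowers_le.2 a2)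
    have b3 : Nat.card N ≠ 23 := fun h => a3 (by
      rw [← eq_of_le_of_card_ge (zpowers_le.2 a2) (by rw [h, Nat.card_zpowers, ord23])]
      exact zpowers_le.2 (mem_centralizer_singleton_iff.2 rfl))
    rw [norm23] at b1
    rw [Nat.card_zpowers, ord23] at b2
    exact (by decide +kernel : ∀ d ∈ Nat.divisors 253, 23 ∣ d → d ≠ 23 → d = 253) _
      (Nat.mem_divisors.2 ⟨b1, by norm_num⟩) b2 b3
  obtain ⟨N', c1, c2, c3, n', c4, c5⟩ := sylow_norm ord11 (by rw [cardM]; norm_num)
    (Dvd.dvd.trans (by norm_num) h1) (Dvd.dvd.trans (by norm_num) h1) h4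
    (by rw [norm11.2.1]; norm_num) (by decide)
  have c6 : Nat.card N' = 55 ∨ Nat.card N' = 110 := by
    have b1 := card_dvd_of_le c1
    have b2 := card_dvd_of_le (zpowers_le.2 c2)
    have b3 : ¬ Nat.card N' ∣ 44 := fun h => c3 fun x hx => by
      have := pow_mem (norm11.2.2 x (c1 hx)) 9
      rwa [← pow_mul, show 5 * 9 = 44 + 1 from rfl, pow_succ,
        pow_of_card (m := 1) (by simpa using hx) h, one_mul] at this
    rw [norm11.1] at b1
    rw [Nat.card_zpowers, ord11] at b2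
    exact (by decide +kernel : ∀ d ∈ Nat.divisors 110, 11 ∣ d → ¬ d ∣ 44 → d = 55 ∨ d = 110) _
      (Nat.mem_divisors.2 ⟨b1, by norm_num⟩) b2 b3
  exact arith h1 h2 h3 (a6 ▸ a4) a5 c4 c5 c6

end H11.C3
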