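import Mathlib
import Cfsg.Agent.H11.C3F
import Cfsg.Agent.H11.C3N
import Cfsg.Agent.H11.Basic
import Cfsg.Agent.H17.ZStar
import Cfsg.Agent.H6.OneFix

/-! The characterisation of the third Conway group by the centraliser of a central involution. -/

set_option autoImplicit false
set_option maxRecDepth 100000

namespace H11.C3

open H29 H7.Cay H9.MX C3BT C3BD C3DD Subgroup

variable {G : Type*} [Group G] {j : K →* G} {g : G}

theorem Fr.ne_one (F : Fr j) {c : ℕ} (hc : c < 9216) (h : c ≠ 0) : j (φ c) ≠ 1 := fun e =>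
  φ_ne hc h (F.inj (e.trans j.map_one.symm))

theorem z_sq : φ 1 * φ 1 = 1 := (φ_mul' (by decide +kernel)).trans φ0

theorem Fr.step (F : Fr j) {a w : ℕ} (h : R j g 1 a) (hw : and2 (and2 (lt w 9216) (lt 1 a))
    (and2 (Nat.beq (M.mul w w) 1) (Nat.beq (M.mul w a) (M.mul a w))) = true) :
    ∃ g, R j g 1 a ∧ R j g 2 1 := by
  simp only [and2_true, lt_true, nbeq] at hw
  obtain ⟨⟨w1, w2⟩, w3, w4⟩ := hw
  have h1 : R j (j (φ w)) a a := ⟨h.2.1, h.2.1, by
    rw [← map_mul, ← map_mul, ← φ_mul h.2.1 w1, ← w4, φ_mul w1 h.2.1]⟩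
  obtain ⟨k, hk⟩ := F.cent _ ((h.trans h1).trans h.symm).2.2
  have h2 : j (k * k) * g = g * j (φ 1) := by
    rw [map_mul, hk, conj_mul, ← map_mul, ← φ_mul w1 w1, w3, inv_mul_cancel_right]
  rcases sq_class (a := k) (F.inj (by
    rw [map_mul, eq_mul_inv_of_mul_eq h2, conj_mul, ← map_mul, z_sq]; simp)) with e | e | e
  · rw [e, map_one, one_mul, left_eq_mul] at h2
    exact absurd h2 (F.ne_one (by norm_num) (by norm_num))
  · have := h.symm.uniq F (R.symm ⟨by norm_num, by norm_num, e ▸ h2⟩)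
    omega
  · obtain ⟨m, hm⟩ := isConj_iff.1 e
    refine ⟨j m * g, R.trans ⟨by norm_num, by norm_num, ?_⟩ h, by norm_num, by norm_num, ?_⟩
    · rw [← map_mul, ← z_comm, map_mul]
    · rw [mul_assoc, ← h2, ← mul_assoc, ← mul_assoc, ← map_mul, ← map_mul, ← hm,
        inv_mul_cancel_right]

theorem Fr.swap [Finite G] (F : Fr j) (hO : Cfsg.pPrimeCore 2 G = ⊥) (hZ : center G = ⊥) :
    ∃ g, R j g 1 2 ∧ R j g 2 1 := by
  have h1 : ¬ Cfsg.IsIsolatedInvolution (j (φ 1)) := fun h => F.ne_one (c := 1) (by norm_num)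
    (by norm_num) (mem_bot.1 (hZ ▸ mem_center_iff.2 fun g => (H17.zstar_central hO h g).symm))
  have h2 : j (φ 1) * j (φ 1) = 1 := by rw [← map_mul, z_sq, map_one]
  have h3 := F.ne_one (c := 1) (by norm_num) (by norm_num)
  simp only [Cfsg.IsIsolatedInvolution, H6.orderOf_eq_two_of h2 h3, true_and, not_forall] at h1
  obtain ⟨g, h4, h5⟩ := h1
  obtain ⟨k, hk⟩ := F.cent _ h4
  have key : ∀ {c}, c < 9216 → IsConj k (φ c) → ∃ g, R j g 1 c := fun hc e => by
    obtain ⟨m, hm⟩ := isConj_iff.1 e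
    exact ⟨_, R.symm (g := j m * g) ⟨hc, by norm_num, by
      rw [← hm, map_mul, map_mul, map_inv, hk]; group⟩⟩
  rcases inv_class (a := k) (F.inj (by rw [map_mul, hk, conj_mul, h2]; simp)) with e | e | e | e
  · rw [e, map_one, eq_comm, mul_inv_eq_one, mul_eq_left] at hk
    exact absurd hk h3
  · exact absurd (e ▸ hk).symm h5
  · obtain ⟨g, h⟩ := key (by norm_num) e
    exact F.step (w := 16) h (by decide +kernel)
  · obtain ⟨g, h⟩ := key (by norm_num) e
    obtain ⟨g, -, h⟩ := F.step (w := 32) h (by decide +kernel)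
    exact F.step (w := 16) h.symm (by decide +kernel)

theorem Fr.not_y (F : Fr j) (h : R j g 1 2) : ¬ IsConj (j (φ 20)) (j (φ 1)) := fun e => by
  obtain ⟨m, hm⟩ := isConj_iff.1 e
  obtain ⟨m, a1, a2⟩ := F.step (g := m) (a := 20) (w := 32)
    ⟨by norm_num, by norm_num, by rw [← hm, inv_mul_cancel_right]⟩ (by decide +kernel)
  obtain ⟨g, b1, b2⟩ := F.step (w := 16) h (by decide +kernel)
  obtain ⟨k, hk⟩ := F.cent _ (b1.trans a2).2.2
  have := (b2.trans a1).2.2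
  rw [← hk, ← map_mul, ← map_mul] at this
  exact not_conj (isConj_iff.2 ⟨k, mul_inv_eq_of_eq_mul (F.inj this).symm⟩).symm

theorem conj_dihedral {s r : G} (h : s * r = r⁻¹ * s) (m : ℕ) : IsConj s (s * r ^ (m + m)) :=
  isConj_iff.2 ⟨(r ^ m)⁻¹, by
    rw [← inv_pow, ← (show SemiconjBy s r r⁻¹ from h).pow_right m, inv_pow, inv_inv, pow_add,
      mul_assoc]⟩

theorem exists_E {P : Subgroup M0} (hP : Nat.card P = 2 ^ 7) :
    ∃ p ∈ P, ∃ c < 16, c ≠ 0 ∧ IsConj p (j0 (φ c)) := by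
  have s : (⟨16, M.mul, M.inv⟩ : GM).Sound φ := ⟨by norm_num, φ0, by decide +kernel,
    by decide +kernel, fun a ha b hb => φ_mul (ha.trans (by norm_num)) (hb.trans (by norm_num)),
    fun a ha => φ_inv (ha.trans (by norm_num))⟩
  have h1 : Nat.card (s.sub.map j0) = 2 ^ 4 := by
    rw [card_map_of_injective j0_inj]
    exact s.card_of_inj fun a ha b hb => inj (ha.trans (by norm_num)) (hb.trans (by norm_num))
  obtain ⟨S, hS⟩ := (IsPGroup.of_card h1).exists_le_sylow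
  obtain ⟨g, hg⟩ := exists_conj_le S.not_dvd_index (IsPGroup.of_card hP)
  by_contra h2
  have h3 := Nat.card_le_card_of_injective (fun x : P × s.sub.map j0 =>
    (⟨g * x.1 * g⁻¹ * x.2, mul_mem (hg _ x.1.2) (hS x.2.2)⟩ : S)) fun a b e => by
      have e1 : g * a.1 * g⁻¹ * a.2 = g * b.1 * g⁻¹ * b.2 := congrArg Subtype.val e
      obtain ⟨_, ⟨c, hc, rfl⟩, e2⟩ := mul_mem b.2.2 (inv_mem a.2.2)
      have e3 : g * ((b.1 : M0)⁻¹ * a.1) * g⁻¹ = j0 (φ c) := by
        rw [e2, eq_inv_mul_of_mul_eq e1.symm]; group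
      have e4 : a.1 = b.1 := by
        by_contra e4
        refine h2 ⟨_, mul_mem (inv_mem b.1.2) a.1.2, c, hc, fun e5 => e4 ?_, isConj_iff.2 ⟨g, e3⟩⟩
        rw [e5, φ0, map_one, mul_inv_eq_one, mul_eq_left, inv_mul_eq_one] at e3
        exact Subtype.ext e3.symm
      rw [e4, mul_right_inj] at e1
      exact Prod.ext e4 (Subtype.ext e1)
  obtain ⟨k, hk⟩ := S.2.exists_card_eq
  have h4 := card_subgroup_dvd_card (S : Subgroup M0)
  rw [Nat.card_prod, h1, hP, ← pow_add] at h3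
  rw [hk, cardM] at h4
  exact absurd ((pow_dvd_pow 2 ((Nat.pow_le_pow_iff_right (by norm_num)).1 (h3.trans_eq hk))).trans
    h4) (by norm_num)

theorem Fr.surj [Finite G] (F : Fr j) (A : Amal j g) {J : M0 →* G} (hJ : ∀ k, J (j0 k) = j k)
    (hg : J (eM 15) = g) : J.range = ⊤ := by
  have r12 : R j g 1 2 := (R.cast (a := alg 1) ⟨by norm_num, by decide +kernel,
    alg_ok A.cj (by norm_num) (by decide +kernel)⟩ (by decide +kernel))
  have ny := F.not_y r12
  have t1 := F.ne_one (c := 1) (by norm_num) (by norm_num)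
  have hi : Function.Injective J := inj_of_ne (by rwa [hJ])
  have tt : j (φ 1) * j (φ 1) = 1 := by rw [← map_mul, z_sq, map_one]
  have c21 : IsConj (j (φ 2)) (j (φ 1)) := isConj_iff.2 ⟨g, mul_inv_eq_of_eq_mul r12.2.2.symm⟩
  have sq : ∀ {s}, IsConj s (j (φ 1)) → s * s = 1 := fun h => by
    obtain ⟨c, rfl⟩ := isConj_iff.1 h.symm
    rw [conj_mul, tt]; simp
  have Za : ∀ s ∈ J.range, IsConj s (j (φ 1)) → ∃ m ∈ J.range, m * s * m⁻¹ = j (φ 1) := by
    rintro _ ⟨u, rfl⟩ h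
    have key : IsConj u (j0 (φ 1)) → ∃ m ∈ J.range, m * J u * m⁻¹ = j (φ 1) := fun e => by
      obtain ⟨m, hm⟩ := isConj_iff.1 e
      exact ⟨_, ⟨m, rfl⟩, by rw [← hJ, ← hm, map_mul, map_mul, map_inv]⟩
    rcases invM_class (u := u) (hi (by rw [map_mul, sq h, map_one])) with e | e | e | e
    · rw [e, map_one, isConj_one_right] at h
      exact absurd h t1
    · exact key e
    · exact key (e.trans (isConj_iff.2 ⟨eM 15, hi (by
        rw [map_mul, map_mul, map_inv, hJ, hJ, hg, ← r12.2.2, mul_inv_cancel_right])⟩))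
    · exact absurd ((hJ _ ▸ J.map_isConj e).symm.trans h) ny
  have Zb : ∀ s ∈ J.range, IsConj s (j (φ 1)) → ∀ h, h * s * h⁻¹ ∈ J.range → h ∈ J.range := by
    intro s h1 h2 h h3
    obtain ⟨a, ha, a1⟩ := Za s h1 h2
    obtain ⟨b, hb, b1⟩ := Za _ h3 ((isConj_iff.2 ⟨h, rfl⟩).symm.trans h2)
    obtain ⟨k, hk⟩ := F.cent (b * h * a⁻¹) (by nth_rw 2 [← a1]; rw [← b1]; group)
    have : b * h * a⁻¹ ∈ J.range := ⟨_, (hJ k).trans hk⟩
    rwa [mul_mem_cancel_right (inv_mem ha), mul_mem_cancel_left hb] at this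
  have tM : j (φ 1) ∈ J.range := ⟨_, hJ _⟩
  by_contra hne
  obtain ⟨s, s1, s2⟩ : ∃ s, IsConj s (j (φ 1)) ∧ s ∉ J.range := by
    by_contra h
    push Not at h
    exact hne (eq_top_iff.2 fun x _ => Zb _ tM (IsConj.refl _) x
      (h _ (isConj_iff.2 ⟨x, rfl⟩).symm))
  have sw : ∀ a ∈ J.range, IsConj a (j (φ 1)) → ∃ v, v * v = 1 ∧ v * a * v⁻¹ = s := by
    intro a a1 a2
    refine (H6.exists_invol_conj_of_odd (sq a2) (sq s1) ?_).imp fun v h => h.2
    by_contra h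
    obtain ⟨b1, b2, b3⟩ := H6.central_involution (sq a2) (sq s1) (Nat.not_odd_iff_even.1 h)
    have b4 : IsConj (a * (a * s) ^ (orderOf (a * s) / 2)) (j (φ 1)) := by
      have c1 : a⁻¹ = a := (eq_inv_of_mul_eq_one_left (sq a2)).symm
      have c2 : s⁻¹ = s := (eq_inv_of_mul_eq_one_left (sq s1)).symm
      rcases Nat.even_or_odd' (orderOf (a * s) / 2) with ⟨m, hm | hm⟩ <;> rw [hm, two_mul]
      · exact (conj_dihedral (by
          rw [mul_inv_rev, c1, c2, ← mul_assoc, sq a2, mul_assoc, sq a2, one_mul, mul_one]) m).symm.trans a2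
      · rw [pow_succ', ← mul_assoc, ← mul_assoc, sq a2, one_mul]
        exact (conj_dihedral (by rw [mul_inv_rev, c1, c2, mul_assoc]) m).symm.trans s1
    generalize (a * s) ^ (orderOf (a * s) / 2) = w at b1 b2 b3 b4
    have b5 : w ∈ J.range := Zb a a1 a2 w (by rwa [b2.eq, mul_inv_cancel_right])
    have b6 : ¬ IsConj w (j (φ 1)) := fun e =>
      s2 (Zb w b5 e s (by rwa [← b3.eq, mul_inv_cancel_right]))
    obtain ⟨m, -, hm⟩ := Za a a1 a2
    obtain ⟨k, hk⟩ := F.cent (m * w * m⁻¹) (by rw [← hm, conj_mul, conj_mul, b2.eq])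
    have b7 : IsConj w (j k) := isConj_iff.2 ⟨m, hk.symm⟩
    rcases inv_class (a := k) (F.inj (by
      rw [map_mul, hk, conj_mul, H6.mul_self_of_orderOf_two b1]; simp)) with e | e | e | e
    · rw [e, map_one, isConj_one_left] at b7
      exact H6.ne_one_of_orderOf_two b1 b7
    · exact b6 (e ▸ b7)
    · exact b6 ((b7.trans (j.map_isConj e)).trans c21)
    · obtain ⟨c, hc⟩ := isConj_iff.1 e
      refine ny (IsConj.trans (IsConj.symm (isConj_iff.2 ⟨j ((φ 4)⁻¹ * c) * m, ?_⟩)) b4)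
      have c3 : φ 4 * φ 20 * (φ 4)⁻¹ = c * (φ 1 * k) * c⁻¹ := by
        rw [← φ_cc (by norm_num) (by norm_num), ← conj_mul, hc, z_comm, mul_inv_cancel_right,
          φ_mul' (c := cc 4 20) (by decide +kernel)]
      rw [show φ 20 = (φ 4)⁻¹ * (φ 4 * φ 20 * (φ 4)⁻¹) * φ 4 by group, c3]
      simp only [map_mul, map_inv, hk, ← hm]
      group
  obtain ⟨v, v1, v2⟩ := sw _ tM (IsConj.refl _)
  have v3 : v⁻¹ = v := (eq_inv_of_mul_eq_one_left v1).symm
  refine no_sub (D := (J.range.comap (MulAut.conj v).toMonoidHom).comap J) ?_ fun h => ?_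
  · have h1 := j0.range.card_mul_index
    rw [← Nat.card_congr (MonoidHom.ofInjective j0_inj).toEquiv, cardK, cardM] at h1
    rw [← show j0.range.index = 170775 by omega]
    refine index_dvd_card_of_mul fun m => ?_
    have a1 : (J m)⁻¹ * j (φ 1) * (J m)⁻¹⁻¹ ∈ J.range :=
      mul_mem (mul_mem (inv_mem ⟨m, rfl⟩) tM) (inv_mem (inv_mem ⟨m, rfl⟩))
    have a2 := (isConj_iff.2 ⟨(J m)⁻¹, rfl⟩ : IsConj (j (φ 1)) _).symm
    obtain ⟨u, u1, u2⟩ := sw _ a1 a2
    have u3 : u⁻¹ = u := (eq_inv_of_mul_eq_one_left u1).symm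
    have a3 : v * u * ((J m)⁻¹ * j (φ 1) * (J m)⁻¹⁻¹) * (v * u)⁻¹ = j (φ 1) := by
      rw [mul_inv_rev, mul_assoc v, ← mul_assoc _ u⁻¹, mul_assoc v, u2, ← v2, v3, ← mul_assoc,
        ← mul_assoc, v1, one_mul, mul_assoc, v1, mul_one]
    obtain ⟨d, hd⟩ := Zb _ a1 a2 (v * u) (by rw [a3]; exact tM)
    obtain ⟨k, hk⟩ := F.cent (J (m * d⁻¹)) (by
      nth_rw 2 [← a3]; rw [map_mul, map_inv, hd]; group)
    refine ⟨m * d⁻¹, ⟨k, hi ((hJ k).trans hk)⟩, d, ?_, by group⟩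
    change v * J d * v⁻¹ ∈ J.range
    rw [hd, ← mul_assoc, v1, one_mul, v3]
    refine Zb _ tM (IsConj.refl _) _ ?_
    rw [show u * v * j (φ 1) * (u * v)⁻¹ = u * (v * j (φ 1) * v⁻¹) * u⁻¹ by group, v2, ← u2]
    generalize (J m)⁻¹ * j (φ 1) * (J m)⁻¹⁻¹ = a at a1
    rwa [u3, ← mul_assoc, ← mul_assoc, u1, one_mul, mul_assoc, u1, mul_one]
  · obtain ⟨P, hP⟩ := Sylow.exists_subgroup_card_pow_prime 2 (n := 7) h
    obtain ⟨_, ⟨p, -, rfl⟩, c, c1, c2, c3⟩ := exists_E (P := P.map (Subgroup.subtype _))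
      (by rw [card_map_of_injective (subtype_injective _), hP])
    have c4 := hJ _ ▸ J.map_isConj c3
    refine s2 (v2 ▸ mul_mem (mul_mem ?_ tM) (inv_mem ?_)) <;> refine Zb _ ⟨p, rfl⟩ ?_ v p.2
    all_goals
      rcases code_class (c := c) (by omega) (by
        rw [← φ0]; apply φ_mul'; clear * - c1; revert c; decide +kernel) with e | e | e | e
      · exact absurd e c2
      · exact e ▸ c4
      · exact (c4.trans (j.map_isConj e)).trans c21
      · exact absurd e.1 (by clear * - c1; revert c; decide +kernel)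

theorem Fr.iso [Finite G] (F : Fr j) (hO : Cfsg.pPrimeCore 2 G = ⊥) (hZ : center G = ⊥) :
    Nonempty (G ≃* Cfsg.Spor.Co3) := by
  obtain ⟨g, h1, h2⟩ := F.swap hO hZ
  obtain ⟨g, A⟩ := F.amal h1 h2
  obtain ⟨J, hJ, hg⟩ := A.exists_hom
  obtain ⟨f⟩ := iso_co3
  exact ⟨(MulEquiv.ofBijective J ⟨inj_of_ne (x := j0 (φ 1))
    (by rw [hJ]; exact F.ne_one (by norm_num) (by norm_num)),
    MonoidHom.range_eq_top.1 (F.surj A hJ hg)⟩).symm.trans f⟩

end H11.C3
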