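import Mathlib
import Cfsg.Prelude.Def_SporadicB
import Cfsg.Agent.H11.C3Fin
import Cfsg.Agent.H9.TT

/-! The non-split double cover of `Sp₆(2)` is unique. -/

set_option autoImplicit false
set_option maxRecDepth 100000

namespace H11.C3

open H29 H7.Cay H9.MX C3S Subgroup

variable {H : Type} [Group H]

/-- Letters from seven elements and a further one. -/
def eH (s : ℕ → H) (w : H) (c : ℕ) : H :=
  if c < 14 then if c % 2 = 0 then s (c / 2) else (s (c / 2))⁻¹ else if c = 14 then w else 1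

theorem ivH (s : ℕ → H) {w : H} (h : w * w = 1) : IvOK (eH s w) (ivOf C3T0.ivl) := fun c => by
  by_cases hc : c < 15
  · interval_cases c <;> first | rfl | exact (inv_inv _).symm | exact eq_inv_of_mul_eq_one_left h
  · rw [ivOf, nth_default _ (not_lt.1 hc), eH, if_neg (by omega), if_neg (by omega), inv_one]

theorem cjS {l : List (List ℕ × List ℕ × List ℕ)} (h : allN 5 (chkRelP 28 5 (nth Net.nil C3T0.nl)
    (ivOf C3T0.ivl) (l.map fun p => p.1 ++ p.2.1 ++ invW (ivOf C3T0.ivl) (p.2.2 ++ p.1))) = true) :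
    ∀ p ∈ l, ev τ p.1 * ev τ p.2.1 * (ev τ p.1)⁻¹ = ev τ p.2.2 := fun p hp => by
  have := rel h _ (List.mem_map_of_mem hp)
  rwa [ev_append, ev_append, ev_invW hiv, ev_append, mul_inv_eq_one, ← mul_inv_eq_iff_eq_mul] at this

theorem sq2 {x y c : H} (hc : c ∈ center H) (h : y * x = c * (x * y)) :
    x * y * (x * y) = c * (x * x) * (y * y) := by
  rw [mul_assoc, ← mul_assoc y, h, mul_assoc c, ← mul_assoc x, mem_center_iff.1 hc x]
  simp only [mul_assoc]

theorem cm2 {x y t c d : H} (hd : d ∈ center H) (h1 : t * x = c * (x * t))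
    (h2 : t * y = d * (y * t)) : t * (x * y) = c * d * (x * y * t) := by
  rw [← mul_assoc, h1, mul_assoc, mul_assoc, h2, ← mul_assoc x, mem_center_iff.1 hd x]
  simp only [mul_assoc]

theorem exists_rels {f : H →* S} (hf : Function.Surjective f) {z : H} (hz : z ∈ center H)
    (zz : z * z = 1) (z1 : z ≠ 1) (fz : f z = 1) (hk : ∀ a, f a = 1 → a = 1 ∨ a = z) :
    ∃ e : ℕ → H, IvOK e (ivOf C3T0.ivl) ∧ (∀ r ∈ C3T0.R0, ev e r = 1) ∧ ∀ c, f (e c) = τ c := by
  have zc := mem_center_iff.1 hz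
  have two : ∀ {a b}, f a = f b → a = b ∨ a = b * z := fun {a b} h =>
    (hk (b⁻¹ * a) (by rw [map_mul, map_inv, h, inv_mul_cancel])).imp
      (fun h => (inv_mul_eq_one.1 h).symm) eq_mul_of_inv_mul_eq
  have step : ∀ {a : H} {i : ℕ} (j : ℕ), f a = τ i → ev τ [i, j, i] = ev τ [j, i, j] →
      ∃ b, f b = τ j ∧ a * b * a = b * a * b := fun {a i} j h1 h2 => by
    obtain ⟨b, hb⟩ := hf (τ j)
    rcases two (a := a * b * a) (b := b * a * b) (by
      simpa only [map_mul, h1, hb, ev3] using h2) with h | h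
    · exact ⟨b, hb, h⟩
    · refine ⟨b * z, by rw [map_mul, fz, hb, mul_one], ?_⟩
      rw [← mul_assoc, mul_assoc _ z, ← zc, ← mul_assoc, h, mul_assoc b z, ← zc]
      simp only [mul_assoc, ← zc (b * z)]
  have br := cjS (l := [([], [0, 4, 0], [4, 0, 4]), ([], [4, 6, 4], [6, 4, 6]),
    ([], [6, 2, 6], [2, 6, 2]), ([], [6, 8, 6], [8, 6, 8]), ([], [8, 10, 8], [10, 8, 10]),
    ([], [10, 12, 10], [12, 10, 12])]) (by decide +kernel)
  simp only [List.forall_mem_cons, ev_nil, one_mul, inv_one, mul_one] at br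
  obtain ⟨r0, r1, r2, r3, r4, r5, -⟩ := br
  obtain ⟨s0, f0⟩ := hf (τ 0)
  obtain ⟨s2, f2, b0⟩ := step 4 f0 r0
  obtain ⟨s3, f3, b1⟩ := step 6 f2 r1
  obtain ⟨s1, f1, b2⟩ := step 2 f3 r2
  obtain ⟨s4, f4, b3⟩ := step 8 f3 r3
  obtain ⟨s5, f5, b4⟩ := step 10 f4 r4
  obtain ⟨s6, f6, b5⟩ := step 12 f5 r5
  have fe : ∀ {s : ℕ → H} {w : H}, (∀ i < 7, f (s i) = τ (2 * i)) → f w = 1 →
      ∀ c, f (eH s w c) = τ c := fun {s w} h1 h2 c => by
    by_cases hc : c < 14
    · obtain ⟨i, rfl | rfl⟩ := Nat.even_or_odd' c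
      · rw [eH, if_pos hc, if_pos (by omega), show 2 * i / 2 = i by omega, h1 i (by omega)]
      · rw [eH, if_pos hc, if_neg (by omega), show (2 * i + 1) / 2 = i by omega, map_inv,
          h1 i (by omega), ← hiv, show ivOf C3T0.ivl (2 * i) = 2 * i + 1 by
            have : i < 7 := by omega
            clear * - this; revert i; decide]
    · rw [eH, if_neg hc]
      split_ifs with h
      · rw [h2, h, ← ev1 τ, hR _ (by decide)]
      · rw [map_one]; exact Subtype.ext (sg_nth_eq_one (show 15 ≤ c by omega)).symm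
  obtain ⟨s, fs, bs, cx⟩ : ∃ s : ℕ → H, (∀ i < 7, f (s i) = τ (2 * i)) ∧
      (∀ p ∈ [(0, 2), (2, 3), (1, 3), (3, 4), (4, 5), (5, 6)],
        s p.1 * s p.2 * s p.1 = s p.2 * s p.1 * s p.2) ∧
      (s 0 * (s 1 * (s 2 * (s 3 * (s 4 * (s 5 * s 6)))))) ^ 9 = 1 := by
    let s := nth 1 [s0, s1, s2, s3, s4, s5, s6]
    have fs : ∀ i < 7, f (s i) = τ (2 * i) := fun i hi => by interval_cases i <;> assumption
    have bs : ∀ p ∈ [(0, 2), (2, 3), (1, 3), (3, 4), (4, 5), (5, 6)],
        s p.1 * s p.2 * s p.1 = s p.2 * s p.1 * s p.2 := by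
      simp only [List.forall_mem_cons]
      exact ⟨b0, b1, b2.symm, b3, b4, b5, by simp⟩
    rcases hk ((s 0 * (s 1 * (s 2 * (s 3 * (s 4 * (s 5 * s 6)))))) ^ 9) (by
      have := hR (powW 9 [0, 2, 4, 6, 8, 10, 12]) (by decide +kernel)
      simpa only [ev_powW, ev_cons, ev_nil, mul_one, map_pow, map_mul, fs 0 (by norm_num),
        fs 1 (by norm_num), fs 2 (by norm_num), fs 3 (by norm_num), fs 4 (by norm_num),
        fs 5 (by norm_num), fs 6 (by norm_num)] using this) with h | h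
    · exact ⟨s, fs, bs, h⟩
    · have mz : ∀ a b, a * z * b = a * b * z := fun a b => by rw [mul_assoc, ← zc, mul_assoc]
      refine ⟨fun i => s i * z, fun i hi => by rw [map_mul, fz, mul_one, fs i hi],
        fun p hp => ?_, ?_⟩
      · simp only [← mul_assoc, mz, bs p hp]
      · have h1 : ∀ a, a * z * z = a := fun a => by rw [mul_assoc, zz, mul_one]
        simp only [← mul_assoc, mz, h1] at h ⊢
        rw [Commute.mul_pow (zc _), h, ← pow_succ', show 9 + 1 = 2 * 5 from rfl, pow_mul, pow_two,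
          zz, one_pow]
  have fw : ∀ w, f (ev (eH s 1) w) = ev τ w := fun w => by
    rw [map_ev]; exact ev_congr fun c _ => fe fs f.map_one c
  have sq : ∀ {g a b : H}, f (g * a * g⁻¹) = f b → a * a ∈ center H → b * b = a * a := by
    intro g a b h1 h2
    have : g * a * g⁻¹ * (g * a * g⁻¹) = a * a := by
      rw [conj_mul, mem_center_iff.1 h2, mul_inv_cancel_right]
    rcases two h1 with h | h <;> rw [← this, h]
    rw [mul_assoc, ← mul_assoc z, ← zc, mul_assoc b z, zz, mul_one]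
  have cm : ∀ {g a b a' b' c : H}, f (g * a * g⁻¹) = f a' → f (g * b * g⁻¹) = f b' →
      c ∈ center H → b * a = c * (a * b) → b' * a' = c * (a' * b') := by
    intro g a b a' b' c h1 h2 h3 h4
    have : g * b * g⁻¹ * (g * a * g⁻¹) = c * (g * a * g⁻¹ * (g * b * g⁻¹)) := by
      rw [conj_mul, conj_mul, h4, ← mul_assoc g, mem_center_iff.1 h3 g]; simp only [mul_assoc]
    have mz : ∀ a b, a * z * b = a * b * z := fun a b => by rw [mul_assoc, ← zc, mul_assoc]
    rcases two h1 with h | h <;> rcases two h2 with h' | h' <;> rw [h, h'] at this <;>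
      simpa only [← mul_assoc, mz, mul_left_inj] using this
  have cen : ∀ {a}, f a = 1 → a ∈ center H := fun h => (hk _ h).elim (· ▸ one_mem _) (· ▸ hz)
  have es : ∀ w, ∀ i < 7, eH s w (2 * i) = s i := fun w i hi => by
    rw [eH, if_pos (by omega), if_pos (by omega), show 2 * i / 2 = i by omega]
  have A1 : f (s 0 * s 0) = 1 := by
    have := cjS (l := [([], [0, 0], [])]) (by decide +kernel) _ (List.mem_singleton_self _)
    simpa [fs 0 (by norm_num)] using this
  have A2 : ∀ i < 7, s i * s i = s 0 * s 0 := fun i hi => by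
    have := cjS (l := (List.range 7).map fun i => (nth [] W1 i, [0], [2 * i])) (by decide +kernel)
      _ (List.mem_map_of_mem (List.mem_range.2 hi))
    exact sq (g := ev (eH s 1) (nth [] W1 i)) (by
      rw [map_mul, map_mul, map_inv, fw, fs 0 (by norm_num), fs i hi, ← ev1 τ, ← ev1 τ (2 * i)]
      exact this) (cen A1)
  obtain ⟨B, B1, B2⟩ : ∃ B, f B = 1 ∧ s 1 * s 0 = B * (s 0 * s 1) := by
    have := cjS (l := [([], [2, 0], [0, 2])]) (by decide +kernel) _ (List.mem_singleton_self _)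
    refine ⟨s 1 * s 0 * (s 0 * s 1)⁻¹, ?_, by group⟩
    rw [map_mul, map_inv, mul_inv_eq_one]
    simpa [fs 0 (by norm_num), fs 1 (by norm_num)] using this
  have B3 : ∀ p ∈ W2, s p.2.1 * s p.1 = B * (s p.1 * s p.2.1) := fun p hp => by
    have h1 := cjS (l := W2.map fun p => (p.2.2, [0], [2 * p.1])) (by decide +kernel)
      _ (List.mem_map_of_mem hp)
    have h2 := cjS (l := W2.map fun p => (p.2.2, [2], [2 * p.2.1])) (by decide +kernel)
      _ (List.mem_map_of_mem hp)
    have h3 : p.1 < 7 ∧ p.2.1 < 7 := by clear * - hp; revert p; decide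
    refine cm (g := ev (eH s 1) p.2.2) ?_ ?_ (cen B1) B2
    · rw [map_mul, map_mul, map_inv, fw, fs 0 (by norm_num), fs _ h3.1, ← ev1 τ, ← ev1 τ (2 * p.1)]
      exact h1
    · rw [map_mul, map_mul, map_inv, fw, fs 1 (by norm_num), fs _ h3.2, ← ev1 τ,
        ← ev1 τ (2 * p.2.1)]
      exact h2
  have B4 : ∀ i j, (∃ p ∈ W2, p.1 = i ∧ p.2.1 = j) → s j * s i = B * (s i * s j) := by
    rintro _ _ ⟨p, hp, rfl, rfl⟩; exact B3 p hp
  have Bc := cen B1
  have AB : B = s 0 * s 0 := by
    have h1 := sq2 (mul_mem Bc Bc) (cm2 Bc (B4 0 4 (by decide)) (B4 1 4 (by decide)))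
    have h2 := sq2 (mul_mem (mul_mem Bc Bc) Bc) (cm2 Bc (cm2 Bc (B4 1 6 (by decide))
      (B4 2 6 (by decide))) (B4 4 6 (by decide)))
    rw [sq2 (mul_mem Bc Bc) (cm2 Bc (B4 1 4 (by decide)) (B4 2 4 (by decide))),
      sq2 Bc (B4 1 2 (by decide)), A2 1 (by norm_num), A2 2 (by norm_num), A2 4 (by norm_num),
      A2 6 (by norm_num)] at h2
    rw [sq2 Bc B2, A2 1 (by norm_num), A2 4 (by norm_num)] at h1
    have h3 := sq (g := ev (eH s 1) W3) (a := s 1 * s 2 * s 4 * s 6) (b := s 0 * s 1 * s 4) (by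
      have := cjS (l := [(W3, [2, 4, 8, 12], [0, 2, 8])]) (by decide +kernel) _
        (List.mem_singleton_self _)
      simpa only [map_mul, map_inv, fw, fs 0 (by norm_num), fs 1 (by norm_num), fs 2 (by norm_num),
        fs 4 (by norm_num), fs 6 (by norm_num), ev_cons, ev_nil, mul_one, mul_assoc] using this)
      (cen (by rw [h2]; simp only [map_mul f B, map_mul f _ (s 0 * s 0), map_mul f (B * B),
        map_mul f (B * B * B), A1, B1, mul_one]))
    rw [h1, h2] at h3
    rcases hk _ A1 with h | h <;> rcases hk _ B1 with h' | h' <;> rw [h, h'] at h3 ⊢ <;>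
      simp [zz, z1] at h3
  have AA : s 0 * s 0 * (s 0 * s 0) = 1 := by
    rcases hk _ A1 with h | h <;> rw [h] <;> simp [zz]
  have i1 := ivH s AA
  refine ⟨eH s (s 0 * s 0), i1, rels_sub (R := ((List.range 7).map fun i => [2 * i, 2 * i, 14]) ++
    ([(0, 2), (2, 3), (1, 3), (3, 4), (4, 5), (5, 6)].map fun p => [2 * p.1, 2 * p.2, 2 * p.1] ++
      invW (ivOf C3T0.ivl) [2 * p.2, 2 * p.1, 2 * p.2]) ++
    (W2.map fun p => [2 * p.1, 2 * p.2.1] ++ invW (ivOf C3T0.ivl) [2 * p.1, 2 * p.2.1].reverse ++ [14])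
    ++ [powW 9 [0, 2, 4, 6, 8, 10, 12]]) ?_ (by decide +kernel), fe fs A1⟩
  refine rels_append (rels_append (rels_append ?_ ?_) ?_) ?_
  · simp only [List.forall_mem_map, List.mem_range]
    intro i hi
    rw [ev3, es _ i hi, A2 i hi]; exact AA
  · simp only [List.forall_mem_map]
    intro p hp
    have h3 : p.1 < 7 ∧ p.2 < 7 := by clear * - hp; revert p; decide
    rw [ev_append, ev_invW i1, ev3, ev3, es _ _ h3.1, es _ _ h3.2, bs p hp, mul_inv_cancel]
  · simp only [List.forall_mem_map]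
    intro p hp
    have h3 : p.1 < 7 ∧ p.2.1 < 7 := by clear * - hp; revert p; decide
    rw [ev_append, ev_append, ev_invW i1, List.reverse_cons, List.reverse_singleton,
      List.singleton_append, ev2, ev2, ev1, es _ _ h3.1, es _ _ h3.2, B3 p hp, AB, mul_inv_rev,
      mul_inv_cancel_left]
    exact inv_mul_cancel _
  · rw [List.forall_mem_singleton, ev_powW, ← cx]
    simp [eH]

theorem exists_equiv [Finite H]
    (h : Cfsg.IsNonsplitDoubleCover H (Matrix.symplecticGroup (Fin 3) (ZMod 2))) :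
    ∃ j : K ≃* H, j (φ 1) ∈ center H := by
  obtain ⟨h1, ⟨e1⟩, h2⟩ := h
  obtain ⟨e2⟩ := C3S.iso
  let f : H →* S := (e1.trans e2.symm).toMonoidHom.comp (QuotientGroup.mk' _)
  have hf : Function.Surjective f := (e1.trans e2.symm).surjective.comp (QuotientGroup.mk'_surjective _)
  have ker : ∀ a, f a = 1 ↔ a ∈ center H := fun a =>
    (e1.trans e2.symm).map_eq_one_iff.trans (QuotientGroup.eq_one_iff a)
  obtain ⟨z, z1, hz⟩ := (Nat.card_eq_two_iff' (1 : center H)).1 h1
  have hk : ∀ a, f a = 1 → a = 1 ∨ a = z := fun a ha => by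
    by_cases h : (⟨a, (ker a).1 ha⟩ : center H) = 1
    · exact Or.inl (congrArg Subtype.val h)
    · exact Or.inr (congrArg Subtype.val (hz _ h))
  obtain ⟨e, i1, r1, fe⟩ := exists_rels hf z.2 (by
    have := pow_card_eq_one' (x := z)
    rw [h1, pow_two] at this
    exact congrArg Subtype.val this) (fun h => z1 (Subtype.ext h)) ((ker _).2 z.2) hk
  have hc : Nat.card H = 2903040 := by
    rw [card_eq_card_quotient_mul_card_subgroup (center H), h1,
      Nat.card_congr (e1.trans e2.symm).toEquiv, C3S.card]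
  have top : gen e C3T0.cols ⊔ center H = ⊤ := by
    have : (gen e C3T0.cols).map f = ⊤ := by rw [map_gen, gen_congr fun c _ => fe c, C3S.top]
    rw [← comap_top f, ← this, comap_map_eq]
    exact congrArg _ (Subgroup.ext fun a => (ker a).symm)
  rcases hk (e 14) (by rw [fe, ← ev1 τ, hR _ (by decide)]) with h | h
  · have b := bdz i1 r1 (bd_one h)
    refine absurd (isComplement'_of_disjoint_and_mul_eq_univ ?_ ?_) (h2 (gen e C3T0.cols))
    · refine disjoint_def.2 fun {a} ha hb => (hk a ((ker a).2 ha)).resolve_right fun e => ?_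
      rw [sup_eq_left.2 fun c hc => (hk c ((ker c).2 hc)).elim (· ▸ one_mem _)
        fun e' => e' ▸ e ▸ hb] at top
      have := b.2
      rw [top, card_top, hc] at this
      omega
    · rw [← normal_mul, sup_comm, top, coe_top]
  · obtain ⟨j, j1, j2⟩ := exists_hom_of_tr (tr_of_bd ubd hL hivK i1 hRK r1
      (by rw [topK, card_top, cardK])) hivK i1 hL topK
    have : center H ≤ gen e C3T0.cols := fun a ha => (hk a ((ker a).2 ha)).elim
      (· ▸ one_mem _) fun e => e ▸ h ▸ mem_gen (by decide)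
    rw [sup_eq_left.2 this, ← j1, MonoidHom.range_eq_top] at top
    refine ⟨MulEquiv.ofBijective j ((Nat.bijective_iff_surjective_and_card j).2
      ⟨top, by rw [hc, cardK]⟩), ?_⟩
    rw [MulEquiv.ofBijective_apply, φ1, j2 _ (by decide), h]
    exact z.2

/-- The non-split double cover of `Sp₆(2)` is the group `K`. -/
theorem exists_equiv' {X : Type*} [Group X] [Finite X]
    (h : Cfsg.IsNonsplitDoubleCover X (Matrix.symplecticGroup (Fin 3) (ZMod 2))) :
    ∃ j : K ≃* X, ∀ t ∈ center X, t ≠ 1 → j (φ 1) = t := by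
  let f : X ≃* Shrink.{0} X := (Shrink.mulEquiv).symm
  have : Finite (Shrink.{0} X) := Finite.of_equiv _ f.toEquiv
  obtain ⟨j, -⟩ := exists_equiv (H9.nonsplit_congr f h)
  refine ⟨j.trans f.symm, fun t ht t1 => ?_⟩
  obtain ⟨z, -, hz⟩ := (Nat.card_eq_two_iff' (1 : center X)).1 h.1
  have h1 : (j.trans f.symm) (φ 1) ∈ center X := mem_center_iff.2 fun g => by
    obtain ⟨k, rfl⟩ := (j.trans f.symm).surjective g
    rw [← map_mul, ← map_mul, z_comm]
  have h2 := hz ⟨_, h1⟩ fun e => by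
    have := (j.trans f.symm).map_eq_one_iff.1 (congrArg Subtype.val e)
    rw [← φ0] at this
    exact absurd (inj (by norm_num) (by norm_num) this) one_ne_zero
  exact congrArg Subtype.val (h2.trans (hz ⟨t, ht⟩ fun e => t1 (congrArg Subtype.val e)).symm)

/-- Recognition of `Co₃` by the centraliser of an involution. -/
theorem iso_of_cent {G : Type*} [Group G] [Finite G] (hO : Cfsg.pPrimeCore 2 G = ⊥)
    (hZ : center G = ⊥) {t : G} (ht : t ≠ 1)
    (hC : Cfsg.IsNonsplitDoubleCover (centralizer ({t} : Set G))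
      (Matrix.symplecticGroup (Fin 3) (ZMod 2))) : Nonempty (G ≃* Cfsg.Spor.Co3) := by
  obtain ⟨j, hj⟩ := exists_equiv' hC
  have tc : t ∈ centralizer ({t} : Set G) := mem_centralizer_singleton_iff.2 rfl
  have h1 : (j (φ 1) : G) = t := congrArg Subtype.val (hj ⟨t, tc⟩ (mem_center_iff.2 fun g =>
    Subtype.ext (mem_centralizer_singleton_iff.1 g.2)) fun e => ht (congrArg Subtype.val e))
  refine Fr.iso (j := (centralizer ({t} : Set G)).subtype.comp j.toMonoidHom)
    ⟨Subtype.val_injective.comp j.injective, fun g hg => ?_⟩ hO hZ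
  obtain ⟨k, hk⟩ := j.surjective ⟨g, mem_centralizer_singleton_iff.2 (by rw [← h1]; exact hg.symm)⟩
  exact ⟨k, congrArg Subtype.val hk⟩

end H11.C3
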