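import Mathlib
import Cfsg.Agent.H11.C3AD
import Cfsg.Agent.H11.C3H

/-! The automorphisms of the double cover of `Sp₆(2)` are inner; quaternion subgroups modulo the
centre. -/

set_option autoImplicit false
set_option maxRecDepth 100000

namespace H11.C3

open H29 H7.Cay H9.MX C3BT C3BD C3AD Subgroup
open scoped commutatorElement

theorem cent_I {k : K} (h : ∀ c ∈ [2, 4, 8, 68], k * φ c = φ c * k) : ∃ c < 4, φ c = k := by
  obtain ⟨c, hc, rfl⟩ := cent_x (h 2 (by simp))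
  have h1 := all2_true cI c hc
  have h2 : ∀ a ∈ [2, 4, 8, 68], M.mul c a = M.mul a c := fun a ha => by
    have h3 : a < 9216 := by revert a; decide
    have h4 : c < 9216 := by omega
    exact inj (mul_lt h4 h3) (mul_lt h3 h4) (by rw [φ_mul h4 h3, φ_mul h3 h4, h a ha])
  simp only [imp2_true, nbeq, lt_true] at h1
  exact ⟨c, h1 (h2 4 (by simp)) (h2 8 (by simp)) (h2 68 (by simp)), rfl⟩

theorem φ3 : φ 1 * φ 2 = φ 3 := φ_mul' (by decide +kernel)
theorem conj23 : φ 4608 * φ 2 * (φ 4608)⁻¹ = φ 1 * φ 2 := by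
  rw [← φ_cc (by norm_num) (by norm_num), φ3, show cc 4608 2 = 3 by decide +kernel]

theorem cenK {k : K} : k ∈ center K ↔ k = 1 ∨ k = φ 1 := by
  refine ⟨fun h => ?_, fun h => h.elim (· ▸ one_mem _) (· ▸ mem_center_iff.2 z_comm)⟩
  obtain ⟨c, hc, rfl⟩ := cent_I fun c _ => (mem_center_iff.1 h _).symm
  have h1 := mem_center_iff.1 h (φ 4608)
  rw [← φ_mul (by norm_num) (by omega), ← φ_mul (by omega) (by norm_num)] at h1
  have h2 := inj (mul_lt (by norm_num) (by omega)) (mul_lt (by omega) (by norm_num)) h1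
  obtain rfl | rfl : c = 0 ∨ c = 1 := by clear * - hc h2; revert c; decide +kernel
  · exact Or.inl φ0
  · exact Or.inr rfl

/-- The quotient map modulo the centre. -/
noncomputable def q : K →* K ⧸ center K := QuotientGroup.mk' _

theorem q_one {a : K} : q a = 1 ↔ a = 1 ∨ a = φ 1 := (QuotientGroup.eq_one_iff a).trans cenK
theorem q_z : q (φ 1) = 1 := q_one.2 (Or.inr rfl)
theorem q_eq {a b : K} : q a = q b ↔ a = b ∨ a = φ 1 * b := by
  rw [← mul_inv_eq_one, ← map_inv, ← map_mul, q_one, mul_inv_eq_one, mul_inv_eq_iff_eq_mul]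
theorem q_φ {c : ℕ} (hc : c < 9216) (h : q (φ c) = 1) : c < 2 := by
  rcases q_one.1 h with h | h
  · rw [inj hc (by norm_num) (h.trans φ0.symm)]; norm_num
  · rw [inj hc (by norm_num) h]; norm_num
theorem q_conj {a b : K} (h : q a = q b) (l : K) : a * l * a⁻¹ = b * l * b⁻¹ := by
  rcases q_eq.1 h with rfl | rfl
  · rfl
  · rw [mul_inv_rev, mul_assoc (φ 1), ← mul_assoc, mul_assoc (φ 1), ← z_comm, mul_inv_cancel_right]

theorem eX14 : eX 14 = φ 1 := (extE_lt _ _ _ (by norm_num)).trans φ1.symm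

theorem ez_iff {u v : List ℕ} : ez u v = true ↔ q (ev eX u) = q (ev eX v) := by
  rw [ez, or2_true, q_eq, ← eX14, ← ev_cons]
  exact or_congr ⟨e4, C3KX.tab.eq4_of ρX (by norm_num)⟩ ⟨e4, C3KX.tab.eq4_of ρX (by norm_num)⟩

theorem q_aut (β : K ≃* K) {a b : K} : q (β a) = q (β b) ↔ q a = q b := by
  have h : β (φ 1) = φ 1 := (cenK.1 (mem_center_iff.2 fun g => by
    obtain ⟨k, rfl⟩ := β.surjective g
    rw [← map_mul, z_comm, map_mul])).resolve_left fun e =>
      φ_ne (by norm_num) one_ne_zero (β.map_eq_one_iff.1 e)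
  rw [q_eq, q_eq, ← h, ← map_mul, h, β.apply_eq_iff_eq, β.apply_eq_iff_eq]

theorem eXb {c : ℕ} (hc : c ∈ C3T0.cols) : eX c = eK c :=
  extE_lt _ _ _ (by revert c; decide)

theorem cl0 (k : K) : ∃ v < 63, q (k * eX 0 * k⁻¹) = q (ev eX (nth [] W v)) := by
  obtain ⟨w, hw, rfl⟩ := exists_word hivK C3S.hL (topK ▸ mem_top k)
  induction w with
  | nil => exact ⟨0, by norm_num, by simp [W, nth]⟩
  | cons c w ih =>
    obtain ⟨v, hv, e⟩ := ih fun a ha => hw a (List.mem_cons_of_mem _ ha)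
    have hc := hw c List.mem_cons_self
    have h1 := allF_true.1 (allF_true.1 cT c (by clear * - hc; revert c; decide)) v hv
    simp only [lit_eq, and2_true, lt_true, ez_iff, ev_cons, ev_append, ev_nil, mul_one, map_mul,
      eXb hc] at h1
    refine ⟨_, h1.1, ?_⟩
    rw [eq_mul_inv_of_mul_eq h1.2.symm, ← e]
    simp only [ev_cons, map_mul, map_inv]; group

theorem three (k : K) : q ((eX 0 * (k * eX 0 * k⁻¹)) ^ 6) = 1 := by
  obtain ⟨v, hv, e⟩ := cl0 k
  have := ez_iff.1 (allF_true.1 c3t v hv)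
  rwa [ev_powW, ev_cons, map_pow, map_mul, ← e, ← map_mul, ← map_pow, ev_nil, map_one] at this

theorem cls4 {a : K} (h : a * a = φ 1) : ∃ p ∈ CL, p.1 < 9216 ∧ IsConj a (φ p.1) := by
  obtain ⟨k, c, hc, e⟩ := conj_B (u := a) (by rw [pow_two 2, pow_mul, pow_two a, h, pow_two, z_sq])
  have h1 := all2_true cB c hc
  simp only [lit_eq, and2_true, imp2_true, nbeq, anyL_true] at h1
  obtain ⟨p, hp, rfl⟩ := h1.1 (inj (mul_lt hc hc) (by norm_num) (by
    rw [φ_mul hc hc, e, conj_mul, h, z_comm, mul_inv_cancel_right]))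
  exact ⟨p, hp, hc, isConj_iff.2 ⟨k, e.symm⟩⟩

theorem aut_z (β : K ≃* K) : β (φ 1) = φ 1 := (q_one.1 (((q_aut β).2 (q_z.trans q.map_one.symm)).trans
  (by simp))).resolve_left fun e => φ_ne (by norm_num) one_ne_zero (β.map_eq_one_iff.1 e)

theorem aut0 (β : K ≃* K) : IsConj (eX 0) (β (eX 0)) := by
  obtain ⟨p, hp, -, h1⟩ := cls4 (a := β (eX 0)) (by
    rw [← map_mul, ← ev2, e4 (v := [14]) (by decide +kernel), ev1, eX14, aut_z])
  have h2 := allL_true.1 cCL p hp
  simp only [and2_true, or2_true, Bool.not_eq_true', ← Bool.not_eq_true, ez_iff] at h2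
  rcases h2.2 with h | ⟨h, h3⟩
  · have := e4 h
    rw [ev_append, ev_cons] at this
    exact (h1.trans (isConj_iff.2 ⟨_, mul_inv_eq_of_eq_mul this⟩)).symm
  · obtain ⟨m, hm⟩ := isConj_iff.1 h1
    have h4 := e4 h
    obtain ⟨k, hk⟩ := (β.trans (MulAut.conj m)).surjective (ev eX p.2.2.2.2)
    have h5 := (q_aut (β.trans (MulAut.conj m))).2 ((three k).trans q.map_one.symm)
    rw [ev_append, ev_nil] at h4
    rw [map_pow _ _ 6, map_mul _ (eX 0), map_mul _ _ k⁻¹, map_mul _ k, map_inv, hk,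
      show (β.trans (MulAut.conj m)) (eX 0) = ev eX (wd p.1) from hm, map_one] at h5
    rw [ev_powW, ev_append, ev_append, ev_append, eq_inv_of_mul_eq_one_right h4] at h3
    exact absurd h5 h3

theorem aut_s (β : K ≃* K) {i : ℕ} (hi : i < 7) :
    ∃ v < 63, q (β (eX (2 * i))) = q (ev eX (nth [] W v)) := by
  have h : ∀ i < 7, ez (nth [] C3S.W1 i ++ [0]) (2 * i :: nth [] C3S.W1 i) = true := by
    decide +kernel
  have h1 := (q_aut β).2 (ez_iff.1 (h i hi))
  obtain ⟨m, hm⟩ := isConj_iff.1 (aut0 β)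
  obtain ⟨v, hv, e⟩ := cl0 (β (ev eX (nth [] C3S.W1 i)) * m)
  rw [ev_append, ev1, ev_cons, map_mul, map_mul, map_mul, map_mul, ← hm] at h1
  refine ⟨v, hv, ?_⟩
  rw [← e, eq_mul_inv_of_mul_eq h1.symm]
  simp only [map_mul, map_inv]; group

theorem aut_step {i : ℕ} {D : List ℕ} {l : List (List ℕ)} (hc : chkL i D l = true) (hi : i < 7)
    {α : K ≃* K} (h : ∃ m, ∀ j ∈ D, q (m * α (eX (2 * j)) * m⁻¹) = q (eX (2 * j))) :
    ∃ m, ∀ j ∈ i :: D, q (m * α (eX (2 * j)) * m⁻¹) = q (eX (2 * j)) := by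
  obtain ⟨m, h⟩ := h
  obtain ⟨β, hβ⟩ : ∃ β : K ≃* K, ∀ x, β x = m * α x * m⁻¹ := ⟨α.trans (MulAut.conj m), fun _ => rfl⟩
  simp only [← hβ] at h
  obtain ⟨v, hv, e⟩ := aut_s β hi
  simp only [chkL, and2_true, or2_true, allL_true, allF_true, anyL_true, Bool.not_eq_true',
    ← Bool.not_eq_true, ez_iff, ev_powW, ev_append, ev_cons, ev_nil, mul_one, Nat.mul_eq] at hc
  rcases hc.2 v hv with ⟨j, hj, h1 | h1⟩ | ⟨h1, h2⟩
  · exact absurd ((q_aut β).1 (e.trans (h1.trans (h j hj).symm))) (hc.1 j hj).1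
  · have := (q_aut β).2 (hc.1 j hj).2
    simp only [map_pow, map_mul, map_one, e, h j hj] at this h1
    exact absurd this h1
  · refine ⟨ev eX (nth [] l v) * m, fun j hj => ?_⟩
    rw [show ∀ a x : K, a * m * α x * (a * m)⁻¹ = a * β x * a⁻¹ from fun a x => by rw [hβ]; group,
      map_mul, map_mul, map_inv, mul_inv_eq_iff_eq_mul]
    rcases List.mem_cons.1 hj with rfl | hj
    · rw [e, ← map_mul, h1, map_mul]
    · rw [h j hj, ← map_mul, h2 j hj, map_mul]

/-- Every automorphism of the double cover is inner. -/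
theorem aut_inner (hp : commutator K = ⊤) (α : K ≃* K) : ∃ m, ∀ l, α l = m * l * m⁻¹ := by
  obtain ⟨m, h⟩ := aut_step c6 (by norm_num) (aut_step c5 (by norm_num) (aut_step c4 (by norm_num)
    (aut_step c3 (by norm_num) (aut_step c2 (by norm_num) (aut_step c1 (by norm_num)
    (aut_step c0 (by norm_num) (α := α) ⟨1, by simp⟩))))))
  obtain ⟨β, hβ⟩ : ∃ β : K ≃* K, ∀ x, β x = m * α x * m⁻¹ := ⟨α.trans (MulAut.conj m), fun _ => rfl⟩
  simp only [← hβ] at h
  have h1 : gen eK C3T0.cols ≤ (q.comp β.toMonoidHom).eqLocus q := gen_le.2 fun c hc => by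
    change q (β _) = q _
    have h2 : ∀ j < 7, q (β (eK (2 * j))) = q (eK (2 * j)) := fun j hj => by
      rw [← eXb (by revert j; decide)]; exact h j (by revert j; decide)
    obtain rfl | ⟨j, hj, rfl | rfl⟩ : c = 14 ∨ ∃ j < 7, c = 2 * j ∨ c = ivOf C3T0.ivl (2 * j) := by
      revert c; decide
    · rw [← φ1, aut_z]
    · exact h2 j hj
    · rw [hivK, map_inv, map_inv, h2 j hj, map_inv]
  have h3 : commutator K ≤ β.toMonoidHom.eqLocus (MonoidHom.id K) := commutator_le.2 fun a _ b _ => by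
    change β _ = ⁅a, b⁆
    have ha : q (β a) = q a := h1 (topK ▸ mem_top a)
    have hb : q (β b) = q b := h1 (topK ▸ mem_top b)
    rw [map_commutatorElement, commutatorElement_def, q_conj ha, mul_assoc, mul_assoc,
      ← mul_assoc (β b), q_conj hb, commutatorElement_def]
    group
  refine ⟨m⁻¹, fun l => ?_⟩
  have h4 : β l = l := h3 (hp ▸ mem_top l)
  rw [hβ, mul_inv_eq_iff_eq_mul] at h4
  rw [mul_assoc, inv_inv, ← h4, inv_mul_cancel_left]

theorem sign_four {α : Type*} [Fintype α] [DecidableEq α] {σ : Equiv.Perm α} (h4 : σ ^ 2 ^ 2 = 1)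
    (h2 : ∀ x, σ (σ x) ≠ x) (hc : Fintype.card α % 8 = 4) : Equiv.Perm.sign σ = -1 := by
  have h1 : σ.cycleType = Multiset.replicate σ.cycleType.card 4 :=
    Multiset.eq_replicate_card.2 fun n hn => by
      obtain ⟨k, hk, rfl⟩ := (Nat.dvd_prime_pow Nat.prime_two).1
        ((Equiv.Perm.dvd_of_mem_cycleType hn).trans (orderOf_dvd_of_pow_eq_one h4))
      have h5 := Equiv.Perm.two_le_of_mem_cycleType hn
      interval_cases k
      · omega
      · obtain ⟨c, τ, rfl, hd, h6, h7⟩ := Equiv.Perm.mem_cycleType_iff.1 hn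
        obtain ⟨x, hx, -⟩ := id h6
        have h8 : c (c x) = x := by
          have := pow_orderOf_eq_one c
          rw [h6.orderOf, h7, pow_one, pow_two] at this
          exact congrArg (· x) this
        refine absurd ?_ (h2 x)
        rw [Equiv.Perm.mul_apply, Equiv.Perm.mul_apply, (hd x).resolve_left hx,
          (hd _).resolve_left fun e => hx (c.injective e), h8]
      · rfl
  have h3 := σ.sum_cycleType
  rw [Finset.eq_univ_of_forall fun x => Equiv.Perm.mem_support.2 fun e => h2 x (by rw [e, e]),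
    Finset.card_univ, h1, Multiset.sum_replicate, smul_eq_mul] at h3
  rw [Equiv.Perm.sign_of_cycleType, h1, Multiset.sum_replicate, Multiset.card_replicate, smul_eq_mul]
  exact Odd.neg_one_pow (Nat.odd_iff.2 (by omega))

theorem no_q8 {a b t : K} (ha : q (a * a) = q t) (hb : q (b * b) = q t)
    (hab : q (a * b * (a * b)) = q t) : t * t ≠ φ 1 := fun ht => by
  obtain ⟨p, hp, -, h1⟩ := cls4 ht
  obtain ⟨m, hm⟩ := isConj_iff.1 h1
  have h2 := allL_true.1 cCL p hp
  simp only [and2_true, nbeq] at h2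
  let Ω := (Finset.range 276).filter fun i => ρ (φ 1) i = i ∧ ρ (φ p.1) i ≠ i
  have hΩ : Ω.card % 8 = 4 := by
    rw [← h2.1.2, cnt, fixc_eq]
    refine congrArg (fun s : Finset ℕ => s.card % 8) (Finset.filter_congr fun i hi => ?_)
    rw [← eX14, ← ev1 eX, φ, C3KX.tab.map ρX _ (Finset.mem_range.1 hi),
      C3KX.tab.map ρX _ (Finset.mem_range.1 hi), ← nbeq, Ne, ← nbeq]
    cases Nat.beq (ap 9 C3KX.T [14] i) i <;> cases Nat.beq (ap 9 C3KX.T (wd p.1) i) i <;>
      simp [and2]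
  have inv : ∀ g : K, g * φ p.1 = φ p.1 * g → ∀ x ∈ Ω, ρ g x ∈ Ω := fun g hg x hx => by
    simp only [Ω, Finset.mem_filter, Finset.mem_range] at hx ⊢
    refine ⟨ρ_lt g x hx.1, ?_, fun e => hx.2.2 ((ρ g).injective ?_)⟩
    · rw [← Equiv.Perm.mul_apply, ← map_mul, ← z_comm, map_mul, Equiv.Perm.mul_apply, hx.2.1]
    · rw [← Equiv.Perm.mul_apply, ← map_mul, hg, map_mul, Equiv.Perm.mul_apply, e]
  have key : ∀ g : K, q (g * g) = q t → ∃ h : ∀ x, ρ (m * g * m⁻¹) x ∈ Ω ↔ x ∈ Ω,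
      Equiv.Perm.sign ((ρ (m * g * m⁻¹)).subtypePerm h) = -1 := fun g hg => by
    have h3 : q (φ p.1) = q (m * g * m⁻¹ * (m * g * m⁻¹)) := by
      rw [conj_mul, ← hm]; simp only [map_mul q _ m⁻¹, map_mul q m, hg]
    generalize m * g * m⁻¹ = y at h3
    have h4 : y * φ p.1 = φ p.1 * y := by
      rcases q_eq.1 h3 with e | e <;> rw [e]
      · group
      · rw [← mul_assoc, z_comm]; group
    have h5 : ∀ x ∈ Ω, ρ y (ρ y x) = ρ (φ p.1) x := fun x hx => by
      have h6 := (Finset.mem_filter.1 (inv y h4 _ (inv y h4 x hx))).2.1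
      rcases q_eq.1 h3 with e | e <;> rw [e] <;> simp only [map_mul, Equiv.Perm.mul_apply, h6]
    refine ⟨fun x => ⟨fun h => ?_, inv y h4 x⟩, sign_four (Equiv.ext fun x => Subtype.ext ?_)
      (fun x e => (Finset.mem_filter.1 x.2).2.2 ((h5 _ x.2).symm.trans (congrArg Subtype.val e)))
      (by rwa [Fintype.card_coe])⟩
    · simpa using inv y⁻¹ (Commute.inv_left h4) _ h
    · change ρ y (ρ y (ρ y (ρ y x))) = x
      rw [h5 x x.2, h5 _ (inv _ rfl _ x.2), ← Equiv.Perm.mul_apply, ← map_mul, ← hm, conj_mul, ht,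
        z_comm, mul_inv_cancel_right, (Finset.mem_filter.1 x.2).2.1]
  obtain ⟨a1, a2⟩ := key a ha
  obtain ⟨b1, b2⟩ := key b hb
  obtain ⟨c1, c2⟩ := key _ hab
  have h3 : (ρ (m * (a * b) * m⁻¹)).subtypePerm c1 =
      (ρ (m * a * m⁻¹)).subtypePerm a1 * (ρ (m * b * m⁻¹)).subtypePerm b1 := by
    rw [Equiv.Perm.subtypePerm_mul]; congr 1; rw [← map_mul, conj_mul]
  rw [h3, map_mul, a2, b2] at c2
  exact absurd c2 (by decide)

theorem conj_zx : IsConj (φ 1 * φ 2) (φ 2) := (isConj_iff.2 ⟨_, conj23⟩).symm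

/-- The central involution of a quaternion group modulo the centre. -/
theorem tgt {a b t : K} (ha : q (a * a) = q t) (hb : q (b * b) = q t)
    (hab : q (a * b * (a * b)) = q t) (h1 : q t ≠ 1) (h2 : q (t * t) = 1) : IsConj t (φ 2) := by
  have h3 := (q_one.1 h2).resolve_right (no_q8 ha hb hab)
  have h4 : a * a * (a * a) = 1 := by
    rcases q_eq.1 ha with e | e <;> rw [e]
    · exact h3
    · rw [mul_assoc, ← mul_assoc t, z_comm, mul_assoc, h3, mul_one, z_sq]
  rcases sq_class h4 with e | e | e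
  · exact absurd (by rw [← ha, e, map_one]) h1
  · exact absurd (by rw [← ha, e, q_z]) h1
  · rcases q_eq.1 ha.symm with e' | e' <;> rw [e']
    · exact e
    · obtain ⟨k, hk⟩ := isConj_iff.1 e
      exact (isConj_iff.2 ⟨k, by rw [← hk, ← mul_assoc, z_comm]; group⟩).trans conj_zx

theorem exists_q8 {t : K} (h1 : q t ≠ 1) (h2 : q (t * t) = 1) : ∃ a b : K, t * a = a * t ∧
    t * b = b * t ∧ a * a = φ 1 ∧ b * b = φ 1 ∧ a * b * (a * b) = φ 1 := by
  have key : ∀ {c a b}, c < 9216 → IsConj t (φ c) → q8 c a b = true → ∃ a b : K, t * a = a * t ∧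
      t * b = b * t ∧ a * a = φ 1 ∧ b * b = φ 1 ∧ a * b * (a * b) = φ 1 := by
    intro c a b hc h h3
    obtain ⟨m, rfl⟩ := isConj_iff.1 h.symm
    simp only [q8, and2_true, lt_true, nbeq, lit_eq] at h3
    obtain ⟨⟨⟨ha, hb⟩, h4, h5⟩, ⟨h6, h7⟩, h8⟩ := h3
    refine ⟨m * φ a * m⁻¹, m * φ b * m⁻¹, ?_⟩
    simp only [conj_mul, ← φ_mul hc ha, ← φ_mul ha hc, ← φ_mul hc hb, ← φ_mul hb hc, ← φ_mul ha ha,
      ← φ_mul hb hb, ← φ_mul ha hb, ← φ_mul (mul_lt ha hb) (mul_lt ha hb), h4, h5, h6, h7, h8,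
      z_comm m, mul_inv_cancel_right, and_self]
  rcases q_one.1 h2 with h | h
  · rcases inv_class h with e | e | e | e
    · exact absurd (by rw [e, map_one]) h1
    · exact absurd (by rw [e, q_z]) h1
    · exact key (a := 16) (b := 32) (by norm_num) e (by decide +kernel)
    · exact key (a := 32) (b := 4864) (by norm_num) e (by decide +kernel)
  · obtain ⟨p, hp, h3, h4⟩ := cls4 h
    exact key h3 h4 (and2_true.1 (and2_true.1 (allL_true.1 cCL p hp)).1).1

theorem memB {m : K} (h : q (m * φ 2 * m⁻¹) = q (φ 2)) : ∃ c < 9216, φ c = m := by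
  rcases q_eq.1 h with h | h
  · obtain ⟨c, hc, e⟩ := cent_x (mul_inv_eq_iff_eq_mul.1 h)
    exact ⟨c, by omega, e⟩
  · obtain ⟨c, hc, e⟩ := cent_x (k := (φ 4608)⁻¹ * m) (by
      rw [← conj23, mul_inv_eq_iff_eq_mul] at h
      rw [mul_assoc, h]; group)
    exact ⟨_, mul_lt (a := 4608) (b := c) (by norm_num) (by omega), by
      rw [φ_mul (by norm_num) (by omega), e, mul_inv_cancel_left]⟩

theorem ext_mul (N : GM) (q r : ℕ) (A B I : ℕ → ℕ) (a b : ℕ) : (ext N q r A B I).mul a b =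
    B (a / q * r + b / q) - B (a / q * r + b / q) % q +
      N.mul (N.mul (a % q) (A (a / q * q + b % q))) (B (a / q * r + b / q) % q) := by
  simp only [ext, lit_eq]; rfl

theorem M1_lt (a b : ℕ) : M1.mul a b < 256 := by
  rw [M1, ext_mul]
  generalize hx : A1 _ = x
  generalize ht : B1 _ = t
  have h1 : x < 2 ^ 4 := hx ▸ pk_lt _ _ _
  have h2 : t < 2 ^ 8 := ht ▸ pk_lt _ _ _
  have h3 : X0.mul (X0.mul (a % 16) x) (t % 16) < 2 ^ 4 := Nat.xor_lt_two_pow
    (Nat.xor_lt_two_pow (show a % 16 < 2 ^ 4 by omega) h1) (show t % 16 < 2 ^ 4 by omega)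
  omega

theorem mul_O {a b : ℕ} (ha : a < 2304) (hb : b < 2304) : M.mul a b < 2304 := by
  have h1 : B2 (a / 256 * 36 + b / 256) < 2304 :=
    lt_true.1 (allF_true.1 (allF_true.1 cU (a / 256) (by omega)) (b / 256) (by omega))
  rw [M, ext_mul]
  generalize B2 _ = t at h1 ⊢
  generalize hy : M1.mul _ (t % 256) = y
  have : y < 256 := hy ▸ M1_lt _ _
  omega

theorem sqV {a b : K} (ha : q (a * φ 2 * a⁻¹) = q (φ 2)) (hb : q (b * φ 2 * b⁻¹) = q (φ 2))
    (h1 : q (a * a * a) = 1) (h2 : q (b * b * b) = 1)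
    (h3 : q (a * b * (a * b) * (a * b * (a * b))) = 1) : ∃ v < 4, φ v = a * b * (a * b) := by
  obtain ⟨a, a1, rfl⟩ := memB ha
  obtain ⟨b, b1, rfl⟩ := memB hb
  have key : ∀ {c}, c < 9216 → q (φ c * φ c * φ c) = 1 → c < 2304 := fun {c} hc h => by
    have := all2_true cB c hc
    simp only [lit_eq, and2_true, imp2_true, lt_true] at this
    exact this.2 (q_φ (mul_lt (mul_lt hc hc) hc) (by rwa [φ_mul (mul_lt hc hc) hc, φ_mul hc hc]))
  have h4 := all2_true cO _ (mul_O (key a1 h1) (key b1 h2))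
  have h5 := mul_lt a1 b1
  simp only [lit_eq, imp2_true, lt_true] at h4
  rw [← φ_mul a1 b1, ← φ_mul h5 h5] at h3 ⊢
  exact ⟨_, h4 (q_φ (mul_lt (mul_lt h5 h5) (mul_lt h5 h5))
    (by rwa [φ_mul (mul_lt h5 h5) (mul_lt h5 h5)])), rfl⟩

end H11.C3
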