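import Mathlib
import Cfsg.Agent.H7.DCE
import Cfsg.Agent.H9.CG

/-! Generic tools for small certificates: point tables, extensions of coded groups, orbits of bit
sets, and the bound of a double coset enumeration over a larger subgroup. -/

set_option autoImplicit false

namespace H11.C3

open H29 H7.Cay

/-! ### Loops -/

/-- All numbers below `r * q` pass a test. -/
noncomputable def all2 (r q : ℕ) (f : ℕ → Bool) : Bool :=
  allF r fun a => lit (Nat.mul a q) fun x => allF q fun b => lit (Nat.add x b) f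

theorem all2_true {r q : ℕ} {f : ℕ → Bool} (h : all2 r q f = true) : ∀ c < r * q, f c = true := by
  intro c hc
  have hq : 0 < q := Nat.pos_of_mul_pos_left (lt_of_le_of_lt (Nat.zero_le _) hc)
  have := allF_true.1 (allF_true.1 h (c / q) ((Nat.div_lt_iff_lt_mul hq).2 hc)) _ (Nat.mod_lt c hq)
  rwa [lit_eq, Nat.add_eq, Nat.mul_eq, Nat.div_add_mod'] at this

/-! ### Point tables -/

/-- A tree of numbers. -/
inductive BT
  | leaf (x : ℕ)
  | node (l r : BT)

/-- Lookup by the low bits. -/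
noncomputable def BT.get (t : BT) : ℕ → ℕ :=
  BT.rec (motive := fun _ => ℕ → ℕ) (fun x _ => x) (fun _ _ a b i =>
    lit (Nat.div i 2) fun j => Bool.rec (b j) (a j) (Nat.beq (Nat.mod i 2) 0)) t

/-- The value of bit planes at a point. -/
noncomputable def valK (P : List ℕ) (i : ℕ) : ℕ :=
  List.rec (motive := fun _ => ℕ) 0 (fun a _ ih =>
    Nat.add (Nat.mod (Nat.shiftRight a i) 2) (Nat.mul 2 ih)) P

theorem valK_eq : ∀ (P : List ℕ) (i : ℕ), valK P i = val P i
  | [], _ => rfl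
  | a :: P, i => by
    rw [show valK (a :: P) i = (a >>> i) % 2 + 2 * valK P i from rfl, valK_eq P i, val,
      Nat.toNat_testBit, Nat.shiftRight_eq_div_pow]

/-- The tables of the letters; the letters from `n` on act trivially. -/
noncomputable def tabOf (t : BT) (n idT c : ℕ) : ℕ := Bool.rec idT (t.get c) (lt c n)

/-- The tables `T` describe the networks. -/
noncomputable def chkTabs (K k : ℕ) (nets : ℕ → Net) (T : ℕ → ℕ) (s n : ℕ) : Bool :=
  allR s n fun c => seqL (mapPull (nets c) (idPl K k)) fun P => lit (T c) fun t =>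
    allF K fun i => Nat.beq (valK P i) (pk t k i)

/-- `T c` is the table of `σ c`. -/
def TabOK (K k : ℕ) (σ : ℕ → Equiv.Perm ℕ) (T : ℕ → ℕ) : Prop :=
  (∀ c, ∀ i < K, σ c i < K) ∧ ∀ c, ∀ i < K, σ c i = pk (T c) k i

theorem tab_of_chk {K k s n : ℕ} {nets : ℕ → Net} (hn : NetsOK K nets) (hK : K ≤ 2 ^ k)
    {T : ℕ → ℕ} (h : chkTabs K k nets T s n = true) :
    ∀ c, s ≤ c → c < s + n → ∀ i < K, sg nets c i = pk (T c) k i := by
  intro c h1 h2 i hi
  have := allR_true.1 h c h1 h2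
  rw [seqL_eq, lit_eq, allF_true] at this
  rw [← nbeq.1 (this i hi), valK_eq, val_mapPull (hn c),
    val_idPl hK (lt_of_fix (fun j hj => Net.perm_fix (hn c) hj) hi)]
  rfl

theorem tabOK_of {K k n idT : ℕ} {l : List Net} (hn : NetsOK K (nth Net.nil l)) {t : BT}
    (h1 : l.length ≤ n) (h2 : (allF K fun i => Nat.beq (pk idT k i) i) = true)
    (h : ∀ c < n, ∀ i < K, sg (nth Net.nil l) c i = pk (tabOf t n idT c) k i) :
    TabOK K k (sg (nth Net.nil l)) (tabOf t n idT) := by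
  refine ⟨fun c i hi => lt_of_fix (fun j hj => Net.perm_fix (hn c) hj) hi, fun c i hi => ?_⟩
  by_cases hc : c < n
  · exact h c hc i hi
  · have : lt c n = false := by rw [← Bool.not_eq_true, lt_true]; exact hc
    rw [sg_nth_eq_one (by omega), tabOf, this]
    exact (nbeq.1 (allF_true.1 h2 i hi)).symm

/-- The image of a point under a word. -/
noncomputable def ap (k : ℕ) (T : ℕ → ℕ) (w : List ℕ) (i : ℕ) : ℕ :=
  List.rec (motive := fun _ => ℕ) i (fun y _ ih => lit ih fun j => pk (T y) k j) w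

/-- The images of four points under a word. -/
noncomputable def ap4 (k : ℕ) (T : ℕ → ℕ) (w : List ℕ) : (ℕ → ℕ → ℕ → ℕ → Bool) → Bool :=
  List.rec (motive := fun _ => (ℕ → ℕ → ℕ → ℕ → Bool) → Bool) (fun f => f 0 1 2 3)
    (fun y _ ih f => ih fun a b c d => lit (T y) fun t => lit (pk t k a) fun a' =>
      lit (pk t k b) fun b' => lit (pk t k c) fun c' => lit (pk t k d) fun d' => f a' b' c' d') w

theorem ap4_eq (k : ℕ) (T : ℕ → ℕ) : ∀ (w : List ℕ) (f : ℕ → ℕ → ℕ → ℕ → Bool),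
    ap4 k T w f = f (ap k T w 0) (ap k T w 1) (ap k T w 2) (ap k T w 3)
  | [], _ => rfl
  | y :: w, f => by
    rw [show ap4 k T (y :: w) f = ap4 k T w fun a b c d =>
      f (pk (T y) k a) (pk (T y) k b) (pk (T y) k c) (pk (T y) k d) from rfl, ap4_eq]
    rfl

/-- Two words agree at the points `0, 1, 2, 3`. -/
noncomputable def eq4 (k : ℕ) (T : ℕ → ℕ) (u v : List ℕ) : Bool :=
  ap4 k T u fun a b c d => ap4 k T v fun a' b' c' d' =>
    and2 (and2 (Nat.beq a a') (Nat.beq b b')) (and2 (Nat.beq c c') (Nat.beq d d'))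

theorem TabOK.ev {K k : ℕ} {σ : ℕ → Equiv.Perm ℕ} {T : ℕ → ℕ} (h : TabOK K k σ T) :
    ∀ (w : List ℕ) {i : ℕ}, i < K → ev σ w i < K ∧ ev σ w i = ap k T w i
  | [], _, hi => ⟨hi, rfl⟩
  | y :: w, i, hi => by
    obtain ⟨h1, h2⟩ := TabOK.ev h w hi
    rw [ev_cons, Equiv.Perm.mul_apply]
    exact ⟨h.1 y _ h1, by rw [h.2 y _ h1, h2]; rfl⟩

section

variable {G : Type*} [Group G] {e : ℕ → G} {ρ : G →* Equiv.Perm ℕ} {K k : ℕ}
  {σ : ℕ → Equiv.Perm ℕ} {T : ℕ → ℕ}

theorem TabOK.map (h : TabOK K k σ T) (hρ : ∀ c, ρ (e c) = σ c) (w : List ℕ) {i : ℕ} (hi : i < K) :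
    ρ (H29.ev e w) i = ap k T w i := by
  rw [map_ev, ev_congr fun c _ => hρ c]; exact (h.ev w hi).2

theorem eq_of_base {N : ℕ} (hf : ∀ g : G, (∀ i < N, ρ g i = i) → g = 1) {a b : G}
    (h : ∀ i < N, ρ a i = ρ b i) : a = b :=
  (inv_mul_eq_one.1 (hf _ fun i hi => by
    rw [map_mul, map_inv, Equiv.Perm.mul_apply, h i hi]; simp)).symm

theorem TabOK.eq4 (h : TabOK K k σ T) (hρ : ∀ c, ρ (e c) = σ c) (hK : 4 ≤ K)
    (hf : ∀ g : G, (∀ i < 4, ρ g i = i) → g = 1) {u v : List ℕ} (hc : eq4 k T u v = true) :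
    H29.ev e u = H29.ev e v := by
  rw [C3.eq4, ap4_eq, ap4_eq] at hc
  simp only [and2_true, nbeq] at hc
  refine eq_of_base hf fun i hi => ?_
  rw [h.map hρ u (by omega), h.map hρ v (by omega)]
  interval_cases i
  exacts [hc.1.1, hc.1.2, hc.2.1, hc.2.2]

theorem TabOK.eq4_of (h : TabOK K k σ T) (hρ : ∀ c, ρ (e c) = σ c) (hK : 4 ≤ K) {u v : List ℕ}
    (hc : H29.ev e u = H29.ev e v) : C3.eq4 k T u v = true := by
  rw [C3.eq4, ap4_eq, ap4_eq]
  simp only [and2_true, nbeq]
  refine ⟨⟨?_, ?_⟩, ?_, ?_⟩ <;> rw [← h.map hρ u (by omega), ← h.map hρ v (by omega), hc]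

/-- The number of fixed points below `N`. -/
noncomputable def fixc (f : ℕ → ℕ) (N : ℕ) : ℕ :=
  Nat.rec (motive := fun _ => ℕ) 0 (fun m ih => Bool.rec ih (Nat.succ ih) (Nat.beq (f m) m)) N

theorem fixc_eq (f : ℕ → ℕ) : ∀ N, fixc f N = ((Finset.range N).filter fun i => f i = i).card
  | 0 => rfl
  | N + 1 => by
    rw [show fixc f (N + 1) = Bool.rec (fixc f N) (fixc f N + 1) (Nat.beq (f N) N) from rfl,
      fixc_eq f N, Finset.range_add_one, Finset.filter_insert]
    by_cases h : f N = N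
    · rw [nbeq.2 h, if_pos h, Finset.card_insert_of_notMem (by simp)]
    · rw [if_neg h, show Nat.beq (f N) N = false by rw [← Bool.not_eq_true, nbeq]; exact h]

theorem fixc_conj (hlt : ∀ g, ∀ i < K, ρ g i < K) (g a : G) :
    fixc (ρ (g * a * g⁻¹)) K = fixc (ρ a) K := by
  rw [fixc_eq, fixc_eq]
  refine Finset.card_bij' (fun i _ => ρ g⁻¹ i) (fun i _ => ρ g i) ?_ ?_ ?_ ?_
  · intro i hi
    rw [Finset.mem_filter, Finset.mem_range] at hi ⊢
    refine ⟨hlt _ _ hi.1, ?_⟩
    nth_rw 2 [← hi.2]; simp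
  · intro i hi
    rw [Finset.mem_filter, Finset.mem_range] at hi ⊢
    exact ⟨hlt _ _ hi.1, by simp [hi.2]⟩
  · intro i _; simp
  · intro i _; simp

theorem TabOK.fixc (h : TabOK K k σ T) (hρ : ∀ c, ρ (e c) = σ c) (w : List ℕ) :
    C3.fixc (ρ (H29.ev e w)) K = C3.fixc (ap k T w) K := by
  rw [fixc_eq, fixc_eq]
  exact congrArg _ (Finset.filter_congr fun i hi => by
    rw [h.map hρ w (Finset.mem_range.1 hi)])

end

/-! ### Orbits of bit sets -/

/-- Grow a list of distinct bit sets; an item `(p, c)` pulls entry `p` back along the letter `c`. -/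
noncomputable def grow (nets : ℕ → Net) (n : ℕ) (l : List (ℕ × ℕ)) : List ℕ → Bool :=
  List.rec (motive := fun _ => List ℕ → Bool) (fun acc => Nat.ble n acc.length)
    (fun a _ ih acc => and2 (lt a.1 acc.length)
      (lit ((nets a.2).pull (nth 0 acc a.1)) fun x =>
        Bool.rec (ih (x :: acc)) false (memL x acc))) l

theorem grow_spec {K n : ℕ} {nets : ℕ → Net} {p : ℕ → Prop}
    (hp : ∀ c x, p x → p ((nets c).pull x)) : ∀ (l : List (ℕ × ℕ)) (acc : List ℕ), acc.Nodup →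
    (∀ x ∈ acc, p x) → grow nets n l acc = true →
      ∃ L : List ℕ, L.Nodup ∧ (∀ x ∈ L, p x) ∧ n ≤ L.length
  | [], acc, h1, h2, h3 => ⟨acc, h1, h2, ble_true.1 h3⟩
  | a :: l, acc, h1, h2, h3 => by
    change and2 _ (Bool.rec (grow nets n l (_ :: acc)) false (memL _ acc)) = true at h3
    rw [and2_true, lt_true] at h3
    obtain ⟨h3, h4⟩ := h3
    have h5 : p (nth 0 acc a.1) := by
      rw [nth_eq, List.getD_eq_getElem _ _ h3]; exact h2 _ (List.getElem_mem _)
    cases h6 : memL ((nets a.2).pull (nth 0 acc a.1)) acc with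
    | true => rw [h6] at h4; exact absurd h4 (by simp)
    | false =>
      rw [h6] at h4
      exact grow_spec (K := K) hp l _ (List.nodup_cons.2
        ⟨fun h => by rw [memL_true.2 h] at h6; exact absurd h6 (by simp), h1⟩)
        (List.forall_mem_cons.2 ⟨hp _ _ h5, h2⟩) h4

open Pointwise in
/-- A subgroup that preserves a bit set with a long orbit is small. -/
theorem card_mul_le_of_grow {G : Type*} [Group G] [Finite G] {e : ℕ → G} {ρ : G →* Equiv.Perm ℕ}
    {K n V : ℕ} {nets : ℕ → Net} (hn : NetsOK K nets) (hρ : ∀ c, ρ (e c) = sg nets c)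
    {l : List (ℕ × ℕ)} (h : grow nets n l [V] = true) {C : Subgroup G}
    (hC : ∀ g ∈ C, ∀ i, V.testBit i = true → V.testBit (ρ g i) = true) :
    n * Nat.card C ≤ Nat.card G := by
  let _ : MulAction G (Set ℕ) := MulAction.compHom (Set ℕ) ρ
  let s : ℕ → Set ℕ := fun x => {i | x.testBit i = true}
  have hs : ∀ (g : G) (S : Set ℕ) (i : ℕ), i ∈ g • S ↔ ρ g⁻¹ i ∈ S := fun g S i => by
    change i ∈ ρ g • S ↔ _
    rw [Set.mem_smul_set_iff_inv_smul_mem, map_inv]; rfl
  obtain ⟨L, h1, h2, h3⟩ := grow_spec (K := K) (p := fun x => s x ∈ MulAction.orbit G (s V))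
    (fun c x ⟨g, hg⟩ => ⟨(e c)⁻¹ * g, by
      ext i
      change i ∈ ((e c)⁻¹ * g) • s V ↔ _
      rw [mul_smul, hs, show g • s V = s x from hg, inv_inv, hρ]
      simp only [s, Set.mem_ofPred_eq, Net.testBit_pull (hn c)]; rfl⟩) l [V] (by simp)
    (by simp) h
  have h4 : n ≤ (MulAction.orbit G (s V)).ncard := by
    refine h3.trans ?_
    rw [← List.toFinset_card_of_nodup h1, ← Set.ncard_coe_finset]
    refine Set.ncard_le_ncard_of_injOn s (fun x hx => h2 x (by simpa using hx))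
      (fun x _ y _ hxy => Nat.eq_of_testBit_eq fun i => ?_) (Set.finite_range _)
    exact Bool.eq_iff_iff.2 (Set.ext_iff.1 hxy i)
  rw [← MulAction.index_stabilizer] at h4
  rw [← (MulAction.stabilizer G (s V)).index_mul_card]
  refine Nat.mul_le_mul h4 (Subgroup.card_le_of_le fun g hg => ?_)
  ext i
  rw [hs]
  exact ⟨fun h5 => by simpa [s] using hC g hg _ h5, hC _ (inv_mem hg) i⟩

/-! ### Extensions of coded groups -/

/-- The code `π * q + v` names `φ v * t π`. -/
noncomputable def ext (N : GM) (q r : ℕ) (A B I : ℕ → ℕ) : GM :=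
  ⟨Nat.mul r q, fun a b => lit (Nat.div a q) fun π =>
      lit (B (Nat.add (Nat.mul π r) (Nat.div b q))) fun t => lit (Nat.mod t q) fun u =>
        lit (A (Nat.add (Nat.mul π q) (Nat.mod b q))) fun x => lit (N.mul (Nat.mod a q) x) fun y =>
          Nat.add (Nat.sub t u) (N.mul y u), I⟩

/-- The test of the table of inverses. -/
noncomputable def chkI (M : GM) (r q : ℕ) : Bool :=
  all2 r q fun a => lit (M.inv a) fun z => and2 (lt z M.n) (Nat.beq (M.mul a z) 0)

theorem ext_sound {G : Type*} [Group G] {N : GM} {φ t : ℕ → G} (h : N.Sound φ) {q r : ℕ}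
    (hq : N.n = q) (hr : 0 < r) {A B I : ℕ → ℕ} (t0 : t 0 = 1)
    (hA : ∀ c < r * q, A c < q ∧ t (c / q) * φ (c % q) = φ (A c) * t (c / q))
    (hB : ∀ c < r * r, B c < r * q ∧ t (c / r) * t (c % r) = φ (B c % q) * t (B c / q))
    (hI : chkI (ext N q r A B I) r q = true) :
    (ext N q r A B I).Sound fun c => φ (c % q) * t (c / q) := by
  have q0 : 0 < q := hq ▸ h.pos
  have b3 : ∀ a < r * q, a / q < r := fun a ha => (Nat.div_lt_iff_lt_mul q0).2 ha
  have b1 : ∀ π < r, ∀ v < q, π * q + v < r * q := fun π hπ v hv => by nlinarith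
  have key : ∀ a < r * q, ∀ b < r * q, (ext N q r A B I).mul a b < r * q ∧
      φ ((ext N q r A B I).mul a b % q) * t ((ext N q r A B I).mul a b / q) =
        φ (a % q) * t (a / q) * (φ (b % q) * t (b / q)) := by
    intro a ha b hb
    have e1 : (ext N q r A B I).mul a b = B (a / q * r + b / q) - B (a / q * r + b / q) % q +
        N.mul (N.mul (a % q) (A (a / q * q + b % q))) (B (a / q * r + b / q) % q) := rfl
    obtain ⟨t1, t2⟩ := hB (a / q * r + b / q) (by nlinarith [b3 a ha, b3 b hb])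
    obtain ⟨u1, u2⟩ := hA _ (b1 _ (b3 a ha) _ (Nat.mod_lt b q0))
    rw [Nat.add_comm, Nat.add_mul_div_right _ _ hr, Nat.add_mul_mod_self_right,
      Nat.div_eq_of_lt (b3 b hb), Nat.mod_eq_of_lt (b3 b hb), Nat.zero_add, Nat.add_comm] at t2
    rw [Nat.add_comm, Nat.add_mul_div_right _ _ q0, Nat.add_mul_mod_self_right, Nat.mod_mod,
      Nat.div_eq_of_lt (Nat.mod_lt b q0), Nat.zero_add, Nat.add_comm] at u2
    rw [e1]
    generalize B (a / q * r + b / q) = s at *
    generalize A (a / q * q + b % q) = x at *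
    have m1 : ∀ y, y % q < N.n := fun y => by rw [hq]; exact Nat.mod_lt y q0
    have m2 : x < N.n := by rwa [hq]
    have v1 := h.mul_lt _ (m1 a) _ m2
    have w1 := h.mul_lt _ v1 _ (m1 s)
    have w2 := h.map_mul _ v1 _ (m1 s)
    rw [h.map_mul _ (m1 a) _ m2] at w2
    rw [hq] at w1
    have e2 : s - s % q = s / q * q := by have := Nat.div_add_mod' s q; omega
    rw [e2]
    refine ⟨b1 _ (b3 s t1) _ w1, ?_⟩
    rw [Nat.add_comm, Nat.add_mul_div_right _ _ q0, Nat.add_mul_mod_self_right,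
      Nat.div_eq_of_lt w1, Nat.mod_eq_of_lt w1, Nat.zero_add, w2, mul_assoc, ← t2]
    simp only [mul_assoc]
    rw [← mul_assoc (t (a / q)) (φ (b % q)), u2, mul_assoc]
  have z0 : φ (0 % q) * t (0 / q) = 1 := by simp [h.zero, t0]
  have hi : ∀ a < r * q, I a < r * q ∧ (ext N q r A B I).mul a (I a) = 0 := fun a ha => by
    have := all2_true hI a ha
    simp only [lit_eq, and2_true, lt_true, nbeq] at this
    exact this
  exact ⟨Nat.mul_pos hr q0, z0, fun a ha b hb => (key a ha b hb).1, fun a ha => (hi a ha).1,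
    fun a ha b hb => (key a ha b hb).2, fun a ha => eq_inv_of_mul_eq_one_right (by
      rw [← z0, ← (hi a ha).2]; exact (key a ha _ (hi a ha).1).2.symm)⟩

theorem ext_inj {G : Type*} [Group G] {N : GM} {φ t : ℕ → G} (hi : N.Inj φ) {q r : ℕ}
    (hq : N.n = q) {A B I : ℕ → ℕ}
    (hs : (ext N q r A B I).Sound fun c => φ (c % q) * t (c / q))
    (hk : ∀ a < r * q, φ (a % q) * t (a / q) = 1 → a = 0)
    (hB : ∀ c < r * r, B c < q → I (c % r * q) / q = c / r) :
    (ext N q r A B I).Inj fun c => φ (c % q) * t (c / q) := by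
  have q0 : 0 < q := Nat.pos_of_mul_pos_left hs.pos
  have b3 : ∀ a < r * q, a / q < r := fun a ha => (Nat.div_lt_iff_lt_mul q0).2 ha
  have key : ∀ a < r * q, ∀ b < r * q, (ext N q r A B I).mul a b = 0 →
      I (b / q * q) / q = a / q := by
    intro a ha b hb h0
    have e1 : (ext N q r A B I).mul a b = B (a / q * r + b / q) - B (a / q * r + b / q) % q +
        N.mul (N.mul (a % q) (A (a / q * q + b % q))) (B (a / q * r + b / q) % q) := rfl
    have hr := b3 b hb
    have := hB (a / q * r + b / q) (by nlinarith [b3 a ha]) (by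
      have := Nat.mod_lt (B (a / q * r + b / q)) q0; omega)
    rwa [Nat.add_comm, Nat.add_mul_div_right _ _ (Nat.zero_lt_of_lt hr),
      Nat.add_mul_mod_self_right, Nat.div_eq_of_lt hr, Nat.mod_eq_of_lt hr, Nat.zero_add] at this
  intro a ha b hb hab
  have h1 := hs.inv_lt b hb
  have h2 : ∀ c < r * q, φ (c % q) * t (c / q) = φ (b % q) * t (b / q) →
      I ((ext N q r A B I).inv b / q * q) / q = c / q := fun c hc e =>
    key c hc _ h1 (hk _ (hs.mul_lt c hc _ h1) (by
      have e1 := hs.map_mul c hc _ h1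
      have e2 := hs.map_inv b hb
      rw [e1, e2, e, mul_inv_cancel]))
  have h3 : a / q = b / q := (h2 a ha hab).symm.trans (h2 b hb rfl)
  have h4 : φ (a % q) * t (a / q) = φ (b % q) * t (b / q) := hab
  rw [h3, mul_left_inj] at h4
  have h5 := hi _ (by rw [hq]; exact Nat.mod_lt a q0) _ (by rw [hq]; exact Nat.mod_lt b q0) h4
  rw [← Nat.div_add_mod a q, h3, h5, Nat.div_add_mod]

/-! ### Double coset enumeration over a larger subgroup -/

section

variable {G : Type*} [Group G] {H : Subgroup G} {φ g : ℕ → G}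

theorem ncard_orb {M : GM} (s : M.Sound φ) (hi : M.Inj φ) {r : G} {S : Finset ℕ}
    (hS : ∀ c ∈ S, c < M.n ∧ RC H (r * φ c) r) (h0 : 0 < S.card) :
    (MulAction.orbit s.sub ((r⁻¹ : G) : G ⧸ H)).ncard ≤ M.n / S.card := by
  have := s.bd.1
  have h1 : S.card ≤ Nat.card (MulAction.stabilizer s.sub ((r⁻¹ : G) : G ⧸ H)) := by
    rw [← Nat.card_eq_finsetCard]
    refine Nat.card_le_card_of_injective (fun c : S => (⟨⟨(φ c)⁻¹, s.sub.inv_mem
      (s.mem (hS c c.2).1)⟩, ?_⟩ : MulAction.stabilizer s.sub ((r⁻¹ : G) : G ⧸ H))) ?_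
    · have := DC.rc_iff.1 (hS c c.2).2
      rw [mul_inv_rev] at this
      exact this
    · intro a b e
      have e' : (φ a)⁻¹ = (φ b)⁻¹ := congrArg (fun x => (x.1.1 : G)) e
      exact Subtype.ext (hi _ (hS a a.2).1 _ (hS b b.2).1 (inv_injective e'))
  have h2 := MulAction.index_stabilizer s.sub ((r⁻¹ : G) : G ⧸ H)
  have h3 := (MulAction.stabilizer s.sub ((r⁻¹ : G) : G ⧸ H)).index_mul_card
  rw [s.card_of_inj hi, h2] at h3
  rw [Nat.le_div_iff_mul_le h0]
  exact (Nat.mul_le_mul_left _ h1).trans h3.le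

variable {D : DC}

theorem upto_one (h : D.Hyp H φ g) {l : ℕ} (hl : g l ∈ H)
    (hc : and2 (Nat.beq (D.fl (D.ft 0) 4) (Nat.succ l)) (allF 4 fun a =>
      Nat.beq (D.fl (D.ft 0) a) 0) = true) : D.Upto H φ g 1 := by
  simp only [and2_true, nbeq, allF_true] at hc
  intro f hf
  obtain rfl : f = 0 := by omega
  refine ⟨by rw [hc.2 1 (by omega)]; exact h.snd.pos, by rw [hc.2 3 (by omega)]; exact h.snd.pos,
    fun h0 => by omega, fun l' hl' => ?_⟩
  obtain rfl : l = l' := by omega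
  rw [hc.2 0 (by omega), hc.2 1 (by omega), hc.2 2 (by omega), hc.2 3 (by omega), DC.rep_zero,
    h.snd.zero]
  simpa [RC] using hl

theorem upto_bd (h : D.Hyp H φ g) (hi : D.M.Inj φ) {i : ℕ}
    (hu : D.Upto H φ g i) {T : List (List ℕ)} {ct : ℕ → ℕ → ℕ}
    (hT : ∀ l < D.nl, D.chkTr l (nth [] T l) (ct l) = true) {L : List DC.Live} {LV : ℕ}
    {r0 : List (List ℕ)} (hLV : Nat.beq (DC.liveSet L) LV = true)
    (h0 : allF D.nl (fun l => and2 (lt (D.iv l) D.nl) (D.chkRow i LV 0 l [0] (nth [] r0 l))) = true)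
    (hL : allL L (D.chkLive i LV T) = true) {N : ℕ} (hN : Nat.beq (D.total L) N = true) {m : ℕ}
    (hH : Bd H m) : Bd (h.snd.sub ⊔ Subgroup.closure (g '' Set.Iio D.nl)) (N * m) := by
  have s := h.snd
  rw [nbeq] at hLV hN
  simp only [allF_true, allL_true, and2_true, lt_true, DC.chkLive, DC.chkTr, lit_eq, memL_true]
    at hT h0 hL
  let X : Set G := {x | ∃ k, ∃ q < D.M.n, tb LV k = true ∧ RC H x (D.rep φ g k * φ q)}
  have x0 : tb LV 0 = true := by
    rw [← hLV]; clear hLV hL hN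
    induction L with
    | nil => rfl
    | cons a L ih => exact (tb_sb _ _ _).2 (Or.inl ih)
  have x1 : (1 : G) ∈ X :=
    ⟨0, 0, s.pos, x0, by rw [DC.rep_zero, s.zero, mul_one]; exact RC.refl _ _⟩
  have x2 : ∀ x ∈ X, ∀ y ∈ s.sub, x * y ∈ X := by
    rintro x ⟨k, q, a1, a2, a3⟩ _ ⟨c, hc, rfl⟩
    exact ⟨k, _, s.mul_lt _ a1 _ hc, a2, by
      rw [s.map_mul _ a1 _ hc, ← mul_assoc]; exact a3.mul _⟩
  have x3 : ∀ x ∈ X, ∀ l < D.nl, x * g l ∈ X := by
    rintro x ⟨k, q, a1, a2, a3⟩ l hl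
    rcases DC.tb_liveSet (hLV ▸ a2) with rfl | ⟨a, ha, rfl⟩
    · obtain ⟨k', q', b1, b2, b3⟩ := DC.chkRow_spec hu _ _ (h0 l hl).2 0 (by simp)
      refine ⟨k', q', b1, b2, ((a3.trans ?_).mul _).trans b3⟩
      rw [DC.rep_zero, s.zero, one_mul, one_mul]
      simpa [RC] using h.mem _ a1
    · obtain ⟨⟨c1, c2⟩, c3⟩ := hT l hl q a1
      obtain ⟨k', q', b1, b2, b3⟩ := DC.chkRow_spec hu _ _ ((hL a ha).1 l hl) _ c1
      have c4 := h.al l _ (s.mul_lt _ (s.inv_lt _ c2) _ a1) c3
      rw [s.map_mul _ (s.inv_lt _ c2) _ a1, s.map_inv _ c2] at c4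
      refine ⟨k', _, s.mul_lt _ b1 _ c3, b2, (a3.mul _).trans ?_⟩
      rw [s.map_mul _ b1 _ c3]
      refine (b3.mul _).congr ?_ (mul_assoc _ _ _)
      rw [mul_assoc, ← c4]; group
  have x4 : ∀ y ∈ s.sub ⊔ Subgroup.closure (g '' Set.Iio D.nl), ∀ x ∈ X, x * y ∈ X := by
    intro y hy
    rw [← Subgroup.closure_eq s.sub, ← Subgroup.closure_union] at hy
    induction hy using Subgroup.closure_induction_right with
    | one => simp
    | mul_right y _ z hz ih =>
      intro x hx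
      rw [← mul_assoc]
      rcases hz with hz | ⟨l, hl, rfl⟩
      · exact x2 _ (ih x hx) _ hz
      · exact x3 _ (ih x hx) _ hl
    | mul_inv_cancel y _ z hz ih =>
      intro x hx
      rw [← mul_assoc]
      rcases hz with hz | ⟨l, hl, rfl⟩
      · exact x2 _ (ih x hx) _ (s.sub.inv_mem hz)
      · rw [← h.iv]; exact x3 _ (ih x hx) _ (h0 l hl).1
  have := s.bd.1
  have key : ∀ L' : List DC.Live, (∀ a ∈ L', a ∈ L) → ∃ Y : Set (G ⧸ H), Y.Finite ∧
      Y.ncard ≤ D.total L' ∧ ((1 : G) : G ⧸ H) ∈ Y ∧ ∀ a ∈ L',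
        MulAction.orbit s.sub (((D.rep φ g a.j)⁻¹ : G) : G ⧸ H) ⊆ Y := by
    intro L'
    induction L' with
    | nil => exact fun _ => ⟨{((1 : G) : G ⧸ H)}, Set.finite_singleton _,
        by simp [DC.total], rfl, by simp⟩
    | cons a L' ih =>
      intro hL'
      obtain ⟨Y, y1, y2, y3, y4⟩ := ih fun b hb => hL' b (by simp [hb])
      obtain ⟨S, s1, s2⟩ := DC.chkSt_spec h hu a.st 1 {0}
        (fun c => by rw [tb_eq, Nat.testBit_one_eq_true_iff_self_eq_zero, Finset.mem_singleton])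
        (fun c hc => by
          rw [Finset.mem_singleton.1 hc, s.zero, mul_one]; exact ⟨s.pos, RC.refl _ _⟩)
        (hL a (hL' a (by simp))).2
      have hs : 0 < S.card := by
        have : ∀ (l : List (ℕ × ℕ)) (m c : ℕ), 0 < c → D.chkSt i a.j a.s l m c = true → 0 < a.s := by
          intro l
          induction l with
          | nil => exact fun m c hc h1 => nbeq.1 h1 ▸ hc
          | cons b l ih2 =>
            intro m c _ h1
            change and2 _ (and2 _ (seqN _ fun m' => D.chkSt i a.j a.s l m' (c + 1))) = true at h1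
            simp only [and2_true, seqN_eq] at h1
            exact ih2 _ _ (Nat.succ_pos c) h1.2.2
        exact s1 ▸ this _ _ _ Nat.one_pos (hL a (hL' a (by simp))).2
      refine ⟨_ ∪ Y, (Set.finite_range _).union y1,
        (Set.ncard_union_le _ _).trans (Nat.add_le_add (s1 ▸ ncard_orb s hi s2 hs) y2),
        Or.inr y3, fun b hb => ?_⟩
      rcases List.mem_cons.1 hb with rfl | hb
      · exact Set.subset_union_left
      · exact (y4 b hb).trans Set.subset_union_right
  obtain ⟨Y, y1, y2, y3, y4⟩ := key L fun _ h => h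
  refine (DC.bd_of_set y1 (fun x hx => ?_) hH).mono (Nat.mul_le_mul_right _ (hN ▸ y2))
  obtain ⟨k, q, a1, a2, a3⟩ := x4 _ (Subgroup.inv_mem _ hx) 1 x1
  rw [one_mul] at a3
  rcases DC.tb_liveSet (hLV ▸ a2) with rfl | ⟨a, ha, rfl⟩
  · rw [DC.rep_zero, one_mul] at a3
    have : x ∈ H := by
      have := H.mul_mem a3 (h.mem _ a1)
      simpa using this
    rwa [← QuotientGroup.eq.2 (show (1 : G)⁻¹ * x ∈ H by simpa using this)]
  · refine y4 a ha ⟨⟨(φ q)⁻¹, s.sub.inv_mem (s.mem a1)⟩, ?_⟩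
    rw [← inv_inv x, DC.rc_iff.1 a3, mul_inv_rev]; rfl

end

/-- A subgroup of a product that is not larger than the first factor and maps onto it is the
graph of a homomorphism. -/
theorem exists_hom_of_bd {S G : Type*} [Group S] [Group G] {X : Subgroup (S × G)}
    (h : Bd X (Nat.card S)) (hs : X.map (MonoidHom.fst S G) = ⊤) :
    ∃ J : S →* G, ∀ x ∈ X, J x.1 = x.2 := by
  have := h.1
  let f : X →* S := (MonoidHom.fst S G).comp X.subtype
  have f1 : Function.Surjective f := fun a => by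
    obtain ⟨x, hx, rfl⟩ : a ∈ X.map (MonoidHom.fst S G) := hs ▸ Subgroup.mem_top a
    exact ⟨⟨x, hx⟩, rfl⟩
  have : Finite S := Finite.of_surjective f f1
  have f2 : Function.Bijective f := (Nat.bijective_iff_surjective_and_card f).2
    ⟨f1, le_antisymm h.2 (Nat.card_le_card_of_surjective f f1)⟩
  refine ⟨((MonoidHom.snd S G).comp X.subtype).comp (MulEquiv.ofBijective f f2).symm.toMonoidHom,
    fun x hx => ?_⟩
  have := (MulEquiv.ofBijective f f2).symm_apply_apply ⟨x, hx⟩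
  exact congrArg (fun y : X => y.1.2) this

end H11.C3
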