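import Mathlib
import Cfsg.Agent.H11.C3K0

set_option autoImplicit false
set_option maxRecDepth 100000
set_option Elab.async false
set_option linter.all false

namespace H11.C3M0

open H29

noncomputable def nl : List Net := [C3K0.n0, C3K0.n1, C3K0.n2, C3K0.n3, C3K0.n4, C3K0.n5, C3K0.n6, C3K0.n7, C3K0.n8, C3K0.n9, C3K0.n10, C3K0.n11, C3K0.n12, C3K0.n13, C3K0.n14, C3K0.n15]
def ivl : List ℕ := [1, 0, 3, 2, 5, 4, 7, 6, 9, 8, 11, 10, 13, 12, 14, 15]
theorem hn : NetsOK 276 (nth Net.nil nl) := netsOK_of_all (by decide +kernel)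
theorem hiv : IvOK (sg (nth Net.nil nl)) (ivOf ivl) :=
  ivOK_of_chk (k := 9) hn (by decide) (n := 16) (by decide) (by decide) (allN_true.1 (by decide +kernel))

end H11.C3M0
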