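import Mathlib
import Cfsg.Agent.H11.C3A
import Cfsg.Agent.H7.SmallTools
import Cfsg.Agent.H2.Cores

/-! A standard subgroup `2.Sp₆(2)` of a locally balanced simple group is an involution
centraliser. -/

set_option autoImplicit false
set_option maxRecDepth 100000

namespace H11.C3

open H29 H7.Cay H9.MX C3BT C3BD C3AD Subgroup

theorem eq_of_core {N : Type*} [Group N] [Finite N] (hO : Cfsg.pPrimeCore 2 N = ⊥) {C : Subgroup N}
    [hC : C.Normal] {z : N} (hz : z ∈ C) (zc : ∀ g, g * z = z * g) (z2 : z * z = 1)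
    (h : ∀ u ∈ C, u ^ 2 ^ 2 = 1 → u = 1 ∨ u = z) : ∀ u ∈ C, u = 1 ∨ u = z := by
  let Z : Subgroup C := zpowers ⟨z, hz⟩
  have Zc : ∀ a ∈ Z, ∀ g, g * a = a * g := by
    rintro _ ⟨n, rfl⟩ g
    exact Commute.zpow_right (Subtype.ext (zc g)) n
  have Z2 : ∀ a ∈ Z, a * a = 1 := by
    rintro _ ⟨n, rfl⟩
    rw [← (Commute.refl _).mul_zpow, show (⟨z, hz⟩ : C) * ⟨z, hz⟩ = 1 from Subtype.ext z2, one_zpow]
  have : Z.Normal := ⟨fun a ha g => by rwa [Zc a ha, mul_inv_cancel_right]⟩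
  have h1 : ¬ 2 ∣ Z.index := fun h2 => by
    obtain ⟨x, hx⟩ := exists_prime_orderOf_dvd_card' (G := C ⧸ Z) 2 h2
    induction x using QuotientGroup.induction_on with
    | H u =>
      have h3 := pow_orderOf_eq_one (u : C ⧸ Z)
      rw [hx, ← QuotientGroup.mk_pow, QuotientGroup.eq_one_iff] at h3
      have h4 : u ∈ Z := by
        rcases h u u.2 (by
          rw [pow_two 2, pow_mul, pow_two]; exact congrArg Subtype.val (Z2 _ h3)) with e | e
        · rw [show u = 1 from Subtype.ext e]; exact one_mem _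
        · rw [show u = ⟨z, hz⟩ from Subtype.ext e]; exact mem_zpowers _
      rw [(QuotientGroup.eq_one_iff u).2 h4, orderOf_one] at hx
      omega
  have h2 : Z.index.Coprime 2 := ((Nat.Prime.coprime_iff_not_dvd Nat.prime_two).2 h1).symm
  obtain ⟨O, hZO⟩ := exists_right_complement'_of_coprime (N := Z) (Nat.Coprime.coprime_dvd_left
    (by rw [Nat.card_zpowers]; exact orderOf_dvd_of_pow_eq_one (by
      rw [pow_two]; exact Z2 _ (mem_zpowers _))) h2.symm)
  let S : Set N := {x | ∃ u ∈ C, u * u = x}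
  have h3 : closure S ≤ O.map C.subtype := (closure_le _).2 (by
    rintro _ ⟨u, hu, rfl⟩
    obtain ⟨⟨a, o⟩, e⟩ := hZO.2 ⟨u, hu⟩
    refine ⟨o * o, mul_mem o.2 o.2, ?_⟩
    change _ = C.subtype (⟨u, hu⟩ * ⟨u, hu⟩)
    rw [← e]
    change _ = C.subtype (a * o * (a * o))
    rw [mul_assoc, ← mul_assoc (o : C), Zc a a.2 o, ← mul_assoc, ← mul_assoc, Z2 a a.2, one_mul])
  have h4 : (closure S).Normal := ⟨fun x hx g => (?_ : closure S ≤ (closure S).comap
    (MulAut.conj g).toMonoidHom) hx⟩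
  · have h5 := H2.le_pPrimeCore h4 (p := 2) (Nat.Coprime.coprime_dvd_left (card_dvd_of_le h3) (by
      rwa [card_map_of_injective C.subtype_injective, ← hZO.symm.index_eq_card]))
    intro u hu
    refine h u hu ?_
    rw [hO, le_bot_iff, eq_bot_iff_forall] at h5
    rw [pow_two 2, pow_mul, pow_two u, h5 _ (subset_closure ⟨u, hu, rfl⟩), one_pow]
  · refine (closure_le _).2 ?_
    rintro _ ⟨u, hu, rfl⟩
    exact subset_closure ⟨_, hC.conj_mem u hu g, conj_mul⟩

variable {G : Type*} [Group G] {j : K →* G} {g h u : G} {k m : K}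

/-- `g` acts on the image of `j` as `k`. -/
def Ac (j : K →* G) (g : G) (k : K) : Prop := ∀ l, g * j l * g⁻¹ = j (k * l * k⁻¹)

theorem Ac.mul (h1 : Ac j g k) (h2 : Ac j h m) : Ac j (g * h) (k * m) := fun l => by
  rw [show k * m * l * (k * m)⁻¹ = k * (m * l * m⁻¹) * k⁻¹ by group, ← h1, ← h2]; group
theorem Ac_j (k : K) : Ac j (j k) k := fun l => by simp
theorem Ac.congr (h1 : Ac j g k) (e : q k = q m) : Ac j g m := fun l => by rw [h1, q_conj e]
theorem Ac.comm (h1 : Ac j g k) (e : k * m = m * k) : g * j m = j m * g := by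
  rw [← mul_inv_eq_iff_eq_mul, h1, e, mul_inv_cancel_right]
theorem Ac_z : Ac j (j (φ 1)) 1 := (Ac_j _).congr (q_z.trans q.map_one.symm)
theorem Ac.conj (h1 : Ac j g k) (m : K) : Ac j (j m * g * (j m)⁻¹) (m * k * m⁻¹) :=
  map_inv j m ▸ ((Ac_j m).mul h1).mul (Ac_j m⁻¹)

/-- The situation of a standard subgroup. -/
structure St (j : K →* G) : Prop where
  inj : Function.Injective j
  act : ∀ g, g * j (φ 1) = j (φ 1) * g → ∃ k, Ac j g k
  tight : ∀ u g, Ac j u 1 → u * u = 1 → u ≠ 1 → Ac j (g * u * g⁻¹) 1 → g * j (φ 1) = j (φ 1) * g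

/-- The conjugate of the central involution by `h` is a different commuting involution. -/
def Pr (j : K →* G) (h : G) : Prop :=
  h * j (φ 1) * h⁻¹ * j (φ 1) = j (φ 1) * (h * j (φ 1) * h⁻¹) ∧ h * j (φ 1) ≠ j (φ 1) * h

theorem Pr.symm (p : Pr j h) : Pr j h⁻¹ :=
  ⟨by rw [← mul_left_inj h⁻¹, ← mul_right_inj h]; convert p.1.symm using 1 <;> group,
    fun e => p.2 (Commute.inv_left_iff.1 e)⟩

theorem jz2 : j (φ 1) * j (φ 1) = 1 := by rw [← map_mul, z_sq, map_one]
theorem jzc (k : K) : j k * j (φ 1) = j (φ 1) * j k := by rw [← map_mul, z_comm, map_mul]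

namespace St
variable (S : St j)
include S

theorem z1 : j (φ 1) ≠ 1 := fun e => φ_ne (by norm_num) one_ne_zero (S.inj (e.trans j.map_one.symm))

theorem q_of (h1 : Ac j g k) (h2 : Ac j g m) : q k = q m :=
  QuotientGroup.eq.2 (mem_center_iff.2 fun l => by
    have := S.inj ((h1 l).symm.trans (h2 l))
    rw [← mul_left_inj m⁻¹, ← mul_right_inj k]
    calc _ = k * l * k⁻¹ := by group
      _ = _ := by rw [this]; group)

theorem q_one_of (h1 : Ac j 1 k) : q k = 1 :=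
  (S.q_of h1 fun l => by simp).trans q.map_one

theorem nk (p : Pr j h) (h1 : Ac j (h * j (φ 1) * h⁻¹) k) : q k ≠ 1 ∧ q (k * k) = 1 :=
  ⟨fun e => p.2 (S.tight _ _ Ac_z jz2 S.z1 (h1.congr (e.trans q.map_one.symm))),
    S.q_one_of (by simpa only [conj_mul, jz2, mul_one, mul_inv_cancel] using h1.mul h1)⟩

theorem img (h1 : Ac j (h⁻¹ * j (φ 1) * h⁻¹⁻¹) k) (e : k * m = m * k) :
    ∃ n, Ac j (h * j m * h⁻¹) n := S.act _ (by
  rw [← mul_left_inj h, ← mul_right_inj h⁻¹]; convert (h1.comm e).symm using 1 <;> group)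

theorem cls (p : Pr j h) (h1 : Ac j (h * j (φ 1) * h⁻¹) k) : IsConj k (φ 2) := by
  obtain ⟨k0, h0⟩ := S.act _ p.symm.1
  obtain ⟨a, b, ha, hb, a2, b2, ab⟩ := exists_q8 (S.nk p.symm h0).1 (S.nk p.symm h0).2
  obtain ⟨a', ha'⟩ := S.img h0 ha
  obtain ⟨b', hb'⟩ := S.img h0 hb
  refine tgt (S.q_of (ha'.mul ha') ?_) (S.q_of (hb'.mul hb') ?_)
    (S.q_of ((ha'.mul hb').mul (ha'.mul hb')) ?_) (S.nk p h1).1 (S.nk p h1).2 <;>
    simpa only [conj_mul, ← map_mul, a2, b2, ab] using h1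

theorem mem0 (p : Pr j h) (h1 : Ac j (h * j (φ 1) * h⁻¹) (φ 2))
    (h0 : Ac j (h⁻¹ * j (φ 1) * h⁻¹⁻¹) (φ 2)) :
    ∃ l, IsConj l (φ 2) ∧ h⁻¹ * j (φ 1) * h⁻¹⁻¹ = j l := by
  have key : ∀ {c}, c < 4608 → M.mul (M.mul c c) c = 0 → ∃ n, Ac j (h * j (φ c) * h⁻¹) n ∧
      q (n * φ 2 * n⁻¹) = q (φ 2) ∧ q (n * n * n) = 1 := fun {c} hc e => by
    obtain ⟨n, hn⟩ := S.img h0 (comm_x hc).symm
    have c1 : c < 9216 := by omega
    refine ⟨n, hn, ?_, S.q_one_of ?_⟩
    · rw [map_mul, map_inv, mul_inv_eq_iff_eq_mul, ← map_mul]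
      exact S.q_of (hn.mul h1) (by simpa only [conj_mul, jzc] using h1.mul hn)
    · simpa only [conj_mul, ← map_mul, ← φ_mul c1 c1, ← φ_mul (mul_lt c1 c1) c1, e, φ0, map_one,
        mul_one, mul_inv_cancel] using (hn.mul hn).mul hn
  obtain ⟨a, a1, a2, a3⟩ := key (c := 256) (by norm_num) (by decide +kernel)
  obtain ⟨b, b1, b2, b3⟩ := key (c := 601) (by norm_num) (by decide +kernel)
  have x2 : φ 2 * φ 2 = 1 := (φ_mul' (by decide +kernel)).trans φ0
  have h2 := (a1.mul b1).mul (a1.mul b1)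
  simp only [conj_mul, ← map_mul, φ_mul' (a := 256) (b := 601) (c := 238) (by decide +kernel),
    φ_mul' (a := 238) (b := 238) (c := 2) (by decide +kernel)] at h2
  obtain ⟨v, hv, e⟩ := sqV a2 b2 a3 b3 (S.q_one_of (by
    simpa only [conj_mul, ← map_mul, x2, map_one, mul_one, mul_inv_cancel] using h2.mul h2))
  rw [← e] at h2
  obtain ⟨x, x1, x3, x4, x5⟩ : ∃ x, IsConj x (φ 2) ∧ q x = q (φ 2) ∧ x * x = 1 ∧
      Ac j (h * j x * h⁻¹) 1 := by
    have h3 : q (φ v) = q 1 ∨ q (φ 2 * φ v) = q 1 := by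
      interval_cases v
      · exact Or.inl (by rw [φ0])
      · exact Or.inl (q_z.trans q.map_one.symm)
      · exact Or.inr (by rw [x2])
      · exact Or.inr (by rw [φ_mul' (c := 1) (by decide +kernel), q_z, map_one])
    rcases h3 with h3 | h3
    · exact ⟨_, IsConj.refl _, rfl, x2, h2.congr h3⟩
    · refine ⟨_, conj_zx, by rw [map_mul, q_z, one_mul], by
        rw [mul_assoc, ← mul_assoc (φ 2), z_comm, mul_assoc, x2, mul_one, z_sq], ?_⟩
      simpa only [conj_mul, ← map_mul] using (h1.mul h2).congr h3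
  have h3 := h0.congr x3.symm
  refine ⟨x, x1, ?_⟩
  by_contra h4
  refine p.2 (S.tight (j x * (h⁻¹ * j (φ 1) * h⁻¹⁻¹)) h (x4 ▸ (Ac_j x).mul h3) ?_ (fun e => h4 ?_) ?_)
  · rw [mul_assoc, ← mul_assoc _ (j x), h3.comm rfl, mul_assoc, conj_mul, jz2, mul_one,
      mul_inv_cancel, mul_one, ← map_mul, x4, map_one]
  · rw [eq_inv_of_mul_eq_one_right e, ← map_inv, inv_eq_of_mul_eq_one_left x4]
  · convert x5.mul Ac_z using 1 <;> group

theorem mem (p : Pr j h) : ∃ l, IsConj l (φ 2) ∧ h * j (φ 1) * h⁻¹ = j l := by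
  obtain ⟨k1, h1⟩ := S.act _ p.1
  obtain ⟨k0, h0⟩ := S.act _ p.symm.1
  obtain ⟨m1, e1⟩ := isConj_iff.1 (S.cls p h1)
  obtain ⟨m0, e0⟩ := isConj_iff.1 (S.cls p.symm h0)
  have c : ∀ (a b : K) (g : G), j a * g * (j b)⁻¹ * j (φ 1) * (j a * g * (j b)⁻¹)⁻¹ =
      j a * (g * j (φ 1) * g⁻¹) * (j a)⁻¹ := fun a b g => by
    rw [mul_assoc (j a * g), ← map_inv, jzc, map_inv]; group
  have d : (j m0 * h⁻¹ * (j m1)⁻¹)⁻¹ = j m1 * h * (j m0)⁻¹ := by group
  obtain ⟨l, l1, l2⟩ := S.mem0 (h := j m0 * h⁻¹ * (j m1)⁻¹) ⟨by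
      rw [c, mul_assoc, mul_assoc, ← map_inv, jzc, ← mul_assoc _ (j (φ 1)), p.symm.1, ← mul_assoc,
        ← mul_assoc, jzc]; group, fun e => p.symm.2 (by
      rw [mul_assoc, ← map_inv, jzc, ← mul_assoc, ← mul_assoc, mul_left_inj, ← mul_assoc, ← jzc,
        mul_assoc, mul_assoc, mul_right_inj] at e
      exact e)⟩ (by rw [c, ← e0]; exact h0.conj m0) (by rw [d, c, ← e1]; exact h1.conj m1)
  rw [d, c] at l2
  exact ⟨m1⁻¹ * l * m1, (isConj_iff.2 ⟨m1, by group⟩).trans l1, by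
    rw [map_mul, map_mul, map_inv, ← l2]; group⟩

theorem two0 (p : h * j (φ 1) ≠ j (φ 1) * h) : ∀ (n : ℕ) {u : G}, Ac j u 1 → Ac j (h * u * h⁻¹) 1 →
    u ^ 2 ^ n = 1 → u = 1
  | 0, _, _, _, e => by simpa using e
  | n + 1, u, h1, h2, e => by_contra fun h3 => p (S.tight u h h1 (two0 p n
      (by simpa only [mul_one] using h1.mul h1) (by simpa only [mul_one, conj_mul] using h2.mul h2)
      (by rwa [← pow_two, ← pow_mul, ← pow_succ'])) h3 h2)

theorem two (p : Pr j h) (h1 : Ac j u 1) (h2 : u ^ 2 ^ 2 = 1) : u = 1 ∨ u = j (φ 1) := by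
  obtain ⟨l, l1, l2⟩ := S.mem p
  obtain ⟨m, hm⟩ := isConj_iff.1 l1
  obtain ⟨g, hg⟩ : ∃ g, g * j (φ 1) * g⁻¹ = j (φ 2) :=
    ⟨j m * h, by rw [← hm, map_mul, map_mul, map_inv, ← l2]; group⟩
  have g1 : g * j (φ 1) ≠ j (φ 1) * g := fun e => by
    rw [e, mul_inv_cancel_right] at hg
    exact absurd (C3.inj (by norm_num) (by norm_num) (S.inj hg)) (by norm_num)
  have key : ∀ {a : G} {c}, c < 4608 → a * j (φ 1) * a⁻¹ = j (φ c) →
      g * u * g⁻¹ * j (φ c) = j (φ c) * (g * u * g⁻¹) := fun {a c} hc e => by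
    obtain ⟨l, hl⟩ : ∃ l, g⁻¹ * a * j (φ 1) * (g⁻¹ * a)⁻¹ = j l := by
      by_cases h3 : g⁻¹ * a * j (φ 1) = j (φ 1) * (g⁻¹ * a)
      · exact ⟨_, by rw [h3, mul_inv_cancel_right]⟩
      · refine (S.mem ⟨?_, h3⟩).imp fun _ => And.right
        have := congrArg j (comm_x hc)
        rw [map_mul, map_mul, ← hg, ← e] at this
        rw [← mul_left_inj g⁻¹, ← mul_right_inj g]
        convert this using 1 <;> group
    have := h1.comm (m := l) (by simp)
    rw [← hl] at this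
    rw [← e, ← mul_left_inj g, ← mul_right_inj g⁻¹]
    convert this using 1 <;> group
  obtain ⟨n, hn⟩ := S.act _ (key (a := 1) (c := 1) (by norm_num) (by simp))
  obtain ⟨v, hv, rfl⟩ := cent_I (k := n) fun c hc => by
    have c1 : c < 4608 := by clear * - hc; revert c; decide
    obtain ⟨m, hm⟩ : ∃ m, m * φ 2 * m⁻¹ = φ c := by
      refine isConj_iff.1 (IsConj.symm ?_)
      have := code_class (c := c) (by omega) ((φ_mul' (by
        clear * - hc; revert c; decide +kernel)).trans φ0)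
      refine ((this.resolve_left ?_).resolve_left ?_).resolve_right fun e => absurd e.1 ?_ <;>
        (clear * - hc; revert c; decide +kernel)
    have := key (a := j m * g) c1 (by rw [← hm, map_mul, map_mul, map_inv, ← hg]; group)
    exact mul_inv_eq_iff_eq_mul.1 (S.inj (by rw [← hn, this, mul_inv_cancel_right]))
  have h3 : q (φ v) = q 1 ∨ q (φ v * φ 2) = q 1 := by
    interval_cases v
    · exact Or.inl (by rw [φ0])
    · exact Or.inl (q_z.trans q.map_one.symm)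
    · exact Or.inr (by rw [φ_mul' (c := 0) (by decide +kernel), φ0])
    · exact Or.inr (by rw [φ_mul' (c := 1) (by decide +kernel), q_z, map_one])
  refine h3.imp (fun e => S.two0 g1 2 h1 (hn.congr e) h2) fun e => ?_
  have := S.two0 g1 2 (u := u * j (φ 1)) (by simpa only [mul_one] using h1.mul Ac_z)
    (by simpa only [← hg, conj_mul] using (hn.mul (Ac_j _)).congr e) (by
      rw [Commute.mul_pow (h1.comm (by simp)), h2, pow_two 2, pow_mul, pow_two (j _), jz2]; simp)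
  rw [eq_inv_of_mul_eq_one_left this, inv_eq_of_mul_eq_one_left jz2]

theorem fr [Finite G] (p : Pr j h) (hO : Cfsg.centralizerPPrimeCore 2 (j (φ 1)) = ⊥) : Fr j := by
  refine ⟨S.inj, fun g hg => ?_⟩
  obtain ⟨k, hk⟩ := S.act g hg.symm
  let N := centralizer ({j (φ 1)} : Set G)
  let C := (centralizer (j.range : Set G)).subgroupOf N
  have hC : ∀ u : N, u ∈ C ↔ Ac j u 1 := fun u => ⟨fun h l => by
    rw [← show j l * u = u * j l from h _ ⟨l, rfl⟩]; simp, by rintro h _ ⟨l, rfl⟩; exact (h.comm (by simp)).symm⟩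
  have : C.Normal := ⟨fun u hu g => (hC _).2 (by
    obtain ⟨m, hm⟩ := S.act g (mem_centralizer_singleton_iff.1 g.2)
    obtain ⟨n, hn⟩ := S.act g⁻¹ (mem_centralizer_singleton_iff.1 g⁻¹.2)
    exact ((hm.mul ((hC u).1 hu)).mul hn).congr ((S.q_one_of (by
      simpa using hm.mul hn)).trans q.map_one.symm))⟩
  have h1 := Ac.mul (Ac_j k⁻¹) hk
  rw [inv_mul_cancel] at h1
  have h2 := eq_of_core ((map_eq_bot_iff_of_injective _ N.subtype_injective).1 hO) (C := C)
    (z := ⟨j (φ 1), mem_centralizer_singleton_iff.2 rfl⟩) ((hC _).2 Ac_z)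
    (fun g => Subtype.ext (mem_centralizer_singleton_iff.1 g.2)) (Subtype.ext jz2)
    (fun u hu e => (S.two p ((hC u).1 hu) (congrArg Subtype.val e)).imp Subtype.ext Subtype.ext)
    ⟨_, mem_centralizer_singleton_iff.2 (h1.comm (by simp))⟩ ((hC _).2 h1)
  simp only [Subtype.ext_iff, map_inv, coe_one, inv_mul_eq_iff_eq_mul, mul_one] at h2
  exact h2.elim (fun e => ⟨k, e.symm⟩) fun e => ⟨k * φ 1, by rw [e, map_mul]⟩

end St

theorem exists_st [Finite G] {L : Subgroup G} (hL : Cfsg.IsStandardSubgroup L)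
    (hC : Cfsg.IsNonsplitDoubleCover L (Matrix.symplecticGroup (Fin 3) (ZMod 2))) :
    ∃ j : K →* G, St j := by
  obtain ⟨e, -⟩ := exists_equiv' hC
  have := hL.1.1
  have hp : Group.IsPerfect K := Group.IsPerfect.ofSurjective (f := e.symm.toMonoidHom) e.symm.surjective
  have hK : ∀ u, Ac (L.subtype.comp e.toMonoidHom) u 1 ↔ u ∈ centralizer (L : Set G) := fun u =>
    ⟨fun h x hx => by simpa using (h.comm (m := e.symm ⟨x, hx⟩) (by simp)).symm,
      fun h l => mul_inv_eq_iff_eq_mul.2 (by simpa using (h _ (e l).2).symm)⟩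
  have act : ∀ g ∈ normalizer (L : Set G), ∃ k, Ac (L.subtype.comp e.toMonoidHom) g k := fun g hg => by
    obtain ⟨m, hm⟩ := aut_inner hp.1 ((e.trans (L.normalizerMonoidHom ⟨g, hg⟩)).trans e.symm)
    exact ⟨m, fun l => by rw [← hm]; simp⟩
  have tig : ∀ u g, Ac (L.subtype.comp e.toMonoidHom) u 1 → u * u = 1 → u ≠ 1 →
      Ac (L.subtype.comp e.toMonoidHom) (g * u * g⁻¹) 1 → g ∈ normalizer (L : Set G) :=
    fun u g hu h2 h1 h => by
      rw [hL.2.2.2]
      by_contra h3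
      have h4 : g * u * g⁻¹ ∈ centralizer (L : Set G) ⊓
        (centralizer (L : Set G)).map (MulAut.conj g).toMonoidHom := ⟨(hK _).1 h, u, (hK _).1 hu, rfl⟩
      have h5 := orderOf_dvd_natCard _ h4
      rw [H6.orderOf_eq_two_of (by simp [h2]) (by simpa using h1)] at h5
      exact (hL.2.1.2 g h3).not_two_dvd_nat h5
  have inj : Function.Injective (L.subtype.comp e.toMonoidHom) :=
    Subtype.val_injective.comp e.injective
  refine ⟨_, inj, fun g hg => act g (tig _ g Ac_z jz2 (fun e => φ_ne (by norm_num) one_ne_zero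
    (inj (e.trans (map_one _).symm))) (by rw [hg, mul_inv_cancel_right]; exact Ac_z)),
    fun u g a b c d => ?_⟩
  obtain ⟨k, hk⟩ := act g (tig u g a b c d)
  exact hk.comm (z_comm k)

/-- A standard subgroup `2.Sp₆(2)` in a locally balanced simple group. -/
theorem iso_of_std [Finite G] [IsSimpleGroup G] (hG : ¬ IsMulCommutative G)
    (hbal : ∀ t : G, orderOf t = 2 → Cfsg.centralizerPPrimeCore 2 t = ⊥) {L : Subgroup G}
    (hL : Cfsg.IsStandardSubgroup L) {F : Type*} [Field F] [Fintype F] (hF : Fintype.card F = 2)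
    (h1 : Nat.card (center L) = 2) (h2 : Nonempty (L ⧸ center L ≃* Cfsg.PSp 3 F)) :
    Nonempty (G ≃* Cfsg.Spor.Co3) := by
  obtain ⟨e1⟩ := h2
  obtain ⟨e2⟩ := H7.nonempty_ringEquiv_zmod 2 hF
  obtain ⟨e3⟩ := C3S.iso
  have := C3S.simple
  have h3 : center C3S.S = ⊥ := (IsSimpleGroup.eq_bot_or_eq_top_of_normal _ inferInstance).resolve_right
    fun e => by
      let _ : CommGroup C3S.S := ⟨fun a b => mem_center_iff.mp (e ▸ mem_top b) a⟩
      have := IsSimpleGroup.prime_card (α := C3S.S)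
      rw [C3S.card] at this
      norm_num at this
  obtain ⟨j, S⟩ := exists_st hL ⟨h1, ⟨e1.trans ((H7.quotCenterCongr ((H7.spCongr e2).trans
    e3.symm)).trans ((QuotientGroup.quotientMulEquivOfEq h3).trans
      (QuotientGroup.quotientBot.trans e3)))⟩, fun M hM => by
    have h4 : M.index = 2 := hM.index_eq_card.trans h1
    have := normal_of_index_eq_two h4
    have h5 : commutator L ≤ M := by
      have : IsCyclic (L ⧸ M) := isCyclic_of_prime_card (p := 2) h4
      exact (Subgroup.Normal.quotient_commutative_iff_commutator_le).1 IsCyclic.isMulCommutative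
    rw [hL.1.1.1, top_le_iff] at h5
    rw [h5, index_top] at h4
    omega⟩
  have hz := H6.orderOf_eq_two_of jz2 S.z1
  have hO : Cfsg.pPrimeCore 2 G = ⊥ := by
    refine (IsSimpleGroup.eq_bot_or_eq_top_of_normal _ inferInstance).resolve_right fun h1 => ?_
    have h2 := H17.odd_card_pPrimeCore (G := G)
    rw [h1, card_top] at h2
    exact h2.not_two_dvd_nat (hz ▸ orderOf_dvd_natCard _)
  have hZ : center G = ⊥ := (IsSimpleGroup.eq_bot_or_eq_top_of_normal _ inferInstance).resolve_right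
    fun e => hG ⟨⟨fun a b => mem_center_iff.mp (e ▸ mem_top b) a⟩⟩
  obtain ⟨h, p⟩ : ∃ h, Pr j h := by
    by_contra h
    exact S.z1 (mem_bot.1 (hZ ▸ mem_center_iff.2 fun g => (H17.zstar_central hO ⟨hz, fun g hg =>
      by_contra fun e => h ⟨g, hg.symm, fun e' => e (by rw [e', mul_inv_cancel_right])⟩⟩ g).symm))
  exact (S.fr p (hbal _ hz)).iso hO hZ

end H11.C3
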