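import Mathlib
import Cfsg.Agent.H11.HsM

/-!
# Facts about the Sylow `2`-subgroup of the Higman-Sims group
-/

set_option autoImplicit false
set_option maxRecDepth 100000
set_option synthInstance.maxSize 4000
set_option Elab.async false

namespace H11.Hs

open H29

def z0 : S0 := el 2
def u0 : S0 := el 8
def v0 : S0 := el 32
def i0 : S0 := el 1
def a2 : S0 := el 4
def a3 : S0 := el 16
def b0 : S0 := el 107
def t0 : S0 := el 140
def s0 : S0 := el 361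
def e4 : S0 := el 69

/-- the class number of an involution -/
def cl (s : S0) : ℕ := lk (nat_lit 0x99999999999999999999999999999999999999999999999999999999999999999999999999999999999999999999999999999999999999999999999999999999999998989999898999995959999995959999989899998989999959599999959589899999989899999999959599995959989899998989999999995959999995959999999999999999676799996767999999999999999999999999767699997676999999999999999999999999999999999999999999999999767676767676767699999999999999999494393994943939999999999999999949499393494993939999999999999999999992929999929299999999999999999999919199999099) 4 15 s.n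

/-- representatives of the classes of involutions -/
noncomputable def rp (k : ℕ) : S0 := el (nth 0 [2, 8, 32, 107, 69, 361, 140, 143, 277] k)

/-- involutions -/
def Iv (s : S0) : Prop := Nat.blt (cl s) 9 = true

instance (s : S0) : Decidable (Iv s) := inferInstanceAs (Decidable (_ = true))

noncomputable instance decIv (p : S0 → Prop) [DecidablePred p] : Decidable (∀ s, Iv s → p s) :=
  decL Iv [2, 8, 10, 32, 34, 40, 42, 64, 66, 69, 71, 72, 74, 77, 79, 97, 99, 100, 102, 105, 107, 108, 110, 128, 129, 130, 131, 132, 133, 134, 135, 136, 137, 138, 139, 140, 141, 142, 143, 192, 193, 194, 195, 200, 201, 202, 203, 228, 229, 230, 231, 236, 237, 238, 239, 256, 258, 265, 267, 277, 279, 284, 286, 289, 291, 296, 298, 308, 310, 317, 319, 320, 322, 329, 331, 337, 339, 344, 346, 352, 354, 361, 363, 369, 371, 376, 378] (by decide +kernel) (by decide +kernel) p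

noncomputable instance (p : S0 → Prop) [DecidablePred p] : Decidable (∃ s, Iv s ∧ p s) :=
  decidable_of_iff (¬ ∀ s, Iv s → ¬ p s) (by simp)

abbrev Z4 : Subgroup S0 := mk 15 (by decide +kernel)
abbrev A0 : Subgroup S0 := mk (nat_lit 0xffffffffffffffff) (by decide +kernel)
abbrev V0 : Subgroup S0 := mk (nat_lit 0x50500000505) (by decide +kernel)
abbrev W0 : Subgroup S0 := mk (nat_lit 0xf0f00000f0f) (by decide +kernel)
abbrev E0 : Subgroup S0 := mk (nat_lit 0xa0a000000000000000000000505000000a0a000000000000000000000505) (by decide +kernel)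
abbrev Q0 : Subgroup S0 := mk (nat_lit 0xf0f00000f0f00000f0f00000f0f0000000000000000000000000000000000000f0f00000f0f00000f0f00000f0f) (by decide +kernel)
abbrev Q2 : Subgroup S0 := mk (nat_lit 0xffffffffffffffffffffffffffffffffffffffffffffffffffffffffffffffff) (by decide +kernel)
abbrev T0 : Subgroup S0 := mk (nat_lit 0xffffffffffffffffffffffffffffffff00000000000000000000000000000000ffffffffffffffffffffffffffffffff) (by decide +kernel)
abbrev Q1 : Subgroup S0 := mk (nat_lit 0xf0f00000f0f0000f0f00000f0f00000000000000000000000000000000000000000f0f00000f0f000000f0f00000f0f) (by decide +kernel)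

theorem card_of (K : Subgroup S0) [DecidablePred (· ∈ K)] :
    Nat.card K = (Finset.univ.filter (· ∈ K)).card := by
  rw [Nat.card_eq_fintype_card, Fintype.card_subtype]

theorem card_Q0 : Nat.card Q0 = 64 := (card_of _).trans (by decide +kernel)
theorem card_Q1 : Nat.card Q1 = 64 := (card_of _).trans (by decide +kernel)
theorem card_V0 : Nat.card V0 = 8 := (card_of _).trans (by decide +kernel)
theorem card_W0 : Nat.card W0 = 16 := (card_of _).trans (by decide +kernel)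
theorem card_Z4 : Nat.card Z4 = 4 := (card_of _).trans (by decide +kernel)

theorem z2 : z0 * z0 = 1 := by decide +kernel
theorem z1 : z0 ≠ 1 := by decide +kernel
theorem zc : ∀ s, s * z0 = z0 * s := by decide +kernel
theorem i2 : i0 * i0 = z0 := by decide +kernel
theorem iv_iff : ∀ s, Iv s ↔ s * s = 1 ∧ s ≠ 1 := by decide +kernel
theorem Iv.lt {s : S0} (h : Iv s) : cl s < 9 := Nat.blt_eq.mp h
theorem iv_of {s : S0} {k : ℕ} (h : cl s = k) (hk : k < 9 := by decide) : Iv s := Nat.blt_eq.mpr (h ▸ hk)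
theorem to_rp : ∀ s, Iv s → ∃ g, g * rp (cl s) * g⁻¹ = s := by decide +kernel
theorem cl0 : ∀ s, cl s = 0 → s = z0 := by decide +kernel
theorem mem_Z4 : ∀ s ∈ Z4, s = 1 ∨ s = z0 ∨ s = i0 ∨ s = i0⁻¹ := by decide +kernel
theorem i_cj : ∀ s, s * i0 * s⁻¹ = i0 ∨ s * i0 * s⁻¹ = i0⁻¹ := by decide +kernel
theorem mem_V : ∀ s, s ∈ V0 ↔ s = 1 ∨ cl s ≤ 2 := by decide +kernel
theorem V_A : ∀ s, s ∈ V0 ↔ s ∈ A0 ∧ s * s = 1 := by decide +kernel
theorem A_ab : ∀ s ∈ A0, ∀ t ∈ A0, s * t = t * s := by decide +kernel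
theorem nrm {X : Subgroup S0} [DecidablePred (· ∈ X)] (h : ∀ s ∈ X, ∀ g : S0, g * s * g⁻¹ ∈ X) :
    ∀ g s, s ∈ X → g * s * g⁻¹ ∈ X := fun g s hs => h s hs g
theorem V_n : ∀ g s, s ∈ V0 → g * s * g⁻¹ ∈ V0 := nrm (by decide +kernel)
theorem A_n : ∀ g s, s ∈ A0 → g * s * g⁻¹ ∈ A0 := nrm (by decide +kernel)
theorem Q_n : ∀ g s, s ∈ Q0 → g * s * g⁻¹ ∈ Q0 := nrm (by decide +kernel)
theorem Q1_n : ∀ g s, s ∈ Q1 → g * s * g⁻¹ ∈ Q1 := nrm (by decide +kernel)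

/-- `c` centralises a dihedral group of order `16` not containing it. -/
def P4 (c : S0) : Prop := ∃ d, Iv d ∧ d * c = c * d ∧ ∃ e, Iv e ∧ e * c = c * e ∧
  d * e * (d * e) * (d * e * (d * e)) ≠ 1 ∧ d * e * (d * e) * (d * e * (d * e)) ≠ c

theorem p4_rp : ∀ k < 9, k ≠ 4 → ¬ P4 (rp k) := by unfold P4; decide +kernel
theorem P4.cj {c : S0} (h : P4 c) (g : S0) : P4 (g * c * g⁻¹) := by
  obtain ⟨d, d1, d2, e, e1, e2, h1, h2⟩ := h
  have k1 : ∀ x, Iv x → Iv (g * x * g⁻¹) := fun x hx => (iv_iff _).2 (by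
    obtain ⟨x1, x2⟩ := (iv_iff x).1 hx
    exact ⟨by rw [show g * x * g⁻¹ * (g * x * g⁻¹) = g * (x * x) * g⁻¹ by group, x1]; group,
      fun e => x2 (by simpa using e)⟩)
  have k2 : ∀ x, x * c = c * x → g * x * g⁻¹ * (g * c * g⁻¹) = g * c * g⁻¹ * (g * x * g⁻¹) := fun x hx => by
    rw [show g * x * g⁻¹ * (g * c * g⁻¹) = g * (x * c) * g⁻¹ by group, hx]; group
  refine ⟨_, k1 d d1, k2 d d2, _, k1 e e1, k2 e e2, ?_⟩
  rw [show g * d * g⁻¹ * (g * e * g⁻¹) * (g * d * g⁻¹ * (g * e * g⁻¹)) * (g * d * g⁻¹ * (g * e * g⁻¹) *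
    (g * d * g⁻¹ * (g * e * g⁻¹))) = g * (d * e * (d * e) * (d * e * (d * e))) * g⁻¹ by group]
  exact ⟨fun e => h1 (by simpa using e), fun e => h2 (by simpa using e)⟩
theorem p4_cl {c : S0} (hc : Iv c) (h : P4 c) : cl c = 4 := by
  by_contra hn
  obtain ⟨g, e⟩ := to_rp c hc
  refine p4_rp _ hc.lt hn ?_
  have := h.cj g⁻¹
  rwa [← e, show g⁻¹ * (g * rp (cl c) * g⁻¹) * g⁻¹⁻¹ = rp (cl c) by group] at this
theorem p4_e4 : P4 e4 := ⟨el 132, by decide +kernel, by decide +kernel, el 308, by decide +kernel⟩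
theorem cl_cj {s t : S0} (hs : Iv s) (h : cl t = cl s) : ∃ g, g * s * g⁻¹ = t := by
  obtain ⟨a, e⟩ := to_rp s hs
  obtain ⟨b, e'⟩ := to_rp t (iv_of h hs.lt)
  rw [h] at e'
  generalize rp (cl s) = r at e e'
  exact ⟨b * a⁻¹, by rw [← e', ← e]; group⟩
theorem mem_Q2 : ∀ s, s ∈ Q2 ↔ s * u0 = u0 * s := by decide +kernel
theorem mem_T : ∀ s, s ∈ T0 ↔ s * i0 = i0 * s := by decide +kernel
theorem Q2_n : ∀ g s, s ∈ Q2 → g * s * g⁻¹ ∈ Q2 := nrm (by decide +kernel)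
theorem V_sq : ∀ x ∈ V0, ∃ w ∈ A0, w * w = x := by decide +kernel
theorem CQ : ∀ s, s * u0 = u0 * s → s * el 320 = el 320 * s → s * v0 = v0 * s → s * el 64 = el 64 * s →
    s ∈ Z4 := by decide +kernel
theorem sq_ne4 : ∀ w : S0, cl (w * w) ≠ 4 := by decide +kernel
theorem sq_rp : ∀ k < 4, ∃ w, w * w = rp k := by decide +kernel
theorem sq_cl : ∀ w : S0, w * w * (w * w) = 1 → w * w = 1 ∨ cl (w * w) ≤ 3 := by decide +kernel
theorem cl_z : ∀ w, Iv w → w ≠ z0 → cl (w * z0) = cl w := by decide +kernel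
theorem f2 : ∀ r, Iv r → r ≠ z0 → cl r = 1 ∨ ∃ w, Iv w ∧ (cl w = 1 ∨ cl w = 2 ∧ cl r ≠ 2) ∧ w ≠ r ∧
    w * r = r * w ∧ cl (w * r) = cl r := by decide +kernel
theorem pow4 : ∀ w : S0, w * w * (w * w) = 1 ∨ cl (w * w * (w * w)) ≤ 1 := by decide +kernel
theorem root4 : ∀ x ∈ V0, x ≠ 1 → ∃ w, w * x = x * w ∧ w * w * (w * w) = z0 := by decide +kernel
theorem cl1 : ∀ x, cl x = 1 → ∀ s, s * x = x * s ↔ s * u0 = u0 * s := by decide +kernel
theorem q8a : ∀ y, y * y = z0 → y = i0 ∨ y = i0⁻¹ ∨ ∃ w, w * w = z0 ∧ w * y = y⁻¹ * w := by decide +kernel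
theorem q8b : ∀ w, w * w = z0 → w * i0 = i0 * w := by decide +kernel
theorem Q_dec : ∀ q ∈ Q0, q ∈ Z4 ∨ ∃ p, Iv p ∧ p ∈ Q0 ∧ (q = p ∨ q = i0 * p) := by decide +kernel
theorem T_inv : ∀ p, Iv p → p * i0 = i0 * p → p ∈ Q0 ∨ cl p = 4 ∨ cl p = 8 := by decide +kernel
theorem T_sq : ∀ x, x * i0 = i0 * x → x * x = 1 ∨ x * x = z0 → x ∈ Q0 ∨ x ∈ Q1 := by decide +kernel
theorem QQ : ∀ x ∈ Q0, x ∉ Q1 → ∀ y ∈ Q1, y ∉ Q0 → x * y * (x * y) ≠ 1 ∧ x * y * (x * y) ≠ z0 := by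
  decide +kernel
theorem Q_cm : ∀ p ∈ Q0, (p * p = 1 ∨ p * p = z0) ∧ p * i0 = i0 * p ∧
    ∀ q ∈ Q0, p⁻¹ * (q * p * q⁻¹) = 1 ∨ p⁻¹ * (q * p * q⁻¹) = z0 := by decide +kernel
theorem Q1_cm : ∀ p ∈ Q1, (p * p = 1 ∨ p * p = z0) ∧ p * i0 = i0 * p ∧
    ∀ q ∈ Q1, p⁻¹ * (q * p * q⁻¹) = 1 ∨ p⁻¹ * (q * p * q⁻¹) = z0 := by decide +kernel
theorem Q1_cl : ∀ p, Iv p → (p ∈ Q1 → cl p ≤ 2 ∨ cl p = 4 ∨ cl p = 8) ∧
    (cl p = 4 ∨ cl p = 8 → p ∈ Q1 ∧ p ∉ Q0) ∧ (p ∈ Q0 ↔ cl p ≤ 3 ∨ cl p = 5) := by decide +kernel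
theorem mem_W : ∀ s, (s ∈ W0 ↔ s ∈ Q0 ∧ s ∈ Q1) ∧ (s ∈ W0 → s * s = 1 → s ∈ V0) := by decide +kernel
theorem W_4 : ∀ w ∈ W0, ∃ e, Iv e ∧ cl e = 4 ∧ ∃ f, Iv f ∧ cl f = 4 ∧ w⁻¹ * e * f ∈ Z4 := by decide +kernel
theorem four_W : ∀ e, Iv e → cl e = 4 → ∀ f, Iv f → cl f = 4 → e * f ∈ W0 := by decide +kernel
theorem T_dec : ∀ t, t * i0 = i0 * t → t ∈ Q0 ∨ t * a2 ∈ Q0 ∨ t * a3 ∈ Q0 ∨ t * (a2 * a3) ∈ Q0 := by
  decide +kernel
/-- the action of the elements of `C(i)` outside `Q`. -/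
def Ta (t : S0) : Prop := (∀ q ∈ Q0, (q⁻¹ * (t * q * t⁻¹) ∈ Z4 → q ∈ W0) ∧ q * (t * q * t⁻¹) ∈ W0) ∧
  ∀ w ∈ W0, ∃ q ∈ Q0, w⁻¹ * (q * (t * q * t⁻¹)) ∈ Z4
theorem ta : Ta a2 ∧ Ta a3 ∧ Ta (a2 * a3) := by unfold Ta; decide +kernel
theorem CQ_W : ∀ q ∈ Q0, q * u0 = u0 * q → q * v0 = v0 * q → q ∈ W0 := by decide +kernel
theorem q8c : ∀ k ∈ [3, 5, 8], ∃ w x, w * rp k = rp k * w ∧ x * rp k = rp k * x ∧ w * w = z0 ∧ x * x = z0 ∧
    w * x = x⁻¹ * w := by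
  simp only [List.forall_mem_cons]
  exact ⟨⟨el 9, el 257, by decide +kernel⟩, ⟨el 33, el 73, by decide +kernel⟩,
    ⟨el 41, el 76, by decide +kernel⟩, by simp⟩
theorem q8d : ∀ w : S0, cl (w * w) = 2 ∨ cl (w * w) = 3 → ∀ x, x * x = w * w → w * x ≠ x⁻¹ * w := by
  decide +kernel
theorem c67 : ∀ s, Iv s → cl s = 6 ∨ cl s = 7 → (∃ w, w * s = s * w ∧ cl (w * w) = 1) ∧
    ∀ w, w * s = s * w → w * w ≠ z0 := by decide +kernel
theorem Q2_sq : ∀ w, w * u0 = u0 * w → w * w ∈ A0 ∧ cl w ≠ 5 ∧ cl w ≠ 8 := by decide +kernel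
theorem CV_A : ∀ s, s * u0 = u0 * s → s * v0 = v0 * s → s ∈ A0 := by decide +kernel
theorem third : ∀ a ∈ Q0, ∀ b ∈ Q0, a * u0 = u0 * a ∨ b * u0 = u0 * b ∨ a * b * u0 = u0 * (a * b) := by
  decide +kernel
theorem CE : ∀ t, Iv t → t * i0 ≠ i0 * t → ∀ s, s * t = t * s → (∀ q ∈ Q0, q * t = t * q → s * q = q * s) →
    s ∈ Q0 ∨ s * t ∈ Q0 := by decide +kernel
theorem CQ_t : ∀ q ∈ Q0, q * t0 = t0 * q → q ∈ E0 := by decide +kernel
theorem d16 : ∀ x, Iv x → cl x ≠ 4 → cl x ≤ 6 → ∀ y, Iv y → cl y ≠ 4 → cl y ≤ 6 →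
    x * y * (x * y) * (x * y * (x * y)) = 1 := by decide +kernel

end H11.Hs
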