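import Mathlib
import Cfsg.Agent.H11.HsP0
import Cfsg.Agent.H29.Cert

set_option autoImplicit false
set_option maxRecDepth 100000
set_option Elab.async false
set_option linter.all false

namespace H11.HsPX

open H29

noncomputable def x10 : Net := ben 7 [(nat_lit 0xc291336489ceb6300b863c854),
 (nat_lit 0x6709170b74d6b76bced476f10),
 (nat_lit 0x1a0a7b5035b82a35b0cc4b2a),
 (nat_lit 0x844637de99254e0bd60737),
 (nat_lit 0x18143bac14848cb70000f005),
 (nat_lit 0x40000000b5914a20020299c93),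
 (nat_lit 0x85b94f23e)]
noncomputable def x12 : Net := ben 7 [(nat_lit 0x42da9455cdc58e87a74ade558),
 (nat_lit 0xa287c54760f1dbe012e838480),
 (nat_lit 0x967d5125d21d2f4b3bcc2900),
 (nat_lit 0x64c8380a0c17c2dc14af0074),
 (nat_lit 0x861c7428c072637600003166),
 (nat_lit 0x300000000008809f0f99425c2),
 (nat_lit 0x18cfc6ff2)]
noncomputable def x14 : Net := ben 7 [(nat_lit 0x24e7a137622e18590cce90e80),
 (nat_lit 0x377a925554291ba75ed77050),
 (nat_lit 0x4595190c2aa77f5d321cf911),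
 (nat_lit 0xcd0a608f53389def115e0148),
 (nat_lit 0x200ea85f5176ee5c00013a64),
 (nat_lit 0x30000000720205000f2b94369),
 (nat_lit 0x6b87e5d01)]
noncomputable def x16 : Net := ben 7 [(nat_lit 0x2ffa032439be783bc91afcb04),
 (nat_lit 0x19d983b3471e459116e51a00),
 (nat_lit 0x9e6dd7930065178326949400),
 (nat_lit 0xdd2ef6ad51879518ca9d00dc),
 (nat_lit 0x4668f26da04d5da000015139),
 (nat_lit 0x70000000ac0481d101f26a35d),
 (nat_lit 0x7fd7a9fd0)]
noncomputable def x18 : Net := ben 7 [(nat_lit 0x58d34e4d885e8ae57f97cc024),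
 (nat_lit 0x9844a53af20c1b28639081030),
 (nat_lit 0xdfd940044c9641359d185333),
 (nat_lit 0xeabe34f1460b4f60a9650086),
 (nat_lit 0x4178dd1f76e5f08e0000be46),
 (nat_lit 0xd0000000690690610c3022c97),
 (nat_lit 0x1df6b061e)]
noncomputable def x20 : Net := ben 7 [(nat_lit 0xbac08adf3f2494ffcd7895380),
 (nat_lit 0x768587740b6cc6fb0b6ad9f40),
 (nat_lit 0x98ee3c010171cdebbbaa0c2e),
 (nat_lit 0x828a9546a5f4495c249c0cc4),
 (nat_lit 0x872d6e6dba0e3fc30004fa5c),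
 (nat_lit 0x890a82100f2e33d4e),
 (nat_lit 0x6f4bdb382)]
noncomputable def x22 : Net := ben 7 [(nat_lit 0xf3cc0c303fc330cfc00f0c300),
 (nat_lit 0xf025aa5082faaa50310d02020),
 (nat_lit 0x99aa119937ae119922370422),
 (nat_lit 0x898909298cd8131b09090000),
 (nat_lit 0x82119311229a211a000a0188),
 (nat_lit 0x40000000d08b38600a8f78648),
 (nat_lit 0x20ebb8e96)]
noncomputable def x24 : Net := ben 7 [(nat_lit 0x3438859468ae21ec2160053d0),
 (nat_lit 0xb497ca91e8e61608d42aa3430),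
 (nat_lit 0x19a9db64ac7c901dd0df450c),
 (nat_lit 0xd4472210a4d80143cae50058),
 (nat_lit 0xe426f916bc072657000950e5),
 (nat_lit 0x80000000880d51400ecff4488),
 (nat_lit 0x5e2f796c9)]
noncomputable def x26 : Net := ben 7 [(nat_lit 0xc00ccf333d070303ccf03004),
 (nat_lit 0x5a0500f5ffd08f02af0200550),
 (nat_lit 0x99ee550033331188cc884400),
 (nat_lit 0x2828e3e73a569cdc20240202),
 (nat_lit 0x3f183feb109a5aeb00068076),
 (nat_lit 0x10000000900199500008f9518),
 (nat_lit 0x75719fd14)]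
noncomputable def ly : List Net := [x10, x12, x14, x16, x18, x20, x22, x24, x26]
noncomputable def nx : ℕ → Net := nth Net.nil (HsP0.nl ++ dbl ly)
def ivx : List ℕ := [1, 0, 2, 3, 4, 5, 6, 7, 8, 9, 11, 10, 13, 12, 15, 14, 17, 16, 19, 18, 21, 20, 23, 22, 25, 24, 27, 26]
def defs : List (List ℕ) := [[7, 5, 9, 7, 9, 1, 9],
 [3, 5, 8, 1, 3, 0, 0, 11, 8, 3],
 [11, 11, 12, 10, 13, 10, 12, 11],
 [13, 10, 14, 6, 1, 3, 10, 4, 8, 15, 1, 11],
 [15, 16, 14, 11, 11, 11, 11, 3, 8, 12, 3, 17, 3, 5, 7, 8],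
 [16, 16, 13, 16, 13, 3, 1, 13, 18, 12, 1, 8, 7, 8, 19, 16],
 [21, 19, 20, 18, 21, 18],
 [19, 21, 21, 23, 21, 21, 18, 22, 20],
 [23, 25, 23, 25, 23, 24]]
theorem hext : chkExt 10 defs HsP0.ivl ivx = true := by decide +kernel
theorem hn : NetsOK 100 nx := netsOK_ext HsP0.hn (by decide +kernel)
theorem hiv : IvOK (sg nx) (ivOf ivx) := ivOK_ext HsP0.hiv hext rfl rfl
theorem hdef : ∀ r ∈ defRels defs 10, ev (sg nx) r = 1 :=
  rels_of_chk (k := 7) hn (by decide) hiv (allN_true.1 (by decide +kernel))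
theorem ch : chkChain 100 7 nx [(0, 1, 100, [10, 12, 14, 16, 18, 20, 22, 24, 26]),
 (1, 2, 77, [14, 16, 18, 20, 22, 24, 26]),
 (84, 2, 60, [18, 20, 22, 24, 26]),
 (16, 2, 12, [22, 24, 26]),
 (47, 2, 4, [26]),
 (71, 1, 2, [])] [0, 1, 2, 3, 4, 5, 6, 7, 8, 9, 10, 12, 14, 16, 18, 20, 22, 24, 26] = true := by decide +kernel
theorem map {G : Type} [Group G] {e : ℕ → G} {ρ : G →* Equiv.Perm ℕ}
    (h : ∀ c, ρ (e c) = sg (nth Net.nil HsP0.nl) c) : ∀ c, ρ (extE e 10 defs c) = sg nx c :=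
  map_ext hext hiv hdef rfl rfl h

end H11.HsPX
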