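import Mathlib
import Cfsg.Agent.H29.Ext

set_option autoImplicit false
set_option maxRecDepth 100000
set_option Elab.async false
set_option linter.all false

namespace H11.HsT2

open H29

noncomputable def n0 : Net := ben 4 [(nat_lit 0x3f30),
 (nat_lit 0x1b10),
 (nat_lit 0x28a),
 (nat_lit 0x8)]
noncomputable def t0 : List ℕ := [(nat_lit 0x2a06),
 (nat_lit 0x1068),
 (nat_lit 0x1042),
 (nat_lit 0x2e80)]
noncomputable def d0 : ℕ := (nat_lit 0x4110)
noncomputable def n1 : Net := n0.rev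
noncomputable def t1 : List ℕ := mapPull n1 t0
noncomputable def d1 : ℕ := (nat_lit 0x0)
noncomputable def n2 : Net := ben 4 [(nat_lit 0x0),
 (nat_lit 0x0),
 (nat_lit 0x0),
 (nat_lit 0x0)]
noncomputable def t2 : List ℕ := [(nat_lit 0x7e94),
 (nat_lit 0x34ba),
 (nat_lit 0x1010),
 (nat_lit 0x4b40)]
noncomputable def d2 : ℕ := (nat_lit 0x0)
noncomputable def n3 : Net := ben 4 [(nat_lit 0x1cc4),
 (nat_lit 0x220),
 (nat_lit 0x3788),
 (nat_lit 0x38)]
noncomputable def t3 : List ℕ := [(nat_lit 0x499e),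
 (nat_lit 0x7800),
 (nat_lit 0x3000),
 (nat_lit 0x240)]
noncomputable def d3 : ℕ := (nat_lit 0x400)
noncomputable def n4 : Net := ben 4 [(nat_lit 0x0),
 (nat_lit 0x0),
 (nat_lit 0x0),
 (nat_lit 0x0)]
noncomputable def t4 : List ℕ := [(nat_lit 0x3646),
 (nat_lit 0x7ea8),
 (nat_lit 0x1050),
 (nat_lit 0x4900)]
noncomputable def d4 : ℕ := (nat_lit 0x0)
noncomputable def n5 : Net := ben 4 [(nat_lit 0x0),
 (nat_lit 0x0),
 (nat_lit 0x0),
 (nat_lit 0x0)]
noncomputable def t5 : List ℕ := [(nat_lit 0x7ec),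
 (nat_lit 0x8fa),
 (nat_lit 0xf2),
 (nat_lit 0x7f00)]
noncomputable def d5 : ℕ := (nat_lit 0x0)
noncomputable def n6 : Net := ben 4 [(nat_lit 0x4),
 (nat_lit 0x55a0),
 (nat_lit 0x38a),
 (nat_lit 0x48)]
noncomputable def t6 : List ℕ := [(nat_lit 0x4500),
 (nat_lit 0x4410),
 (nat_lit 0x4410),
 (nat_lit 0x2300)]
noncomputable def d6 : ℕ := (nat_lit 0x1888)
noncomputable def n7 : Net := ben 4 [(nat_lit 0x1011),
 (nat_lit 0xb00),
 (nat_lit 0x4),
 (nat_lit 0x8)]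
noncomputable def t7 : List ℕ := [(nat_lit 0x38c4),
 (nat_lit 0x844),
 (nat_lit 0x844),
 (nat_lit 0x7500)]
noncomputable def d7 : ℕ := (nat_lit 0x222)
noncomputable def n8 : Net := ben 4 [(nat_lit 0x0),
 (nat_lit 0x52bb),
 (nat_lit 0x108),
 (nat_lit 0x20)]
noncomputable def t8 : List ℕ := [(nat_lit 0x5b22),
 (nat_lit 0x1408),
 (nat_lit 0x1000),
 (nat_lit 0x4b00)]
noncomputable def d8 : ℕ := (nat_lit 0x2044)
def ivl : List ℕ := [1, 0]
def cols : List ℕ := [0, 1, 2, 3, 4, 5, 6, 7, 8]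
def hcols : List ℕ := [0, 1, 2, 3, 4, 5, 6]
def G0 : List (List ℕ) := [[1, 1, 5],
 [2, 3, 2, 3],
 [2, 4, 2, 4],
 [4, 5, 4, 5],
 [2, 3, 4, 3, 4],
 [1, 3, 5, 2, 1, 6],
 [1, 4, 3, 1, 4, 6],
 [2, 5, 6, 2, 5, 6],
 [3, 5, 6, 3, 5, 6],
 [1, 8, 1, 8],
 [4, 8, 4, 8],
 [8, 5, 8, 5],
 [2, 4, 8, 2, 8],
 [3, 7, 6, 3, 6, 7],
 [1, 7, 0, 7, 8, 7],
 [7, 6, 7, 6, 7, 6],
 [3, 8, 3, 8, 3, 8],
 [2, 8, 3, 4, 3, 8],
 [1, 7, 4, 7, 6, 0, 3],
 [1, 6, 0, 3, 6, 2, 6],
 [1, 8, 6, 3, 8, 4, 6, 3]]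
def R0 : List (List ℕ) := G0
def w0 : List ℕ := [4, 7, 8, 6, 4, 0, 3, 8, 0, 6, 3, 1, 8, 6, 2, 6, 3, 4, 6, 3, 4, 6, 0, 3, 1, 4, 3, 6, 3, 6, 4, 0, 3, 1, 8, 0, 3, 6, 7]
def R1 : List (List ℕ) := R0 ++ [w0]
theorem hii : ∀ c, ivOf ivl (ivOf ivl c) = c := ivOf_ivOf (by decide +kernel)
noncomputable def pr0 : List (ℕ × ℕ) := [(117, (nat_lit 0x70000040000010000070000c10000020000070000380000300000020000b20000a90000b10000380000b90000070000010000080000ba00003000001a0000070000020000aa00004000000900000700008a00004000000700005500000700001800007100000a00000100000900001100007200001800000700008d00000700000800000700003a00000200001100001a00003900004900000700007900000000002000001800000200000700001800000000002000003000007100000700003d00000700001800000100000900001800000700000d00000700000200002100000000003000000800001800000100000700004900000000002000001800004200000700000100000000000700000500000700001800003000001000003000000100000700009d00000700000000004000000100000700004d000007000095000007000000000007000018000000000020000030000001000007000035))]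
theorem p0 : chkProg 4 (ivOf ivl) R0 pr0 [(0, w0)] = true := by decide +kernel
theorem der : Derives (ivOf ivl) R0 R1 := (Derives.refl _ _).prog hii p0
noncomputable def nl : List Net := [n0, n1, n2, n3, n4, n5, n6, n7, n8]
noncomputable def T : TCData := ⟨15, 15, 4, 4, nth Net.nil nl, ivOf ivl, cols, hcols, R1,
  nth [] [t0, t1, t2, t3, t4, t5, t6, t7, t8], nth 0 [d0, d1, d2, d3, d4, d5, d6, d7, d8]⟩
theorem hn : NetsOK 15 (nth Net.nil nl) := netsOK_of_all (by decide +kernel)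
theorem hiv : IvOK (sg (nth Net.nil nl)) (ivOf ivl) :=
  ivOK_of_chk (k := 4) hn (by decide) (n := 9) (by decide) (by decide) (allN_true.1 (by decide +kernel))
theorem hb : T.Basic := TCData.basic_of_chk hn hiv (by decide +kernel)
theorem hG0 : ∀ r ∈ G0, ev (sg (nth Net.nil nl)) r = 1 :=
  rels_of_chk (k := 4) hn (by decide) hiv (allN_true.1 (by decide +kernel))
noncomputable def s0 : List TCData.Step := [.pts 5 0 0 2 [3],
 .pts 5 0 0 8 [7],
 .pts 5 0 0 9 [11],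
 .pts 6 0 0 5 [1],
 .pts 6 0 0 6 [12],
 .pts 6 3 0 8 [10],
 .all 9 0 0]
noncomputable def s1 : List TCData.Step := [.pts 19 2 0 9 [11, 14]]
noncomputable def s2 : List TCData.Step := [.all 1 0 0,
 .pts 4 0 0 2 [1],
 .pts 4 0 0 3 [7],
 .pts 4 0 0 9 [9],
 .pts 12 3 0 1 [2],
 .pts 12 3 0 8 [6],
 .pts 17 0 0 2 [5],
 .pts 17 0 0 3 [13],
 .pts 19 5 0 7 [4],
 .pts 19 5 0 9 [11, 14]]
noncomputable def s3 : List TCData.Step := [.pts 13 0 0 1 [1],
 .pts 13 0 0 8 [6],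
 .pts 13 3 0 1 [7],
 .pts 18 6 0 1 [8],
 .pts 20 3 0 1 [3],
 .pts 20 3 0 6 [12],
 .pts 20 7 0 3 [11]]
noncomputable def s4 : List TCData.Step := [.pts 4 2 0 3 [10],
 .pts 4 2 0 8 [8],
 .all 10 0 0,
 .pts 17 3 0 2 [3],
 .pts 17 3 0 7 [12],
 .pts 17 3 0 10 [11],
 .all 18 2 0,
 .pts 21 0 0 4 [4]]
noncomputable def s5 : List TCData.Step := [.all 0 2 0,
 .all 5 2 0,
 .pts 7 1 0 7 [7],
 .pts 8 1 0 8 [14],
 .pts 8 1 0 9 [9],
 .pts 11 1 0 1 [2],
 .pts 11 1 0 8 [13]]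
noncomputable def s6 : List TCData.Step := [.pts 6 5 0 6 [4],
 .pts 6 5 0 7 [10],
 .pts 6 5 0 9 [8],
 .pts 13 2 0 8 [9]]
noncomputable def s7 : List TCData.Step := [.pts 13 1 0 8 [8, 14],
 .pts 14 3 0 7 [6],
 .pts 15 0 0 1 [7],
 .pts 15 0 0 7 [11],
 .pts 15 0 0 9 [12]]
noncomputable def s8 : List TCData.Step := [.pts 14 4 0 1 [1],
 .pts 16 1 0 2 [3, 10],
 .pts 16 1 0 7 [12],
 .pts 20 1 0 9 [8],
 .pts 20 4 0 9 [11]]
theorem hR0 : ∀ r ∈ R0, ev (sg (nth Net.nil nl)) r = 1 := hG0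
theorem col0 : T.ColOK 0 := TCData.colOK_of_chk (U := (T.stepsMask 0 s0 (T.mask0 0))) (V := (T.stepsMask 1 s1 (T.mask0 1))) hb (TCData.cov_stepsMask hb (by decide) s0 _ (T.cov_mask0 0)) (TCData.cov_stepsMask hb (by decide) s1 _ (T.cov_mask0 1)) (by decide +kernel)
theorem col1 : T.ColOK 1 := TCData.colOK_of_chk (U := (T.stepsMask 1 s1 (T.mask0 1))) (V := (T.stepsMask 0 s0 (T.mask0 0))) hb (TCData.cov_stepsMask hb (by decide) s1 _ (T.cov_mask0 1)) (TCData.cov_stepsMask hb (by decide) s0 _ (T.cov_mask0 0)) (by decide +kernel)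
theorem col2 : T.ColOK 2 := TCData.colOK_of_chk (U := (T.stepsMask 2 s2 (T.mask0 2))) (V := (T.stepsMask 2 s2 (T.mask0 2))) hb (TCData.cov_stepsMask hb (by decide) s2 _ (T.cov_mask0 2)) (TCData.cov_stepsMask hb (by decide) s2 _ (T.cov_mask0 2)) (by decide +kernel)
theorem col3 : T.ColOK 3 := TCData.colOK_of_chk (U := (T.stepsMask 3 s3 (T.mask0 3))) (V := (T.stepsMask 3 s3 (T.mask0 3))) hb (TCData.cov_stepsMask hb (by decide) s3 _ (T.cov_mask0 3)) (TCData.cov_stepsMask hb (by decide) s3 _ (T.cov_mask0 3)) (by decide +kernel)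
theorem col4 : T.ColOK 4 := TCData.colOK_of_chk (U := (T.stepsMask 4 s4 (T.mask0 4))) (V := (T.stepsMask 4 s4 (T.mask0 4))) hb (TCData.cov_stepsMask hb (by decide) s4 _ (T.cov_mask0 4)) (TCData.cov_stepsMask hb (by decide) s4 _ (T.cov_mask0 4)) (by decide +kernel)
theorem col5 : T.ColOK 5 := TCData.colOK_of_chk (U := (T.stepsMask 5 s5 (T.mask0 5))) (V := (T.stepsMask 5 s5 (T.mask0 5))) hb (TCData.cov_stepsMask hb (by decide) s5 _ (T.cov_mask0 5)) (TCData.cov_stepsMask hb (by decide) s5 _ (T.cov_mask0 5)) (by decide +kernel)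
theorem col6 : T.ColOK 6 := TCData.colOK_of_chk (U := (T.stepsMask 6 s6 (T.mask0 6))) (V := (T.stepsMask 6 s6 (T.mask0 6))) hb (TCData.cov_stepsMask hb (by decide) s6 _ (T.cov_mask0 6)) (TCData.cov_stepsMask hb (by decide) s6 _ (T.cov_mask0 6)) (by decide +kernel)
theorem col7 : T.ColOK 7 := TCData.colOK_of_chk (U := (T.stepsMask 7 s7 (T.mask0 7))) (V := (T.stepsMask 7 s7 (T.mask0 7))) hb (TCData.cov_stepsMask hb (by decide) s7 _ (T.cov_mask0 7)) (TCData.cov_stepsMask hb (by decide) s7 _ (T.cov_mask0 7)) (by decide +kernel)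
theorem col8 : T.ColOK 8 := TCData.colOK_of_chk (U := (T.stepsMask 8 s8 (T.mask0 8))) (V := (T.stepsMask 8 s8 (T.mask0 8))) hb (TCData.cov_stepsMask hb (by decide) s8 _ (T.cov_mask0 8)) (TCData.cov_stepsMask hb (by decide) s8 _ (T.cov_mask0 8)) (by decide +kernel)
theorem ok : T.OK := ⟨hb, TCData.treeOK_of_chk hn (by decide +kernel), (List.forall_mem_cons.2 ⟨col0, (List.forall_mem_cons.2 ⟨col1, (List.forall_mem_cons.2 ⟨col2, (List.forall_mem_cons.2 ⟨col3, (List.forall_mem_cons.2 ⟨col4, (List.forall_mem_cons.2 ⟨col5, (List.forall_mem_cons.2 ⟨col6, (List.forall_mem_cons.2 ⟨col7, (List.forall_mem_cons.2 ⟨col8, (fun _ h => absurd h List.not_mem_nil)⟩)⟩)⟩)⟩)⟩)⟩)⟩)⟩)⟩), der _ _ hiv hR0⟩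
theorem bd {G : Type} [Group G] {e : ℕ → G} (h1 : IvOK e (ivOf ivl)) (h2 : ∀ r ∈ R0, ev e r = 1)
    {m : ℕ} (h : Bd (gen e hcols) m) : Bd (gen e cols) (15 * m) := ok.bd h1 (der G e h1 h2) h
theorem cm {G : Type} [Group G] {e : ℕ → G} (h1 : IvOK e (ivOf ivl)) (h2 : ∀ r ∈ R0, ev e r = 1)
    (h3 : gen e cols = ⊤) {ρ : G →* Equiv.Perm ℕ} (h4 : ∀ c, ρ (e c) = sg (nth Net.nil nl) c) :
    CosetModel ρ (gen e hcols) 15 := ok.cosetModel h1 (der G e h1 h2) h3 fun c _ => h4 c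

end H11.HsT2
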