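import Mathlib
import Cfsg.Agent.H11.HsT1
import Cfsg.Agent.H11.HsT2
import Cfsg.Agent.H11.HsT3
import Cfsg.Agent.H11.HsPX
import Cfsg.Agent.H29.Graph
import Cfsg.Agent.H9.HSLeech

/-!
# A presentation of the Higman-Sims group over the centraliser of a central involution
-/

set_option autoImplicit false
set_option maxRecDepth 100000
set_option Elab.async false
set_option linter.all false

namespace H11.Hs

open H29 H9 H9.MX H19 Cfsg

/-- inverse letters -/
noncomputable abbrev iv : ℕ → ℕ := ivOf [1, 0]
/-- letters of the Sylow subgroup -/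
abbrev LS : List ℕ := HsT3.cols
/-- letters of the centraliser -/
abbrev LH : List ℕ := HsT2.cols
/-- all letters -/
abbrev LG : List ℕ := HsT1.cols

theorem ubS : UBd iv HsT3.R0 LS 512 := fun _ _ _ h1 h2 => HsT3.bd h1 h2 (bd_nil _)
theorem ubH : UBd iv HsT2.R0 LH 7680 := fun _ _ _ h1 h2 =>
  HsT2.bd h1 h2 (ubS _ _ h1 (rels_sub h2 (by decide +kernel)))
theorem ubG : UBd iv HsT1.R0 LG 44352000 := fun _ _ _ h1 h2 =>
  HsT1.bd h1 h2 (ubH _ _ h1 (rels_sub h2 (by decide +kernel)))

/-- the model -/
abbrev P : Type := PG HsP0.nl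
/-- the letters in the model -/
noncomputable abbrev e0 : ℕ → P := pe HsP0.nl

theorem top : gen e0 LG = ⊤ := pe_top (by decide +kernel)
theorem iv0 : IvOK e0 iv := ivOK_sub _ HsP0.hiv

theorem rel0 {R : List (List ℕ)} (h : allN 7 (chkRelP 100 7 (nth Net.nil HsP0.nl) iv R) = true) :
    ∀ r ∈ R, ev e0 r = 1 :=
  rels_subE _ (rels_of_chk (k := 7) HsP0.hn (by decide) HsP0.hiv (allN_true.1 h))

theorem R0 : ∀ r ∈ HsT1.R0, ev e0 r = 1 := rel0 (by decide +kernel)

theorem cardP : Nat.card P = 44352000 :=
  (card_eq_of_chain HsPX.hn ((ubG _ _ iv0 R0).of_top top) (fun c _ => HsPX.map (pe_rho _) c) HsPX.ch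
    (by decide +kernel)).1

instance : Finite P := Nat.finite_of_card_ne_zero (by rw [cardP]; omega)

/-- The adjacency rows of the Higman-Sims graph. -/
def rows : List ℕ := [(nat_lit 0xc6e0660201080200404089500), (nat_lit 0xc6001a05844c09082020400c0), (nat_lit 0xc022b08204c10581480400810), (nat_lit 0xc0408d4503800605310000220), (nat_lit 0x6444c411206080204c214004), (nat_lit 0x6a430888041800a008aa2008), (nat_lit 0xe005821080c4a2019118002), (nat_lit 0x22644801821013120703002), (nat_lit 0x2100d02e20c2290b020801), (nat_lit 0x22252222006016008a112408), (nat_lit 0x90114d1908b820244201), (nat_lit 0x2800f00a900b004200352104), (nat_lit 0x49801e02185c4058010081), (nat_lit 0x4148000154080c80c45008aa0), (nat_lit 0x41a01008e1080400313d00410), (nat_lit 0x4981022562001380e02041), (nat_lit 0x4009201c00480209920881a50), (nat_lit 0x40014c12300c0181070540120), (nat_lit 0x6ca0404002464018c820c02), (nat_lit 0x1008405c825d00282510021), (nat_lit 0x9c048001027102004040a4ac0), (nat_lit 0x9011000600284760012008cb0), (nat_lit 0x24803250000826c8080ac084),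 (nat_lit 0x8802460100a019b440005c020), (nat_lit 0x821568400001134d080006140), (nat_lit 0x4ca4900000a095440284302), (nat_lit 0x1010bc0080813d210142011), (nat_lit 0x9110000005183011600441370), (nat_lit 0x20a22000c423800c84225048), (nat_lit 0x83d4108002002c24680030480), (nat_lit 0x88a0030000d05228382023010), (nat_lit 0x1400040d812880120710c8204), (nat_lit 0x161000a21c01810044005c188), (nat_lit 0x20036002002100c286c08c80a), (nat_lit 0x200109448004404a13a902005), (nat_lit 0x9c2484c080044110210412500), (nat_lit 0x2c800200c820480000f03848c), (nat_lit 0x48088230680003046800005f0), (nat_lit 0x14200002145e4002027c01808), (nat_lit 0x100284022b222400445410422), (nat_lit 0x428109023a41060088e800080), (nat_lit 0x6400a840cd010000064e00340), (nat_lit 0x4c8004981ac00800601641200), (nat_lit 0x1610006c0b020200202823444), (nat_lit 0x21c0010003102002905aa1206), (nat_lit 0x2102108084042892041750009), (nat_lit 0x2c004230001400180202c714c), (nat_lit 0x1020812221118241030882112), (nat_lit 0x644090b602040000059880c80), (nat_lit 0x4c2040695081030803a008800),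 (nat_lit 0x4302502923010005c402c0040), (nat_lit 0xe903404002040800186401c60), (nat_lit 0x480614000e6830301101424), (nat_lit 0xe98101808001008c0100c8390), (nat_lit 0x90200849a19604c00028212), (nat_lit 0x280281e00a810004088236003), (nat_lit 0x420b24cc88000d04048108400), (nat_lit 0x436801e014040009280b01100), (nat_lit 0x2150406041000054050118526), (nat_lit 0x130d0000a00c20400448805cc), (nat_lit 0x80d0090104449a8088004889), (nat_lit 0x282200c408d1d8020108118), (nat_lit 0x885441822200224118082406), (nat_lit 0x81645001001c00fb110080800), (nat_lit 0xa002b204812020541000a2450), (nat_lit 0xa45020c40480481a00002da00), (nat_lit 0x92030586024420230000c7000), (nat_lit 0x50403212920221c80005822), (nat_lit 0x2091209208006000080d0351a), (nat_lit 0x90c0049c000181c300220245), (nat_lit 0x9a440007011108048461010a), (nat_lit 0xa0408b02041460c00840141a0), (nat_lit 0x9322014185011442006038000), (nat_lit 0x80852c0080687c82104400200), (nat_lit 0x8012122078a0a0c010c0098), (nat_lit 0x4a01613a1240926000064), (nat_lit 0x4147018402a0910440400c48),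 (nat_lit 0x111500c812010403050c00a03), (nat_lit 0x21101020441100488828208d9), (nat_lit 0x192a00a8000000304010a9c1a), (nat_lit 0x180905401800520002400d326), (nat_lit 0x19000121321400202130500a5), (nat_lit 0x100881848c40e400201820291), (nat_lit 0x39140081008182a80214900c), (nat_lit 0x460922145928010601230000), (nat_lit 0x4d408105018c208210800384), (nat_lit 0x600203260d800000823149030), (nat_lit 0xa490580203b10002012452000), (nat_lit 0x482a8701a044008012d280000), (nat_lit 0x201108140a2028048400442e5), (nat_lit 0x18030008a8611100022442059), (nat_lit 0x100a806504060151060004861), (nat_lit 0x400ae1608e2c300028006000), (nat_lit 0x2800801040b04090131400a33), (nat_lit 0x10b0100200034e5980100033), (nat_lit 0x2503806050aa443840900000), (nat_lit 0x60c07a104080088c988300000), (nat_lit 0x122c0409304a9721600000000), (nat_lit 0x101400000032f07200003600f), (nat_lit 0x8003878028000869b0000f)]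
/-- The adjacency rows. -/
noncomputable def adj : ℕ → ℕ := nth 0 rows
theorem rowsOK : RowsOK 100 adj := by decide +kernel
theorem srg : SRG (bitG 100 adj) 100 22 0 6 := rowsOK.srg (k := 7) (by decide) (by decide +kernel)

theorem exists_HS : ∃ H : Subgroup (bitG 100 adj ≃g bitG 100 adj), H.index = 2 ∧ IsHS H ∧
    Nonempty (H ≃* Spor.HS) := by
  have : Finite hsX := Nat.finite_of_card_ne_zero (by rw [hs_action.card]; omega)
  obtain ⟨G, hG, θ, hθ⟩ := @HSAction.exists_hom hsK hsX _ hsAct _ _ _ hs_action
  obtain ⟨e, -⟩ := srg100_iso hG srg hsx0 0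
  have h1 : Function.Injective ((autConj e).toMonoidHom.comp θ) := (autConj e).injective.comp hθ
  have f := MonoidHom.ofInjective h1
  have h2 := @HSAction.isHS hsK hsX _ hsAct _ _ _ hs_action
  have h3 := card_of_equiv ⟨f.symm⟩ h2.2
  refine ⟨_, ?_, ⟨simple_of_equiv ⟨f.symm⟩ h2.1, h3⟩,
    ⟨f.symm.trans (Subgroup.subgroupOfEquivOfLe (inf_le_left.trans inf_le_left))⟩⟩
  have := Subgroup.index_mul_card ((autConj e).toMonoidHom.comp θ).range
  rw [h3, (srg100_aut srg).1] at this
  omega

theorem haut : chkAut 100 adj (nth Net.nil HsP0.nl) LG (fun c => nth 0 (nth [] HsP0.imgs c)) = true := by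
  decide +kernel

theorem perf (K : Subgroup P) (h : K.index = 2) : K = ⊤ :=
  haveI := K.normal_of_index_eq_two h
  eq_top_of_kill iv0 R0 top (l := [(12, 0), (21, 0), (22, 0), (16, 0), (14, 1), (15, 0), (20, 0), (0, 0)])
    (S := [2]) (by decide +kernel) K fun c hc => by
      have h1 := R0 [2, 3, 4, 3, 4] (by decide)
      simp only [ev_cons, ev_nil, mul_one] at h1
      rw [List.mem_singleton.1 hc, eq_inv_of_mul_eq_one_left h1, ← mul_assoc, ← sq]
      exact inv_mem (Subgroup.sq_mem_of_index_two h _)

theorem isoP : IsSimpleGroup P ∧ Nonempty (P ≃* Spor.HS) := by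
  obtain ⟨H, h1, h2, ⟨f⟩⟩ := exists_HS
  obtain ⟨ψ, -, h3, -⟩ := exists_aut rowsOK top HsP0.hn (fun c _ => pe_rho _ c) haut
  have hi : Function.Injective ψ := by
    rw [← MonoidHom.ker_eq_bot_iff, h3, Subgroup.ker_subtype]
  have h4 : ψ.range ≤ H := by
    rw [MonoidHom.range_eq_map, Subgroup.map_le_iff_le_comap, top_le_iff]
    have := Subgroup.index_comap H ψ
    have h0 := H.normal_of_index_eq_two h1
    have h5 := Subgroup.relIndex_dvd_index_of_normal H ψ.range
    rw [h1, ← this] at h5
    rcases (Nat.dvd_prime Nat.prime_two).1 h5 with e | e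
    · exact Subgroup.index_eq_one.1 e
    · exact perf _ e
  have : Finite H := Nat.finite_of_card_ne_zero (by rw [h2.2]; omega)
  have h5 : ψ.range = H := Subgroup.eq_of_le_of_card_ge h4 (by
    rw [← Nat.card_congr (MonoidHom.ofInjective hi).toEquiv, cardP, h2.2])
  have g := (MonoidHom.ofInjective hi).trans (MulEquiv.subgroupCongr h5)
  exact ⟨simple_of_equiv ⟨g⟩ h2.1, ⟨g.trans f⟩⟩

/-- Recognition by the presentation. -/
theorem recog {G : Type} [Group G] {e : ℕ → G} (h1 : IvOK e iv) (h2 : ∀ r ∈ HsT1.R0, ev e r = 1)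
    (hne : e 2 ≠ 1) : Nonempty (gen e LG ≃* Spor.HS) := by
  have := isoP.1
  obtain ⟨f⟩ := isoP.2
  obtain ⟨g⟩ := equiv_of_simple (tr_of_bd ubG iv0 h1 (by decide) R0 h2 (by rw [top, Subgroup.card_top, cardP]))
    iv0 h1 (by decide) top ⟨[2], by decide, by simpa using hne⟩
  exact ⟨g.symm.trans f⟩

theorem cardH : 7680 ≤ Nat.card (gen e0 LH) := by
  have := (HsT1.bd iv0 R0 (m := Nat.card (gen e0 LH)) ⟨inferInstance, le_rfl⟩).2
  rw [show gen e0 HsT1.cols = ⊤ from top, Subgroup.card_top, cardP] at this
  change _ ≤ 5775 * Nat.card (gen e0 LH) at this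
  omega

/-- Relations between the letters of the centraliser transfer from the model. -/
theorem trH {G : Type} [Group G] {e : ℕ → G} (h1 : IvOK e iv) (h2 : ∀ r ∈ HsT2.R0, ev e r = 1) :
    Tr e0 e LH :=
  tr_of_bd ubH iv0 h1 (by decide) (rels_sub R0 (by decide +kernel)) h2 cardH

end H11.Hs
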