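import Mathlib
import Cfsg.Agent.H11.HsF
import Cfsg.Agent.H11.HsP

/-!
# The letters of the presentation and the model of the Sylow subgroup
-/

set_option autoImplicit false
set_option maxRecDepth 100000
set_option synthInstance.maxSize 4000
set_option Elab.async false

namespace H11.Hs

open H29 H9.MX H19

/-- the letters `a, a⁻¹, b, t, s, v, g` in `S0` -/
noncomputable def sl (c : ℕ) : S0 := el (nth 0 [18, 50, 107, 140, 361, 32, 192] c)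

theorem sl_iv : IvOK sl iv := fun c => by
  by_cases h : c < 7
  · exact (by decide +kernel : ∀ c < 7, sl (iv c) = (sl c)⁻¹) c h
  · have h1 : iv c = c := nth_default c (by simp only [List.length]; omega)
    rw [h1, sl, nth_default 0 (by simp only [List.length]; omega)]
    decide +kernel

theorem sl_rel : ∀ r ∈ HsT3.R0, ev sl r = 1 := by decide +kernel

/-- words for the elements of `S0` -/
def wds : List (List ℕ) := [[],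
 [0, 3, 0, 2, 6],
 [0, 4, 0, 4],
 [0, 2, 6, 0, 3],
 [1, 3, 0, 3],
 [0, 6, 0, 6],
 [3, 4, 6, 4],
 [2, 3, 5, 6],
 [2, 6, 2, 6],
 [1, 2, 1, 2],
 [5, 6, 5, 6],
 [0, 2, 0, 2],
 [0, 3, 1, 3],
 [2, 3, 6, 5],
 [4, 6, 4, 3],
 [1, 6, 1, 6],
 [4, 1, 4],
 [6, 2, 1, 3],
 [0],
 [3, 1, 6, 2],
 [2, 0, 6, 3],
 [1, 6, 2, 3],
 [3, 0, 3],
 [1, 3, 6, 2],
 [1, 6, 5, 6],
 [2, 0, 2, 5],
 [1, 3, 5, 3],
 [2, 1, 2],
 [6, 3, 0, 2],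
 [6, 1, 6],
 [3, 1, 3, 5],
 [1, 2, 3, 6],
 [5],
 [0, 3, 1, 6, 2],
 [2, 5, 2],
 [0, 6, 2, 1, 3],
 [0, 3, 0, 3],
 [3, 6, 2],
 [0, 2, 0, 6, 3],
 [6, 2, 3],
 [3, 5, 3],
 [0, 2, 1, 2],
 [6, 5, 6],
 [1, 2, 0, 2],
 [1, 3, 1, 3],
 [2, 3, 6],
 [0, 6, 3, 0, 2],
 [2, 6, 3],
 [4, 0, 4],
 [2, 6, 0, 3],
 [1],
 [3, 0, 2, 6],
 [2, 1, 3, 6],
 [0, 6, 2, 3],
 [2, 1, 6, 3],
 [6, 0, 6],
 [0, 6, 5, 6],
 [2, 0, 2],
 [0, 3, 5, 3],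
 [2, 1, 2, 5],
 [3, 6, 1, 2],
 [0, 2, 6, 3],
 [3, 1, 3],
 [0, 2, 3, 6],
 [0, 2, 1],
 [2, 3, 5, 3],
 [1, 2, 0],
 [0, 6, 0, 3],
 [2, 3, 6, 2],
 [0, 6, 3, 0],
 [2, 6, 2, 3],
 [0, 3, 6, 0],
 [0, 3, 1, 6],
 [2, 5],
 [4, 6, 4, 6],
 [5, 2],
 [3, 6],
 [0, 3, 5, 6, 1],
 [6, 3],
 [0, 2, 6, 0, 6],
 [2, 0],
 [1, 6, 2, 6],
 [3, 0, 6],
 [6, 0, 3, 5],
 [0, 2, 6, 2, 3],
 [6, 3, 1],
 [1, 3, 5, 6],
 [3, 6, 1],
 [3, 1, 6, 5],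
 [1, 2],
 [5, 3, 1, 6],
 [0, 2, 5],
 [0, 6, 3],
 [3, 5, 6, 0],
 [0, 3, 6],
 [2, 1, 3, 6, 2],
 [1, 2, 1],
 [0, 6, 0, 3, 5],
 [0, 2, 0],
 [6, 2, 6],
 [3, 5, 6],
 [0, 3, 6, 1],
 [1, 2, 3, 1, 3],
 [0, 6, 3, 1],
 [1, 3, 1, 6],
 [5, 2, 5],
 [6, 0, 3, 0],
 [2],
 [5, 3, 6],
 [1, 3, 5, 6, 1],
 [3, 6, 5],
 [0, 3, 5, 6, 0],
 [5, 2, 0],
 [6, 0, 3],
 [2, 1],
 [1, 2, 3, 5, 3],
 [2, 3, 1, 3],
 [3, 6, 0],
 [0, 3, 5, 6],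
 [6, 3, 0],
 [0, 6, 0, 3, 0],
 [0, 2],
 [3, 1, 6],
 [1, 2, 5],
 [1, 6, 3],
 [2, 6, 0, 6],
 [1, 3, 6],
 [3, 5, 6, 1],
 [1, 3, 0],
 [0, 2, 3, 0, 2],
 [1, 2, 0, 6],
 [2, 6, 5],
 [5, 3, 5],
 [0, 2, 5, 6, 1],
 [0, 4, 6, 4, 1],
 [0, 6, 2, 0],
 [0, 3, 1],
 [2, 5, 6],
 [4, 6, 4],
 [5, 2, 6],
 [3],
 [1, 2, 5, 6, 0],
 [6, 3, 6],
 [0, 2, 6, 0],
 [2, 0, 6],
 [1, 6, 2],
 [3, 0],
 [1, 2, 5, 6, 5],
 [6, 1, 2, 5],
 [2, 6, 1],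
 [1, 3, 5],
 [2, 1, 2, 3],
 [0, 4, 6, 4],
 [1, 2, 6],
 [5, 3, 1],
 [0, 2, 5, 6],
 [0, 6, 3, 6],
 [6, 2, 1],
 [0, 3],
 [2, 5, 6, 0],
 [0, 3, 0],
 [2, 5, 6, 5],
 [0, 2, 0, 6],
 [6, 2],
 [3, 5],
 [0, 2, 1, 2, 3],
 [2, 0, 6, 0],
 [0, 2, 6, 1],
 [1, 3, 1],
 [2, 3, 6, 3],
 [4, 5, 6, 4],
 [2, 6],
 [5, 3],
 [0, 2, 5, 6, 0],
 [1, 6, 1, 2],
 [0, 6, 2, 1],
 [5, 2, 0, 6],
 [0, 6, 2],
 [2, 1, 6],
 [2, 3, 0, 2],
 [4, 6, 4, 1],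
 [6, 2, 0],
 [0, 3, 5],
 [2, 5, 6, 1],
 [1, 4, 6, 4],
 [0, 2, 6],
 [3, 1],
 [1, 2, 5, 6],
 [6, 1, 2],
 [2, 6, 0],
 [1, 3],
 [2, 1, 2, 3, 5],
 [6],
 [0, 3, 0, 2],
 [3, 6, 3],
 [0, 2, 0, 6, 2],
 [1, 2, 0, 3],
 [0, 6, 0],
 [0, 2, 1, 3],
 [2, 3, 5],
 [2, 6, 2],
 [1, 3, 1, 2],
 [5, 6, 5],
 [0, 2, 0, 2, 6],
 [3, 0, 2, 1],
 [5, 2, 3],
 [3, 1, 2, 0],
 [1, 6, 1],
 [2, 3, 0],
 [1, 2, 0, 3, 1],
 [0, 6],
 [2, 1, 6, 2],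
 [3, 0, 6, 3],
 [0, 2, 3, 5],
 [2, 0, 3],
 [5, 6, 0],
 [1, 6, 5],
 [3, 0, 2, 5],
 [0, 2, 6, 2],
 [3, 1, 2],
 [0, 3, 1, 2, 0],
 [6, 1],
 [2, 1, 3, 5],
 [1, 2, 3],
 [5, 6],
 [1, 3, 0, 2],
 [0, 2, 3, 0],
 [2, 0, 3, 1],
 [0, 2, 0, 3],
 [1, 6, 0],
 [1, 2, 1, 3],
 [5, 2, 3, 5],
 [1, 2, 3, 1],
 [0, 3, 1, 2],
 [6, 5],
 [2, 1, 3, 0],
 [0, 2, 1, 3, 5],
 [2, 3],
 [1, 2, 0, 3, 5],
 [0, 6, 1],
 [1, 3, 6, 3],
 [2, 0, 6, 2],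
 [1, 6],
 [3, 0, 2],
 [2, 1, 3],
 [1, 2, 3, 5],
 [2, 6, 1, 2],
 [6, 0],
 [0, 6, 5],
 [2, 0, 2, 6],
 [2, 3, 1],
 [3, 6, 0, 3],
 [2, 0, 3, 5],
 [5, 6, 1],
 [3, 1, 3, 6],
 [0, 2, 3],
 [0, 4, 0, 2],
 [5, 6, 4, 6],
 [2, 4],
 [6, 4, 6, 5],
 [3, 4, 6, 2],
 [3, 6, 4, 5],
 [1, 3, 0, 4, 3],
 [5, 3, 6, 4],
 [4, 6, 2, 6],
 [0, 2, 0, 4],
 [6, 2, 6, 4],
 [0, 2, 4, 1],
 [4, 6, 3],
 [3, 4, 1, 3, 1],
 [4, 3, 6],
 [3, 5, 6, 4],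
 [0, 2, 4],
 [3, 1, 6, 4],
 [4, 1, 2],
 [1, 6, 4, 6],
 [3, 0, 4, 3],
 [1, 3, 6, 4],
 [3, 4, 1, 3],
 [1, 6, 3, 4],
 [6, 0, 3, 4],
 [2, 1, 4],
 [0, 4, 6, 2, 6],
 [2, 4, 0],
 [0, 4, 3, 6],
 [0, 3, 5, 6, 4],
 [0, 4, 6, 3],
 [1, 2, 6, 4, 3],
 [2, 4, 5],
 [6, 4, 6],
 [4, 5, 2],
 [0, 3, 1, 6, 4],
 [4, 3, 5, 6],
 [6, 3, 4],
 [0, 3, 0, 4, 3],
 [3, 6, 4],
 [1, 6, 4, 6, 0],
 [0, 2, 4, 0],
 [3, 4, 5, 3],
 [0, 2, 1, 4],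
 [4, 3, 6, 5],
 [2, 6, 4, 3],
 [4, 5, 3, 6],
 [2, 3, 6, 2, 4],
 [1, 2, 4],
 [1, 6, 4, 6, 5],
 [4, 0, 2],
 [0, 6, 4, 6],
 [2, 1, 6, 4, 3],
 [0, 3, 6, 4],
 [0, 4, 3, 5, 6],
 [0, 6, 3, 4],
 [4, 6, 0, 3],
 [2, 4, 1],
 [6, 4, 6, 0],
 [2, 0, 4],
 [1, 4, 3, 6],
 [1, 3, 5, 6, 4],
 [1, 4, 6, 3],
 [0, 2, 6, 4, 3],
 [0, 2, 4, 0, 2],
 [3, 5, 3, 4],
 [6, 2, 4, 6],
 [4, 3, 5, 3],
 [2, 6, 3, 4],
 [1, 3, 1, 3, 4],
 [2, 3, 6, 4],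
 [3, 4, 5, 6],
 [6, 4, 6, 2],
 [4, 5],
 [2, 6, 4, 6],
 [0, 4, 1],
 [6, 4, 3],
 [0, 3, 0, 3, 4],
 [3, 6, 2, 4],
 [3, 4, 6, 5],
 [2, 4, 1, 2],
 [0, 4, 3, 5, 3],
 [2, 0, 2, 4],
 [0, 3, 5, 3, 4],
 [0, 2, 3, 6, 4],
 [4, 6, 0, 6],
 [0, 2, 6, 3, 4],
 [3, 1, 3, 4],
 [0, 2, 6, 4, 6],
 [4, 0],
 [0, 6, 4, 6, 2],
 [1, 4],
 [6, 0, 6, 4],
 [1, 3, 4, 6],
 [0, 6, 4, 3],
 [3, 4, 6, 0],
 [0, 2, 0, 2, 4],
 [1, 3, 4, 1, 6],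
 [0, 2, 4, 1, 2],
 [1, 3, 0, 4, 6],
 [1, 6, 1, 6, 4],
 [4, 3, 6, 2],
 [6, 4, 5, 3],
 [4, 6, 2, 3],
 [2, 5, 6, 4, 6],
 [4],
 [2, 6, 4, 6, 5],
 [0, 4, 0],
 [5, 6, 4, 3],
 [2, 4, 6, 3],
 [0, 6, 0, 6, 4],
 [3, 4, 6],
 [2, 1, 2, 4],
 [3, 0, 4, 6],
 [2, 4, 0, 2],
 [3, 4, 1, 6],
 [4, 3, 0, 3],
 [0, 4, 6, 2, 3],
 [6, 1, 6, 4],
 [0, 4, 3, 6, 2],
 [1, 2, 6, 4, 6],
 [4, 1],
 [1, 6, 4, 6, 2],
 [0, 4],
 [6, 4, 3, 0],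
 [0, 3, 4, 6],
 [1, 6, 4, 3],
 [3, 0, 3, 4],
 [3, 4, 6, 3],
 [5, 6, 4],
 [2, 4, 6],
 [4, 1, 3, 1],
 [1, 6, 4, 1],
 [0, 2, 0, 3, 4],
 [1, 6, 0, 4],
 [1, 2, 1, 3, 4],
 [4, 6, 2],
 [4, 0, 3, 0],
 [0, 3, 1, 2, 4],
 [6, 4, 5],
 [0, 4, 0, 3],
 [3, 6, 4, 6, 5],
 [4, 3],
 [0, 4, 6, 2, 1],
 [0, 2, 4, 6],
 [0, 4, 1, 3, 1],
 [3, 4, 1, 2],
 [1, 6, 4],
 [6, 0, 4],
 [2, 1, 3, 4],
 [6, 4, 1],
 [4, 6, 2, 0],
 [4, 1, 6, 2],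
 [4, 3, 0],
 [0, 4, 6, 2],
 [2, 3, 1, 4],
 [0, 4, 3],
 [2, 4, 6, 0],
 [4, 1, 3],
 [3, 1, 3, 6, 4],
 [2, 4, 5, 6],
 [6, 4],
 [4, 5, 2, 6],
 [3, 6, 3, 4],
 [4, 3, 5],
 [6, 3, 4, 6],
 [0, 6, 0, 4],
 [3, 6, 4, 6],
 [2, 4, 6, 5],
 [2, 6, 2, 4],
 [0, 4, 1, 6, 2],
 [0, 4, 3, 0],
 [0, 4, 1, 3],
 [2, 6, 4, 3, 6],
 [4, 5, 3],
 [0, 2, 4, 6, 0],
 [1, 2, 4, 6],
 [2, 3, 0, 4],
 [4, 0, 2, 6],
 [0, 6, 4],
 [4, 1, 3, 5],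
 [0, 3, 6, 4, 6],
 [0, 4, 3, 5],
 [2, 0, 3, 4],
 [3, 1, 2, 4],
 [1, 6, 4, 5],
 [1, 4, 6, 2],
 [2, 0, 4, 6],
 [1, 4, 3],
 [4, 6, 2, 1],
 [4, 0, 3],
 [2, 1, 3, 4, 5],
 [3, 6, 4, 3],
 [4, 6, 5],
 [6, 2, 4],
 [0, 3, 0, 4],
 [0, 2, 1, 4, 3],
 [3, 0, 4, 1],
 [0, 2, 4, 0, 3],
 [3, 4, 5],
 [0, 4, 3, 0, 2],
 [4, 5, 6],
 [2, 6, 4],
 [0, 4, 1, 6],
 [6, 4, 3, 6],
 [2, 4, 5, 3],
 [6, 4, 6, 3],
 [5, 3, 4],
 [0, 6, 2, 4],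
 [2, 1, 6, 4],
 [0, 3, 6, 4, 3],
 [0, 4, 6, 5],
 [2, 0, 4, 3],
 [4, 6, 0],
 [2, 4, 1, 3],
 [0, 3, 0, 4, 1],
 [0, 2, 6, 4],
 [3, 1, 4],
 [1, 2, 5, 6, 4],
 [1, 4, 6],
 [2, 6, 0, 4],
 [1, 3, 4],
 [2, 6, 4, 1],
 [4, 0, 2, 3],
 [2, 4, 0, 3, 0],
 [1, 3, 4, 1],
 [2, 6, 4, 5],
 [1, 3, 0, 4],
 [0, 2, 4, 1, 3],
 [4, 1, 6, 0],
 [0, 2, 0, 4, 3],
 [0, 4, 6, 0],
 [2, 5, 6, 4],
 [4, 6],
 [5, 2, 6, 4],
 [0, 3, 1, 4],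
 [0, 2, 6, 4, 1],
 [3, 0, 4, 0],
 [0, 2, 6, 0, 4],
 [3, 4],
 [1, 6, 2, 4],
 [3, 0, 4],
 [1, 3, 6, 4, 3],
 [3, 4, 1],
 [2, 4, 0, 3],
 [1, 3, 4, 5],
 [2, 1, 4, 3],
 [6, 4, 1, 2],
 [1, 2, 6, 4],
 [4, 1, 6],
 [4, 3, 0, 2],
 [0, 4, 6],
 [6, 2, 1, 4],
 [0, 3, 4],
 [6, 2, 4, 0],
 [4, 1, 2, 3]]

/-- a word for `s` -/
noncomputable def wd (s : S0) : List ℕ := nth [] wds s.n

theorem ev_wd : ∀ s, ev sl (wd s) = s := by decide +kernel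
theorem wd_mem : ∀ s, ∀ c ∈ wd s, c ∈ LS := by decide +kernel
theorem sl_top : gen sl LS = ⊤ := eq_top_iff.2 fun s _ => ev_wd s ▸ ev_mem_gen (wd_mem s)

theorem exists_phi {G : Type} [Group G] {e : ℕ → G} (h1 : IvOK e iv) (h2 : ∀ r ∈ HsT3.R0, ev e r = 1) :
    ∃ φ : S0 →* G, ∀ c ∈ LS, φ (sl c) = e c :=
  hom_of_tr (H19.tr_of_bd ubS sl_iv h1 (by decide) sl_rel h2 (by rw [sl_top, Subgroup.card_top, card_S0]))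
    sl_iv h1 (by decide) sl_top

theorem hom_ext {G : Type*} [Group G] {φ ψ : S0 →* G} (h : ∀ c ∈ LS, φ (sl c) = ψ (sl c)) : φ = ψ :=
  MonoidHom.eq_of_eqOn_dense (s := sl '' {c | c ∈ LS}) sl_top (by rintro _ ⟨c, hc, rfl⟩; exact h c hc)

theorem z_mem : ∀ s : S0, s ≠ 1 → s = z0 ∨ ∃ c < 7, sl c * s * (sl c)⁻¹ * s⁻¹ ≠ 1 ∧
    lk (nat_lit 0xb6db6db6db6db6db6db6db6db6db6db6db6db6db6db6db6db6db6db6db6db6db6db6db6db6db6db6db6db6db6db6db6db6db6db6db6db6db6db6db6db6db6db6db6db6db6db6db6db6db6db6db6db6db6db6db6db6db6db6db6db6db6db6db6db6db6db6db6db6db6db6db6db6db6db6db6db6db6db6db6db6db6db6db6db6db6db6db6db6db6db6db6db6db6db6db6db6db6db6db6d924924924924b6db6db6db6d924924924924b6db6db6db6d9246db9246dbb6db6db6db6d924492924450) 3 7 (sl c * s * (sl c)⁻¹ * s⁻¹).n < lk (nat_lit 0xb6db6db6db6db6db6db6db6db6db6db6db6db6db6db6db6db6db6db6db6db6db6db6db6db6db6db6db6db6db6db6db6db6db6db6db6db6db6db6db6db6db6db6db6db6db6db6db6db6db6db6db6db6db6db6db6db6db6db6db6db6db6db6db6db6db6db6db6db6db6db6db6db6db6db6db6db6db6db6db6db6db6db6db6db6db6db6db6db6db6db6db6db6db6db6db6db6db6db6db6d924924924924b6db6db6db6d924924924924b6db6db6db6d9246db9246dbb6db6db6db6d924492924450)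 3 7 s.n := by
  decide +kernel

/-- a homomorphism which does not kill `z0` is injective. -/
theorem inj_of {G : Type*} [Group G] {φ : S0 →* G} (h : φ z0 ≠ 1) : Function.Injective φ := by
  refine (injective_iff_map_eq_one _).2 fun s => ?_
  induction hn : lk (nat_lit 0xb6db6db6db6db6db6db6db6db6db6db6db6db6db6db6db6db6db6db6db6db6db6db6db6db6db6db6db6db6db6db6db6db6db6db6db6db6db6db6db6db6db6db6db6db6db6db6db6db6db6db6db6db6db6db6db6db6db6db6db6db6db6db6db6db6db6db6db6db6db6db6db6db6db6db6db6db6db6db6db6db6db6db6db6db6db6db6db6db6db6db6db6db6db6db6db6db6db6db6db6d924924924924b6db6db6db6d924924924924b6db6db6db6d9246db9246dbb6db6db6db6d924492924450) 3 7 s.n using Nat.strong_induction_on generalizing s with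
  | _ n ih =>
    intro hs
    by_contra s1
    rcases z_mem s s1 with rfl | ⟨c, -, h1, h2⟩
    · exact h hs
    · exact h1 (ih _ (hn ▸ h2) _ rfl (by simp [hs]))

/-- the action of the letter `r` on `Q0` -/
def rq : S0 → S0 := tab (nat_lit 0x2512c9049000000000118804222000000000000000000000000000000000000000000000954ae5129000000000a0d0a8740000000000000000000000000000000000000000000000a552e914900000000091c824322000000000000000000000000000000000000000000000150ac50290000000002090886400000000000000000000000000000000000000000000000000000000000000000000000000000000000000000000000000000000000000000000000000000000000000000000000000000000000000000000000000000000000000000000000000000000000000000000000000000000000000000000000000000000000000000000000000000000000000000000000000000000000000000000000000000000000000000000000502c100900000000031980c262000000000000000000000000000000000000000000000b55aed16900000000080c0a07000000000000000000000000000000000000000000000008542e1109000000000b1d82c362000000000000000000000000000000000000000000000351acd069000000000008080600)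
/-- the action of the letter `n` on `A0` -/
def nq : S0 → S0 := tab (nat_lit 0x78301a0e1c8e87638138904a260884826100f8703a1e0482816081b8d06a36108884620178b05a2e0c8683618038100a06188c866301f8f07a3e148a856280b8502a16008080600)
/-- the action of the letter `m` on `Q2` -/
def mq : S0 → S0 := tab (nat_lit 0x6fbe5aef17b341fcd86ebedaaf37a349f8da72b0ddacb663a988e273b05dec9673a18ce07fb65eed16b3c1bcf87eb6dead36a3c9b8fa62b8d9aeb76329c8c263b859ee977321ccc02f9e4ae713b140fc582e9ecaa733a148f85a3290cda4b261a8886233904de49271a08c603f964ee512b1c0bc783e96cea532a1c8b87a2298c9a6b36128c842239849e6937120cc404fae52eb15b2417c984eaed2ab35a249789a52a0d5a8b462a908a253a055e89472a10ca05fa656e914b2c13cb85ea6d6a934a2c938ba42a8d1aab56229488243a851ea9572214c800f8e42e311b0407c180e8ec2a331a048781a1280c5a0b060a80822138045e09070a00c201f8646e110b0c03c381e86c6a130a0c8383a0288c1a2b160284802038841e29170204c00)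

/-- a word in the letters of the centraliser which is trivial in the model -/
noncomputable def chkH (l : List (List ℕ)) : Bool :=
  and2 (allL l fun w => allL w fun c => memL c LH) (allN 7 (chkRelP 100 7 (nth Net.nil HsP0.nl) iv l))

/-- the word of the relation `s' = u s u⁻¹` -/
noncomputable def cw (u : List ℕ) (s s' : S0) : List ℕ := u ++ wd s ++ invW iv u ++ wd s'⁻¹

/-- `e` satisfies the relations of the centraliser and induces `φ`. -/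
structure Good {G : Type} [Group G] (e : ℕ → G) (φ : S0 →* G) : Prop where
  iv : IvOK e iv
  rel : ∀ r ∈ HsT2.R0, ev e r = 1
  map : ∀ c ∈ LS, φ (sl c) = e c

theorem exists_good {G : Type} [Group G] {e : ℕ → G} (h1 : IvOK e iv) (h2 : ∀ r ∈ HsT2.R0, ev e r = 1) :
    ∃ φ, Good e φ :=
  (exists_phi h1 (rels_sub h2 (by decide +kernel))).imp fun _ h => ⟨h1, h2, h⟩

namespace Good

variable {G : Type} [Group G] {e : ℕ → G} {φ : S0 →* G} (h : Good e φ)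
include h

theorem ev_sl {w : List ℕ} (hw : ∀ c ∈ w, c ∈ LS) : φ (ev sl w) = ev e w := by
  induction w with
  | nil => simp
  | cons c w ih =>
    rw [ev_cons, ev_cons, map_mul, h.map c (hw c (by simp)), ih fun c hc => hw c (by simp [hc])]

theorem wd (s : S0) : ev e (wd s) = φ s := by rw [← h.ev_sl (wd_mem s), ev_wd]

theorem range : φ.range = gen e LS := le_antisymm
  (by rintro _ ⟨s, rfl⟩; rw [← h.wd]; exact ev_mem_gen (wd_mem s))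
  (gen_le.2 fun c hc => ⟨_, h.map c hc⟩)

theorem one {l : List (List ℕ)} (hl : chkH l = true) : ∀ w ∈ l, ev e w = 1 := fun w hw =>
  trH h.iv h.rel w (fun c hc => memL_true.1 (allL_true.1 (allL_true.1 (and2_true.1 hl).1 w hw) c hc))
    (rel0 (and2_true.1 hl).2 w hw)

theorem of_cw {u : List ℕ} {s s' : S0} (h1 : ev e (cw u s s') = 1) : φ s' = ev e u * φ s * (ev e u)⁻¹ := by
  rw [cw, ev_append, ev_append, ev_append, ev_invW h.iv, h.wd, h.wd, map_inv, mul_inv_eq_one] at h1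
  exact h1.symm

theorem cj (u : List ℕ) (s s' : S0) (hl : chkH [cw u s s'] = true) : φ s' = ev e u * φ s * (ev e u)⁻¹ :=
  h.of_cw (h.one hl _ (by simp))

theorem cjL (u l : List ℕ) (f : S0 → S0) (hl : chkH (l.map fun n => cw u (el n) (f (el n))) = true)
    {s : S0} (hs : memL s.n l = true) : φ (f s) = ev e u * φ s * (ev e u)⁻¹ :=
  h.of_cw (h.one hl _ (List.mem_map.2 ⟨_, memL_true.1 hs, by rw [el_n]⟩))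

theorem act_r : ∀ q ∈ Q0, φ (rq q) = e 7 * φ q * (e 7)⁻¹ := fun q hq => by
  simpa using h.cjL [7] [0, 1, 2, 3, 8, 9, 10, 11, 32, 33, 34, 35, 40, 41, 42, 43, 64, 65, 66, 67, 72, 73, 74, 75, 96, 97, 98, 99, 104, 105, 106, 107, 256, 257, 258, 259, 264, 265, 266, 267, 288, 289, 290, 291, 296, 297, 298, 299, 320, 321, 322, 323, 328, 329, 330, 331, 352, 353, 354, 355, 360, 361, 362, 363] rq (by decide +kernel) (s := q) (by revert q; decide +kernel)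

theorem act_n : ∀ q ∈ A0, φ (nq q) = e 8 * φ q * (e 8)⁻¹ := fun q hq => by
  simpa using h.cjL [8] (List.range 64) nq (by decide +kernel) (s := q) (by revert q; decide +kernel)

theorem n_eq : e 8 = e 7 * e 1 * e 7 * e 0 * e 7 := by
  have := h.one (l := [[8, 7, 1, 7, 0, 7]]) (by decide +kernel) _ (List.mem_singleton_self _)
  have h8 : e 8 = (e 8)⁻¹ := h.iv 8
  simp only [ev_cons, ev_nil, mul_one] at this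
  rw [h8, inv_eq_of_mul_eq_one_right this]; group

theorem gen_le_sup : gen e LH ≤ φ.range ⊔ Subgroup.zpowers (e 7) := by
  have h1 : ∀ c ∈ LS, e c ∈ φ.range ⊔ Subgroup.zpowers (e 7) := fun c hc =>
    Subgroup.mem_sup_left ⟨_, h.map c hc⟩
  have h2 : e 7 ∈ φ.range ⊔ Subgroup.zpowers (e 7) := Subgroup.mem_sup_right (Subgroup.mem_zpowers _)
  refine gen_le.2 fun c hc => ?_
  rcases (by decide : ∀ c ∈ LH, c ∈ LS ∨ c = 7 ∨ c = 8) c hc with e | rfl | rfl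
  · exact h1 c e
  · exact h2
  · rw [h.n_eq]
    exact mul_mem (mul_mem (mul_mem (mul_mem h2 (h1 1 (by decide))) h2) (h1 0 (by decide))) h2

theorem sup_le_gen : φ.range ⊔ Subgroup.zpowers (e 7) ≤ gen e LH :=
  sup_le (h.range.le.trans (gen_mono (by decide))) (Subgroup.zpowers_le.2 (mem_gen (by decide)))

end Good

theorem exists_good0 : ∃ φ : S0 →* P, Good e0 φ ∧ Function.Injective φ := by
  obtain ⟨φ, h⟩ := exists_good iv0 (rels_sub R0 (by decide +kernel))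
  refine ⟨φ, h, inj_of ?_⟩
  rw [← h.wd]
  exact ev_ne_one_of_chk HsP0.hn (fun c _ => pe_rho _ c) (b := 4) (by decide +kernel)

theorem card_H0 : Nat.card (gen e0 LH) = 7680 :=
  le_antisymm (ubH _ _ iv0 (rels_sub R0 (by decide +kernel))).2 cardH

end H11.Hs
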