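import Mathlib
import Cfsg.Agent.H25.SyH
import Cfsg.Agent.H11.HsG
import Cfsg.Agent.S1175

/-!
# Sylow `2`-subgroups of type `HS`: notation
-/

set_option autoImplicit false
set_option linter.unusedSectionVars false
set_option maxRecDepth 100000
set_option synthInstance.maxSize 4000

open Cfsg H24 H26 H26.Gold Subgroup H7.SJ H25.Tw H25.Sy

namespace H11.Hs

universe u

variable {G : Type u} [Group G] [Finite G] {φ : S0 →* G} {H K L P Q S : Subgroup G} {a b g k x y : G}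
  {c s s' : S0} (h : Emb φ)

theorem two_over (hS : Syl 2 H S) (hL : L ≤ H) (hQ : TwoG Q) (hQL : Q ≤ L) (hP : TwoG P) (hPL : P ≤ L) :
    ∃ m ∈ H, ∃ l ∈ L, cj m Q ≤ S ∧ cj (m * l) P ≤ S := by
  obtain ⟨R, hR, h1⟩ := Sylow_superset p2 hQ hQL
  obtain ⟨l, hl, h2⟩ := Sylow_Jsub p2 hR hP hPL
  obtain ⟨m, hm, h3⟩ := Sylow_Jsub p2 hS hR.pi (hR.le.trans hL)
  exact ⟨m, hm, l, hl, (cj_mono m h1).trans h3, by rw [cj_mul]; exact (cj_mono m h2).trans h3⟩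

theorem h1175 [IsSimpleGroup G] : H1175 G := fun M S z hM z2 z1 hz hS hzS hc h2 h3 => by
  obtain ⟨T, rfl⟩ := hS.exists_sylow_top Nat.prime_two
  exact Cfsg.Agent.S1175.result M hM z (ord2 z2 z1) hz ⟨T, hzS, fun s hs => mem_C1.1 (hc hs)⟩ h2 h3

/-- the class of the central involution. -/
abbrev D (φ : S0 →* G) (a : G) : Prop := IsConj (φ z0) a
/-- the class of the involution `e4`. -/
abbrev B (φ : S0 →* G) (a : G) : Prop := IsConj (φ e4) a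

theorem D.conj (ha : D φ a) (g : G) : D φ (g * a * g⁻¹) := ha.trans (isConj_iff.2 ⟨g, rfl⟩)
theorem B.conj (ha : B φ a) (g : G) : B φ (g * a * g⁻¹) := ha.trans (isConj_iff.2 ⟨g, rfl⟩)
theorem D.of (ha : D φ (φ s)) (e : φ s' = g * φ s * g⁻¹) : D φ (φ s') := e ▸ ha.conj g
theorem B.of (ha : B φ (φ s)) (e : φ s' = g * φ s * g⁻¹) : B φ (φ s') := e ▸ ha.conj g

theorem isConj_cl (hs : Iv s) (e : cl s' = cl s) : IsConj (φ s) (φ s') := by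
  obtain ⟨g, rfl⟩ := cl_cj hs e
  exact Emb.conj g s

theorem B_of (hs : cl s = 4) : B φ (φ s) := isConj_cl (by decide +kernel) (hs.trans (by decide +kernel))

theorem le_H : φ.range ≤ C{φ z0} := Emb.le_C zc

theorem ea_V : EA (V0.map φ) := ea_of_sq (by rintro _ ⟨w, hw, rfl⟩; exact Emb.sq ((V_A w).1 hw).2)

theorem Z4_eq : Z4.map φ = zpowers (φ i0) := by
  rw [← MonoidHom.map_zpowers]
  refine congrArg _ (le_antisymm (fun s hs => ?_) (zpowers_le.2 (by decide +kernel)))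
  rcases mem_Z4 s hs with rfl | rfl | rfl | rfl
  exacts [one_mem _, i2 ▸ mul_mem (mem_zpowers _) (mem_zpowers _), mem_zpowers _, inv_mem (mem_zpowers _)]

theorem Ci_le : C{φ i0} ≤ C{φ z0} := fun g hg => by
  rw [mem_C1_iff_conj, ← i2, map_mul, conj_mul', mem_C1_iff_conj.1 hg]

include h

theorem sylH : Syl 2 C{φ z0} φ.range := h.syl.of_le le_H le_top

theorem D.sq (ha : D φ a) : a * a = 1 ∧ a ≠ 1 := conj_inv' ha (Emb.sq z2) (h.ne_one z1)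

theorem D.two (ha : D φ a) : TwoE a := twoE_of_sq (ha.sq h).1

theorem D.iv (ha : D φ (φ s)) : Iv s := (iv_iff s).2 (h.inv_of ha (Emb.sq z2) (h.ne_one z1))

theorem iv_cj (hs : Iv s) (e : φ s' = g * φ s * g⁻¹) : Iv s' :=
  (iv_iff _).2 ⟨(h.sq1 e).2 ((iv_iff _).1 hs).1, mt (h.eq1 e).1 ((iv_iff _).1 hs).2⟩

theorem mem_cz' (hs : φ s ∈ C{φ z0}) : g ∈ cz (φ s) (zpowers (φ z0)) ↔
    g ∈ C{φ z0} ∧ ((φ s)⁻¹ * (g * φ s * g⁻¹) = 1 ∨ (φ s)⁻¹ * (g * φ s * g⁻¹) = φ z0) := by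
  have e : N[zpowers (φ z0)] = C{φ z0} := le_antisymm (fun g hg => mem_C1_iff_conj.2
    ((mem_zp (Emb.sq z2) (conj_mem hg (mem_zpowers _))).resolve_left
      (by rw [conj_eq_one_iff']; exact h.ne_one z1))) (norm_zpowers_of_cent le_rfl)
  rw [mem_cz (e ▸ hs), e]
  refine and_congr_right fun _ => ⟨mem_zp (Emb.sq z2), ?_⟩
  rintro (e | e) <;> rw [e]
  exacts [one_mem _, mem_zpowers _]

theorem mem_cz'' : φ c ∈ cz (φ s) (zpowers (φ z0)) ↔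
    s⁻¹ * (c * s * c⁻¹) = 1 ∨ s⁻¹ * (c * s * c⁻¹) = z0 := by
  rw [mem_cz' h (le_H ⟨s, rfl⟩), ← map_one φ, ← map_inv, ← map_inv, ← map_mul, ← map_mul, ← map_mul,
    h.eq, h.eq, and_iff_right (le_H ⟨c, rfl⟩)]

theorem cj_cz (hk : k ∈ C{φ z0}) (e : φ s' = k * φ s * k⁻¹) (hg : g ∈ cz (φ s) (zpowers (φ z0))) :
    k * g * k⁻¹ ∈ cz (φ s') (zpowers (φ z0)) := by
  obtain ⟨h1, h2⟩ := (mem_cz' h (le_H ⟨s, rfl⟩)).1 hg
  refine (mem_cz' h (le_H ⟨s', rfl⟩)).2 ⟨mul_mem (mul_mem hk h1) (inv_mem hk), ?_⟩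
  rw [show (φ s')⁻¹ * (k * g * k⁻¹ * φ s' * (k * g * k⁻¹)⁻¹) =
    k * ((φ s)⁻¹ * (g * φ s * g⁻¹)) * k⁻¹ by rw [e]; group]
  rcases h2 with e | e <;> rw [e]
  · simp
  · exact Or.inr (mem_C1_iff_conj.1 hk)

theorem T_eq : φ.range ⊓ C{φ i0} = T0.map φ := le_antisymm
  (by rintro _ ⟨⟨s, rfl⟩, hs⟩; exact h.mem.2 ((mem_T s).2 (h.mem_C.1 hs)))
  (by rintro _ ⟨s, hs, rfl⟩; exact ⟨⟨s, rfl⟩, h.mem_C.2 ((mem_T s).1 hs)⟩)

theorem S_Ni : φ.range ≤ N[zpowers (φ i0)] := Z4_eq (φ := φ) ▸ h.syl_N (by decide +kernel)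

theorem sylT : Syl 2 C{φ i0} (T0.map φ) := by
  rw [← T_eq h, ← C_zpowers]
  exact (h.syl.of_le (S_Ni h) le_top).inf_nml ⟨C_le_N _, N_le_NC _⟩

theorem CQ' : φ.range ⊓ C[Q0.map φ] ≤ Z4.map φ := by
  rintro _ ⟨⟨s, rfl⟩, hs⟩
  have k : ∀ q ∈ Q0, s * q = q * s := fun q hq => h.mem_C.1 (C_le_C1 (h.mem.2 hq) hs)
  exact h.mem.2 (CQ s (k _ (by decide +kernel)) (k _ (by decide +kernel)) (k _ (by decide +kernel))
    (k _ (by decide +kernel)))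

/-- a subgroup containing `C(z)` in which the conjugates of `z` in the Sylow subgroup are fused. -/
theorem top_of (hH : C{φ z0} ≤ K) (tr : ∀ s, D φ (φ s) → ∃ m ∈ K, φ z0 = m * φ s * m⁻¹)
    (hz : ∀ s, D φ (φ s) → s ≠ z0 → D φ (φ (z0 * s))) (two : ¬ D φ (φ e4)) : K = ⊤ := by
  by_contra hne
  have := h.simple
  have hS := le_H.trans hH
  have t2 := twoE_of_sq (Emb.sq (φ := φ) z2)
  obtain ⟨H, hH⟩ := h1175 K _ (φ z0) hne (Emb.sq z2) (h.ne_one z1)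
    (hS ⟨_, rfl⟩) h.syl ⟨_, rfl⟩ le_H (fun k hk => by
      obtain ⟨m, hm, r, e⟩ := h.pull1 hS (t2.conj k) hk
      have e1 : φ r = m * k * φ z0 * (m * k)⁻¹ := by rw [e]; group
      obtain ⟨m', hm', e2⟩ := tr r (isConj_iff.2 ⟨_, e1.symm⟩)
      exact (mul_mem_cancel_left hm).1 ((mul_mem_cancel_left hm').1
        (hH (mem_C1_iff_conj.2 (Emb.trans e1 e2).symm)))) fun k hk hne => by
      obtain ⟨m, hm, r, e⟩ := h.pull1 le_H (t2.conj k) (mem_C1.2 hk.symm)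
      have ez := mem_C1_iff_conj.1 hm
      obtain ⟨m', hm', e2⟩ := tr _ (hz r (isConj_iff.2 ⟨m * k, by rw [e]; group⟩) fun e1 =>
        hne (mul_left_cancel (mul_right_cancel (e.symm.trans (e1 ▸ ez.symm)))))
      have e3 : φ z0 = m' * m * (φ z0 * (k * φ z0 * k⁻¹)) * (m' * m)⁻¹ :=
        e2.trans (by rw [map_mul, e]; nth_rewrite 1 [← ez]; group)
      intro g hg
      have h1 : m' * m * g * (m' * m)⁻¹ ∈ C{φ z0} := by rw [e3, ← cj_C1]; exact conj_mem_cj _ hg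
      exact (conj_mem_iff (norm_self K (mul_mem hm' (hH hm)))).1 (hH h1)
  exact two (isConj_iff.2 (H26.BR.conj_of_se hH (ord2 (Emb.sq z2) (h.ne_one z1))
    (ord2 (Emb.sq (by decide +kernel)) (h.ne_one (by decide +kernel)))))

end H11.Hs
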