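import Mathlib
import Cfsg.Agent.H11.HsD

set_option autoImplicit false
set_option linter.unusedSectionVars false
set_option maxRecDepth 100000
set_option synthInstance.maxSize 4000

open Cfsg H24 H26 H26.Gold Subgroup H7.SJ H25.Tw H25.Sy

namespace H11.Hs

universe u

variable {G : Type u} [Group G] [Finite G] {φ : S0 →* G} {a g k : G} {c s s' : S0} (h : Emb φ)
include h

theorem hsA_p4 (e : φ c = g * φ e4 * g⁻¹) (hg : ∀ w, w * e4 = e4 * w → ∃ w', φ w' = g * φ w * g⁻¹) :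
    cl c = 4 := by
  obtain ⟨d, d1, d2, f, f1, f2, h1, h2⟩ := p4_e4
  obtain ⟨d', ed⟩ := hg d d2
  obtain ⟨f', ef⟩ := hg f f2
  have E := Emb.mul ed ef
  have E := Emb.mul (Emb.mul E E) (Emb.mul E E)
  exact p4_cl (iv_cj h (by decide +kernel) e) ⟨d', iv_cj h d1 ed, (h.comm ed e).2 d2, f', iv_cj h f1 ef,
    (h.comm ef e).2 f2, mt (h.eq1 E).1 h1, mt (h.eq' E e).1 h2⟩

theorem notB_sq (w : S0) : ¬ B φ (φ (w * w)) := fun hb => by
  obtain ⟨g, e⟩ := isConj_iff.1 hb.symm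
  have e' : g * φ w * g⁻¹ * (g * φ w * g⁻¹) = φ e4 := by rw [← conj_mul', ← map_mul, e]
  obtain ⟨m, -, l, hl, h1, h2⟩ := two_over h.syl le_top (h.two C{e4}) h.map_C
    ((h.twoE w).conj g).isPi (zpowers_le.2 (mem_C1.2 (by rw [← e']; group)))
  have k : ∀ w, w * e4 = e4 * w → ∃ w', φ w' = m * φ w * m⁻¹ := fun w hw =>
    h1 (conj_mem_cj m (h.mem.2 (mem_C1.2 hw)))
  obtain ⟨c, ec⟩ := k e4 rfl
  obtain ⟨w', ew⟩ := h2 (conj_mem_cj _ (mem_zpowers _))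
  refine sq_ne4 w' (hsA_p4 h ?_ k)
  rw [map_mul, ew, ← conj_mul', e', show m * l * φ e4 * (m * l)⁻¹ = m * (l * φ e4 * l⁻¹) * m⁻¹ by group,
    mem_C1_iff_conj.1 hl]

theorem notB_le (hs : cl s ≤ 3) : ¬ B φ (φ s) := by
  obtain ⟨g, e⟩ := to_rp s (iv_of rfl (by omega))
  obtain ⟨w, e'⟩ := sq_rp (cl s) (by omega)
  rw [← e, ← e', conj_mul']
  exact notB_sq h _

theorem notBD (ha : D φ a) : ¬ B φ a := fun hb =>
  notB_le h (s := z0) (by decide +kernel) (hb.trans ha.symm)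

theorem hsA_star {r w : S0} (hr : D φ (φ r)) (hw : Iv w) (ne : w ≠ r) (hc : w * r = r * w)
    (e : cl (w * r) = cl r) : D φ (φ w) := by
  obtain ⟨k, e1, e2⟩ := h.ext0 zc hr
  obtain ⟨w', e3⟩ := e2 w hc
  have i' := iv_cj h hw e3
  have h1 := isConj_cl (φ := φ) i' (cl_z w' i' (mt (h.eq' e3 e1).1 ne))
  exact D.of ((D.of (hr.trans (isConj_cl (hr.iv h) e)) (Emb.mul e3 e1)).trans h1.symm) (Emb.symm e3)

theorem D_u : D φ (φ u0) := by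
  have k : ∀ w, cl w = 1 → D φ (φ w) → D φ (φ u0) := fun w e hw =>
    hw.trans (isConj_cl (iv_of e) (e ▸ by decide +kernel))
  obtain ⟨r, hr, ne⟩ := h.zstar (c := u0) (s' := el 320) z2 z1 (by decide +kernel)
  rcases f2 r (D.iv h hr) ne with e | ⟨w, w1, e | e, w2, w3, w4⟩
  · exact k r e hr
  · exact k w e (hsA_star h hr w1 w2 w3 w4)
  have hw := hsA_star h hr w1 w2 w3 w4
  rcases f2 w w1 (by rintro rfl; exact absurd e.1 (by decide +kernel)) with e' | ⟨x, x1, e' | e', x2, x3, x4⟩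
  · exact k w e' hw
  · exact k x e' (hsA_star h hw x1 x2 x3 x4)
  · exact absurd e.1 e'.2

theorem ext1 (hs : cl s = 1) : ∃ k ∈ N[Q2.map φ], φ z0 = k * φ s * k⁻¹ := by
  obtain ⟨k, e1, e2⟩ := h.ext0 zc ((D_u h).trans
    (isConj_cl (s' := s) (by decide +kernel) (hs.trans (by decide +kernel))))
  obtain ⟨w, w1, w2⟩ := root4 s ((mem_V s).2 (Or.inr (by omega))) ((iv_iff s).1 (iv_of hs)).2
  obtain ⟨w', e⟩ := e2 w w1
  have E := Emb.mul (Emb.mul e e) (Emb.mul e e)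
  rw [w2] at E
  have h1 : cl (w' * w' * (w' * w')) = 1 := by
    have h1 := (pow4 w').resolve_left (mt (h.eq1 E).1 z1)
    have h2 := mt (cl0 _) (mt (h.eq' E e1).1 (by rintro rfl; exact absurd hs (by decide +kernel)))
    omega
  refine ⟨k, h.mem_N fun q hq => ?_, e1⟩
  obtain ⟨q', eq⟩ := e2 q ((cl1 s hs q).2 ((mem_Q2 q).1 hq))
  exact ⟨q', (mem_Q2 q').2 ((cl1 _ h1 q').1 ((h.comm eq E).2 (zc q))), eq⟩

theorem NQ2_V : N[Q2.map φ] ≤ N[V0.map φ] := fun g hg => h.mem_N fun x hx => by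
  obtain ⟨w, hw, rfl⟩ := V_sq x hx
  obtain ⟨w', h1, e⟩ := Emb.of_N hg ((mem_Q2 w).2 (A_ab w hw u0 (by decide +kernel)))
  exact ⟨_, (V_A _).2 ⟨(Q2_sq w' ((mem_Q2 w').1 h1)).1, (h.sq1 (Emb.mul e e)).2 ((V_A _).1 hx).2⟩,
    Emb.mul e e⟩

theorem NQ2_A : N[Q2.map φ] ≤ N[A0.map φ] := fun g hg => h.mem_N fun x hx => by
  obtain ⟨x', h1, e⟩ := Emb.of_N hg ((mem_Q2 x).2 (A_ab x hx u0 (by decide +kernel)))
  obtain ⟨v, hv, e'⟩ := Emb.of_N (inv_mem (NQ2_V h hg)) (show v0 ∈ V0 by decide +kernel)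
  exact ⟨x', CV_A x' ((mem_Q2 x').1 h1) ((h.comm (Emb.symm e) e').1 (A_ab x hx v ((V_A v).1 hv).1)), e⟩

theorem H_le_L : C{φ z0} ≤ Od[C{φ z0}] ⊔ (C{φ z0} ⊓ cz (φ i0) (zpowers (φ z0))) := by
  refine zstar_mod (C_zpowers _).ge (sylH h) (zpowers_le.2 ⟨_, rfl⟩) ⟨_, rfl⟩ (fun e => ?_)
    (by rw [← map_mul, i2]; exact mem_zpowers _) ?_
  · rcases mem_zp (Emb.sq z2) e with e | e
    exacts [h.ne_one (by decide +kernel) e, absurd (h.eq.1 e) (by decide +kernel)]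
  rintro g hg ⟨y, e⟩
  have gz := (mem_C1_iff_conj.1 hg).symm
  have y2 : y * y = z0 := (h.rel e e gz).2 i2
  rw [← e, ← map_inv, ← map_mul]
  rcases q8a y y2 with rfl | rfl | ⟨w, w1, w2⟩
  · rw [inv_mul_cancel, map_one]; exact one_mem _
  · rw [show i0⁻¹ * i0⁻¹ = z0 by decide +kernel]; exact mem_zpowers _
  exfalso
  have iH : φ i0 ∈ C{φ z0} := le_H ⟨_, rfl⟩
  obtain ⟨l, hl, w', e'⟩ := h.pull1 (K := cz (φ i0) (zpowers (φ z0))) (w := g⁻¹ * φ w * g⁻¹⁻¹) (by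
      rintro _ ⟨s, rfl⟩
      rcases i_cj s with e | e <;> rw [mem_cz'' h, e] <;> decide +kernel)
    ((h.twoE w).conj _) ((mem_cz' h iH).2 ⟨mul_mem (mul_mem (inv_mem hg) (le_H ⟨_, rfl⟩))
      (inv_mem (inv_mem hg)), Or.inr (by
        have : φ w * φ y * (φ w)⁻¹ = (φ y)⁻¹ := by rw [← map_mul, w2]; simp
        rw [show φ z0 = (φ i0)⁻¹ * (φ i0)⁻¹ by
          rw [← map_inv, ← map_mul]; exact congrArg _ (by decide +kernel)]
        congr 1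
        rw [Emb.symm e, show ∀ a b c : G, a * b * a⁻¹ * (a * c * a⁻¹) * (a * b * a⁻¹)⁻¹ =
          a * (b * c * b⁻¹) * a⁻¹ by intros; group, this]
        group)⟩)
  obtain ⟨l1, l2⟩ := (mem_cz' h iH).1 hl
  have e1 : φ w' = l * g⁻¹ * φ w * (l * g⁻¹)⁻¹ := by rw [e']; group
  have c := q8b w' ((h.rel e1 e1 (mem_C1_iff_conj.1 (mul_mem l1 (inv_mem hg))).symm).2 w1)
  obtain ⟨y', h1, h2⟩ : ∃ y', w' * y' = y' * w' ∧ φ y' = l * φ i0 * l⁻¹ := by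
    rcases l2 with l2 | l2
    · exact ⟨i0, c, inv_mul_eq_one.1 l2⟩
    · exact ⟨i0 * z0, by rw [← mul_assoc, c, mul_assoc, zc w', mul_assoc],
        by rw [map_mul, ← l2, mul_inv_cancel_left]⟩
  have h3 := (h.comm e1 (Emb.trans (Emb.symm e) h2)).1 h1
  rw [w2, mul_left_inj, inv_eq_iff_mul_eq_one, y2] at h3
  exact z1 h3

theorem hsA_a : ¬ cj g (Q1.map φ) ≤ Q0.map φ := fun hle => by
  have e := eq_of_le_of_card_ge hle (by rw [card_cj, h.card, h.card, card_Q0, card_Q1])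
  obtain ⟨n, hn, h1⟩ := h.pull (h.syl_N Q_n) (h.syl.pi.cj g) (e ▸ norm_cj (h.syl_N Q1_n) g)
  have k : ∀ w, ∃ w', φ w' = n * g * φ w * (n * g)⁻¹ := fun w => by
    obtain ⟨w', e⟩ := h1 _ (conj_mem_cj g ⟨w, rfl⟩)
    exact ⟨w', by rw [e]; group⟩
  obtain ⟨c, ec⟩ := k e4
  have h2 := hsA_p4 h ec fun w _ => k w
  refine ((Q1_cl c (iv_of h2)).2.1 (Or.inl h2)).2 (h.mem.1 ?_)
  rw [ec, show n * g * φ e4 * (n * g)⁻¹ = n * (g * φ e4 * g⁻¹) * n⁻¹ by group]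
  exact conj_mem hn (hle (conj_mem_cj g (h.mem.2 (by decide +kernel))))

theorem hsA_b {R : Subgroup S0} (hR : ∀ p ∈ R, p * p = 1 ∨ p * p = z0) (hg : g ∈ C{φ z0})
    (hle : cj g (R.map φ) ≤ T0.map φ) : cj g (R.map φ) ≤ Q0.map φ ∨ cj g (R.map φ) ≤ Q1.map φ := by
  have k : ∀ p, φ p ∈ cj g (R.map φ) → p * p = 1 ∨ p * p = z0 := fun p hp => by
    obtain ⟨_, ⟨r, hr, rfl⟩, e⟩ := mem_cj'.1 hp
    exact (hR r hr).imp (h.sq1 e).2 (h.rel e e (mem_C1_iff_conj.1 hg).symm).2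
  by_contra! hn
  obtain ⟨x, hx, x1⟩ := SetLike.not_le_iff_exists.1 hn.1
  obtain ⟨y, hy, y1⟩ := SetLike.not_le_iff_exists.1 hn.2
  obtain ⟨x, xT, rfl⟩ := hle hx
  obtain ⟨y, yT, rfl⟩ := hle hy
  rw [h.mem] at x1 y1
  have := QQ y ((T_sq y ((mem_T y).1 yT) (k y hy)).resolve_right y1) y1 x
    ((T_sq x ((mem_T x).1 xT) (k x hx)).resolve_left x1) x1
  exact (k _ (map_mul φ y x ▸ mul_mem hy hx)).elim this.1 this.2

omit h in
theorem hsA_Z (hk : k ∈ C{φ i0}) (hs : s ∈ Z4) : φ s = k * φ s * k⁻¹ :=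
  (conj_eq_of_mem_C ((C_zpowers _).ge hk) (Z4_eq (φ := φ) ▸ mem_map_of_mem φ hs)).symm

theorem hsA_c (hk : k ∈ C{φ i0}) (i1 : Iv s) (hs : s ∈ Q0) (e : φ s' = k * φ s * k⁻¹) : s' ∈ Q0 := by
  have i2 := iv_cj h i1 e
  by_contra hn
  have h1 := (T_inv s' i2 ((h.comm e (mem_C1_iff_conj.1 hk).symm).2 (Q_cm s hs).2.1)).resolve_left hn
  have h2 := ((Q1_cl s' i2).2.1 h1).1
  obtain ⟨m, hm, l, hl, hX, hY⟩ := two_over (L := C{φ i0} ⊓ cz (φ s') (zpowers (φ z0))) (sylT h) inf_le_left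
    (h.two Q1) (by
      rintro _ ⟨q, hq, rfl⟩
      exact ⟨h.mem_C.2 (Q1_cm q hq).2.1, (mem_cz'' h).2 ((Q1_cm s' h2).2.2 q hq)⟩)
    ((h.two Q0).cj k) (fun x hx => by
      obtain ⟨_, ⟨q, hq, rfl⟩, rfl⟩ := mem_cj'.1 hx
      exact mem_inf.2 ⟨mul_mem (mul_mem hk (h.mem_C.2 (Q_cm q hq).2.1)) (inv_mem hk),
        cj_cz h (Ci_le hk) e ((mem_cz'' h).2 ((Q_cm s hs).2.2 q hq))⟩)
  rw [← cj_mul] at hY
  have hX := (hsA_b h (fun p hp => (Q1_cm p hp).1) (Ci_le hm) hX).resolve_left (hsA_a h)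
  have hY := (hsA_b h (fun p hp => (Q_cm p hp).1) (Ci_le (mul_mem (mul_mem hm hl.1) hk)) hY).resolve_right
    fun hle => hsA_a h (cj_le_iff.2 (by
      rw [inv_inv]
      exact (eq_of_le_of_card_ge hle (by rw [card_cj, h.card, h.card, card_Q0, card_Q1])).ge))
  obtain ⟨p, p1, ep⟩ := hX (conj_mem_cj m (h.mem.2 h2))
  have p0 : p ∈ Q0 := by
    have h3 := hY (conj_mem_cj _ (h.mem.2 hs))
    rw [show m * l * k * φ s * (m * l * k)⁻¹ = m * φ s' * m⁻¹ *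
      (m * ((φ s')⁻¹ * (l * φ s' * l⁻¹)) * m⁻¹) by rw [e]; group, ← ep] at h3
    rcases ((mem_cz' h (le_H ⟨_, rfl⟩)).1 hl.2).2 with e1 | e1 <;> rw [e1] at h3
    · exact h.mem.1 (by simpa using h3)
    · rw [mem_C1_iff_conj.1 (Ci_le hm), ← map_mul, h.mem] at h3
      exact (mul_mem_cancel_right (by decide +kernel)).1 h3
  have pW := (mem_W p).1.2 ⟨p0, p1⟩
  have i3 := (iv_iff p).1 (iv_cj h i2 ep)
  have nB : ¬ B φ (φ s') := fun hb => notB_le h (le_trans (((mem_V p).1 ((mem_W p).2 pW i3.1)).resolve_left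
    i3.2) (by norm_num)) (hb.of ep)
  have h8 := h1.resolve_left fun e => nB (B_of e)
  have k4 : ∀ x, cl x = 4 → ∃ x', cl x' = 4 ∧ φ x' = m⁻¹ * φ x * m⁻¹⁻¹ := fun x hx => by
    obtain ⟨x', h3, e1⟩ := Emb.of_N (inv_mem (mem_N_of_cj_le hX))
      ((Q1_cl x (iv_of hx)).2.1 (Or.inl hx)).1
    have hb := (B_of (φ := φ) hx).of e1
    have i4 := iv_cj h (iv_of hx) e1
    refine ⟨x', ?_, e1⟩
    rcases (Q1_cl x' i4).1 h3 with e2 | e2 | e2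
    · exact absurd hb (notB_le h (by omega))
    · exact e2
    · exact absurd (hb.trans (isConj_cl i4 (h8.trans e2.symm))) nB
  obtain ⟨x, -, x1, y, -, y1, h3⟩ := W_4 p pW
  obtain ⟨x', x2, ex⟩ := k4 x x1
  obtain ⟨y', y2, ey⟩ := k4 y y1
  have h4 := (h.eq' (Emb.mul (Emb.mul (Emb.inv (Emb.symm ep)) ex) ey) (hsA_Z ((C{φ i0}).inv_mem hm) h3)).2 rfl
  have h5 := (by decide +kernel : ∀ s ∈ Z4, s ∈ W0) _ (h4 ▸ h3)
  rw [mul_assoc, mul_mem_cancel_right (four_W x' (iv_of x2) x2 y' (iv_of y2) y2), inv_mem_iff] at h5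
  exact hn ((mem_W s').1.1 h5).1

theorem sc_i (hk : k ∈ C{φ i0}) (hs : s ∈ Q0) (e : φ s' = k * φ s * k⁻¹) : s' ∈ Q0 := by
  rcases Q_dec s hs with h1 | ⟨p, p1, p2, rfl | rfl⟩
  · exact (h.eq' e (hsA_Z hk h1)).2 rfl ▸ hs
  · exact hsA_c h hk p1 p2 e
  · have := Emb.mul (Emb.inv (mem_C1_iff_conj.1 hk).symm) e
    rw [inv_mul_cancel_left] at this
    exact (mul_mem_cancel_left (by decide +kernel)).1 (hsA_c h hk p1 p2 this)

end H11.Hs
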