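import Mathlib
import Cfsg.Agent.H11.HsD

set_option autoImplicit false
set_option linter.unusedSectionVars false
set_option maxRecDepth 100000
set_option synthInstance.maxSize 4000

open Cfsg H24 H26 H26.Gold Subgroup H7.SJ H25.Tw H25.Sy
open scoped commutatorElement

namespace H11.Hs

universe u

section abs

variable {X : Type u} [Group X] [Finite X] {𝒟 : Set X} {A W K : Subgroup X} {s t w : X}

/-- `t` acts freely on the elementary abelian group `A`, with fixed points `W`. -/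
structure Tx (A W : Subgroup X) (t : X) : Prop where
  nA : t ∈ N[A]
  sq : t * t ∈ A
  fix : ∀ a ∈ A, t * a * t⁻¹ = a → a ∈ W
  mul : ∀ a ∈ A, a * (t * a * t⁻¹) ∈ W
  sur : ∀ w ∈ W, ∃ a ∈ A, w = a * (t * a * t⁻¹)

theorem Tx.two (h : Tx A W t) (hE : EA A) (hw : w ∈ A) : t * (t * w * t⁻¹) * t⁻¹ = w := by
  rw [show t * (t * w * t⁻¹) * t⁻¹ = t * t * w * (t * t)⁻¹ by group,
    conj_eq_of_mem_C (hE.le_C h.sq) hw]

theorem Tx.cen (h : Tx A W t) (hE : EA A) (hw : w ∈ W) : t * w * t⁻¹ = w := by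
  obtain ⟨a, ha, rfl⟩ := h.sur w hw
  rw [conj_mul', h.two hE ha, hE.comm (conj_mem h.nA ha) ha]

theorem Tx.normK (ctx : Ctx 𝒟 ⊤ A) (hK : Piece 𝒟 ⊤ K) (hE : EA A) (WA : W ≤ A) (cA : ♯A = 16)
    (cW : ♯W = 4) (h1 : Tx A W s) (h2 : Tx A W t) (h3 : Tx A W (s * t)) : s ∈ N[K] ∧ t ∈ N[K] := by
  have mv : ∀ t ∈ N[A], t ∉ N[K] → ∀ a ∈ A ⊓ K, t * a * t⁻¹ ∈ A ⊓ Ck K := fun t ht hn a ha => by
    have hK' := hK.cj ctx.sc t
    rw [cj_top] at hK'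
    exact mem_inf.2 ⟨conj_mem ht ha.1,
      hK.le_Ck_of_ne hK' (mt mem_N_iff_cj.2 hn) (conj_mem_cj t ha.2)⟩
  by_contra hn
  obtain ⟨u, hu, un⟩ : ∃ u, Tx A W u ∧ u ∉ N[K] :=
    (not_and_or.1 hn).elim (⟨s, h1, ·⟩) (⟨t, h2, ·⟩)
  have k1 : A ≤ W ⊔ A ⊓ Ck K := (ctx.le_sup hK).trans (sup_le (fun a ha =>
    (mul_mem_cancel_right (mem_sup_right (mv u hu.nA un a ha))).1 (mem_sup_left (hu.mul a ha.1)))
    le_sup_right)
  have k2 : W ⊓ (A ⊓ Ck K) = ⊥ := by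
    have e1 := card_sup (hE.abl.norm (inf_le_left : A ⊓ Ck K ≤ A) WA)
    have e2 := card_mul_relIndex (inf_le_left : A ⊓ Ck K ≤ A)
    have e3 := (ctx.trs hK).four
    rw [← le_antisymm k1 (sup_le WA inf_le_left), cA, cW] at e1
    rw [cA] at e2
    have := card_pos (W ⊓ (A ⊓ Ck K))
    exact card_eq_one'.1 (by nlinarith)
  have k3 : ∀ u, Tx A W u → u ∉ N[K] := fun u hu un => by
    have := card_le (k1.trans (sup_le le_rfl fun b hb => hu.fix b hb.1 (by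
      have := mem_bot.1 (k2.le (mem_inf.2 ⟨hu.mul b hb.1, mul_mem hb (conj_mem (norm_inf inf_le_left
        (inf_le_right.trans (norm_Ck le_rfl)) (mem_inf.2 ⟨hu.nA, un⟩)) hb)⟩))
      rw [← inv_eq_of_mul_eq_one_right this, hE.inv hb.1])))
    omega
  obtain ⟨a, ha, a1⟩ := SetLike.not_le_iff_exists.1 (ctx.not_le_Ck hK)
  have m1 := mv s h1.nA (k3 s h1) a ha
  have m2 := mv t h2.nA (k3 t h2) a ha
  have e : s * a * s⁻¹ * (t * a * t⁻¹) = 1 := mem_bot.1 (k2.le (mem_inf.2 ⟨by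
    have := mul_mem (h1.mul a ha.1) (h2.mul a ha.1)
    rwa [hE.comm ha.1 m1.1, mul_assoc, ← mul_assoc a, hE.sq ha.1, one_mul] at this, mul_mem m1 m2⟩))
  rw [h1.cen hE (h3.fix a ha.1 (by
    rw [show s * t * a * (s * t)⁻¹ = s * (t * a * t⁻¹) * s⁻¹ by group,
      ← inv_eq_of_mul_eq_one_right e, hE.inv m1.1, h1.two hE ha.1]))] at m1
  exact a1 m1.2

theorem Tx.le_Ck (ctx : Ctx 𝒟 ⊤ A) (hK : Piece 𝒟 ⊤ K) (hE : EA A) (WA : W ≤ A) (cA : ♯A = 16)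
    (cW : ♯W = 4) (h1 : Tx A W s) (h2 : Tx A W t) (h3 : Tx A W (s * t)) : W ≤ Ck K := by
  obtain ⟨s1, t1⟩ := h1.normK ctx hK hE WA cA cW h2 h3
  have T := ctx.trs hK
  obtain ⟨B, hB⟩ : ∃ B, B = A ⊓ Ck K := ⟨_, rfl⟩
  rw [← hB] at T
  have nB : N[A] ⊓ N[K] ≤ N[B] := hB ▸ norm_inf inf_le_left (inf_le_right.trans (norm_Ck le_rfl))
  have AB : A ≤ N[B] := hE.abl.norm le_rfl T.le
  have nR : N[A] ⊓ N[K] ≤ N[centQ A B] := norm_centQ inf_le_left nB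
  have UM : K ⊓ N[A] ≤ N[A] ⊓ N[K] := le_inf inf_le_right (norm_of_le inf_le_left)
  have nU : N[A] ⊓ N[K] ≤ N[K ⊓ N[A]] := norm_inf inf_le_right (norm_of_le inf_le_left)
  have AR : A ≤ centQ A B := (le_centQ AB).2 ⟨AB, by rw [comm_eq_bot.2 hE.le_C]; exact bot_le⟩
  have RL : centQ A B ≤ N[W ⊔ B] := norm_of_comm_le_right
    (((comm_mono_right (sup_le WA T.le)).trans ((le_centQ AB).1 le_rfl).2).trans le_sup_right)
  by_contra hW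
  obtain ⟨w, hw, w1⟩ := SetLike.not_le_iff_exists.1 fun e : W ≤ B => hW (e.trans (hB ▸ inf_le_right))
  have r1 : ∀ u, Tx A W u → u ∉ centQ A B := fun u hu e => by
    obtain ⟨a, ha, rfl⟩ := hu.sur w hw
    rw [hE.comm ha (conj_mem hu.nA ha), ← hE.inv ha] at w1
    nth_rewrite 1 [hE.inv ha] at w1
    exact w1 (((mem_centQ AB).1 e).2 a ha)
  have ms : s ∈ N[A] ⊓ N[K] := mem_inf.2 ⟨h1.nA, s1⟩
  have mt : t ∈ N[A] ⊓ N[K] := mem_inf.2 ⟨h2.nA, t1⟩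
  have kl : ∀ u ∈ N[A] ⊓ N[K], Tx A W u → quo (K ⊓ N[A]) (centQ A B) ⊓ C{cs (centQ A B) u} ≤
      quo (N[W ⊔ B] ⊓ N[centQ A B]) (centQ A B) := fun u hu tu x' hx => by
    obtain ⟨x, m1, m2, rfl⟩ := mem_quo.1 hx.1
    have e := (cs_conj m2 (nR hu) (nR hu)).1 (mem_C1_iff_conj.1 hx.2)
    refine cs_mem_quo (mem_inf.2 ⟨mem_N_of_cj_le ?_, m2⟩) m2
    rw [cj_sup, cj_of_mem_C (T.cent m1)]
    refine sup_le (fun w' hw' => ?_) le_sup_right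
    obtain ⟨w, hw, rfl⟩ := mem_cj'.1 hw'
    obtain ⟨a, ha, rfl⟩ := tu.sur w hw
    have ha' := conj_mem m1.2 ha
    rw [show x * (a * (u * a * u⁻¹)) * x⁻¹ = x * a * x⁻¹ * (u * (x * a * x⁻¹) * u⁻¹) *
      (u * ((x * a * x⁻¹)⁻¹ * ⁅u⁻¹ * (x * u * x⁻¹), x * a * x⁻¹⁆ * (x * a * x⁻¹)) * u⁻¹) by
        rw [commutatorElement_def]; group]
    exact mul_mem_sup (tu.mul _ ha') (conj_mem (nB hu) (conj_mem' (AB ha')
      (((mem_centQ AB).1 e).2 _ ha')))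
  have e1 := (cs_sq (nR ms)).2 (AR h1.sq)
  have e2 := (cs_sq (nR mt)).2 (AR h2.sq)
  have e3 := (cs_sq (nR (mul_mem ms mt))).2 (AR h3.sq)
  have e4 : cs (centQ A B) (s * t) = cs (centQ A B) s * cs (centQ A B) t := ap_mul _ (nR ms) (nR mt)
  obtain ⟨f1, f2, f3⟩ := four_of e1 e2 (fun e => r1 s h1 ((cs_eq_one (nR ms)).1 e))
    (fun e => r1 t h2 ((cs_eq_one (nR mt)).1 e))
    (fun e => r1 _ h3 ((cs_eq_one (nR (mul_mem ms mt))).1 (by rw [e4, ← e, e1]))) (by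
      rw [e4] at e3
      rw [← inv_eq_of_mul_eq_one_right e3, mul_inv_rev, inv_eq_of_mul_eq_one_right e1,
        inv_eq_of_mul_eq_one_right e2])
  obtain ⟨P, hP⟩ := Sylow_exists p2 (K ⊓ N[A])
  have UL : K ⊓ N[A] ≤ N[W ⊔ B] ⊓ N[centQ A B] := le_of_quo_le (UM.trans nR)
    ⟨le_inf RL (norm_self _), inf_le_right⟩ (gen1 f1 f2
      ((hP.quo (UM.trans nR)).isPi_compl_of_eq_bot (quo_eq_bot_of_le fun p hp =>
        (mem_centQ AB).2 ⟨nB (UM (hP.le hp)), fun a ha => by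
          rw [← inv_mem_iff, commutatorElement_inv]
          exact T.two p (hP.le hp) (hP.pi.piElt hp)
            (commutator_mem_commutator ha (mem_zpowers p))⟩))
      (sup_le (zpowers_le.2 (ap_mem_N _ (nU ms) (nR ms))) (zpowers_le.2 (ap_mem_N _ (nU mt) (nR mt))))
      fun x hx x1 => by
        rcases (f3 x hx).resolve_left x1 with rfl | rfl | rfl
        exacts [kl s ms h1, kl t mt h2, e4 ▸ kl _ (mul_mem ms mt) h3])
  have AL : A ≤ W ⊔ B := fun y hy => by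
    by_cases y1 : y ∈ B
    · exact mem_sup_right y1
    obtain ⟨u, hu, -, e⟩ := T.trans w (WA hw) w1 y hy y1
    exact (mul_mem_cancel_left (conj_mem (UL hu).1 (mem_sup_left hw))).1 (mem_sup_right e)
  refine r1 s h1 ((mem_centQ AB).2 ⟨nB ms, fun a ha => ?_⟩)
  obtain ⟨w, hw, b, hb, rfl⟩ := (mem_sup_of_norm' (WA.trans AB)).1 (AL ha)
  rw [commutatorElement_def, conj_mul', h1.cen hE hw,
    show w * (s * b * s⁻¹) * (w * b)⁻¹ = w * (s * b * s⁻¹ * b⁻¹) * w⁻¹ by group]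
  exact conj_mem (AB (WA hw)) (mul_mem (conj_mem (nB ms) hb) (inv_mem hb))

end abs

private theorem b_QT : Q0 ≤ T0 := show ∀ s ∈ Q0, s ∈ T0 by decide +kernel
private theorem b_WQ : W0 ≤ Q0 := show ∀ s ∈ W0, s ∈ Q0 by decide +kernel
private theorem b_ZW : Z4 ≤ W0 := show ∀ s ∈ Z4, s ∈ W0 by decide +kernel
private theorem b_sq : ∀ s ∈ Q0, s * s ∈ Z4 := by decide +kernel
private theorem b_cm : ∀ w ∈ W0, ∀ q ∈ Q0, q * w * q⁻¹ * w⁻¹ ∈ Z4 := by decide +kernel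
private theorem b_t : a2 ∈ T0 ∧ a3 ∈ T0 ∧ a2 * a2 ∈ Q0 ∧ a3 * a3 ∈ Q0 ∧ a2 * a3 * (a2 * a3) ∈ Q0 ∧
  u0 ∈ W0 ∧ v0 ∈ W0 := by decide +kernel

variable {G : Type u} [Group G] [Finite G] {φ : S0 →* G} (h : Emb φ)
include h

theorem cons_i (sc : ∀ k ∈ C{φ i0}, ∀ s ∈ Q0, ∀ s', φ s' = k * φ s * k⁻¹ → s' ∈ Q0) :
    Cons (Q0.map φ) C{φ i0} := by
  have hS := sylT h
  have hQ : Q0.map φ ≤ T0.map φ := map_mono b_QT
  have QH := hQ.trans hS.le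
  have WQ : W0.map φ ≤ Q0.map φ := map_mono b_WQ
  have hc : C{φ i0} ≤ C[Z4.map φ] := by rw [Z4_eq, C_zpowers]
  have zW : Z4.map φ ≤ W0.map φ := map_mono b_ZW
  have zQ := zW.trans WQ
  obtain ⟨X, _, _, f, hf⟩ := H8.PC.exists_quo ⟨zQ.trans QH, norm_of_cent hc⟩
  have TH : ∀ {s}, s ∈ T0 → φ s ∈ C{φ i0} := fun hs => hS.le (h.mem.2 hs)
  have mem : ∀ Y ≤ C{φ i0}, Z4.map φ ≤ Y → ∀ x ∈ C{φ i0}, ap f x ∈ img f Y → x ∈ Y :=
    fun Y h1 h2 x hx e => sup_le le_rfl h2 ((hf.mem_iff hx h1).1 e)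
  have hE : EA (img f (Q0.map φ)) := ea_of_sq fun b hb => by
    obtain ⟨_, ⟨q, hq, rfl⟩, rfl⟩ := (mem_img_of_le QH).1 hb
    rw [← ap_mul f (TH (b_QT hq)) (TH (b_QT hq)), ← map_mul]
    exact hf.ap_ker (h.mem.2 (b_sq q hq))
  have hS' := hf.img_top ▸ hS.img f le_rfl
  have hsc : IsStronglyClosed (img f (Q0.map φ)) (img f (T0.map φ)) :=
    ⟨img_mono f hQ, fun b hb y hy => by
      obtain ⟨_, ⟨q, hq, rfl⟩, rfl⟩ := (mem_img_of_le QH).1 hb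
      obtain ⟨g, hg, rfl⟩ := hf.exists_ap y
      have h1 := mul_mem (mul_mem hg (TH (b_QT hq))) (inv_mem hg)
      rw [← ap_conj f hg (TH (b_QT hq))] at hy ⊢
      obtain ⟨s', -, e⟩ := mem _ hS.le (zQ.trans hQ) _ h1 hy
      exact ap_mem_img f (e ▸ h.mem.2 (sc g hg q hq s' e)) h1⟩
  have hD := sc_DC hS' hE hsc
  have hM := maxD_DC hS' hE hsc
  have ctx := ctx_all hD hM
  have hN : ∀ g ∈ C{φ i0}, ap f g ∈ N[img f (Q0.map φ)] → g ∈ N[Q0.map φ] := fun g hg e =>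
    norm_of_img (pre_le _ _) QH (hf.ker.le.trans zQ) (img_pre_le _ _) (mem_pre.2 ⟨hg, e⟩)
  by_cases hK : ∃ K, Piece (DC (img f (Q0.map φ))) ⊤ K
  swap
  · have h1 : (⊤ : Subgroup X) ≤ Od[⊤] ⊔ N[img f (Q0.map φ)] := (hM.frattini hD).sup_eq.ge.trans
      (sup_le (ctx.struct.trans (sup_le (sup_le_sup (hD.Od_Og_le _) (norm_self _))
        (sSup_le fun K h => absurd ⟨K, h⟩ hK))) (inf_le_right.trans le_sup_right))
    have h2 := pre_mono f h1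
    rw [pre_top, pre_sup (le_top.trans hf.range.ge) (le_top.trans hf.range.ge), ← hf.img_top] at h2
    exact h2.trans (sup_le ((hf.pre_Od_le (h.two Z4) le_rfl (zQ.trans QH) hc).trans (sup_le
      ((le_inf (zQ.trans QH) (norm_of_le zQ)).trans le_sup_right) le_sup_left))
      (le_trans (fun g hg => mem_inf.2 ⟨pre_le _ _ hg, hN g (pre_le _ _ hg) (mem_pre.1 hg).2⟩)
        le_sup_right))
  exfalso
  obtain ⟨K, hK⟩ := hK
  have T := ctx.trs hK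
  have cd : ∀ Y ≤ Q0, Z4 ≤ Y → 4 * ♯(img f (Y.map φ)) = ♯Y := fun Y h1 h2 => by
    have := card_img_mul f ((map_mono h1).trans QH)
    rwa [hf.ker, inf_eq_left.2 (map_mono h2), h.card, h.card, card_Z4] at this
  have cA := cd Q0 le_rfl (b_ZW.trans b_WQ)
  have cW := cd W0 b_WQ b_ZW
  rw [card_Q0] at cA
  rw [card_W0] at cW
  have pc : ∀ t ∈ T0, ∀ q ∈ Q0, ap f (φ t) * ap f (φ q) * (ap f (φ t))⁻¹ = ap f (φ (t * q * t⁻¹)) :=
    fun t ht q hq => by rw [← ap_conj f (TH ht) (TH (b_QT hq)), map_mul, map_mul, map_inv]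
  have pm : ∀ t ∈ T0, ∀ q ∈ T0, ap f (φ t) * ap f (φ q) = ap f (φ (t * q)) :=
    fun t ht q hq => by rw [← ap_mul f (TH ht) (TH hq), map_mul]
  have pe : ∀ t ∈ T0, ∀ q ∈ T0, ap f (φ t) = ap f (φ q) ↔ t⁻¹ * q ∈ Z4 := fun t ht q hq => by
    rw [hf.eq_iff (TH ht) (TH hq), ← map_inv, ← map_mul, h.mem]
  have pi : ∀ {Y : Subgroup S0} {q}, Y ≤ Q0 → q ∈ Y → ap f (φ q) ∈ img f (Y.map φ) :=
    fun h1 hq => ap_mem_img f (h.mem.2 hq) (TH (b_QT (h1 hq)))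
  have tx : ∀ t ∈ T0, Ta t → t * t ∈ Q0 → Tx (img f (Q0.map φ)) (img f (W0.map φ)) (ap f (φ t)) :=
    fun t ht ta tt => by
      refine ⟨ap_mem_N f (h.syl_N Q_n ⟨t, rfl⟩) (TH ht), pm t ht t ht ▸ pi le_rfl tt,
        fun a ha => ?_, fun a ha => ?_, fun a ha => ?_⟩
      · obtain ⟨_, ⟨q, hq, rfl⟩, rfl⟩ := (mem_img_of_le QH).1 ha
        rw [pc t ht q hq, eq_comm, pe _ (b_QT hq) _ (b_QT (Q_n t q hq))]
        exact fun e => pi b_WQ ((ta.1 q hq).1 e)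
      · obtain ⟨_, ⟨q, hq, rfl⟩, rfl⟩ := (mem_img_of_le QH).1 ha
        rw [pc t ht q hq, pm _ (b_QT hq) _ (b_QT (Q_n t q hq))]
        exact pi b_WQ (ta.1 q hq).2
      obtain ⟨_, ⟨w, hw, rfl⟩, rfl⟩ := (mem_img_of_le (WQ.trans QH)).1 ha
      obtain ⟨q, hq, e⟩ := ta.2 w hw
      refine ⟨_, pi le_rfl hq, ?_⟩
      rw [pc t ht q hq, pm _ (b_QT hq) _ (b_QT (Q_n t q hq)),
        pe _ (b_QT (b_WQ hw)) _ (b_QT (mul_mem hq (Q_n t q hq)))]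
      exact e
  obtain ⟨t1, t2, t3, t4, t5, t6, t7⟩ := b_t
  have WB : img f (W0.map φ) ≤ img f (Q0.map φ) ⊓ Ck K := le_inf (img_mono f WQ)
    ((tx a2 t1 ta.1 t3).le_Ck ctx hK hE (img_mono f WQ) (by omega) (by omega) (tx a3 t2 ta.2.1 t4)
      (pm a2 t1 a3 t2 ▸ tx _ (mul_mem t1 t2) ta.2.2 t5))
  generalize img f (Q0.map φ) ⊓ Ck K = B at T WB
  obtain ⟨x, hx, x1, y, hy, y1, xy⟩ : ∃ x ∈ img f (Q0.map φ), x ∉ B ∧
      ∃ y ∈ img f (Q0.map φ), y ∉ B ∧ x * y ∉ B := by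
    by_contra hn
    push Not at hn
    have h4 := T.four
    obtain ⟨x, hx, x1⟩ := SetLike.not_le_iff_exists.1 fun e : img f (Q0.map φ) ≤ B => by
      rw [relIndex_eq_one.2 e] at h4
      omega
    rw [relIndex_eq_two_iff.2 ⟨x, hx, fun b hb => by
      by_cases e : b ∈ B
      · exact Or.inr ⟨e, fun e' => x1 ((mul_mem_cancel_left e).1 e')⟩
      · exact Or.inl ⟨hn b hb e x hx x1, e⟩⟩] at h4
    omega
  obtain ⟨v, hv, vo, e⟩ := T.trans x hx x1 y hy y1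
  obtain ⟨r, hr, ro, rfl⟩ := odd_lift hf vo
  have rN := hN r hr hv.2
  obtain ⟨_, ⟨q, hq, rfl⟩, rfl⟩ := (mem_img_of_le QH).1 hx
  obtain ⟨q', hq', e'⟩ := Emb.of_N rN hq
  have k : ∀ w ∈ W0, q⁻¹ * q' * w = w * (q⁻¹ * q') := fun w hw => by
    have m1 := TH (b_QT (b_WQ hw))
    have h1 : (φ w)⁻¹ * (r * φ w * r⁻¹) ∈ Z4.map φ :=
      (hf.eq_iff m1 (mul_mem (mul_mem hr m1) (inv_mem hr))).1 (by
        rw [ap_conj f hr m1, conj_eq_of_mem_C (T.cent hv) (WB (pi b_WQ hw))])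
    have h2 : r * φ w * r⁻¹ = φ w := odd_fix ro ((h.two Z4).piElt h1) (mem_C'.1 (hc hr) _ h1)
      (by rw [mul_inv_cancel_left])
    have h3 := conj_eq_of_mem_C (hc hr) (h.mem.2 (b_cm w hw q hq))
    have h4 : φ (q' * w * q'⁻¹ * w⁻¹) = φ (q * w * q⁻¹ * w⁻¹) := by
      rw [← h3]
      simp only [map_mul, map_inv, e']
      nth_rewrite 1 2 [← h2]
      group
    have h5 := mul_right_cancel (h.eq.1 h4)
    calc _ = q⁻¹ * (q' * w * q'⁻¹) * q' := by group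
      _ = _ := by rw [h5]; group
  have k1 := WB (pi b_WQ (CQ_W _ (mul_mem (inv_mem hq) hq') (k _ t6) (k _ t7)))
  rw [← ap_conj f hr (TH (b_QT hq)), ← e'] at e
  rw [← pm _ (b_QT (inv_mem hq)) _ (b_QT hq'), map_inv, ap_inv f (TH (b_QT hq)), hE.inv hx] at k1
  have k2 := mul_mem k1 e
  rw [mul_assoc, ← mul_assoc (ap f (φ q')), hE.sq (pi le_rfl hq'), one_mul] at k2
  exact xy k2

end H11.Hs
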