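import Mathlib
import Cfsg.Agent.H11.HsA
import Cfsg.Agent.H11.HsB

/-!
# Sylow `2`-subgroups of type `HS`: the centraliser of the central involution
-/

set_option autoImplicit false
set_option linter.unusedSectionVars false
set_option maxRecDepth 100000
set_option synthInstance.maxSize 4000

open Cfsg H24 H26 H26.Gold Subgroup H7.SJ H25.Tw H25.Sy
open scoped commutatorElement

namespace H11.Hs

universe u

variable {G : Type u} [Group G] [Finite G] {φ : S0 →* G} {K Θ : Subgroup G} {a g k r v : G} {c s s' : S0}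
  (h : Emb φ)

abbrev U0 : Subgroup S0 := mk 0x505 (by decide +kernel)

theorem mem_U : ∀ s, s ∈ U0 ↔ s = 1 ∨ cl s ≤ 1 := by decide +kernel

theorem twoG_of_odd (hK : ∀ x ∈ K, OddE x → x = 1) : TwoG K := fun p hp hd => by
  by_contra hn
  obtain ⟨x, hx, e⟩ := exists_orderOf_eq hp hd
  have := hK x hx (by unfold OddE PiElt; rw [e]; exact (piNat_prime hp).2 hn)
  rw [this, orderOf_one] at e
  exact hp.one_lt.ne e

include h

theorem Q_le_i : Q0.map φ ≤ C{φ i0} := by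
  rintro _ ⟨q, hq, rfl⟩; exact h.mem_C.2 (Q_cm q hq).2.1

theorem cons_Q : Cons (Q0.map φ) C{φ z0} := by
  have hc := (cons_i h fun k hk s hs s' e => sc_i h hk hs e).nml (Q_le_i h)
  have SN : φ.range ≤ N[C{φ i0}] := by rw [← C_zpowers]; exact (S_Ni h).trans (N_le_NC _)
  have CL : C{φ i0} ≤ C{φ z0} ⊓ cz (φ i0) (zpowers (φ z0)) := fun g hg => ⟨Ci_le hg,
    (mem_cz' h (le_H ⟨_, rfl⟩)).2 ⟨Ci_le hg, Or.inl (by rw [mem_C1_iff_conj.1 hg, inv_mul_cancel])⟩⟩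
  have hL : C{φ z0} ⊓ cz (φ i0) (zpowers (φ z0)) ≤ C{φ i0} ⊔ φ.range := fun g hg => by
    rcases ((mem_cz' h (le_H ⟨_, rfl⟩)).1 hg.2).2 with e | e
    · exact mem_sup_left (mem_C1_iff_conj.2 (inv_mul_eq_one.1 e).symm)
    · refine (mul_mem_cancel_left (mem_sup_right (show φ t0 ∈ φ.range from ⟨t0, rfl⟩))).1 (mem_sup_left (mem_C1_iff_conj.2 ?_))
      rw [show φ t0 * g * φ i0 * (φ t0 * g)⁻¹ = φ t0 * (g * φ i0 * g⁻¹) * (φ t0)⁻¹ by group,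
        inv_mul_eq_iff_eq_mul.1 e, ← map_mul, ← map_inv, ← map_mul, ← map_mul]
      exact congrArg φ (by decide +kernel)
  exact (cons_of_nml (h.two _) (Od_odd C{φ i0}) ⟨(pcore_le _ _).trans CL,
    hL.trans (sup_le (pcore_nml _ _).norm (norm_pcore _ SN))⟩ ⟨hc.le.trans CL,
    hL.trans (sup_le hc.norm (norm_sup (norm_pcore _ SN) (h.syl_N Q_n)))⟩).up (H_le_L h) inf_le_left

theorem fuse (hk : k ∈ C{φ z0}) (hs : s ∈ Q0) (e : φ s' = k * φ s * k⁻¹) :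
    s' ∈ Q0 ∧ ∃ n ∈ C{φ z0} ⊓ N[Q0.map φ], φ s' = n * φ s * n⁻¹ := by
  obtain ⟨o, ho, n, hn, rfl⟩ := (mem_sup_of_norm (inf_le_left.trans (pcore_nml _ _).norm)).1 (cons_Q h hk)
  obtain ⟨t, ht, e1⟩ := Emb.of_N hn.2 hs
  have h1 : φ (s' * t⁻¹) ∈ Od[C{φ z0}] := by
    rw [map_mul, map_inv, e, show o * n * φ s * (o * n)⁻¹ = o * (n * φ s * n⁻¹) * o⁻¹ by group, ← e1,
      mul_assoc, mul_assoc, ← mul_assoc (φ t)]
    exact mul_mem ho (conj_mem ((pcore_nml _ _).norm (le_H ⟨t, rfl⟩)) (inv_mem ho))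
  have h2 : s' = t := mul_inv_eq_one.1 (h.inj
    (((h.twoE _).eq_one ((Od_odd _).piElt h1)).trans (map_one φ).symm))
  exact ⟨h2 ▸ ht, n, hn, h2 ▸ e1⟩

theorem cq_H : C{φ z0} ⊓ C[Q0.map φ] ≤ Od[C{φ z0}] ⊔ Q0.map φ :=
  cq_le (cons_Q h) (sylH h) (h.syl_N Q_n) ((CQ' h).trans (map_mono (by decide +kernel : ∀ s ∈ Z4, s ∈ Q0)))

theorem bal_D (ha : D φ a) (v2 : v * v = 1) (hv : v ∈ C{a}) : Od[C{v}] ⊓ C{a} ≤ Od[C{a}] := by
  obtain ⟨g, rfl⟩ := isConj_iff.1 ha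
  rw [← cj_C1, mem_cj'] at hv
  obtain ⟨w, hw, rfl⟩ := hv
  rw [← cj_C1, ← cj_C1, pcore_cj, pcore_cj, ← cj_inf, cj_le_cj]
  exact bal1 (cons_Q h) (h.two _) ((map_le_range _ _).trans le_H) (cq_H h)
    (by rwa [← conj_mul', conj_eq_one_iff'] at v2) hw

theorem not_D4 (hs : cl s = 4) : ¬ D φ (φ s) := fun e => notBD h e (B_of hs)

theorem d358 (hs : cl s ∈ [3, 5, 8]) (hd : D φ (φ s)) :
    ∃ k ∈ C{φ z0}, ∃ v ∈ V0, φ s = k * φ v * k⁻¹ := by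
  obtain ⟨g, e0⟩ := to_rp s (hd.iv h)
  obtain ⟨w, x, w1, x1, w2, x2, wx⟩ := q8c _ hs
  have e0' : φ s = φ g * φ (rp (cl s)) * (φ g)⁻¹ := by rw [← map_inv, ← map_mul, ← map_mul, e0]
  obtain ⟨k, e1, e2⟩ := h.ext0 zc (hd.of (Emb.symm e0'))
  obtain ⟨w', ew⟩ := e2 w w1
  obtain ⟨x', ex⟩ := e2 x x1
  have ez := Emb.mul ew ew
  rw [w2] at ez
  have h1 : w' * w' ≠ z0 := fun e => by
    rw [← (h.eq' ez e1).1 e] at e0
    rw [← e0, zc, mul_inv_cancel_right] at hs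
    revert hs; decide +kernel
  have h2 : cl (w' * w') = 1 := by
    have h3 := (sq_cl w' ((h.sq1 ez).2 z2)).resolve_left (mt (h.eq1 ez).1 z1)
    have h4 : ¬ (cl (w' * w') = 2 ∨ cl (w' * w') = 3) := fun e => q8d w' e x' ((h.rel ex ex ez).2 x2)
      ((h.eq' (Emb.mul ew ex) (Emb.mul (Emb.inv ex) ew)).2 wx)
    have h5 := mt (cl0 _) h1
    omega
  obtain ⟨m, hm, e3⟩ := ext1 h h2
  obtain ⟨y, hy, e4⟩ := Emb.of_N (NQ2_V h hm) (show z0 ∈ V0 by decide +kernel)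
  exact ⟨_, mul_mem (le_H ⟨g, rfl⟩) (inv_mem (mem_C1_iff_conj.2 (Emb.trans ez e3).symm)), y, hy,
    Emb.trans (Emb.symm (Emb.trans e1 e4)) e0'⟩

theorem not_D8 (hs : cl s = 8) : ¬ D φ (φ s) := fun hd => by
  obtain ⟨k, hk, v, hv, e⟩ := d358 h (by simp [hs]) hd
  exact ((Q1_cl s (hd.iv h)).2.1 (Or.inr hs)).2 (fuse h hk ((by decide +kernel : ∀ s ∈ V0, s ∈ Q0) v hv) e).1

theorem d67 (hs : cl s = 6 ∨ cl s = 7) (hd : D φ (φ s)) :
    ∃ k ∈ N[Q2.map φ], ∃ s', cl s' = 3 ∧ φ s' = k * φ s * k⁻¹ := by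
  obtain ⟨w, w1, w2⟩ := (c67 s (hd.iv h) hs).1
  obtain ⟨k, hk, e⟩ := ext1 h w2
  obtain ⟨s', h1, e1⟩ := Emb.of_N hk ((mem_Q2 s).2 ((cl1 _ w2 s).1
    (by rw [← mul_assoc, ← w1, mul_assoc, ← w1, mul_assoc])))
  obtain ⟨w', -, e2⟩ := Emb.of_N hk ((mem_Q2 w).2 ((cl1 _ w2 w).1 (mul_assoc _ _ _).symm))
  have h2 := (hd.of e1).iv h
  have h3 : ¬ (cl s' = 6 ∨ cl s' = 7) := fun e3 => (c67 s' h2 e3).2 w' ((h.comm e2 e1).2 w1) ((h.rel e2 e2 e).2 rfl)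
  have h4 := (Q2_sq s' ((mem_Q2 _).1 h1)).2
  have h5 : cl s' ≠ 4 := fun e3 => not_D4 h e3 (hd.of e1)
  have h6 : ¬ cl s' ≤ 2 := fun e3 => by
    obtain ⟨t, ht, e4⟩ := Emb.of_N (inv_mem (NQ2_V h hk)) ((mem_V s').2 (Or.inr e3))
    rw [h.inj (e4.trans (Emb.symm e1).symm), mem_V] at ht
    exact ht.elim ((iv_iff s).1 (hd.iv h)).2 (by omega)
  have h7 := h2.lt
  exact ⟨k, hk, s', by omega, e1⟩

theorem no_sc {X : Subgroup S0} (hX : X ≤ V0) (h1 : ∀ s ∈ X, s = 1 ∨ D φ (φ s))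
    (h2 : ∀ s, D φ (φ s) → s ∈ X) : False := by
  have := h.simple
  rcases goldschmidt (A := X.map φ) h.syl (ne_bot_of_mem (h.mem.2 (h2 z0 (IsConj.refl _))) (h.ne_one z1))
    (ea_V.abl.of_le (map_mono hX)) ⟨map_le_range _ _, by
      rintro _ ⟨s, hs, rfl⟩ g ⟨t, e⟩
      rcases h1 s hs with rfl | hd
      · simp
      · exact ⟨t, h2 t (hd.of e), e⟩⟩ with e | ⟨H, hH⟩
  · exact absurd (h.mem_C.1 (mem_C1.2 (e.comm ⟨i0, rfl⟩ ⟨t0, rfl⟩))) (by decide +kernel)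
  · exact not_D4 h (s := e4) (by decide +kernel) (isConj_iff.2 (H26.BR.conj_of_se hH
      (ord2 (Emb.sq z2) (h.ne_one z1)) (ord2 (Emb.sq (by decide +kernel)) (h.ne_one (by decide +kernel)))))

theorem outV : ∃ n ∈ C{φ z0} ⊓ N[Q0.map φ], n ∉ N[V0.map φ] := by
  by_contra hn
  push Not at hn
  have k1 : ∀ s, cl s ∈ [3, 5, 8] → ¬ D φ (φ s) := fun s hs hd => by
    obtain ⟨k, hk, v, hv, e⟩ := d358 h hs hd
    obtain ⟨-, n, h1, e1⟩ := fuse h hk ((by decide +kernel : ∀ s ∈ V0, s ∈ Q0) v hv) e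
    obtain ⟨t, ht, e2⟩ := Emb.of_N (hn n h1) hv
    rw [h.inj (e2.trans e1.symm)] at ht
    exact (by decide +kernel : ∀ s ∈ V0, cl s ∉ [3, 5, 8]) s ht hs
  have k2 : ∀ s, D φ (φ s) → cl s ≤ 2 := fun s hd => by
    have h1 : cl s ∉ [3, 5, 8] := fun e => k1 s e hd
    have h2 : cl s ≠ 4 := fun e => not_D4 h e hd
    have h3 : ¬ (cl s = 6 ∨ cl s = 7) := fun e => by
      obtain ⟨k, -, t, e1, e2⟩ := d67 h e hd
      exact k1 t (by simp [e1]) (hd.of e2)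
    have h4 := (hd.iv h).lt
    simp only [List.mem_cons, List.not_mem_nil, or_false] at h1
    omega
  have k3 : ∀ s, cl s ≤ 1 → D φ (φ s) := fun s hs => by
    rcases Nat.le_one_iff_eq_zero_or_eq_one.1 hs with e | e
    · rw [cl0 s e]
    · exact (D_u h).trans (isConj_cl (by decide +kernel) (e.trans (by decide +kernel)))
  by_cases hv : D φ (φ v0)
  · refine no_sc h le_rfl (fun s hs => ((mem_V s).1 hs).imp_right fun e => ?_)
      fun s hs => (mem_V s).2 (Or.inr (k2 s hs))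
    rcases e.lt_or_eq with e | e
    · exact k3 s (by omega)
    · exact hv.trans (isConj_cl (by decide +kernel) (e.trans (by decide +kernel)))
  · refine no_sc h (X := U0) (by decide +kernel : ∀ s ∈ U0, s ∈ V0)
      (fun s hs => ((mem_U s).1 hs).imp_right (k3 s)) fun s hs => (mem_U s).2 (Or.inr ?_)
    exact Nat.le_of_lt_succ ((k2 s hs).lt_of_ne fun e =>
      hv (hs.trans (isConj_cl (hs.iv h) (Eq.trans (by decide +kernel) e.symm))))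

variable (act : ∀ q ∈ Q0, φ (rq q) = r * φ q * r⁻¹)
include act

theorem r_mem : r ∈ C{φ z0} :=
  mem_C1_iff_conj.2 ((act z0 (by decide +kernel)).symm.trans (congrArg φ (by decide +kernel)))

theorem to_u (hs : Iv s) (hQ : s ∈ Q0) (hz : s ≠ z0) : ∃ n ∈ C{φ z0}, φ s = n * φ u0 * n⁻¹ := by
  have k1 : ∀ a b, Iv a → cl b = cl a → (∃ n ∈ C{φ z0}, φ a = n * φ u0 * n⁻¹) →
      ∃ n ∈ C{φ z0}, φ b = n * φ u0 * n⁻¹ := fun a b ha e ⟨n, hn, e1⟩ => by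
    obtain ⟨g, rfl⟩ := cl_cj ha e
    exact ⟨_, mul_mem (le_H ⟨g, rfl⟩) hn, Emb.conj_conj e1 g⟩
  have k2 : ∀ a b, Iv a → cl b = cl a → b ∈ Q0 → (∃ n ∈ C{φ z0}, φ a = n * φ u0 * n⁻¹) →
      ∃ n ∈ C{φ z0}, φ (rq b) = n * φ u0 * n⁻¹ := fun a b ha e hb e1 => by
    obtain ⟨n, hn, e2⟩ := k1 a b ha e e1
    exact ⟨_, mul_mem (r_mem h act) hn, Emb.trans e2 (act b hb)⟩
  have h1 : ∃ n ∈ C{φ z0}, φ u0 = n * φ u0 * n⁻¹ := ⟨1, one_mem _, by simp⟩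
  have h3 := k2 _ u0 (by decide +kernel) rfl (by decide +kernel) h1
  have h5 := k2 _ (el 64) (by decide +kernel) (by decide +kernel) (by decide +kernel) h3
  have h2 := k2 _ (el 265) (by decide +kernel) (by decide +kernel) (by decide +kernel) h5
  have h0 := mt (cl0 s) hz
  have h4 := (Q1_cl s hs).2.2.1 hQ
  rcases (by omega : cl s = 1 ∨ cl s = 2 ∨ cl s = 3 ∨ cl s = 5) with e | e | e | e
  exacts [k1 _ s (by decide +kernel) (e.trans (by decide +kernel)) h1,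
    k1 _ s (by decide +kernel) (e.trans (by decide +kernel)) h2,
    k1 _ s (by decide +kernel) (e.trans (by decide +kernel)) h3,
    k1 _ s (by decide +kernel) (e.trans (by decide +kernel)) h5]

theorem D_Q (hs : Iv s) (hQ : s ∈ Q0) : D φ (φ s) := by
  by_cases hz : s = z0
  · rw [hz]
  obtain ⟨n, -, e⟩ := to_u h act hs hQ hz
  exact (D_u h).of e

theorem top2 (hH : C{φ z0} ≤ K) (hN : N[Q2.map φ] ≤ K) : K = ⊤ := by
  have k1 : ∀ s, Iv s → s ∈ Q0 → ∃ m ∈ K, φ z0 = m * φ s * m⁻¹ := fun s hs hQ => by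
    by_cases hz : s = z0
    · exact ⟨1, one_mem _, by simp [hz]⟩
    obtain ⟨n, hn, e⟩ := to_u h act hs hQ hz
    obtain ⟨m, hm, e1⟩ := ext1 h (s := u0) (by decide +kernel)
    exact ⟨_, mul_mem (hN hm) (inv_mem (hH hn)), Emb.trans (Emb.symm e) e1⟩
  refine top_of h hH (fun s hd => ?_) (fun s hd hz => hd.trans (isConj_cl (hd.iv h)
    (by rw [← zc, cl_z s (hd.iv h) hz]))) (not_D4 h (by decide +kernel))
  have hs := hd.iv h
  by_cases hQ : s ∈ Q0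
  · exact k1 s hs hQ
  have h1 := mt (Q1_cl s hs).2.2.2 hQ
  have h2 : cl s ≠ 4 := fun e => not_D4 h e hd
  have h3 : cl s ≠ 8 := fun e => not_D8 h e hd
  have h4 := hs.lt
  obtain ⟨k, hk, t, e1, e2⟩ := d67 h (by omega) hd
  obtain ⟨m, hm, e3⟩ := k1 t (iv_of e1) ((Q1_cl t (iv_of e1)).2.2.2 (Or.inl e1.le))
  exact ⟨_, mul_mem hm (hN hk), Emb.trans e2 e3⟩

theorem D_V (ha : a ∈ V0.map φ) (a1 : a ≠ 1) : D φ a := by
  obtain ⟨s, hs, rfl⟩ := ha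
  exact D_Q h act ((iv_iff s).2 ⟨((V_A s).1 hs).2, fun e => a1 (by simp [e])⟩)
    ((by decide +kernel : ∀ s ∈ V0, s ∈ Q0) s hs)

omit act in
theorem four_z (s2 : s * s = 1) (s1 : s ≠ 1) (sz : s ≠ z0) :
    EA (zpowers (φ z0) ⊔ zpowers (φ s)) ∧ 4 ≤ ♯(zpowers (φ z0) ⊔ zpowers (φ s)) :=
  have := four_of (Emb.sq z2) (Emb.sq s2) (h.ne_one z1) (h.ne_one s1) (mt h.eq.1 sz.symm)
    (mem_C1.1 (le_H ⟨s, rfl⟩)).symm
  ⟨this.1, this.2.1⟩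

theorem H_le_Th (hΘ : Th (V0.map φ) Θ) : C{φ z0} ≤ N[Θ] := by
  have zW : φ z0 ∈ V0.map φ := h.mem.2 (by decide +kernel)
  refine (cons_Q h).trans (sup_le ((hΘ.le _ zW (h.ne_one z1)).trans (norm_self _)) fun n hn => ?_)
  obtain ⟨u, hu, u1, uz, u', e1, e2⟩ :
      ∃ u ∈ V0, u ≠ 1 ∧ u ≠ z0 ∧ ∃ u', u' * u0 = u0 * u' ∧ φ u' = n * φ u * n⁻¹ := by
    obtain ⟨a, ha, e1⟩ := Emb.of_N hn.2 (show u0 ∈ Q0 by decide +kernel)
    obtain ⟨b, hb, e2⟩ := Emb.of_N hn.2 (show v0 ∈ Q0 by decide +kernel)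
    rcases third a ha b hb with e | e | e
    · exact ⟨_, by decide +kernel, by decide +kernel, by decide +kernel, a, e, e1⟩
    · exact ⟨_, by decide +kernel, by decide +kernel, by decide +kernel, b, e, e2⟩
    · exact ⟨_, by decide +kernel, by decide +kernel, by decide +kernel, _, e, Emb.mul e1 e2⟩
  have ez := (mem_C1_iff_conj.1 hn.1).symm
  obtain ⟨f1, f2⟩ := four_z h (s := u0) (by decide +kernel) (by decide +kernel) (by decide +kernel)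
  obtain ⟨f3, f4⟩ := four_z h ((h.sq1 e2).2 ((V_A u).1 hu).2) (mt (h.eq1 e2).1 u1) (mt (h.eq' e2 ez).1 uz)
  have hc : zpowers (φ z0) ⊔ zpowers (φ u') ≤ C[zpowers (φ z0) ⊔ zpowers (φ u0)] := by
    rw [C_sup, C_zpowers, C_zpowers, sup_le_iff, zpowers_le, zpowers_le]
    exact ⟨⟨self_mem_C1 _, h.mem_C.2 (zc _).symm⟩, ⟨le_H ⟨_, rfl⟩, h.mem_C.2 e1⟩⟩
  have hg : zpowers (φ z0) ⊔ zpowers (φ u') ≤ cj n (V0.map φ) := by
    rw [sup_le_iff, zpowers_le, zpowers_le, e2]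
    exact ⟨ez ▸ conj_mem_cj n zW, conj_mem_cj n (h.mem.2 hu)⟩
  refine hΘ.conn ea_V (sup_le (zpowers_le.2 zW) (zpowers_le.2 (h.mem.2 (by decide +kernel)))) f2 f3 f4 hc hg
    fun v hv _ w hw w1 => bal_D h ?_ (f1.sq hv) (mem_C1.2 (mem_C'.1 (hc hw) v hv).symm)
  obtain ⟨w, hw', rfl⟩ := mem_cj'.1 (hg hw)
  exact (D_V h act hw' fun e => w1 (by simp [e])).conj n

theorem Od_H : Od[C{φ z0}] = ⊥ := by
  obtain ⟨Θ, hΘ⟩ := sigTh (ea_V (φ := φ)) (by rw [h.card, card_V0]) fun a ha _ b hb b1 =>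
    bal_D h (D_V h act hb b1) (ea_V.sq ha) (mem_C1.2 (ea_V.abl.comm ha hb))
  refine eq_bot_of_le (h.odd_nml z1 hΘ.odd (top2 h act (H_le_Th h act hΘ) ((NQ2_V h).trans
    (hΘ.norm _ le_rfl (by rw [h.card, card_V0]; omega)))).ge) (hΘ.le _ (h.mem.2 (by decide +kernel)) (h.ne_one z1))

theorem Q_nml : Q0.map φ ⊴ C{φ z0} := by
  simpa [Od_H h act] using (cons_Q h).nml ((map_le_range _ _).trans le_H)

theorem cq_Q : C{φ z0} ⊓ C[Q0.map φ] ≤ Q0.map φ := by simpa [Od_H h act] using cq_H h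

theorem cq_Z : C[Q0.map φ] ≤ Z4.map φ := fun g hg =>
  CQ' h ⟨map_le_range _ _ (cq_Q h act ⟨C_le_C1 (h.mem.2 (by decide +kernel)) hg, hg⟩), hg⟩

theorem H_Ni : C{φ z0} ≤ N[Z4.map φ] := by
  rw [← le_antisymm (cq_Z h act) (by
    rintro _ ⟨c, hc, rfl⟩
    refine mem_C'.2 ?_
    rintro _ ⟨q, hq, rfl⟩
    exact mem_C1.1 (h.mem_C.2 ((by decide +kernel : ∀ c ∈ Z4, ∀ q ∈ Q0, c * q = q * c) c hc q hq)))]
  exact (Q_nml h act).norm.trans (N_le_NC _)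

theorem H_le (hw : ∀ n ∈ C{φ z0} ⊓ N[Q0.map φ], ∃ w ∈ φ.range ⊔ zpowers r, ∀ q ∈ Q0, ∃ c ∈ Z4,
    φ (q * c) = w * n * φ q * (w * n)⁻¹) : C{φ z0} ≤ φ.range ⊔ zpowers r := fun n hn => by
  have QN := ((map_le_range φ Q0).trans le_H).trans (H_Ni h act)
  obtain ⟨w, h1, h2⟩ := hw n ⟨hn, (Q_nml h act).norm hn⟩
  have h3 := mul_mem (sup_le le_H (zpowers_le.2 (r_mem h act)) h1) hn
  refine (mul_mem_cancel_left h1).1 (mem_sup_left ((sylH h).nml_le (K := C{φ z0} ⊓ centQ (Q0.map φ) (Z4.map φ))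
    (twoG_of_odd fun x hx ho => ?_) ⟨inf_le_left, norm_inf (norm_self _)
      (norm_centQ (Q_nml h act).norm (H_Ni h act))⟩ ⟨h3, (mem_centQ QN).2 ⟨H_Ni h act h3, ?_⟩⟩))
  · have h4 : x ∈ C[Z4.map φ] := by
      obtain ⟨j, hj, e⟩ := Emb.of_N (H_Ni h act hx.1) (show i0 ∈ Z4 by decide +kernel)
      rw [Z4_eq, C_zpowers, mem_C1_iff_conj]
      rcases (by decide +kernel : ∀ j ∈ Z4, j * j = z0 → j = i0 ∨ j = i0 * z0) j hj
        ((h.rel e e (mem_C1_iff_conj.1 hx.1).symm).2 i2) with rfl | rfl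
      · exact e.symm
      · exact odd_fix ho (h.twoE z0) (mem_C1.1 hx.1) (by rw [← e, map_mul])
    refine ((h.two Z4).piElt (cq_Z h act (mem_C'.2 fun q hq => mul_inv_eq_iff_eq_mul.1 ?_))).eq_one ho
    have h5 := conj_mem' (QN hq) (((mem_centQ QN).1 hx.2).2 q hq)
    exact odd_fix ho ((h.two Z4).piElt h5) (mem_C'.1 h4 _ h5) (by rw [commutatorElement_def]; group)
  · rintro _ ⟨q, hq, rfl⟩
    obtain ⟨c, hc, e⟩ := h2 q hq
    rw [commutatorElement_def, ← e, ← map_inv, ← map_mul]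
    exact h.mem.2 ((by decide +kernel : ∀ c ∈ Z4, ∀ q ∈ Q0, q * c * q⁻¹ ∈ Z4) c hc q hq)

end H11.Hs
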