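import Mathlib
import Cfsg.Agent.H11.HsD
import Cfsg.Agent.S0051

/-!
# Sylow `2`-subgroups of type `HS`: the centraliser is isomorphic to the one of the model
-/

set_option autoImplicit false
set_option linter.unusedSectionVars false
set_option maxRecDepth 100000
set_option synthInstance.maxSize 4000

open Cfsg H24 H26 H26.Gold Subgroup H7.SJ H25.Tw H25.Sy

namespace H11.Hs

open H29

theorem exists_sec {X H : Type*} [Group X] [Group H] [Finite X] (F A : Subgroup X) (p : X →* H)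
    (T : Subgroup H) (hA : A ≤ F) (hs : ∀ h, ∃ x ∈ F, p x = h) (hk : ∀ x ∈ F, p x = 1 → x ^ 2 ^ 2 = 1)
    (hab : ∀ x ∈ F, p x = 1 → ∀ y ∈ F, p y = 1 → x * y = y * x)
    (hT : T ≤ A.map p) (hc : A ⊓ p.ker = ⊥) (ho : Odd T.index) :
    ∃ σ : H →* X, ∀ h, σ h ∈ F ∧ p (σ h) = h := by
  let q : F →* H := p.comp F.subtype
  have hq : Function.Surjective q := fun h => let ⟨x, h1, h2⟩ := hs h; ⟨⟨x, h1⟩, h2⟩
  have : Finite H := Finite.of_surjective q hq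
  have : IsMulCommutative q.ker := ⟨⟨fun a b => Subtype.ext (Subtype.ext (hab _ a.1.2 a.2 _ b.1.2 b.2))⟩⟩
  have hB : (A.subgroupOf F).map q = A.map p := by
    rw [← map_map, subgroupOf_map_subtype, inf_eq_left.2 hA]
  have := Fact.mk Nat.prime_two
  obtain ⟨n, hn⟩ := IsPGroup.iff_card.1 (show IsPGroup 2 q.ker from fun x =>
    ⟨2, Subtype.ext (Subtype.ext (hk _ x.1.2 x.2))⟩)
  obtain ⟨K, hK⟩ := Cfsg.Agent.S0051.result q.ker (q.ker ⊔ A.subgroupOf F) le_sup_left (by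
    rw [hn, sup_comm, ← comap_map_eq, index_comap_of_surjective _ hq, hB]
    exact Nat.Coprime.pow_left _ (Nat.coprime_two_left.2 (ho.of_dvd_nat (index_dvd_of_le hT))))
    (A.subgroupOf F) le_sup_right (eq_bot_iff.2 fun x hx => Subtype.ext (hc.le ⟨hx.1, hx.2⟩)) rfl
  have hb : Function.Bijective (q.comp K.subtype) :=
    ⟨(injective_iff_map_eq_one _).2 fun a ha => Subtype.ext (mem_bot.1
      (disjoint_iff.1 hK.disjoint ▸ (⟨ha, a.2⟩ : a.1 ∈ q.ker ⊓ K))), fun h => by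
      obtain ⟨x, rfl⟩ := hq h
      obtain ⟨a, ha, b, hb, rfl⟩ := mem_sup_of_normal_left.1 (hK.sup_eq_top ▸ mem_top x)
      exact ⟨⟨b, hb⟩, by rw [map_mul, show q a = 1 from ha, one_mul]; rfl⟩⟩
  let e := MulEquiv.ofBijective _ hb
  exact ⟨F.subtype.comp (K.subtype.comp e.symm.toMonoidHom), fun m => ⟨(e.symm m).1.2, e.apply_symm_apply m⟩⟩

/-- a submonoid of a finite group -/
def subOf {X : Type*} [Group X] [Finite X] (M : Submonoid X) : Subgroup X :=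
  { M with
    inv_mem' := fun {x} hx => (Submonoid.powers_le.2 hx : Submonoid.powers x ≤ M)
      (mem_powers_iff_mem_zpowers.2 (inv_mem (mem_zpowers x))) }

variable {G : Type} [Group G] [Finite G] {φ ψ : S0 →* G} {r : G} {e : ℕ → G}

theorem emb_of (h : Emb φ) (hz : ψ z0 ≠ 1) (hr : ψ.range ≤ φ.range) : Emb ψ ∧ ψ.range = φ.range := by
  have h1 : ψ.range = φ.range := eq_of_card_eq hr (by
    rw [← Nat.card_congr (MonoidHom.ofInjective (inj_of hz)).toEquiv,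
      ← Nat.card_congr (MonoidHom.ofInjective h.inj).toEquiv])
  exact ⟨⟨inj_of hz, h1 ▸ h.syl, h.simple⟩, h1⟩

/-- pairs with the same action on `Q0` -/
noncomputable def FP (φ0 : S0 →* P) (φ : S0 →* G) : Subgroup (gen e0 LH × G) := subOf
  { carrier := {x | ∀ q ∈ Q0, ∃ q' ∈ Q0, φ0 q' = x.1 * φ0 q * (x.1 : P)⁻¹ ∧ φ q' = x.2 * φ q * x.2⁻¹}
    one_mem' := fun q hq => ⟨q, hq, by simp⟩
    mul_mem' := fun {x y} hx hy q hq => by
      obtain ⟨a, ha, e1, e2⟩ := hy q hq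
      obtain ⟨b, hb, e3, e4⟩ := hx a ha
      exact ⟨b, hb, Emb.trans e1 e3, Emb.trans e2 e4⟩ }

theorem exists_e (h : Emb φ) (act : ∀ q ∈ Q0, φ (rq q) = r * φ q * r⁻¹)
    (le : C{φ z0} ≤ φ.range ⊔ zpowers r) (cq : C[Q0.map φ] ≤ Z4.map φ) :
    ∃ (e : ℕ → G) (ψ : S0 →* G), Good e ψ ∧ Emb ψ ∧ C{ψ z0} ≤ gen e LH := by
  obtain ⟨φ0, g0, i0'⟩ := exists_good0
  have m0 : ∀ s, φ0 s ∈ gen e0 LH := fun s => g0.sup_le_gen (mem_sup_left ⟨s, rfl⟩)
  let φ1 : S0 →* gen e0 LH := φ0.codRestrict _ m0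
  have i1 : Function.Injective φ1 := (φ0.injective_codRestrict _ m0).2 i0'
  have dg : ∀ s, (φ1 s, φ s) ∈ FP φ0 φ := fun s q hq =>
    ⟨_, Q_n s q hq, by simp only [map_mul, map_inv]; rfl, by simp only [map_mul, map_inv]⟩
  have m7 : e0 7 ∈ gen e0 LH := mem_gen (by decide)
  have dr : (⟨e0 7, m7⟩, r) ∈ FP φ0 φ := fun q hq =>
    ⟨_, (by decide +kernel : ∀ a ∈ Q0, rq a ∈ Q0) q hq, g0.act_r q hq, act q hq⟩
  have ker : ∀ x ∈ FP φ0 φ, x.1 = 1 → x.2 ∈ Z4.map φ := fun x hx e1 => cq (mem_C'.2 (by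
    rintro _ ⟨q, hq, rfl⟩
    obtain ⟨q', -, e2, e3⟩ := hx q hq
    rw [e1] at e2
    rw [show q' = q from i0' (e2.trans (by simp))] at e3
    exact mul_inv_eq_iff_eq_mul.1 e3.symm))
  obtain ⟨σ, hσ⟩ := exists_sec (FP φ0 φ) (φ1.prod φ).range (MonoidHom.fst _ _) φ1.range
    (by rintro _ ⟨s, rfl⟩; exact dg s) (fun x => by
      have : gen e0 LH ≤ ((FP φ0 φ).map (MonoidHom.fst _ _)).map (gen e0 LH).subtype :=
        g0.gen_le_sup.trans (sup_le (by rintro _ ⟨s, rfl⟩; exact ⟨_, ⟨_, dg s, rfl⟩, rfl⟩)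
          (zpowers_le.2 ⟨_, ⟨_, dr, rfl⟩, rfl⟩))
      obtain ⟨y, hy, e1⟩ := this x.2
      exact (Subtype.ext e1 : y = x) ▸ hy)
    (fun x hx e1 => by
      obtain ⟨c, hc, e2⟩ := ker x hx e1
      refine Prod.ext (by rw [Prod.pow_fst, show x.1 = 1 from e1, one_pow]; rfl) ?_
      rw [Prod.pow_snd, ← e2, ← map_pow, (by decide +kernel : ∀ c ∈ Z4, c ^ 2 ^ 2 = 1) c hc, map_one]; rfl)
    (fun x hx e1 y hy e2 => by
      obtain ⟨c, hc, e3⟩ := ker x hx e1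
      obtain ⟨d, hd, e4⟩ := ker y hy e2
      refine Prod.ext (by rw [Prod.fst_mul, Prod.fst_mul, show x.1 = 1 from e1, one_mul, mul_one]) ?_
      rw [Prod.snd_mul, Prod.snd_mul, ← e3, ← e4, ← map_mul, ← map_mul,
        (by decide +kernel : ∀ c ∈ Z4, ∀ d ∈ Z4, c * d = d * c) c hc d hd])
    (by rintro _ ⟨s, rfl⟩; exact ⟨_, ⟨s, rfl⟩, rfl⟩)
    (eq_bot_iff.2 (by
      rintro _ ⟨⟨s, rfl⟩, hs⟩
      rw [i1 (hs.trans (map_one φ1).symm), map_one]; exact one_mem _))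
    (by
      have := φ1.range.card_mul_index
      rw [← Nat.card_congr (MonoidHom.ofInjective i1).toEquiv, card_S0, card_H0] at this
      rw [show φ1.range.index = 15 by omega]; decide)
  let ρ : gen e0 LH →* G := (MonoidHom.snd _ _).comp σ
  have hρ : ∀ x y, (x, y) ∈ FP φ0 φ → y⁻¹ * ρ x ∈ Z4.map φ := fun x y hxy =>
    ker _ (mul_mem (inv_mem hxy) (hσ x).1) (inv_mul_eq_one.2 (hσ x).2.symm)
  classical
  let e1 : ℕ → gen e0 LH := fun c => if hc : c ∈ LH then ⟨e0 c, mem_gen hc⟩ else 1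
  have he : ∀ c ∈ LH, (gen e0 LH).subtype (e1 c) = e0 c := fun c hc => by simp only [e1, dif_pos hc]; rfl
  have iv1 : IvOK e1 iv := fun c => by
    by_cases hc : c ∈ LH
    · exact Subtype.ext ((he _ ((by decide : ∀ c ∈ LH, iv c ∈ LH) c hc)).trans ((iv0 c).trans (by
        rw [← he c hc]; rfl)))
    · have : iv c = c := by
        rcases c with _ | _ | c
        exacts [absurd (by decide) hc, absurd (by decide) hc, rfl]
      simp only [this, e1, dif_neg hc, inv_one]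
  have rl1 : ∀ w ∈ HsT2.R0, ev e1 w = 1 := fun w hw => Subtype.ext ((map_ev (gen e0 LH).subtype e1 w).trans
    ((ev_congr fun c hc => he c ((by decide : ∀ w ∈ HsT2.R0, ∀ c ∈ w, c ∈ LH) w hw c hc)).trans (g0.rel w hw)))
  obtain ⟨ψ, g⟩ := exists_good (e := fun c => ρ (e1 c)) (fun c => (congrArg ρ (iv1 c)).trans (map_inv ρ _))
    fun w hw => by rw [← map_ev, rl1 w hw, map_one]
  have hψ : ψ = ρ.comp φ1 := hom_ext fun c hc => (g.map c hc).trans (congrArg ρ (Subtype.ext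
    ((he c ((by decide : ∀ c ∈ LS, c ∈ LH) c hc)).trans (g0.map c hc).symm)))
  have h1 : ∀ s, ∃ c ∈ Z4, ψ s = φ (s * c) := fun s => by
    obtain ⟨c, hc, e2⟩ := hρ _ _ (dg s)
    exact ⟨c, hc, by rw [map_mul, e2, hψ, mul_inv_cancel_left]; rfl⟩
  have hz : ψ z0 = φ z0 := by
    obtain ⟨c, hc, e2⟩ := h1 u0
    obtain ⟨d, hd, e3⟩ := h1 (el 320)
    rw [show z0 = u0 * el 320 * u0⁻¹ * (el 320)⁻¹ by decide +kernel]
    conv_rhs => rw [(by decide +kernel : ∀ c ∈ Z4, ∀ d ∈ Z4, u0 * el 320 * u0⁻¹ * (el 320)⁻¹ =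
      u0 * c * (el 320 * d) * (u0 * c)⁻¹ * (el 320 * d)⁻¹) c hc d hd]
    simp only [map_mul ψ, map_inv, e2, e3, map_mul φ (_ * _ * _), map_mul φ (u0 * c)]
  obtain ⟨h2, h3⟩ := emb_of h (hz ▸ h.ne_one z1) (by
    rintro _ ⟨s, rfl⟩
    obtain ⟨c, -, e2⟩ := h1 s
    exact ⟨_, e2.symm⟩)
  have h4 := h3.ge.trans (le_sup_left.trans g.sup_le_gen)
  refine ⟨_, ψ, g, h2, hz ▸ le.trans (sup_le h4 (zpowers_le.2 (inv_mem_iff.1 ?_)))⟩
  have h5 := hρ _ _ dr
  rw [← (Subtype.ext (he 7 (by decide)) : e1 7 = ⟨e0 7, m7⟩)] at h5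
  exact (mul_mem_cancel_right (mem_gen (e := fun c => ρ (e1 c)) (c := 7) (by decide))).1
    (h4 (map_le_range _ _ h5))

/-- the new letters -/
def wl : List (List ℕ) :=
  [[0], [1], [2], [3, 0, 3, 0, 2, 6], [4], [5], [6, 0, 3, 0, 2, 6], [7, 0, 3, 0, 2, 6], [8, 0, 3, 0, 2, 6]]

theorem ev_wl (e : ℕ → G) (w : List ℕ) : ev (wE e wl) w = ev e (w.flatMap (nth [] wl)) := by
  induction w with
  | nil => rfl
  | cons c w ih => rw [ev_cons, List.flatMap_cons, ev_append, ih]; rfl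

theorem Good.swap (g : Good e φ) (h : Emb φ) (le : C{φ z0} ≤ gen e LH) :
    ∃ (e' : ℕ → G) (ψ : S0 →* G), Good e' ψ ∧ Emb ψ ∧ C{ψ z0} ≤ gen e' LH ∧ ψ z0 = φ z0 ∧
      ψ t0 = φ (t0 * i0) := by
  obtain ⟨ψ, g'⟩ := exists_good (e := wE e wl) (fun c => by
    by_cases hc : c < 9
    · have := g.one (l := (List.range 9).map fun c => [Hs.iv c, c].flatMap (nth [] wl)) (by decide +kernel) _
        (List.mem_map.2 ⟨c, List.mem_range.2 hc, rfl⟩)
      rw [← ev_wl] at this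
      exact eq_inv_of_mul_eq_one_left (by simpa using this)
    · have h1 : Hs.iv c = c := nth_default c (by simp only [List.length]; omega)
      rw [h1, wE, nth_default [] (by simp only [wl, List.length]; omega), ev_nil, inv_one])
    fun w hw => (ev_wl e w).trans (g.one (l := HsT2.R0.map fun w => w.flatMap (nth [] wl)) (by decide +kernel) _
      (List.mem_map.2 ⟨w, hw, rfl⟩))
  have h1 : ∀ s, ψ s = φ (ev sl ((Hs.wd s).flatMap (nth [] wl))) := fun s => by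
    rw [← g'.wd, ev_wl, g.ev_sl (by revert s; decide +kernel)]
  have hz : ψ z0 = φ z0 := (h1 _).trans (congrArg φ (by decide +kernel))
  obtain ⟨h2, h3⟩ := emb_of h (hz ▸ h.ne_one z1) (by rintro _ ⟨s, rfl⟩; exact ⟨_, (h1 s).symm⟩)
  have h4 := h3.ge.trans (le_sup_left.trans g'.sup_le_gen)
  refine ⟨_, ψ, g', h2, hz ▸ le.trans (g.gen_le_sup.trans (sup_le h4 (zpowers_le.2 ?_))), hz,
    (h1 _).trans (congrArg φ (by decide +kernel))⟩
  refine (mul_mem_cancel_right (h4 ⟨ev sl [0, 3, 0, 2, 6], rfl⟩)).1 ?_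
  rw [g.ev_sl (by decide)]
  exact mem_gen (e := wE e wl) (c := 7) (by decide)

end H11.Hs
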