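import Mathlib
import Cfsg.Agent.H11.HsG

/-!
# The six spreads of the symplectic space `Q / ⟨i⟩`
-/

set_option autoImplicit false
set_option maxRecDepth 100000
set_option synthInstance.maxSize 4000
set_option Elab.async false

namespace H11.Hs

open H29

/-- the image of an element of `Q0` in `Q0 / Z4 = 𝔽₂⁴` (basis `8, 320, 32, 64`) -/
def pt (s : S0) : ℕ := lk (nat_lit 0x7777000066660000000000000000000033330000222200000000000000000000ffff0000eeee00000000000000000000bbbb0000aaaa0000000000000000000000000000000000000000000000000000000000000000000000000000000000000000000000000000000000000000000000000000000000000000000000000000dddd0000cccc000000000000000000009999000088880000000000000000000055550000444400000000000000000000111100000000) 4 15 s.n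
/-- the symplectic form -/
def fm (p q : ℕ) : ℕ := lk (nat_lit 0x6996a55ac33c0ff096965a5a3c3cf0f0996655aa33ccff006666aaaacccc0000) 1 1 (16 * p + q)
/-- `p`, `q` are two points on a line of the spread `j` -/
def sp (j : Fin 6) (p q : ℕ) : Prop := Nat.testBit (lk (nat_lit 0x501888002260014000000000a90044044090000a000000030246000189000000c0014ac0000000000000014ac0002424000001200990048000060018000002118060002100089100000000c4620000003000000004a13000000004a1300011180006440000028a000008802402408800000140140006240009180000000030000c0000000000000a140c0a140c0140005480012a0002800000000a00a021021014014000000000c3000030c0000c3000000000000000000000000000000) 6 63 (16 * p + q)) j.val = true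

instance (j : Fin 6) (p q : ℕ) : Decidable (sp j p q) := inferInstanceAs (Decidable (_ = true))

/-- the pairs of the spreads -/
noncomputable def prs (j : Fin 6) : List (ℕ × ℕ) := nth [] [[(1, 4), (1, 5), (2, 8), (2, 10), (3, 12), (3, 15), (4, 1), (4, 5), (5, 1), (5, 4), (6, 11), (6, 13), (7, 9), (7, 14), (8, 2), (8, 10), (9, 7), (9, 14), (10, 2), (10, 8), (11, 6), (11, 13), (12, 3), (12, 15), (13, 6), (13, 11), (14, 7), (14, 9), (15, 3), (15, 12)],
 [(1, 4), (1, 5), (2, 12), (2, 14), (3, 8), (3, 11), (4, 1), (4, 5), (5, 1), (5, 4), (6, 9), (6, 15), (7, 10), (7, 13), (8, 3), (8, 11), (9, 6), (9, 15), (10, 7), (10, 13), (11, 3), (11, 8), (12, 2), (12, 14), (13, 7), (13, 10), (14, 2), (14, 12), (15, 6), (15, 9)],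
 [(1, 8), (1, 9), (2, 4), (2, 6), (3, 12), (3, 15), (4, 2), (4, 6), (5, 11), (5, 14), (6, 2), (6, 4), (7, 10), (7, 13), (8, 1), (8, 9), (9, 1), (9, 8), (10, 7), (10, 13), (11, 5), (11, 14), (12, 3), (12, 15), (13, 7), (13, 10), (14, 5), (14, 11), (15, 3), (15, 12)],
 [(1, 8), (1, 9), (2, 12), (2, 14), (3, 4), (3, 7), (4, 3), (4, 7), (5, 10), (5, 15), (6, 11), (6, 13), (7, 3), (7, 4), (8, 1), (8, 9), (9, 1), (9, 8), (10, 5), (10, 15), (11, 6), (11, 13), (12, 2), (12, 14), (13, 6), (13, 11), (14, 2), (14, 12), (15, 5), (15, 10)],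
 [(1, 12), (1, 13), (2, 4), (2, 6), (3, 8), (3, 11), (4, 2), (4, 6), (5, 10), (5, 15), (6, 2), (6, 4), (7, 9), (7, 14), (8, 3), (8, 11), (9, 7), (9, 14), (10, 5), (10, 15), (11, 3), (11, 8), (12, 1), (12, 13), (13, 1), (13, 12), (14, 7), (14, 9), (15, 5), (15, 10)],
 [(1, 12), (1, 13), (2, 8), (2, 10), (3, 4), (3, 7), (4, 3), (4, 7), (5, 11), (5, 14), (6, 9), (6, 15), (7, 3), (7, 4), (8, 2), (8, 10), (9, 6), (9, 15), (10, 2), (10, 8), (11, 5), (11, 14), (12, 1), (12, 13), (13, 1), (13, 12), (14, 5), (14, 11), (15, 6), (15, 9)]] j.val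

/-- `x` or `0` -/
def sel (p k x : ℕ) : ℕ := bif Nat.testBit p k then x else 0
/-- the linear map with the images `a, b, c, d` of the basis -/
def lin (a b c d p : ℕ) : ℕ := (sel p 0 a ^^^ sel p 1 b) ^^^ (sel p 2 c ^^^ sel p 3 d)
/-- the linear map sends the spread `j` to the spread `k` -/
def cnd (a b c d : ℕ) (j k : Fin 6) : Prop := ∀ x ∈ prs j, sp k (lin a b c d x.1) (lin a b c d x.2)

noncomputable instance (a b c d : ℕ) (j k : Fin 6) : Decidable (cnd a b c d j k) := List.decidableBAll _ _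

theorem pt_lt (s : S0) : pt s < 16 := lk4_lt _ _
theorem pt_mul : ∀ a ∈ Q0, ∀ b ∈ Q0, pt (a * b) = pt a ^^^ pt b := by decide +kernel
theorem pt_eq : ∀ a ∈ Q0, ∀ b ∈ Q0, pt a = pt b ↔ a⁻¹ * b ∈ Z4 := by decide +kernel
theorem pt_surj : ∀ p < 16, ∃ a ∈ Q0, pt a = p := by decide +kernel
theorem fm_iff : ∀ a ∈ Q0, ∀ b ∈ Q0, (fm (pt a) (pt b) = 0 ↔ a * b = b * a) ∧
    (fm (pt a) (pt b) = 1 ↔ a * b ≠ b * a) := by decide +kernel
theorem mem_prs : ∀ j, ∀ p < 16, ∀ q < 16, (p, q) ∈ prs j ↔ sp j p q := by decide +kernel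
theorem prs_lt : ∀ j, ∀ x ∈ prs j, x.1 < 16 ∧ x.2 < 16 := by decide +kernel

/-- the word in the basis -/
noncomputable def bw (c a1 a2 a3 a4 : S0) (p : ℕ) : S0 :=
  c * ((bif Nat.testBit p 0 then a1 else 1) * (bif Nat.testBit p 1 then a2 else 1)) *
    ((bif Nat.testBit p 2 then a3 else 1) * (bif Nat.testBit p 3 then a4 else 1))

theorem Q_bw : ∀ q ∈ Q0, ∃ c ∈ Z4, q = bw c u0 (el 320) v0 (el 64) (pt q) := by decide +kernel

/-- the linear map permutes the spreads, faithfully -/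
def Mn (a b c d : ℕ) : Prop := (∀ j, ∃ k, cnd a b c d j k ∧ ∀ k', cnd a b c d j k' → k' = k) ∧
    ((∀ j, cnd a b c d j j) → a = 1 ∧ b = 2 ∧ c = 4 ∧ d = 8) ∧
    ((∀ j, cnd a b c d j (Equiv.swap 1 3 j)) → a = 13 ∧ b = 2 ∧ c = 6 ∧ d = 10)

noncomputable instance (a b c d : ℕ) : Decidable (Mn a b c d) := by unfold Mn; infer_instance

theorem main : ∀ a < 16, ∀ b < 16, fm a b = 1 → ∀ c < 16, fm a c = 0 → fm b c = 0 → ∀ d < 16, fm a d = 0 →
    fm b d = 0 → fm c d = 1 → Mn a b c d := by decide +kernel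

/-- the common line of the spreads `0` and `1` is `W0 / Z4`. -/
theorem sp01 : ∀ a ∈ Q0, ∀ b ∈ Q0, sp 0 (pt a) (pt b) → sp 1 (pt a) (pt b) → a ∈ W0 ∧ b ∈ W0 := by
  decide +kernel
theorem sp_uv : sp 0 (pt u0) (pt v0) ∧ sp 1 (pt u0) (pt v0) := by decide +kernel

/-- the action of `s` on the spreads is `f` -/
def SpA (s : S0) (f : Fin 6 → Fin 6) : Prop :=
  ∀ j, cnd (pt (s * u0 * s⁻¹)) (pt (s * el 320 * s⁻¹)) (pt (s * v0 * s⁻¹)) (pt (s * el 64 * s⁻¹)) j (f j)

theorem spa_a : SpA (sl 0) ![0, 1, 4, 5, 2, 3] := by unfold SpA; decide +kernel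
theorem spa_t : SpA t0 (Equiv.swap 4 5) := by unfold SpA; decide +kernel
theorem spa_g : SpA (sl 6) (Equiv.swap 2 3) := by unfold SpA; decide +kernel
theorem spa_all : ∀ s, cnd (pt (s * u0 * s⁻¹)) (pt (s * el 320 * s⁻¹)) (pt (s * v0 * s⁻¹))
    (pt (s * el 64 * s⁻¹)) 0 0 ∧ cnd (pt (s * u0 * s⁻¹)) (pt (s * el 320 * s⁻¹)) (pt (s * v0 * s⁻¹))
    (pt (s * el 64 * s⁻¹)) 1 1 := by decide +kernel

/-- an automorphism of `S0` which swaps the spreads `0` and `1` -/
noncomputable def al : S0 →* S0 := MonoidHom.mk' (tab (nat_lit 0xffffbfbfcfdfebf3f8fbfdbebf4f9fcbe3f0f7fbbdbecf5fabd3e8f3f9bcbe4f1f8bc3e0eff7bbbdcedf6bb3d8ebf5babd4e9f4ba3d0e7f3b9bcce5f2b93c8e3f1b8bc4e1f0b83c0dfefb7bbcddeeb73b8dbedb6bb4d9ecb63b0d7ebb5bacd5eab53a8d3e9b4ba4d1e8b43a0cfe7b3b9ccde6b3398cbe5b2b94c9e4b2390c7e3b1b8cc5e2b1388c3e1b0b84c1e0b0380ba5deed75b85cee571be5fefd7dbc5eef579b259ecd65b058ec561b65bedd6db45aed569aa55ead55a854ea551ae57ebd5dac56eb559a251e8d4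5a050e8541a653e9d4da452e95499a4de6d35984ce65319e4fe7d3d9c4ee75399249e4d259048e4521964be5d2d944ae55298a45e2d158844e25118e47e3d1d8c46e35198241e0d058040e05018643e1d0d8442e15097a3ddecf5783cde4f17e3fdfcfd7c3edf4f97239dcce57038dc4e1763bddced743add4e96a35dacd56834da4d16e37dbcdd6c36db4d96231d8cc56030d84c16633d9ccd6432d94c95a2dd6cb5582cd64b15e2fd7cbd5c2ed74b95229d4ca55028d44a1562bd5cad542ad54a94a25d2c954824d24914e27d3c9d4c26d34994221d0c854020d04814623d1c8d4422d14893f9f8fa7c3d9e8f2783b9d8ea74399c8e270379b8da6c359a8d26833998ca6431988c2602f978ba5c2d968b2582b958aa5429948a250279389a4c259289248239188a442190882401f8f87a3c1d8e872381b8d86a34198c86230178b85a2c158a85228138984a241188842200f8783a1c0d86832180b8582a14098482210078381a0c058281208038180a04018080200)) (by decide +kernel)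

theorem al_bij : Function.Bijective al :=
  Finite.injective_iff_bijective.1 (inj_of (by decide +kernel))
theorem al_i : al i0 = i0 ∧ al z0 = z0 := by decide +kernel
theorem al_Q : ∀ s ∈ Q0, al s ∈ Q0 := by decide +kernel
theorem al_V : ∀ s ∈ V0, al s ∈ V0 := by decide +kernel
theorem al_sp : ∀ j, cnd (pt (al u0)) (pt (al (el 320))) (pt (al v0)) (pt (al (el 64))) j (![1, 0, 3, 2, 5, 4] j) := by
  decide +kernel

theorem rq_inner : ∀ a ∈ Q0, a * a = 1 → pt a = 13 → ∀ b ∈ Q0, b * b = 1 → pt b = 2 → ∀ c ∈ Q0, c * c = 1 →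
    pt c = 6 → ∀ d ∈ Q0, d * d = 1 → pt d = 10 → ∃ q ∈ Q0, q * a * q⁻¹ = rq u0 ∧ q * b * q⁻¹ = rq (el 320) ∧
    q * c * q⁻¹ = rq v0 ∧ q * d * q⁻¹ = rq (el 64) := by decide +kernel
theorem rq_mul : ∀ a ∈ Q0, ∀ b ∈ Q0, rq (a * b) = rq a * rq b := by decide +kernel
theorem rq_Q : ∀ a ∈ Q0, rq a ∈ Q0 := by decide +kernel
theorem rq_i : rq i0 = i0⁻¹ ∧ rq z0 = z0 := by decide +kernel

end H11.Hs
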