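import Mathlib
import Cfsg.Agent.H11.HsG

/-!
# Facts for the construction of the last generator
-/

set_option autoImplicit false
set_option maxRecDepth 100000
set_option synthInstance.maxSize 4000
set_option Elab.async false

namespace H11.Hs

open H29

/-- the action of the letter `r` on `E0` -/
def re : S0 → S0 := tab (nat_lit 0x43001080000000000072801ce0000000000000000000000000000000000000000000000000000000000000000000000000000000000000000000000000000000000000000000000000000000000000000000000000000000000000000000000000000000000000000000000000230008e000000000003bc00ed00000000000000000000000000000000000000000000000000000005000100000000000031800c200000000000000000000000000000000000000000000000000000000000000000000000000000000000000000000000000000000000000000000000000000000000000000000000000000000000000000000000000000000000000000000000001ac0069000000000000080000)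

theorem Good.act_re {G : Type} [Group G] {e : ℕ → G} {φ : S0 →* G} (h : Good e φ) :
    ∀ q ∈ E0, φ (re q) = e 7 * φ q * (e 7)⁻¹ := fun q hq => by
  simpa using h.cjL [7] [0, 2, 8, 10, 97, 99, 105, 107, 132, 134, 140, 142, 229, 231, 237, 239] re (by decide +kernel) (s := q) (by revert q; decide +kernel)

theorem Good.n_cj {G : Type} [Group G] {e : ℕ → G} {φ : S0 →* G} (h : Good e φ) :
    ∃ w, e 8 = w * φ (sl 6) * w⁻¹ := by
  refine ⟨ev e [7, 1, 6, 7], ?_⟩
  have := h.one (l := [[7, 1, 6, 7] ++ [6] ++ invW Hs.iv [7, 1, 6, 7] ++ [8]]) (by decide +kernel) _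
    (List.mem_singleton_self _)
  rw [ev_append, ev_append, ev_append, ev_invW h.iv] at this
  have h8 : e 8 = (e 8)⁻¹ := h.iv 8
  rw [show ev e [6] = e 6 by simp, show ev e [8] = e 8 by simp] at this
  rw [h8, h.map 6 (by decide), eq_inv_of_mul_eq_one_left this]

/-- conjugation -/
noncomputable def cn (s q : S0) : S0 := s * q * s⁻¹
/-- the map of `A0` with the given images of the generators -/
noncomputable def fa (x y w a : S0) : S0 := x ^ (a.n % 4) * y ^ (a.n / 4 % 4) * w ^ (a.n / 16 % 4)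
/-- coset representatives of `A0` in `Q2` -/
noncomputable def ct (b t : S0) (d : ℕ) : S0 :=
  (bif d.testBit 0 then b else 1) * (bif d.testBit 1 then t else 1)
/-- the map of `Q2` which extends `mq` on `A0` and sends `b0, t0` to `t0, t` -/
noncomputable def xq (t q : S0) : S0 := mq (q * (ct b0 t0 (q.n / 64))⁻¹) * ct t0 t (q.n / 64)

theorem c34 : ∀ e, Iv e → cl e = 3 ∨ cl e = 4 → ∀ a ∈ A0, a * e = e * a → a * a ≠ u0 := by decide +kernel
theorem A_sq : ∀ a ∈ A0, ∀ b ∈ A0, b * b = a * a → a⁻¹ * b ∈ V0 := by decide +kernel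
theorem A_fa : ∀ a ∈ A0, fa i0 a2 a3 a = a := by decide +kernel
theorem V_zuv : ∀ a ∈ V0, ∃ i < 2, ∃ j < 2, ∃ k < 2, a = z0 ^ i * u0 ^ j * v0 ^ k := by decide +kernel
theorem to_uv : ∀ y ∈ V0, y * b0 = b0 * y → y * t0 = t0 * y → y ≠ 1 → y ≠ z0 → ∀ w ∈ V0, w ≠ 1 → w ≠ z0 →
    w ≠ y → w ≠ z0 * y → ∃ s, s * y * s⁻¹ = u0 ∧ s * w * s⁻¹ = v0 := by decide +kernel

/-- the three words which act trivially on `V0` -/
noncomputable def w1 (f : S0 → S0) (a : S0) : S0 := cn s0 (f (cn s0 (f (cn s0 (f a)))))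
noncomputable def w2 (f : S0 → S0) (a : S0) : S0 := cn b0 (f (cn t0 (f a)))
noncomputable def w3 (f : S0 → S0) (a : S0) : S0 := f (nq (f (nq (f (nq (f (nq a)))))))
/-- `f` fixes three elements -/
def Fx3 (f : S0 → S0) (a b c : S0) : Prop := f a = a ∧ f b = b ∧ f c = c
instance (f : S0 → S0) (a b c : S0) : Decidable (Fx3 f a b c) := by unfold Fx3; infer_instance

theorem m_uniq : ∀ x ∈ A0, x * x = u0 → ∀ y ∈ A0, y * y = z0 → ∀ w ∈ A0, w * w = v0 →
    Fx3 (w1 (fa x y w)) z0 u0 v0 ∧ Fx3 (w2 (fa x y w)) z0 u0 v0 ∧ Fx3 (w3 (fa x y w)) z0 u0 v0 ∧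
    (Fx3 (w1 (fa x y w)) i0 a2 a3 → Fx3 (w2 (fa x y w)) i0 a2 a3 → Fx3 (w3 (fa x y w)) i0 a2 a3 →
      x = mq i0 ∧ y = mq a2 ∧ w = mq a3) := by decide +kernel
theorem fa_mq : ∀ a ∈ A0, fa (mq i0) (mq a2) (mq a3) a = mq a := by decide +kernel
theorem mq_A : ∀ a ∈ A0, mq a ∈ A0 ∧ nq a ∈ A0 ∧ w1 mq a = a ∧ w3 mq a = a := by decide +kernel
theorem to_t : ∀ x, Iv x → x ∈ Q2 → cl x ≠ 7 → x * v0 = v0 * u0 * x → ∃ a ∈ A0, a * x * a⁻¹ = t0 := by
  decide +kernel
theorem to_b : ∀ x, Iv x → x ∈ Q2 → cl x ≠ 4 → x * v0 = v0 * z0 * x → x * t0 = t0 * x →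
    (∀ q ∈ Q2, xq x q ∈ Q2) ∧ ∀ a ∈ A0, cn a b0 = w1 (xq x) b0 → cn a t0 = w1 (xq x) t0 →
    ∃ a ∈ A0, a * t0 * a⁻¹ = t0 ∧ a * x * a⁻¹ = b0 := by decide +kernel
theorem Q2_ct : ∀ q ∈ Q2, q * (ct b0 t0 (q.n / 64))⁻¹ ∈ A0 ∧ xq b0 q = mq q ∧ mq q ∈ Q2 ∧ mq (mq q) = q ∧
    cn s0 (mq (cn s0 (mq (cn s0⁻¹ q)))) = mq q ∧ w1 mq q = q := by decide +kernel
theorem fix_sm : ∀ c ∈ A0, c * b0 = b0 * c → c * t0 = t0 * c → cn s0 (mq c) = c → c = 1 := by decide +kernel
theorem E_act : ∀ q ∈ E0, q ∈ Q2 ∧ mq q ∈ E0 ∧ re q ∈ E0 ∧ cn s0 q ∈ E0 ∧ q * q = 1 ∧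
    re (mq (re (mq (re (mq (re (mq (re (mq q))))))))) = q ∧ (re (mq q) = q → q = 1) ∧
    cn s0 (re (mq (cn s0 (re (mq (cn s0 (re (mq (cn s0 (re (mq q))))))))))) = q := by decide +kernel

end H11.Hs
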