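import Mathlib
import Cfsg.Agent.H11.HsC
import Cfsg.Agent.H11.HsL

/-!
# Sylow `2`-subgroups of type `HS`: the last generator
-/

set_option autoImplicit false
set_option linter.unusedSectionVars false
set_option maxRecDepth 100000
set_option synthInstance.maxSize 4000

open Cfsg H24 H26 H26.Gold Subgroup H7.SJ H25.Tw H25.Sy H29

namespace H11.Hs

variable {G : Type} [Group G] [Finite G] {φ : S0 →* G} {X : Subgroup S0} {x y m : G} {s : S0}
  {f f' : S0 → S0} {e : ℕ → G}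

/-- `x` acts on `X` as `f`. -/
def Ac (φ : S0 →* G) (X : Subgroup S0) (x : G) (f : S0 → S0) : Prop :=
  ∀ a ∈ X, f a ∈ X ∧ φ (f a) = x * φ a * x⁻¹

theorem Ac.mul (h1 : Ac φ X x f) (h2 : Ac φ X y f') : Ac φ X (x * y) fun a => f (f' a) := fun a ha =>
  ⟨(h1 _ (h2 a ha).1).1, Emb.trans (h2 a ha).2 (h1 _ (h2 a ha).1).2⟩

theorem ac_cn (hX : ∀ a ∈ X, cn s a ∈ X) : Ac φ X (φ s) (cn s) := fun a ha =>
  ⟨hX a ha, by simp only [cn, map_mul, map_inv]⟩

theorem Ac.cent (h1 : Ac φ X x f) (hf : ∀ a ∈ X, f a = a) : x ∈ C[X.map φ] := mem_C'.2 (by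
  rintro _ ⟨a, ha, rfl⟩
  exact mul_inv_eq_iff_eq_mul.1 ((h1 a ha).2.symm.trans (congrArg φ (hf a ha))))

theorem Ac.congr (h1 : Ac φ X x f) (hf : ∀ a ∈ X, f a = f' a) : Ac φ X x f' := fun a ha => hf a ha ▸ h1 a ha

theorem dih2 (x2 : x * x = 1) (y2 : y * y = 1) (h : TwoE (x * y)) : ∃ P, TwoG P ∧ x ∈ P ∧ y ∈ P := by
  refine ⟨zpowers (x * y) ⊔ zpowers x, h.isPi.sup (twoE_of_sq x2).isPi (zpowers_le.2 (mem_N_of_finite ?_)),
    mem_sup_right (mem_zpowers x), ?_⟩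
  · rintro _ ⟨k, rfl⟩
    rw [← conj_zpow, show x * (x * y) * x⁻¹ = (x * y)⁻¹ by
      rw [← mul_assoc, x2, one_mul, mul_inv_rev, inv_eq_of_mul_eq_one_right y2]]
    exact zpow_mem (inv_mem (mem_zpowers _)) k
  · simpa using mul_mem (mem_sup_right (inv_mem (mem_zpowers x)))
      (mem_sup_left (mem_zpowers (x * y)) : _ ∈ zpowers (x * y) ⊔ zpowers x)

variable (h : Emb φ) (g : Good e φ)
include h

theorem Ac.norm (h1 : Ac φ X x f) : x ∈ N[X.map φ] := h.mem_N fun a ha => ⟨_, h1 a ha⟩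

theorem Ac.fix {n : ℕ} (h1 : Ac φ X x f) (hn : x ^ n ∈ X.map φ) (hf : ∀ a ∈ X, f a = a → a = 1) :
    x ^ n = 1 := by
  obtain ⟨c, hc, e⟩ := hn
  rw [← e, hf c hc (h.inj (by rw [(h1 c hc).2, e]; group)), map_one]

include g

theorem to67 (hs : Iv s) (h1 : s ∈ Q2) (h2 : s ∉ V0) (h3 : i0 * s = s * i0) :
    ∃ t, (cl t = 6 ∨ cl t = 7) ∧ IsConj (φ s) (φ t) := by
  obtain ⟨k, hk, e0⟩ := ext1 h (s := u0) (by decide +kernel)
  obtain ⟨t, ht, e1⟩ := Emb.of_N (inv_mem hk) h1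
  obtain ⟨j, hj, e2⟩ := Emb.of_N (inv_mem (NQ2_A h hk)) (show i0 ∈ A0 by decide +kernel)
  have h4 := iv_cj h hs e1
  have h5 : ¬ (cl t = 3 ∨ cl t = 4) := fun e3 =>
    c34 t h4 e3 j hj ((h.comm e2 e1).2 h3) ((h.rel e2 e2 (Emb.symm e0)).2 i2)
  have h6 : ¬ cl t ≤ 2 := fun e3 => by
    obtain ⟨t', ht', e4⟩ := Emb.of_N (inv_mem (inv_mem (NQ2_V h hk))) ((mem_V t).2 (Or.inr e3))
    exact h2 (h.inj (e4.trans (Emb.symm e1).symm) ▸ ht')
  have h7 := (Q2_sq t ((mem_Q2 _).1 ht)).2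
  have h8 := h4.lt
  exact ⟨t, by omega, isConj_iff.2 ⟨_, e1.symm⟩⟩

theorem D67 : D φ (φ t0) ∨ D φ (φ (t0 * i0)) := by
  obtain ⟨t, ht, e1⟩ := to67 h g (s := b0) (by decide +kernel) (by decide +kernel) (by decide +kernel)
    (by decide +kernel)
  have h1 := (D_Q h g.act_r (s := b0) (by decide +kernel) (by decide +kernel)).trans e1
  exact ht.imp (fun e => h1.trans (isConj_cl (iv_of e) (Eq.trans (by decide +kernel) e.symm)))
    fun e => h1.trans (isConj_cl (iv_of e) (Eq.trans (by decide +kernel) e.symm))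

theorem self_cent (hz : z0 ∈ X) (hS : Syl 2 C[X.map φ] (X.map φ)) : C[X.map φ] ≤ X.map φ := by
  have h1 := bal0 (h.two Q0) (Q_nml h g.act_r) (cq_Q h g.act_r) (h.two X) ((map_le_range _ _).trans le_H)
  rw [inf_eq_right.2 (C_le_C1 (h.mem.2 hz))] at h1
  have := H8.PC.le_sup_Od_of_cent hS.pi hS.le le_rfl hS.idx
  rwa [h1, sup_bot_eq] at this

omit g in
theorem A_inf : φ.range ⊓ C[V0.map φ] = A0.map φ := le_antisymm
  (by
    rintro _ ⟨⟨s, rfl⟩, hs⟩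
    exact h.mem.2 (CV_A s (h.mem_C.1 (C_le_C1 (h.mem.2 (by decide +kernel)) hs))
      (h.mem_C.1 (C_le_C1 (h.mem.2 (by decide +kernel)) hs))))
  (le_inf (map_le_range _ _) (by
    rintro _ ⟨a, ha, rfl⟩
    refine mem_C'.2 ?_
    rintro _ ⟨b, hb, rfl⟩
    exact mem_C1.1 (h.mem_C.2 (A_ab a ha b ((V_A b).1 hb).1))))

theorem CA : C[A0.map φ] ≤ A0.map φ := by
  have h1 := (h.syl.of_le (h.syl_N A_n) le_top).inf_nml ⟨C_le_N _, N_le_NC _⟩
  refine self_cent h g (by decide +kernel) (h1.of_ge ?_ (h.two _) ((inf_le_inf_left _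
    (C_anti (map_mono fun a ha => ((V_A a).1 ha).1))).trans (A_inf h).le))
  rintro _ ⟨a, ha, rfl⟩
  refine mem_C'.2 ?_
  rintro _ ⟨b, hb, rfl⟩
  exact mem_C1.1 (h.mem_C.2 (A_ab a ha b hb))

theorem Ac.mem_A (h1 : Ac φ A0 x f) (hf : Fx3 f z0 u0 v0) : x ∈ A0.map φ := by
  have NV : N[A0.map φ] ≤ N[V0.map φ] := fun k hk => h.mem_N fun a ha => by
    obtain ⟨b, hb, e1⟩ := Emb.of_N hk ((V_A a).1 ha).1
    exact ⟨b, (V_A b).2 ⟨hb, (h.sq1 e1).2 ((V_A a).1 ha).2⟩, e1⟩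
  have hS := (h.syl.of_le (h.syl_N A_n) le_top).inf_nml (K := N[A0.map φ] ⊓ C[V0.map φ])
    ⟨inf_le_left, norm_inf (norm_self _) (NV.trans (N_le_NC _))⟩
  rw [← inf_assoc, inf_eq_left.2 (h.syl_N A_n), A_inf h] at hS
  have k1 : ∀ a ∈ A0, f a = a → φ a ∈ C{x} := fun a ha e1 =>
    mem_C1_comm.1 (mem_C1_iff_conj.2 ((h1 a ha).2.symm.trans (congrArg φ e1)))
  have hV : x ∈ C[V0.map φ] := mem_C'.2 (by
    rintro _ ⟨a, ha, rfl⟩
    obtain ⟨i, -, j, -, k, -, rfl⟩ := V_zuv a ha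
    rw [map_mul, map_mul, map_pow, map_pow, map_pow]
    exact (mem_C1.1 (mul_mem (mul_mem (pow_mem (k1 _ (by decide +kernel) hf.1) i)
      (pow_mem (k1 _ (by decide +kernel) hf.2.1) j)) (pow_mem (k1 _ (by decide +kernel) hf.2.2) k))).symm)
  refine mem_of_sq hS inf_le_left le_rfl ⟨h1.norm h, hV⟩ (CA h g (mem_C'.2 ?_))
  rintro _ ⟨a, ha, rfl⟩
  obtain ⟨h2, e1⟩ := h1 a ha
  have e2 : ∀ w ∈ V0, φ w = x * φ w * x⁻¹ := fun w hw => (conj_eq_of_mem_C hV (h.mem.2 hw)).symm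
  have h3 := A_sq a ha _ h2 ((h.rel e1 e1 (e2 _ ((V_A _).2 ⟨mul_mem ha ha,
    (by decide +kernel : ∀ a ∈ A0, a * a * (a * a) = 1) a ha⟩))).2 rfl)
  have e3 := Emb.mul e1 (e2 _ h3)
  have e4 : f a * (a⁻¹ * f a) = a :=
    calc _ = a * (a⁻¹ * f a * (a⁻¹ * f a)) := by group
      _ = a := by rw [((V_A _).1 h3).2, mul_one]
  rw [e4, mul_inv_cancel_left, e1] at e3
  exact mul_inv_eq_iff_eq_mul.1 (Eq.trans (by group) e3.symm)

theorem Ac.fx (h1 : Ac φ A0 x f) (hf : Fx3 f z0 u0 v0) : Fx3 f i0 a2 a3 := by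
  obtain ⟨c, hc, rfl⟩ := h1.mem_A h g hf
  have k : ∀ a ∈ A0, f a = a := fun a ha => h.inj (by
    rw [(h1 a ha).2, ← map_inv, ← map_mul, ← map_mul, A_ab c hc a ha, mul_inv_cancel_right])
  exact ⟨k _ (by decide +kernel), k _ (by decide +kernel), k _ (by decide +kernel)⟩

omit h in
theorem ac_n : Ac φ A0 (e 8) nq := fun a ha => ⟨(mq_A a ha).2.1, g.act_n a ha⟩

theorem exists_x1 : ∃ x ∈ N[Q2.map φ], Ac φ A0 x mq := by
  obtain ⟨k, hk, e0⟩ := ext1 h (s := u0) (by decide +kernel)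
  obtain ⟨y, hy, e1⟩ := Emb.of_N (NQ2_V h hk) (show z0 ∈ V0 by decide +kernel)
  obtain ⟨w, hw, e2⟩ := Emb.of_N (NQ2_V h hk) (show v0 ∈ V0 by decide +kernel)
  have k1 : ∀ q ∈ Q2, y * q = q * y := fun q hq => by
    obtain ⟨q', -, e3⟩ := Emb.of_N (inv_mem hk) hq
    exact (h.comm e3 (Emb.symm e1)).1 (zc _) |>.symm
  obtain ⟨s, s1, s2⟩ := to_uv y hy (k1 _ (by decide +kernel)) (k1 _ (by decide +kernel))
    (mt (h.eq1 e1).1 z1) (mt (h.eq' e1 e0).1 (by decide +kernel)) w hw (mt (h.eq1 e2).1 (by decide +kernel))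
    (mt (h.eq' e2 e0).1 (by decide +kernel)) (mt (h.eq' e2 e1).1 (by decide +kernel))
    (mt (h.eq' e2 (Emb.mul e0 e1)).1 (by decide +kernel))
  have hx := mul_mem (h.syl_N Q2_n ⟨s, rfl⟩) hk
  have f0 := Emb.conj_conj e0 s
  have f1 := Emb.conj_conj e1 s
  have f2 := Emb.conj_conj e2 s
  rw [zc, mul_inv_cancel_right] at f0
  rw [s1] at f1
  rw [s2] at f2
  generalize φ s * k = x at hx f0 f1 f2
  obtain ⟨a, ha, ea⟩ := Emb.of_N (NQ2_A h hx) (show i0 ∈ A0 by decide +kernel)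
  obtain ⟨b, hb, eb⟩ := Emb.of_N (NQ2_A h hx) (show a2 ∈ A0 by decide +kernel)
  obtain ⟨c, hc, ec⟩ := Emb.of_N (NQ2_A h hx) (show a3 ∈ A0 by decide +kernel)
  have hf : Ac φ A0 x (fa a b c) := fun q hq =>
    ⟨mul_mem (mul_mem (pow_mem ha _) (pow_mem hb _)) (pow_mem hc _), by
      conv_rhs => rw [← A_fa q hq]
      simp only [fa, map_mul, map_pow, ea, eb, ec, conj_pow, conj_mul']⟩
  have hs : ∀ s, Ac φ A0 (φ s) (cn s) := fun s => ac_cn (A_n s)
  have hn := ac_n g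
  obtain ⟨u1, u2, u3, u4⟩ := m_uniq a ha ((h.rel ea ea f1).2 i2) b hb
    ((h.rel eb eb f0).2 (by decide +kernel)) c hc ((h.rel ec ec f2).2 (by decide +kernel))
  obtain ⟨rfl, rfl, rfl⟩ := u4
    (((hs s0).mul (hf.mul ((hs s0).mul (hf.mul ((hs s0).mul hf))))).fx h g u1)
    (((hs b0).mul (hf.mul ((hs t0).mul hf))).fx h g u2)
    ((hf.mul (hn.mul (hf.mul (hn.mul (hf.mul (hn.mul (hf.mul hn))))))).fx h g u3)
  exact ⟨x, hx, hf.congr fa_mq⟩

omit h g in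
theorem ac_xq {t : S0} (hx : Ac φ A0 x mq) (hb : φ t0 = x * φ b0 * x⁻¹) (ht : φ t = x * φ t0 * x⁻¹) :
    ∀ q ∈ Q2, φ (xq t q) = x * φ q * x⁻¹ := fun q hq => by
  have h1 := Emb.mul (hx _ (Q2_ct q hq).1).2 (show φ (ct t0 t (q.n / 64)) = x * φ (ct b0 t0 (q.n / 64)) * x⁻¹ by
    refine Emb.mul ?_ ?_
    · cases (q.n / 64).testBit 0
      exacts [Emb.one x, hb]
    · cases (q.n / 64).testBit 1
      exacts [Emb.one x, ht])
  rwa [inv_mul_cancel_right] at h1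

variable (dt : D φ (φ t0))
include dt

theorem not_D7 (hs : cl s = 7) : ¬ D φ (φ s) := fun hd => by
  obtain ⟨t, ht, e1⟩ := to67 h g (s := e4) (by decide +kernel) (by decide +kernel) (by decide +kernel)
    (by decide +kernel)
  refine notBD h ?_ e1
  rcases ht with e | e
  · exact dt.trans (isConj_cl (by decide +kernel) (e.trans (by decide +kernel)))
  · exact hd.trans (isConj_cl (hd.iv h) (e.trans hs.symm))

theorem exists_x : ∃ x, Ac φ Q2 x mq := by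
  obtain ⟨x, hx, h1⟩ := exists_x1 h g
  have db := D_Q h g.act_r (s := b0) (by decide +kernel) (by decide +kernel)
  have adj : ∀ {x : G} {a : S0}, a ∈ A0 → Ac φ A0 x mq → Ac φ A0 (φ a * x) mq := fun {x a} ha hx =>
    ((ac_cn (A_n a)).mul hx).congr fun q hq => by rw [cn, A_ab a ha _ (mq_A q hq).1, mul_inv_cancel_right]
  have rl : ∀ {x : G} {p p' w : S0}, Ac φ A0 x mq → φ p' = x * φ p * x⁻¹ → w ∈ A0 → p * v0 = w * p →
      p' * v0 = mq w * p' := fun {x p p' w} hx e1 hw e2 =>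
    (h.eq' (Emb.mul e1 (show φ v0 = _ from (hx v0 (by decide +kernel)).2)) (Emb.mul (hx w hw).2 e1)).2 e2
  obtain ⟨b, hb, e1⟩ := Emb.of_N hx (show b0 ∈ Q2 by decide +kernel)
  obtain ⟨a, ha, e2⟩ := to_t b ((db.of e1).iv h) hb (fun e => not_D7 h g dt e (db.of e1))
    (rl h1 e1 (w := v0 * z0) (by decide +kernel) (by decide +kernel))
  have e3 := Emb.conj_conj e1 a
  have h2 := adj ha h1
  have hy := mul_mem (h.syl_N Q2_n ⟨a, rfl⟩) hx
  rw [e2] at e3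
  generalize φ a * x = y at h2 hy e3
  obtain ⟨t, ht, e4⟩ := Emb.of_N hy (show t0 ∈ Q2 by decide +kernel)
  obtain ⟨h3, h4⟩ := to_b t ((dt.of e4).iv h) ht (fun e => not_D4 h e (dt.of e4))
    (rl h2 e4 (w := v0 * u0) (by decide +kernel) (by decide +kernel)) ((h.comm e4 e3).2 (by decide +kernel))
  have h5 : Ac φ Q2 y (xq t) := fun q hq => ⟨h3 q hq, ac_xq h2 e3 e4 q hq⟩
  have hs := ac_cn (φ := φ) (A_n s0)
  have hs' := ac_cn (φ := φ) (Q2_n s0)
  obtain ⟨c, hc, e5⟩ := CA h g ((hs.mul (h2.mul (hs.mul (h2.mul (hs.mul h2))))).cent fun a ha => (mq_A a ha).2.2.1)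
  have h6 := hs'.mul (h5.mul (hs'.mul (h5.mul (hs'.mul h5))))
  rw [← e5] at h6
  have h7 : ∀ q ∈ Q2, cn c q = w1 (xq t) q := fun q hq =>
    h.inj (Eq.trans (by simp only [cn, map_mul, map_inv]) (h6 q hq).2.symm)
  obtain ⟨d, hd, e6, e7⟩ := h4 c hc (h7 _ (by decide +kernel)) (h7 _ (by decide +kernel))
  exact ⟨φ d * y, fun q hq => ⟨(Q2_ct q hq).2.2.1, (Q2_ct q hq).2.1 ▸
    ac_xq (adj hd h2) (e6 ▸ Emb.conj_conj e3 d) (e7 ▸ Emb.conj_conj e4 d) q hq⟩⟩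

theorem exists_m : ∃ m, D φ m ∧ Ac φ Q2 m mq := by
  obtain ⟨x, hx⟩ := exists_x h g dt
  have hx' : Ac φ Q2 x⁻¹ mq := fun q hq => ⟨(hx q hq).1, by
    have := Emb.symm (hx _ (hx q hq).1).2
    rwa [(Q2_ct q hq).2.2.2.1] at this⟩
  have hs : ∀ s, Ac φ Q2 (φ s) (cn s) := fun s => ac_cn (Q2_n s)
  refine ⟨_, (D_Q h g.act_r (s := s0) (by decide +kernel) (by decide +kernel)).conj (φ s0 * x), ?_⟩
  have := ((hs s0).mul (hx.mul ((hs s0).mul (hx'.mul (hs s0⁻¹))))).congr fun q hq => (Q2_ct q hq).2.2.2.2.1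
  rw [map_inv] at this
  simpa only [mul_inv_rev, mul_assoc] using this

omit dt in
theorem CE' : C[E0.map φ] ≤ E0.map φ := by
  have eE : EA (E0.map φ) := ea_of_sq (by rintro _ ⟨q, hq, rfl⟩; exact Emb.sq (E_act q hq).2.2.2.2.1)
  refine self_cent h g (by decide +kernel) (h.syl_of le_H (C_le_C1 (h.mem.2 (by decide +kernel))) eE.le_C
    fun k hk t ht _ h1 ⟨s, e1⟩ => ?_)
  have kQ := (Q_nml h g.act_r).norm hk
  obtain ⟨t1, e2⟩ := h1 t0 (by decide +kernel)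
  obtain ⟨j, hj, e3⟩ := Emb.of_N (H_Ni h g.act_r hk) (show i0 ∈ Z4 by decide +kernel)
  have k1 : ∀ q q', q ∈ E0 → φ q' = k * φ q * k⁻¹ → s * q' = q' * s := fun q q' hq e => h.inj (by
    rw [map_mul, map_mul, e1, e, ← conj_mul', ← conj_mul', mem_C'.1 ht _ (h.mem.2 hq)])
  have k2 : ∀ p, φ p ∈ C[E0.map φ] → k * φ p * k⁻¹ ∈ Q0.map φ → φ p ∈ E0.map φ := fun p h2 h3 =>
    h.mem.2 (CQ_t p (h.mem.1 ((conj_mem_iff kQ).1 h3)) (h.mem_C.1 (C_le_C1 (h.mem.2 (by decide +kernel)) h2)))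
  have k3 : ∀ y, y ∈ C[E0.map φ] → k * y * k⁻¹ ∈ Q0.map φ → y ∈ E0.map φ := fun y h2 h3 => by
    obtain ⟨p, -, rfl⟩ := (conj_mem_iff kQ).1 h3
    exact k2 p h2 h3
  have tE : φ t0 ∈ E0.map φ := h.mem.2 (by decide +kernel)
  rcases CE t1 (iv_cj h (by decide +kernel) e2) (fun e => absurd ((h.comm e2 e3).1
    ((by decide +kernel : ∀ j ∈ Z4, ∀ t, t * i0 = i0 * t → t * j = j * t) j hj t1 e)) (by decide +kernel))
    s (k1 t0 t1 (by decide +kernel) e2) (fun q hq e => by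
      obtain ⟨p, hp, e4⟩ := Emb.of_N (inv_mem kQ) hq
      exact k1 p q (CQ_t p hp ((h.comm e4 (Emb.symm e2)).2 e)) (by simpa using Emb.symm e4)) with e | e
  · exact k3 t ht (e1 ▸ h.mem.2 e)
  · exact (mul_mem_cancel_right tE).1 (k3 _ (mul_mem ht (eE.le_C tE)) (by
      rw [conj_mul', ← e1, ← e2, ← map_mul]; exact h.mem.2 e))

theorem rels (dm : D φ m) (hm : Ac φ Q2 m mq) : (φ s0 * m) ^ 3 = 1 ∧ (m * e 8) ^ 4 = 1 ∧
    (e 7 * m) ^ 5 = 1 ∧ (φ s0 * (e 7 * m)) ^ 8 = 1 := by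
  have AQ : ∀ a ∈ A0, a ∈ Q2 := by decide +kernel
  have mA : Ac φ A0 m mq := fun a ha => ⟨(mq_A a ha).1, (hm a (AQ a ha)).2⟩
  have mE : Ac φ E0 m mq := fun a ha => ⟨(E_act a ha).2.1, (hm a (E_act a ha).1).2⟩
  have rE : Ac φ E0 (e 7) re := fun a ha => ⟨(E_act a ha).2.2.1, g.act_re a ha⟩
  have sE : Ac φ E0 (φ s0) (cn s0) := ac_cn fun a ha => (E_act a ha).2.2.2.1
  refine ⟨?_, ?_, ?_, ?_⟩
  · have h1 := (ac_cn (Q2_n s0)).mul hm
    have h2 := (h1.mul (h1.mul h1)).cent fun q hq => (Q2_ct q hq).2.2.2.2.2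
    rw [← pow_three] at h2
    obtain ⟨c, hc, e1⟩ := CA h g (C_anti (map_mono AQ) h2)
    rw [← e1] at h2
    rw [← e1, fix_sm c hc (h.mem_C.1 (C_le_C1 (h.mem.2 (by decide +kernel)) h2))
      (h.mem_C.1 (C_le_C1 (h.mem.2 (by decide +kernel)) h2))
      (h.inj (by rw [(h1 c (AQ c hc)).2, e1, (Commute.self_pow _ 3).eq, mul_inv_cancel_right])), map_one]
  · have h1 := mA.mul (ac_n g)
    obtain ⟨c, hc, e1⟩ := CA h g ((h1.mul (h1.mul (h1.mul h1))).cent fun a ha => (mq_A a ha).2.2.2)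
    have dn : D φ (e 8) := by
      obtain ⟨w, e2⟩ := g.n_cj
      exact e2 ▸ D.conj (dt.trans (isConj_cl (by decide +kernel) (by decide +kernel))) w
    obtain ⟨P, hP, p1, p2⟩ := dih2 (dm.sq h).1 (dn.sq h).1 (piElt_of_pow_eq_one (piNat_self_pow p2 4) (by
      rw [show (m * e 8) ^ 2 ^ 4 = (m * e 8 * (m * e 8 * (m * e 8 * (m * e 8)))) ^ 4 by
        rw [← pow_three, ← pow_succ', ← pow_mul]; rfl, ← e1, ← map_pow,
        (by decide +kernel : ∀ a ∈ A0, a ^ 4 = 1) c hc, map_one]))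
    obtain ⟨k, -, hk⟩ := h.pull le_top hP le_top
    obtain ⟨a, ea⟩ := hk _ p1
    obtain ⟨b, eb⟩ := hk _ p2
    have k1 : ∀ a, D φ (φ a) → cl a ≠ 4 ∧ cl a ≤ 6 := fun a hd => by
      have h2 : cl a ≠ 7 := fun e => not_D7 h g dt e hd
      have h3 : cl a ≠ 8 := fun e => not_D8 h e hd
      have h4 := (hd.iv h).lt
      exact ⟨fun e => not_D4 h e hd, by omega⟩
    have da : D φ (φ a) := ea ▸ dm.conj k
    have db : D φ (φ b) := eb ▸ dn.conj k
    have := congrArg φ (d16 a (da.iv h) (k1 a da).1 (k1 a da).2 b (db.iv h) (k1 b db).1 (k1 b db).2)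
    simp only [map_mul, map_one, ea, eb, ← conj_mul', conj_eq_one_iff'] at this
    rw [← this]; simp only [pow_succ, pow_zero, one_mul, mul_assoc]
  · have h1 := rE.mul mE
    have h2 := (h1.mul (h1.mul (h1.mul (h1.mul h1)))).cent fun q hq => (E_act q hq).2.2.2.2.2.1
    exact h1.fix h (CE' h g (by simpa only [pow_succ', pow_zero, mul_one] using h2))
      fun q hq => (E_act q hq).2.2.2.2.2.2.1
  · have h1 := sE.mul (rE.mul mE)
    obtain ⟨c, hc, e1⟩ := CE' h g ((h1.mul (h1.mul (h1.mul h1))).cent fun q hq => (E_act q hq).2.2.2.2.2.2.2)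
    rw [← pow_three, ← pow_succ'] at e1
    rw [show 8 = 3 + 1 + (3 + 1) from rfl, pow_add, ← e1, ← map_mul, (E_act c hc).2.2.2.2.1, map_one]

theorem fin (le : C{φ z0} ≤ gen e LH) : Nonempty (G ≃* Spor.HS) := by
  obtain ⟨m, dm, hm⟩ := exists_m h g dt
  obtain ⟨r1, r2, r3, r4⟩ := rels h g dt dm hm
  have m2 := inv_eq_of_mul_eq_one_right (dm.sq h).1
  have k1 : ∀ q ∈ Q2, m * φ q * m = φ (mq q) := fun q hq => by rw [(hm q hq).2, m2]
  have k2 : ∀ c ∈ LH, Function.update e 9 m c = e c := fun c hc =>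
    Function.update_of_ne (by revert c; decide) _ _
  have k3 : ∀ c ∈ LS, Function.update e 9 m c = φ (sl c) := fun c hc =>
    (k2 c (by revert c; decide)).trans (g.map c hc).symm
  have k4 : Function.update e 9 m 9 = m := Function.update_self _ _ _
  have k5 := k2 7 (by decide)
  have k6 := k2 8 (by decide)
  have hH : gen e LH ≤ gen (Function.update e 9 m) LG := (gen_congr k2).ge.trans (gen_mono (by decide))
  have hm' : m ∈ gen (Function.update e 9 m) LG := k4 ▸ mem_gen (c := 9) (by decide)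
  have iv' : IvOK (Function.update e 9 m) iv := fun c => by
    by_cases e1 : c = 9
    · rw [e1, show iv 9 = 9 from rfl, k4, m2]
    · rw [Function.update_of_ne e1, Function.update_of_ne, g.iv]
      rcases c with _ | _ | c
      exacts [by decide, by decide, e1]
  generalize Function.update e 9 m = e' at k2 k3 k4 k5 k6 hH hm' iv'
  have es : sl 4 = s0 := rfl
  obtain ⟨f⟩ := recog iv' (e := e') (fun w hw => by
    rcases List.mem_append.1 (show w ∈ HsT2.R0 ++ HsT1.R0.drop 21 from hw) with hw | hw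
    · exact (ev_congr fun c hc => k2 c ((by decide : ∀ w ∈ HsT2.R0, ∀ c ∈ w, c ∈ LH) w hw c hc)).trans
        (g.rel w hw)
    simp only [HsT1.R0, HsT1.G0, List.drop, List.mem_cons, List.not_mem_nil, or_false] at hw
    rcases hw with rfl | rfl | rfl | rfl | rfl | rfl | rfl | rfl | rfl <;>
      simp only [ev_cons, ev_nil, mul_one, k3 1 (by decide), k3 2 (by decide), k3 3 (by decide),
        k3 4 (by decide), k3 5 (by decide), k3 6 (by decide), k4, k5, k6, es]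
    · rw [← r1]; simp only [pow_succ, pow_zero, one_mul, mul_assoc]
    · rw [← mul_assoc m, k1 _ (by decide +kernel), ← map_mul, ← map_one φ]; exact congrArg φ (by decide +kernel)
    · rw [← mul_assoc, ← mul_assoc, k1 _ (by decide +kernel), ← map_mul, ← map_one φ]
      exact congrArg φ (by decide +kernel)
    · rw [← mul_assoc, ← mul_assoc, k1 _ (by decide +kernel), ← map_mul, ← map_one φ]
      exact congrArg φ (by decide +kernel)
    · rw [← mul_assoc m, k1 _ (by decide +kernel), ← map_mul, ← map_one φ]; exact congrArg φ (by decide +kernel)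
    · calc _ = φ s0 * (m * φ (s0 * sl 6 * s0) * m) * φ (sl 6 * s0 * sl 6) := by simp only [map_mul, mul_assoc]
        _ = 1 := by
          rw [k1 _ (by decide +kernel), ← map_mul, ← map_mul, ← map_one φ]
          exact congrArg φ (by decide +kernel)
    · rw [← r2]; simp only [pow_succ, pow_zero, one_mul, mul_assoc]
    · rw [← r3]; simp only [pow_succ, pow_zero, one_mul, mul_assoc]
    · rw [← r4]; simp only [pow_succ, pow_zero, one_mul, mul_assoc])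
    (by rw [k3 2 (by decide)]; exact h.ne_one (by decide +kernel))
  have top : gen e' LG = ⊤ := top2 h g.act_r (le.trans hH) fun k hk => by
    obtain ⟨y, hy, e1⟩ := Emb.of_N (NQ2_V h hk) (show z0 ∈ V0 by decide +kernel)
    have h1 : ∀ q ∈ Q2, y * q = q * y := fun q hq => by
      obtain ⟨q', -, e3⟩ := Emb.of_N (inv_mem hk) hq
      exact (h.comm e3 (Emb.symm e1)).1 (zc _) |>.symm
    rcases (by decide +kernel : ∀ y ∈ V0, y * b0 = b0 * y → y * t0 = t0 * y → y ≠ 1 → y = z0 ∨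
      ∃ s, s * y * s⁻¹ = u0) y hy (h1 _ (by decide +kernel)) (h1 _ (by decide +kernel)) (mt (h.eq1 e1).1 z1)
      with rfl | ⟨s, e2⟩
    · exact hH (le (mem_C1_iff_conj.2 e1.symm))
    · have e3 := Emb.trans (e2 ▸ Emb.conj_conj e1 s) (hm u0 (by decide +kernel)).2
      exact (mul_mem_cancel_left (hH (le (le_H ⟨s, rfl⟩)))).1 ((mul_mem_cancel_left hm').1
        (hH (le (mem_C1_iff_conj.2 e3.symm))))
  exact ⟨((MulEquiv.subgroupCongr top).trans Subgroup.topEquiv).symm.trans f⟩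

end H11.Hs
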