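import Mathlib
import Cfsg.Agent.H11.HsD
import Cfsg.Agent.H11.HsK
import Cfsg.Agent.H25.HRa

set_option autoImplicit false
set_option linter.unusedSectionVars false
set_option maxRecDepth 100000
set_option synthInstance.maxSize 4000

open Cfsg H24 H26 H26.Gold Subgroup H7.SJ H25.Tw H25.Sy H11.Hs

namespace H25.HR

universe u

theorem pinv (f : Equiv.Perm (Fin 6)) (x : Fin 6) : f⁻¹ (f x) = x := f.symm_apply_apply x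

theorem perm_mem {P : Subgroup (Equiv.Perm (Fin 6))} (h1 : Equiv.swap 1 3 ∈ P) (h2 : Equiv.swap 2 3 ∈ P)
    (h3 : Equiv.swap 4 5 ∈ P) {a : Equiv.Perm (Fin 6)} (ha : a ∈ P) (a1 : a 1 = 1) (a3 : a 3 = 5)
    {σ : Equiv.Perm (Fin 6)} (h0 : σ 0 = 0) : σ ∈ P := by
  have cj : ∀ f ∈ P, ∀ x y, Equiv.swap x y ∈ P → Equiv.swap (f x) (f y) ∈ P := fun f hf x y e => by
    rw [Equiv.swap_apply_apply]; exact mul_mem (mul_mem hf e) (inv_mem hf)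
  have h5 : Equiv.swap 1 5 ∈ P := by have := cj a ha _ _ h1; rwa [a1, a3] at this
  have k : ∀ x : Fin 6, x ≠ 0 → x ≠ 1 → Equiv.swap 1 x ∈ P := fun x x0 x1 => by
    rcases (by decide : ∀ x : Fin 6, x ≠ 0 → x ≠ 1 → x = 2 ∨ x = 3 ∨ x = 4 ∨ x = 5) x x0 x1 with
      rfl | rfl | rfl | rfl
    exacts [cj _ h2 _ _ h1, h1, cj _ h3 _ _ h5, h5]
  have le : closure {f | ∃ x : Fin 6, x ≠ 0 ∧ x ≠ 1 ∧ f = Equiv.swap 1 x} ≤ P :=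
    (closure_le _).2 (by rintro _ ⟨x, x0, x1, rfl⟩; exact k x x0 x1)
  refine le ((mem_closure_isSwap (by rintro _ ⟨x, -, x1, rfl⟩; exact ⟨_, _, x1.symm, rfl⟩)).2
    ⟨Set.toFinite _, fun x => ?_⟩)
  have k2 : ∀ x : Fin 6, x ≠ 0 →
      Equiv.swap 1 x ∈ closure {f | ∃ x : Fin 6, x ≠ 0 ∧ x ≠ 1 ∧ f = Equiv.swap 1 x} := fun x x0 => by
    by_cases x1 : x = 1
    · rw [x1, Equiv.swap_self]; exact one_mem _
    · exact subset_closure ⟨x, x0, x1, rfl⟩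
  by_cases x0 : x = 0
  · rw [x0, h0]; exact MulAction.mem_orbit_self _
  · refine ⟨⟨_, mul_mem (k2 (σ x) fun e => x0 (σ.injective (e.trans h0.symm))) (k2 x x0)⟩, ?_⟩
    simp [Subgroup.smul_def]

variable {G : Type u} [Group G] [Finite G] {φ : S0 →* G} (h : Emb φ) {m n : G}
  {π : N[Q0.map φ] →* Equiv.Perm (Fin 6)} (hπ : ∀ n ∈ N[Q0.map φ], ∀ j k, R φ n j k ↔ ap π n j = k)
include h hπ

theorem pi_S {s : S0} {f : Fin 6 → Fin 6} (hs : SpA s f) (j : Fin 6) : ap π (φ s) j = f j :=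
  (hπ _ (S_N h ⟨s, rfl⟩) _ _).1 (((im_S h s).iff h).2 (hs j))

theorem pi_01 (s : S0) : ap π (φ s) 0 = 0 ∧ ap π (φ s) 1 = 1 :=
  ⟨(hπ _ (S_N h ⟨s, rfl⟩) _ _).1 (((im_S h s).iff h).2 (spa_all s).1),
    (hπ _ (S_N h ⟨s, rfl⟩) _ _).1 (((im_S h s).iff h).2 (spa_all s).2)⟩

theorem pi_mul (s t : S0) (j : Fin 6) : ap π (φ (s * t)) j = ap π (φ s) (ap π (φ t) j) := by
  rw [map_mul, ap_mul _ (S_N h ⟨s, rfl⟩) (S_N h ⟨t, rfl⟩)]; rfl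

theorem pi_tr {j k : Fin 6} (j0 : j ≠ 0) (j1 : j ≠ 1) (k0 : k ≠ 0) (k1 : k ≠ 1) : ∃ s, ap π (φ s) j = k := by
  have to2 : ∀ j : Fin 6, j ≠ 0 → j ≠ 1 → ∃ s, ap π (φ s) 2 = j := fun j j0 j1 => by
    rcases (by decide : ∀ x : Fin 6, x ≠ 0 → x ≠ 1 → x = 2 ∨ x = 3 ∨ x = 4 ∨ x = 5) j j0 j1 with
      rfl | rfl | rfl | rfl
    · exact ⟨t0, pi_S h hπ spa_t 2⟩
    · exact ⟨_, pi_S h hπ spa_g 2⟩
    · exact ⟨_, pi_S h hπ spa_a 2⟩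
    · exact ⟨t0 * sl 0, by rw [pi_mul h hπ, pi_S h hπ spa_a, pi_S h hπ spa_t]; rfl⟩
  obtain ⟨s, e1⟩ := to2 j j0 j1
  obtain ⟨t, e2⟩ := to2 k k0 k1
  refine ⟨t * s⁻¹, ?_⟩
  rw [pi_mul h hπ, map_inv, ap_inv _ (S_N h ⟨s, rfl⟩), ← e1, pinv, e2]

theorem no01 (hn : n ∈ N[Q0.map φ]) : ap π n 0 ≠ 1 := fun e => by
  have hS := S_N h
  have st : ∀ (j : Fin 6) x, x ∈ pre π (MulAction.stabilizer _ j) ↔ x ∈ N[Q0.map φ] ∧ ap π x j = j := fun j x => mem_pre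
  have s1 : φ.range ≤ pre π (MulAction.stabilizer _ (1 : Fin 6)) := by
    rintro _ ⟨s, rfl⟩; exact (st _ _).2 ⟨hS ⟨s, rfl⟩, (pi_01 h hπ s).2⟩
  have s0 : φ.range ≤ pre π (MulAction.stabilizer _ (0 : Fin 6)) := by
    rintro _ ⟨s, rfl⟩; exact (st _ _).2 ⟨hS ⟨s, rfl⟩, (pi_01 h hπ s).1⟩
  obtain ⟨d, hd, e1⟩ := Sylow_Jsub p2 (h.syl.of_le s1 le_top) (h.syl.pi.cj n) (fun x hx => by
    obtain ⟨y, hy, rfl⟩ := mem_cj'.1 hx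
    refine (st _ _).2 ⟨mul_mem (mul_mem hn (hS hy)) (inv_mem hn), ?_⟩
    rw [ap_conj _ hn (hS hy), Equiv.Perm.mul_apply, Equiv.Perm.mul_apply, Equiv.Perm.inv_eq_iff_eq.2 e.symm,
      ((st _ _).1 (s0 hy)).2, e])
  obtain ⟨d1, d2⟩ := (st _ _).1 hd
  rw [← cj_mul] at e1
  have g1 := mem_N_of_cj_le e1
  have g2 := mul_mem d1 hn
  have g3 : ap π (d * n) 0 = 1 := by rw [ap_mul _ d1 hn, Equiv.Perm.mul_apply, e, d2]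
  generalize d * n = g at g1 g2 g3
  have g4 : ap π g 1 = 0 := by
    have a1 : φ (sl 0) ∈ φ.range := ⟨_, rfl⟩
    have a2 := conj_mem' g1 a1
    have a3 : ap π (φ (sl 0)) (ap π g 1) = ap π g 1 := by
      rw [← Equiv.Perm.mul_apply, ← ap_mul _ (hS a1) g2,
        show φ (sl 0) * g = g * (g⁻¹ * φ (sl 0) * g) by group, ap_mul _ g2 (hS a2), Equiv.Perm.mul_apply,
        ((st _ _).1 (s1 a2)).2]
    rw [pi_S h hπ spa_a] at a3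
    refine ((by decide : ∀ x : Fin 6, ![0, 1, 4, 5, 2, 3] x = x → x = 0 ∨ x = 1) _ a3).resolve_right fun e => ?_
    exact absurd ((ap π g).injective (e.trans g3.symm)) (by decide)
  have g5 := mem_of_sq (H := N[φ.range]) (h.syl.of_le (norm_self _) le_top) le_rfl s0 g1
    ((st _ _).2 ⟨mul_mem g2 g2, by rw [ap_mul _ g2 g2, Equiv.Perm.mul_apply, g3, g4]⟩)
  exact absurd (g3.symm.trans ((st _ _).1 g5).2) (by decide)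

theorem dich : (∀ n ∈ N[Q0.map φ], ap π n 0 = 0) ∨ ∀ n ∈ N[Q0.map φ], ap π n 1 = 1 := by
  by_contra hn
  push Not at hn
  obtain ⟨⟨n, hn, n0⟩, m, hm, m1⟩ := hn
  have m0 : ap π m 1 ≠ 0 := fun e => no01 h hπ (inv_mem hm) (by
    rw [ap_inv _ hm]; exact Equiv.Perm.inv_eq_iff_eq.2 e.symm)
  obtain ⟨s, e⟩ := pi_tr h hπ n0 (no01 h hπ hn) m0 m1
  have hs := S_N h ⟨s, rfl⟩
  refine no01 h hπ (mul_mem (inv_mem hm) (mul_mem hs hn)) ?_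
  rw [ap_mul _ (inv_mem hm) (mul_mem hs hn), ap_mul _ hs hn, ap_inv _ hm, Equiv.Perm.mul_apply,
    Equiv.Perm.mul_apply, e, pinv]

omit hπ in
theorem normV (hz : n ∈ C{φ z0}) (r0 : R φ n 0 0) (r1 : R φ n 1 1) (hn : n ∈ N[Q0.map φ]) :
    n ∈ N[V0.map φ] := h.mem_N fun x hx => by
  obtain ⟨x1, x2, rfl | rfl | ⟨y, hy, s0, s1⟩⟩ := f_V x hx
  · exact ⟨1, hx, Emb.one n⟩
  · exact ⟨z0, hx, (mem_C1_iff_conj.1 hz).symm⟩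
  · obtain ⟨x', hx', ex⟩ := Emb.of_N hn x1
    obtain ⟨y', hy', ey⟩ := Emb.of_N hn hy
    exact ⟨x', (mem_W x').2 (sp01 _ hx' _ hy' (r0 _ x1 _ hy _ _ ex ey s0) (r1 _ x1 _ hy _ _ ex ey s1)).1
      ((h.sq1 ex).2 x2), ex⟩

theorem exists_r' (f0 : ∀ n ∈ N[Q0.map φ], ap π n 0 = 0) (hn : n ∈ N[Q0.map φ]) (n1 : ap π n 1 ≠ 1) :
    ∃ r ∈ N[Q0.map φ], ap π r = Equiv.swap 1 3 ∧ ∀ c ∈ Z4, φ c⁻¹ = r * φ c * r⁻¹ := by
  have hS := S_N h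
  have n0 : ap π n 1 ≠ 0 := fun e => absurd ((ap π n).injective (e.trans (f0 n hn).symm)) (by decide)
  obtain ⟨s, e⟩ := pi_tr h hπ (j := 2) (by decide) (by decide) n0 n1
  obtain ⟨m, hm, m2⟩ : ∃ m ∈ N[Q0.map φ], ap π m 2 = 1 := ⟨_, mul_mem (inv_mem hn) (hS ⟨s, rfl⟩), by
    rw [ap_mul _ (inv_mem hn) (hS ⟨s, rfl⟩), ap_inv _ hn, Equiv.Perm.mul_apply, e, pinv]⟩
  obtain ⟨t, e'⟩ := pi_tr h hπ (j := ap π m 3) (k := 3)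
    (fun e => absurd ((ap π m).injective (e.trans (f0 m hm).symm)) (by decide))
    (fun e => absurd ((ap π m).injective (e.trans m2.symm)) (by decide)) (by decide) (by decide)
  obtain ⟨g, hg, g2, g3⟩ : ∃ g ∈ N[Q0.map φ], ap π g 2 = 1 ∧ ap π g 3 = 3 := ⟨_, mul_mem (hS ⟨t, rfl⟩) hm, by
    rw [ap_mul _ (hS ⟨t, rfl⟩) hm, Equiv.Perm.mul_apply, m2, (pi_01 h hπ t).2], by
    rw [ap_mul _ (hS ⟨t, rfl⟩) hm, Equiv.Perm.mul_apply, e']⟩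
  have h6 : φ (sl 6) ∈ N[Q0.map φ] := hS ⟨_, rfl⟩
  refine ⟨g * φ (sl 6) * g⁻¹, mul_mem (mul_mem hg h6) (inv_mem hg), ?_, fun c hc => ?_⟩
  · rw [ap_conj _ hg h6, show ap π (φ (sl 6)) = Equiv.swap 2 3 from Equiv.ext (pi_S h hπ spa_g),
      ← Equiv.swap_apply_apply, g2, g3]
  · obtain ⟨c', hc', e1⟩ := imZ h (inv_mem hg) hc
    have e2 := Emb.conj_conj e1 (sl 6)
    rw [(f_Z c' hc').2.2.2.1, map_inv, e1] at e2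
    rw [map_inv]
    calc _ = g * (g⁻¹ * φ c * g⁻¹⁻¹)⁻¹ * g⁻¹ := by group
      _ = _ := by rw [e2]; group

theorem core (f0 : ∀ n ∈ N[Q0.map φ], ap π n 0 = 0) (hn : n ∈ N[Q0.map φ]) (n1 : ap π n 1 ≠ 1) :
    ∃ r : G, (∀ q ∈ Q0, φ (rq q) = r * φ q * r⁻¹) ∧
      ∀ n ∈ N[Q0.map φ], ∃ w ∈ φ.range ⊔ zpowers r, ∀ q ∈ Q0, ∃ c ∈ Z4,
        φ (q * c) = w * n * φ q * (w * n)⁻¹ := by
  have hS := S_N h
  obtain ⟨r, hr, r1, r2⟩ := exists_r' h hπ f0 hn n1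
  obtain ⟨a, b, c, d, i⟩ := exists_im hr
  obtain ⟨p1, p2, p3, p4⟩ := (i.mn h).2.2 fun j => (i.iff h).1 ((hπ r hr _ _).2 (by rw [r1]))
  obtain ⟨q, hq, q1, q2, q3, q4⟩ := rq_inner a (mQ h hr f_b.1 i.a) ((h.sq1 i.a).2 f_sq.1) p1
    b (mQ h hr f_b.2.1 i.b) ((h.sq1 i.b).2 f_sq.2.1) p2 c (mQ h hr f_b.2.2.1 i.c) ((h.sq1 i.c).2 f_sq.2.2.1) p3
    d (mQ h hr f_b.2.2.2 i.d) ((h.sq1 i.d).2 f_sq.2.2.2) p4
  refine ⟨φ q * r, fun x hx => ?_, fun n hn => ?_⟩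
  · obtain ⟨y, hy, e1, e2⟩ := f_rq x hx
    have e3 := Emb.conj_conj (r2 y hy) q
    rw [← (f_Z _ (inv_mem hy)).2.2.2.2 q hq, mul_inv_cancel_right] at e3
    have := cj_bw e3 (q1 ▸ Emb.conj_conj i.a q) (q2 ▸ Emb.conj_conj i.b q) (q3 ▸ Emb.conj_conj i.c q)
      (q4 ▸ Emb.conj_conj i.d q) (pt x)
    rwa [← e1, ← e2] at this
  · have hW : φ.range ⊔ zpowers (φ q * r) ≤ N[Q0.map φ] :=
      sup_le hS (zpowers_le.2 (mul_mem (hS ⟨q, rfl⟩) hr))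
    have k : ∀ s, ap π (φ s) ∈ img π (φ.range ⊔ zpowers (φ q * r)) := fun s =>
      ap_mem_img _ (mem_sup_left ⟨s, rfl⟩) (hS ⟨s, rfl⟩)
    have kr : ap π r ∈ img π (φ.range ⊔ zpowers (φ q * r)) := ap_mem_img _
      ((mul_mem_cancel_left (mem_sup_left (show φ q ∈ φ.range from ⟨q, rfl⟩))).1
        (mem_sup_right (mem_zpowers _))) hr
    obtain ⟨w, hw, e⟩ := (mem_img_of_le hW).1 (perm_mem (r1 ▸ kr)
      ((show ap π (φ (sl 6)) = Equiv.swap 2 3 from Equiv.ext (pi_S h hπ spa_g)) ▸ k _)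
      ((show ap π (φ t0) = Equiv.swap 4 5 from Equiv.ext (pi_S h hπ spa_t)) ▸ k _) (k (sl 0))
      (pi_S h hπ spa_a 1) (pi_S h hπ spa_a 3) (σ := (ap π n)⁻¹) (Equiv.Perm.inv_eq_iff_eq.2 (f0 n hn).symm))
    refine ⟨w, hw, fun x hx => ?_⟩
    have hg := mul_mem (hW hw) hn
    obtain ⟨a, b, c, d, i⟩ := exists_im hg
    obtain ⟨p1, p2, p3, p4⟩ := (i.mn h).2.1 fun j => (i.iff h).1 ((hπ _ hg _ _).2 (by
      rw [ap_mul _ (hW hw) hn, e, inv_mul_cancel]; rfl))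
    obtain ⟨x', hx', e1⟩ := Emb.of_N hg hx
    have e2 := i.lin h hx e1
    rw [p1, p2, p3, p4, f_id _ (pt_lt _)] at e2
    exact ⟨_, (pt_eq _ hx _ hx').1 e2.symm, by rw [mul_inv_cancel_left, e1]⟩

omit hπ in
theorem core' (f0 : ∀ n ∈ N[Q0.map φ], R φ n 0 0)
    (out : ∃ n ∈ C{φ z0} ⊓ N[Q0.map φ], n ∉ N[V0.map φ]) :
    ∃ r : G, (∀ q ∈ Q0, φ (rq q) = r * φ q * r⁻¹) ∧
      ∀ n ∈ C{φ z0} ⊓ N[Q0.map φ], ∃ w ∈ φ.range ⊔ zpowers r, ∀ q ∈ Q0, ∃ c ∈ Z4,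
        φ (q * c) = w * n * φ q * (w * n)⁻¹ := by
  obtain ⟨π, hπ⟩ := exists_pi h
  obtain ⟨n, hn, n1⟩ := out
  obtain ⟨r, r1, r2⟩ := core h hπ (fun n hn => (hπ n hn _ _).1 (f0 n hn)) hn.2
    fun e => n1 (normV h hn.1 (f0 n hn.2) ((hπ n hn.2 _ _).2 e) hn.2)
  exact ⟨r, r1, fun n hn => r2 n hn.2⟩

omit h hπ in
theorem map_al {X : Subgroup S0} (hX : ∀ s ∈ X, al s ∈ X) : X.map (φ.comp al) = X.map φ := by
  rw [← map_map]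
  refine congrArg _ (eq_of_le_of_card_ge ?_ (card_map_of_injective al_bij.1).ge)
  rintro _ ⟨s, hs, rfl⟩
  exact hX s hs

end H25.HR

namespace H11.Hs

open H25.HR

universe u

variable {G : Type u} [Group G] [Finite G] {φ : S0 →* G} (h : Emb φ)
include h

theorem exists_r (out : ∃ n ∈ C{φ z0} ⊓ N[Q0.map φ], n ∉ N[V0.map φ]) :
    ∃ (ψ : S0 →* G) (r : G), Emb ψ ∧ (∀ q ∈ Q0, ψ (rq q) = r * ψ q * r⁻¹) ∧
      ∀ n ∈ C{ψ z0} ⊓ N[Q0.map ψ], ∃ w ∈ ψ.range ⊔ zpowers r, ∀ q ∈ Q0, ∃ c ∈ Z4,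
        ψ (q * c) = w * n * ψ q * (w * n)⁻¹ := by
  obtain ⟨π, hπ⟩ := exists_pi h
  rcases dich h hπ with e | e
  · obtain ⟨r, hr⟩ := core' h (fun n hn => (hπ n hn _ _).2 (e n hn)) out
    exact ⟨φ, r, h, hr⟩
  · have h' : Emb (φ.comp al) := ⟨h.inj.comp al_bij.1, by
      rw [MonoidHom.range_comp, MonoidHom.range_eq_top.2 al_bij.2, ← MonoidHom.range_eq_map]; exact h.syl,
      h.simple⟩
    obtain ⟨r, hr⟩ := core' h' (fun n hn a ha b hb a' b' ea eb s => by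
      have hn' := hn
      rw [map_al al_Q] at hn'
      exact (f_al _ (mQ h' hn ha ea) _ (mQ h' hn hb eb)).2 ((hπ n hn' _ _).2 (e n hn') _ (al_Q a ha) _
        (al_Q b hb) _ _ ea eb ((f_al a ha b hb).1 s))) (by
      rwa [map_al al_Q, map_al al_V, MonoidHom.comp_apply, al_i.2])
    exact ⟨_, r, h', hr⟩

end H11.Hs
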