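import Mathlib
import Cfsg.Agent.H11.HsN
import Cfsg.Agent.H11.HsR
import Cfsg.Agent.H11.HsE

/-!
# Simple groups with a Sylow `2`-subgroup of type `HS`
-/

set_option autoImplicit false
set_option linter.unusedSectionVars false
set_option maxRecDepth 100000

open Cfsg H24 H26 H26.Gold Subgroup H7.SJ H25.Tw H25.Sy H29

namespace H11.Hs

universe u

theorem main0 {G : Type} [Group G] [Finite G] {φ : S0 →* G} (h : Emb φ) : Nonempty (G ≃* Spor.HS) := by
  obtain ⟨φ1, r, h1, act, hw⟩ := exists_r h (outV h)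
  obtain ⟨e, φ2, g, h2, le⟩ := exists_e h1 act (H_le h1 act hw) (cq_Z h1 act)
  rcases D67 h2 g with dt | dt
  · exact fin h2 g dt le
  · obtain ⟨e', φ3, g', h3, le', e1, e2⟩ := g.swap h2 le
    exact fin h3 g' (by rwa [D, e1, e2]) le'

theorem emb_comp {G : Type u} {G' : Type} [Group G] [Finite G] [Group G'] [Finite G'] {φ : S0 →* G}
    (h : Emb φ) (f : G ≃* G') : Emb (f.toMonoidHom.comp φ) := by
  have := h.simple
  refine ⟨f.injective.comp h.inj, ?_, f.symm.isSimpleGroup⟩
  have h1 := h.syl.map f.toMonoidHom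
  rwa [map_top_of_surjective _ f.surjective, ← MonoidHom.range_comp] at h1

theorem isoHS {G : Type u} [Group G] [Finite G] {φ : S0 →* G} (h : Emb φ) : Spor.IsoHS G := by
  have : Small.{0} G := inferInstance
  obtain ⟨g⟩ := main0 (emb_comp h (Shrink.mulEquiv (α := G)).symm)
  exact ⟨Shrink.mulEquiv.symm.trans g⟩

theorem syl_HS (T : Sylow 2 Spor.HS) : Nonempty (S0 ≃* (T : Subgroup Spor.HS)) := by
  obtain ⟨φ, -, hi⟩ := exists_good0
  obtain ⟨f⟩ := isoP.2
  have : Finite Spor.HS := Finite.of_equiv _ f.toEquiv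
  have := Fact.mk Nat.prime_two
  have h1 : Function.Injective (f.toMonoidHom.comp φ) := f.injective.comp hi
  have e := MonoidHom.ofInjective h1
  have h2 : Nat.card (f.toMonoidHom.comp φ).range = 2 ^ (Nat.card Spor.HS).factorization 2 := by
    rw [← Nat.card_congr e.toEquiv, ← Nat.card_congr f.toEquiv, card_S0, cardP,
      show 44352000 = 2 ^ 9 * 86625 from rfl, Nat.factorization_mul (by norm_num) (by norm_num),
      Nat.prime_two.factorization_pow, Finsupp.add_apply, Finsupp.single_eq_same,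
      Nat.factorization_eq_zero_of_not_dvd (by norm_num)]
    rfl
  exact ⟨e.trans ((Sylow.ofCard _ h2).equiv T)⟩

theorem result {G : Type u} [Group G] [Finite G] [IsSimpleGroup G] (S : Sylow 2 G) (T : Sylow 2 Spor.HS)
    (e : (S : Subgroup G) ≃* (T : Subgroup Spor.HS)) : Spor.IsoHS G := by
  obtain ⟨f⟩ := syl_HS T
  have f' := f.trans e.symm
  exact isoHS (φ := (S : Subgroup G).subtype.comp f'.toMonoidHom) ⟨Subtype.val_injective.comp f'.injective, by
    rw [MonoidHom.range_comp, MonoidHom.range_eq_top.2 f'.surjective, map_subtype_top]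
    exact syl_top_of_sylow p2 S, inferInstance⟩

end H11.Hs
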