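import Mathlib
import Cfsg.Prelude.Def_SolvableStructure
import Cfsg.Agent.H2.Cores
import Cfsg.Agent.H2.MinNormal
import Cfsg.Agent.H2.Frattini
import Cfsg.Agent.H11.Basic

/-! Supersolvable groups: working characterisation and basic closure properties. -/

set_option autoImplicit false

namespace H11

open Subgroup Pointwise Cfsg
open scoped commutatorElement

universe u

variable {G : Type*} [Group G]

/-- every proper quotient has a nontrivial cyclic normal subgroup -/
def SS (G : Type*) [Group G] : Prop :=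
  ∀ N : Subgroup G, N.Normal → N ≠ ⊤ → ∃ g : G, g ∉ N ∧ (N ⊔ zpowers g).Normal

theorem SS.of_isSupersolvable (h : IsSupersolvable G) : SS G := by
  classical
  obtain ⟨n, H, h0, hl, hn, hs⟩ := h
  intro N hN hNt
  by_contra hcon
  push Not at hcon
  have key : ∀ i : Fin (n + 1), H i ≤ N := by
    intro i
    induction i using Fin.induction with
    | zero => rw [h0]; exact bot_le
    | succ i ih =>
      obtain ⟨g, hg⟩ := hs i
      by_cases hgN : g ∈ N
      · rw [hg]; exact sup_le ih ((zpowers_le).2 hgN)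
      · exfalso
        apply hcon g hgN
        have : N ⊔ zpowers g = N ⊔ H i.succ := by
          rw [hg, ← sup_assoc, sup_eq_left.2 ih]
        rw [this]
        have := hn i.succ
        infer_instance
  exact hNt (top_le_iff.1 (hl ▸ key (Fin.last n)))

theorem SS.exists_chain [Finite G] (h : SS G) (N : Subgroup G) (hN : N.Normal) :
    ∃ (n : ℕ) (H : ℕ → Subgroup G), H 0 = N ∧ H n = ⊤ ∧ (∀ i, (H i).Normal) ∧
      ∀ i < n, ∃ g : G, H (i + 1) = H i ⊔ zpowers g := by
  induction N using WellFoundedGT.induction with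
  | ind N ih =>
    by_cases hNt : N = ⊤
    · exact ⟨0, fun _ => N, rfl, hNt, fun _ => hN, fun i hi => absurd hi (Nat.not_lt_zero i)⟩
    · obtain ⟨g, hg, hn⟩ := h N hN hNt
      have hlt : N < N ⊔ zpowers g := by
        refine lt_of_le_of_ne le_sup_left fun e => hg ?_
        rw [e]; exact (le_sup_right : zpowers g ≤ N ⊔ zpowers g) (mem_zpowers g)
      obtain ⟨n, H, h0, hl, hnn, hs⟩ := ih _ hlt hn
      refine ⟨n + 1, fun i => Nat.casesOn i N H, rfl, hl, ?_, ?_⟩
      · intro i; cases i with
        | zero => exact hN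
        | succ i => exact hnn i
      · intro i hi; cases i with
        | zero => exact ⟨g, h0⟩
        | succ i => exact hs i (by omega)

theorem SS.isSupersolvable [Finite G] (h : SS G) : IsSupersolvable G := by
  obtain ⟨n, H, h0, hl, hn, hs⟩ := h.exists_chain ⊥ inferInstance
  exact ⟨n, fun i => H i, h0, hl, fun i => hn i, fun i => hs i i.2⟩

theorem ss_iff [Finite G] : SS G ↔ IsSupersolvable G :=
  ⟨SS.isSupersolvable, SS.of_isSupersolvable⟩

/-- the basic lifting lemma -/
theorem SS.exists_of_hom {X : Type*} [Group X] [Finite G] (h : SS G) (f : X →* G)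
    (L N : Subgroup X) (hL : L.Normal) (hN : N.Normal) (hk : f.ker ⊓ L ≤ N) (hLN : ¬ L ≤ N) :
    ∃ x ∈ L, x ∉ N ∧ (N ⊔ zpowers x).Normal := by
  classical
  obtain ⟨K, ⟨hK, hKN⟩, hmax⟩ := exists_maximal_of_wellFoundedGT
    (fun K : Subgroup G => K.Normal ∧ K.comap f ⊓ L ≤ N) ⟨⊥, inferInstance, hk⟩
  have hKt : K ≠ ⊤ := by
    rintro rfl
    exact hLN (by simpa using hKN)
  obtain ⟨g, hg, hn⟩ := h K hK hKt
  set K' := K ⊔ zpowers g with hK'
  have hnot : ¬ (K'.comap f ⊓ L ≤ N) := by
    intro hle
    have := hmax ⟨hn, hle⟩ le_sup_left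
    exact hg (this ((le_sup_right : zpowers g ≤ K') (mem_zpowers g)))
  set T := K'.comap f ⊓ L with hT
  have hTn : T.Normal := by rw [hT]; infer_instance
  let φ : X →* G ⧸ K := (QuotientGroup.mk' K).comp f
  have hle : T.map φ ≤ zpowers (QuotientGroup.mk' K g) := by
    rintro _ ⟨y, hy, rfl⟩
    have hy1 : f y ∈ K' := hy.1
    have : (QuotientGroup.mk' K) (f y) ∈ K'.map (QuotientGroup.mk' K) := mem_map_of_mem _ hy1
    rw [hK', Subgroup.map_sup, (H2.map_mk'_eq_bot_iff).2 le_rfl, bot_sup_eq,
      MonoidHom.map_zpowers] at this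
    exact this
  obtain ⟨n, hn'⟩ := (Subgroup.le_zpowers_iff _ _).1 hle
  have hmem : (QuotientGroup.mk' K g) ^ n ∈ T.map φ := by rw [hn']; exact mem_zpowers _
  obtain ⟨x, hxT, hx⟩ := hmem
  have hTle : T ≤ N ⊔ zpowers x := by
    intro y hy
    have : φ y ∈ zpowers (φ x) := by
      rw [hx, ← hn']; exact mem_map_of_mem _ hy
    obtain ⟨k, hk⟩ := mem_zpowers_iff.1 this
    have h1 : y * (x ^ k)⁻¹ ∈ N := by
      apply hKN
      refine ⟨?_, L.mul_mem hy.2 (L.inv_mem (L.zpow_mem hxT.2 k))⟩
      change f (y * (x ^ k)⁻¹) ∈ K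
      rw [← QuotientGroup.eq_one_iff]
      change φ (y * (x ^ k)⁻¹) = 1
      rw [map_mul, map_inv, map_zpow, hk, mul_inv_cancel]
    have : y = (y * (x ^ k)⁻¹) * x ^ k := by group
    rw [this]
    exact mul_mem (mem_sup_left h1) (mem_sup_right (zpow_mem (mem_zpowers x) k))
  have hxN : x ∉ N := by
    intro hxN
    exact hnot (hTle.trans (sup_le le_rfl (zpowers_le.2 hxN)))
  refine ⟨x, hxT.2, hxN, ?_⟩
  have : N ⊔ zpowers x = N ⊔ T :=
    le_antisymm (sup_le_sup_left (zpowers_le.2 hxT) _) (sup_le le_sup_left hTle)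
  rw [this]; infer_instance

theorem SS.exists_of_ker_le {X : Type*} [Group X] [Finite G] (h : SS G) (f : X →* G)
    (N : Subgroup X) (hN : N.Normal) (hk : f.ker ≤ N) (hNt : N ≠ ⊤) :
    ∃ x, x ∉ N ∧ (N ⊔ zpowers x).Normal := by
  obtain ⟨x, -, hx⟩ := h.exists_of_hom f ⊤ N inferInstance hN (inf_le_left.trans hk)
    (fun e => hNt (top_le_iff.1 e))
  exact ⟨x, hx⟩

theorem SS.of_injective {X : Type*} [Group X] [Finite G] (h : SS G) (f : X →* G)
    (hf : Function.Injective f) : SS X := fun N hN hNt =>
  h.exists_of_ker_le f N hN (by rw [(MonoidHom.ker_eq_bot_iff f).2 hf]; exact bot_le) hNt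

theorem SS.subgroup [Finite G] (h : SS G) (H : Subgroup G) : SS H :=
  h.of_injective H.subtype H.subtype_injective

theorem SS.of_le [Finite G] {H K : Subgroup G} (h : SS K) (hle : H ≤ K) : SS H :=
  h.of_injective (inclusion hle) (inclusion_injective hle)

theorem SS.of_surjective {Q : Type*} [Group Q] (h : SS G) (f : G →* Q)
    (hf : Function.Surjective f) : SS Q := by
  intro N hN hNt
  have hne : N.comap f ≠ ⊤ := by
    intro e
    apply hNt
    rw [← Subgroup.map_comap_eq_self_of_surjective hf N, e]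
    exact Subgroup.map_top_of_surjective f hf
  obtain ⟨g, hg, hn⟩ := h (N.comap f) (hN.comap f) hne
  refine ⟨f g, hg, ?_⟩
  have := hn.map f hf
  rwa [Subgroup.map_sup, Subgroup.map_comap_eq_self_of_surjective hf, MonoidHom.map_zpowers] at this

theorem SS.quotient (h : SS G) (N : Subgroup G) [N.Normal] : SS (G ⧸ N) :=
  h.of_surjective (QuotientGroup.mk' N) (QuotientGroup.mk'_surjective N)

theorem SS.map {Q : Type*} [Group Q] {H : Subgroup G} (h : SS H) (f : G →* Q) : SS (H.map f) :=
  h.of_surjective (f.subgroupMap H) (f.subgroupMap_surjective H)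

theorem SS.of_two_hom {X Y : Type*} [Group X] [Group Y] [Finite X] [Finite Y] (hX : SS X)
    (hY : SS Y) (f : G →* X) (g : G →* Y) (hfg : f.ker ⊓ g.ker = ⊥) : SS G := by
  intro N hN hNt
  by_cases hk : f.ker ≤ N
  · exact hX.exists_of_ker_le f N hN hk hNt
  · obtain ⟨x, -, hx⟩ := hY.exists_of_hom g f.ker N inferInstance hN
      (by rw [inf_comm, hfg]; exact bot_le) hk
    exact ⟨x, hx⟩

theorem SS.of_cyclic_normal [Finite G] (N : Subgroup G) [hN : N.Normal] [IsCyclic N]
    (h : SS (G ⧸ N)) : SS G := by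
  intro K hK hKt
  by_cases hk : N ≤ K
  · exact h.exists_of_ker_le (QuotientGroup.mk' N) K hK (by rwa [QuotientGroup.ker_mk']) hKt
  · obtain ⟨g, hg⟩ := (Subgroup.isCyclic_iff_exists_zpowers_eq_top N).1 inferInstance
    refine ⟨g, fun hgK => hk (hg ▸ zpowers_le.2 hgK), ?_⟩
    rw [hg]; infer_instance

/-- it suffices to find a cyclic normal subgroup in every nontrivial quotient -/
theorem SS.of_quotient (h : ∀ (N : Subgroup G) [N.Normal], N ≠ ⊤ →
    ∃ g : G ⧸ N, g ≠ 1 ∧ (zpowers g).Normal) : SS G := by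
  intro N hN hNt
  obtain ⟨g, hg, hn⟩ := h N hNt
  obtain ⟨x, rfl⟩ := QuotientGroup.mk'_surjective N g
  refine ⟨x, fun hx => hg ((QuotientGroup.eq_one_iff x).2 hx), ?_⟩
  have := hn.comap (QuotientGroup.mk' N)
  rwa [← MonoidHom.map_zpowers, H2.comap_map_mk', sup_comm] at this

theorem normal_of_le_zpowers {g : G} (hg : (zpowers g).Normal) {K : Subgroup G}
    (hK : K ≤ zpowers g) : K.Normal := by
  obtain ⟨n, rfl⟩ := (Subgroup.le_zpowers_iff _ _).1 hK
  refine ⟨fun y hy x => ?_⟩
  obtain ⟨m, rfl⟩ := mem_zpowers_iff.1 hy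
  obtain ⟨k, hk⟩ := mem_zpowers_iff.1 (hg.conj_mem g (mem_zpowers g) x)
  have : x * (g ^ n) ^ m * x⁻¹ = ((g ^ n) ^ k) ^ m := by
    rw [← conj_zpow, ← conj_pow, ← hk, ← zpow_natCast, ← zpow_natCast, ← zpow_mul g k,
      ← zpow_mul g (n : ℤ), mul_comm k]
  rw [this]
  exact zpow_mem (zpow_mem (mem_zpowers _) _) _

theorem normal_of_le_cyclic {N : Subgroup G} [hN : N.Normal] [IsCyclic N] {K : Subgroup G}
    (hK : K ≤ N) : K.Normal := by
  obtain ⟨g, hg⟩ := (Subgroup.isCyclic_iff_exists_zpowers_eq_top N).1 inferInstance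
  exact normal_of_le_zpowers (hg ▸ hN) (hg ▸ hK)

theorem SS.exists_prime_order_le [Finite G] (h : SS G) {L : Subgroup G} (hL : L.Normal)
    (hne : L ≠ ⊥) : ∃ x ∈ L, (orderOf x).Prime ∧ (zpowers x).Normal := by
  obtain ⟨x, hxL, hx, hn⟩ := h.exists_of_hom (MonoidHom.id G) L ⊥ hL inferInstance
    (by simp) (by simpa using hne)
  rw [bot_sup_eq] at hn
  have : zpowers x ≠ ⊥ := by simpa using hx
  obtain ⟨y, hy, hp⟩ := H2.exists_mem_prime_orderOf this
  exact ⟨y, zpowers_le.2 hxL hy, hp, normal_of_le_zpowers hn (zpowers_le.2 hy)⟩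

theorem SS.exists_prime_order [Finite G] [Nontrivial G] (h : SS G) :
    ∃ x : G, (orderOf x).Prime ∧ (zpowers x).Normal := by
  obtain ⟨x, -, hx⟩ := h.exists_prime_order_le (L := ⊤) inferInstance top_ne_bot
  exact ⟨x, hx⟩

theorem SS.exists_normal_prime [Finite G] [Nontrivial G] (h : SS G) :
    ∃ N : Subgroup G, N.Normal ∧ (Nat.card N).Prime := by
  obtain ⟨x, hx, hn⟩ := h.exists_prime_order
  exact ⟨zpowers x, hn, by rwa [Nat.card_zpowers]⟩

theorem ne_bot_of_card_prime {N : Subgroup G} (h : (Nat.card N).Prime) : N ≠ ⊥ := by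
  rintro rfl
  simp [Nat.not_prime_one] at h

theorem commutator_mem_centralizer_of_zpowers {x : G} (hn : (zpowers x).Normal) (a b : G) :
    ⁅a, b⁆ ∈ centralizer (zpowers x : Set G) := by
  obtain ⟨i, hi⟩ := mem_zpowers_iff.1 (hn.conj_mem x (mem_zpowers x) a)
  obtain ⟨j, hj⟩ := mem_zpowers_iff.1 (hn.conj_mem x (mem_zpowers x) b)
  have h1 : a * b * x * (a * b)⁻¹ = b * a * x * (b * a)⁻¹ := by
    calc a * b * x * (a * b)⁻¹ = a * (b * x * b⁻¹) * a⁻¹ := by group
      _ = (a * x * a⁻¹) ^ j := by rw [← hj, conj_zpow]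
      _ = (b * x * b⁻¹) ^ i := by rw [← hi, ← hj, ← zpow_mul, ← zpow_mul, mul_comm]
      _ = b * (a * x * a⁻¹) * b⁻¹ := by rw [← hi, conj_zpow]
      _ = b * a * x * (b * a)⁻¹ := by group
  -- the centralizer is normal
  have hc : (centralizer (zpowers x : Set G)).Normal := inferInstance
  have h2 : (b * a)⁻¹ * (a * b) ∈ centralizer (zpowers x : Set G) := by
    rw [mem_centralizer_iff]
    intro y hy
    obtain ⟨k, rfl⟩ := mem_zpowers_iff.1 hy
    have : Commute x ((b * a)⁻¹ * (a * b)) := by
      change x * _ = _ * x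
      calc x * ((b * a)⁻¹ * (a * b)) = (b * a)⁻¹ * (b * a * x * (b * a)⁻¹) * (a * b) := by group
        _ = (b * a)⁻¹ * (a * b * x * (a * b)⁻¹) * (a * b) := by rw [h1]
        _ = (b * a)⁻¹ * (a * b) * x := by group
    exact (this.zpow_left k).eq
  have h3 := hc.conj_mem _ h2 (b * a)
  have : b * a * ((b * a)⁻¹ * (a * b)) * (b * a)⁻¹ = ⁅a, b⁆ := by
    rw [commutatorElement_def]; group
  rwa [this] at h3

theorem commutator_le_centralizer_of_zpowers {x : G} (hn : (zpowers x).Normal) :
    commutator G ≤ centralizer (zpowers x : Set G) := by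
  rw [commutator_def, commutator_le]
  intro a _ b _
  exact commutator_mem_centralizer_of_zpowers hn a b

theorem SS.isNilpotent_commutator {G : Type u} [Group G] [Finite G] (h : SS G) :
    Group.IsNilpotent (commutator G) := by
  induction hn : Nat.card G using Nat.strong_induction_on generalizing G with
  | _ n ih =>
    rcases subsingleton_or_nontrivial G with hG | hG
    · infer_instance
    obtain ⟨x, hx, hN⟩ := h.exists_prime_order
    have hne : zpowers x ≠ ⊥ := ne_bot_of_card_prime (by rwa [Nat.card_zpowers])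
    have ih' := ih _ (hn ▸ H2.card_quotient_lt hne) (h.quotient (zpowers x)) rfl
    let f : commutator G →* commutator (G ⧸ zpowers x) :=
      ((QuotientGroup.mk' (zpowers x)).comp (commutator G).subtype).codRestrict _ (by
        intro y
        have : (commutator G).map (QuotientGroup.mk' (zpowers x)) ≤ commutator (G ⧸ zpowers x) := by
          rw [_root_.commutator_def, map_commutator]
          exact commutator_mono le_top le_top
        exact this (mem_map_of_mem _ y.2))
    refine Subgroup.isNilpotent_of_ker_le_center f ?_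
    intro y hy
    have hy' : (y : G) ∈ zpowers x := by
      have := congrArg Subtype.val (MonoidHom.mem_ker.1 hy)
      exact (QuotientGroup.eq_one_iff _).1 this
    rw [mem_center_iff]
    intro z
    apply Subtype.ext
    exact ((mem_centralizer_iff.1 (commutator_le_centralizer_of_zpowers hN z.2)) y hy').symm

theorem SS.isSolvable [Finite G] (h : SS G) : Group.IsSolvable G := by
  have := h.isNilpotent_commutator
  exact H2.isSolvable_of_normal_quotient (commutator G) inferInstance
    (by
      have : IsMulCommutative (G ⧸ commutator G) :=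
        Subgroup.Normal.quotient_commutative_iff_commutator_le.2 le_rfl
      exact H2.isSolvable_of_isMulCommutative _)

theorem inf_eq_bot_of_card_prime {N K : Subgroup G} (h : (Nat.card N).Prime) (hNK : ¬ N ≤ K) :
    N ⊓ K = ⊥ := by
  have hfin : Finite N := Nat.finite_of_card_ne_zero h.ne_zero
  have hd : Nat.card ↥(N ⊓ K) ∣ Nat.card N := card_dvd_of_le inf_le_left
  rcases (Nat.dvd_prime h).1 hd with h1 | h1
  · have : Finite ↥(N ⊓ K) := Nat.finite_of_card_ne_zero (by omega)
    exact (Subgroup.card_eq_one).1 h1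
  · exfalso
    apply hNK
    have : N ⊓ K = N := Subgroup.eq_of_le_of_card_ge inf_le_left h1.ge
    exact this ▸ inf_le_right

theorem isCoatom_map_mk' {N M : Subgroup G} [N.Normal] (hM : IsCoatom M) (h : N ≤ M) :
    IsCoatom (M.map (QuotientGroup.mk' N)) :=
  H2.isCoatom_map_of_ker_le (QuotientGroup.mk'_surjective N) hM (by rwa [QuotientGroup.ker_mk'])

theorem index_map_mk' {N M : Subgroup G} [N.Normal] (h : N ≤ M) :
    (M.map (QuotientGroup.mk' N)).index = M.index :=
  Subgroup.index_map_eq _ (QuotientGroup.mk'_surjective N) (by rwa [QuotientGroup.ker_mk'])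

theorem SS.index_prime {G : Type u} [Group G] [Finite G] (h : SS G) (M : Subgroup G)
    (hM : IsCoatom M) : M.index.Prime := by
  induction hn : Nat.card G using Nat.strong_induction_on generalizing G with
  | _ n ih =>
    have : Nontrivial G := by
      by_contra hc
      rw [not_nontrivial_iff_subsingleton] at hc
      exact hM.1 (Subsingleton.elim _ _)
    obtain ⟨N, hN, hp⟩ := h.exists_normal_prime
    by_cases hle : N ≤ M
    · rw [← index_map_mk' hle]
      exact ih _ (hn ▸ H2.card_quotient_lt (ne_bot_of_card_prime hp)) (h.quotient N) _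
        (isCoatom_map_mk' hM hle) rfl
    · have hc := isComplement'_of_normal (inf_eq_bot_of_card_prime hp hle)
        (sup_eq_top_of_coatom hM hle)
      rw [hc.index_eq_card]
      exact hp

/-- a `p`-subgroup of index smaller than `p` and prime is characteristic -/
theorem map_subtype_sylow_normal [Finite G] {L : Subgroup G} [L.Normal] {p : ℕ} [Fact p.Prime]
    (P : Sylow p L) (hP : (P : Subgroup L).Normal) : ((P : Subgroup L).map L.subtype).Normal := by
  have := P.characteristic_of_normal hP
  infer_instance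

theorem SS.exists_normal_largest {G : Type u} [Group G] [Finite G] (h : SS G) {p : ℕ}
    (hp : p.Prime) (hd : p ∣ Nat.card G) (hmax : ∀ q : ℕ, q.Prime → q ∣ Nat.card G → q ≤ p) :
    ∃ N : Subgroup G, N.Normal ∧ Nat.card N = p := by
  induction hn : Nat.card G using Nat.strong_induction_on generalizing G with
  | _ n ih =>
    have : Nontrivial G := by
      by_contra hc
      rw [not_nontrivial_iff_subsingleton] at hc
      rw [Nat.card_of_subsingleton (1 : G)] at hd
      exact hp.one_lt.ne' (Nat.dvd_one.1 hd)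
    obtain ⟨N, hN, hq⟩ := h.exists_normal_prime
    by_cases hqp : Nat.card N = p
    · exact ⟨N, hN, hqp⟩
    have hcard := N.card_eq_card_quotient_mul_card_subgroup
    have hd' : p ∣ Nat.card (G ⧸ N) := by
      rw [hcard] at hd
      rcases (Nat.Prime.dvd_mul hp).1 hd with h1 | h1
      · exact h1
      · exact absurd ((Nat.prime_dvd_prime_iff_eq hp hq).1 h1).symm hqp
    obtain ⟨L, hL, hLc⟩ := ih _ (hn ▸ H2.card_quotient_lt (ne_bot_of_card_prime hq))
      (h.quotient N) hd' (fun q hq' hqd => hmax q hq' (hqd.trans ⟨_, hcard⟩)) rfl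
    set K := L.comap (QuotientGroup.mk' N) with hK
    have hKn : K.Normal := hL.comap _
    have hKc : Nat.card K = Nat.card N * p := by rw [hK, H2.card_comap_mk', hLc]
    have := Fact.mk hp
    obtain ⟨P⟩ : Nonempty (Sylow p K) := inferInstance
    have hlt : Nat.card N < p :=
      lt_of_le_of_ne (hmax _ hq (card_subgroup_dvd_card N)) hqp
    have hPc : Nat.card (P : Subgroup K) = p := by
      rw [P.card_eq_multiplicity, hKc, Nat.factorization_mul hq.ne_zero hp.ne_zero,
        Finsupp.add_apply, hp.factorization_self,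
        Nat.factorization_eq_zero_of_lt hlt]
      simp
    have hPi : (P : Subgroup K).index = Nat.card N := by
      have := (P : Subgroup K).card_mul_index
      rw [hPc, hKc, mul_comm] at this
      exact Nat.eq_of_mul_eq_mul_right hp.pos this
    have hPn : (P : Subgroup K).Normal := by
      apply Subgroup.normal_of_index_eq_minFac_card
      rw [hPi, hKc]
      symm
      apply le_antisymm (Nat.minFac_le_of_dvd hq.two_le (dvd_mul_right _ _))
      have h1 : (Nat.card N * p).minFac.Prime :=
        Nat.minFac_prime (fun e => hq.ne_one (Nat.eq_one_of_mul_eq_one_right e))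
      rcases (Nat.Prime.dvd_mul h1).1 (Nat.minFac_dvd _) with h2 | h2
      · exact ((Nat.prime_dvd_prime_iff_eq h1 hq).1 h2).ge
      · rw [(Nat.prime_dvd_prime_iff_eq h1 hp).1 h2]; exact hlt.le
    exact ⟨_, map_subtype_sylow_normal P hPn, by rw [H2.card_map_subtype, hPc]⟩

theorem SS.sylow_normal {G : Type u} [Group G] [Finite G] (h : SS G) {p : ℕ} [hp : Fact p.Prime]
    (hmax : ∀ q : ℕ, q.Prime → q ∣ Nat.card G → q ≤ p) (P : Sylow p G) :
    (P : Subgroup G).Normal := by
  induction hn : Nat.card G using Nat.strong_induction_on generalizing G with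
  | _ n ih =>
    by_cases hd : p ∣ Nat.card G
    · obtain ⟨N, hN, hNc⟩ := h.exists_normal_largest hp.out hd hmax
      have hNp : IsPGroup p N := IsPGroup.of_card (n := 1) (by simpa using hNc)
      have hle : N ≤ P := (H2.le_pCore hN hNp).trans (H2.pCore_le_sylow P)
      have := ih _ (hn ▸ H2.card_quotient_lt (ne_bot_of_card_prime (hNc ▸ hp.out)))
        (h.quotient N) (fun q hq hqd => hmax q hq
          (hqd.trans ⟨_, N.card_eq_card_quotient_mul_card_subgroup⟩))
        (P.mapSurjective (QuotientGroup.mk'_surjective N)) rfl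
      exact H2.normal_of_map_mk'_normal hle this
    · have : (P : Subgroup G) = ⊥ := by
        apply H2.IsPGroup.eq_bot_of_coprime P.isPGroup'
        exact ((Nat.Prime.coprime_iff_not_dvd hp.out).2
          (fun h => hd (h.trans (card_subgroup_dvd_card _)))).symm
      rw [this]; infer_instance

theorem SS.hasSubgroupOfEveryOrder {G : Type u} [Group G] [Finite G] (h : SS G) :
    HasSubgroupOfEveryOrder G := by
  induction hn : Nat.card G using Nat.strong_induction_on generalizing G with
  | _ n ih =>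
    intro d hd
    rcases subsingleton_or_nontrivial G with hG | hG
    · rw [Nat.card_of_subsingleton (1 : G)] at hd
      exact ⟨⊥, by rw [Nat.dvd_one.1 hd]; simp⟩
    obtain ⟨N, hN, hq⟩ := h.exists_normal_prime
    have hcard := N.card_eq_card_quotient_mul_card_subgroup
    have ih' := ih _ (hn ▸ H2.card_quotient_lt (ne_bot_of_card_prime hq)) (h.quotient N) rfl
    by_cases hpd : Nat.card N ∣ d
    · obtain ⟨e, rfl⟩ := hpd
      rw [hcard, mul_comm (Nat.card N)] at hd
      obtain ⟨H, hH⟩ := ih' e (Nat.dvd_of_mul_dvd_mul_right hq.pos hd)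
      exact ⟨H.comap (QuotientGroup.mk' N), by rw [H2.card_comap_mk', hH]⟩
    · have hcop : d.Coprime (Nat.card N) := ((Nat.Prime.coprime_iff_not_dvd hq).2 hpd).symm
      rw [hcard] at hd
      obtain ⟨H, hH⟩ := ih' d (hcop.dvd_of_dvd_mul_right hd)
      set K := H.comap (QuotientGroup.mk' N) with hK
      have hKc : Nat.card K = Nat.card N * d := by rw [hK, H2.card_comap_mk', hH]
      have hNK : N ≤ K := H2.le_comap_mk' N H
      have h1 : Nat.card (N.subgroupOf K) = Nat.card N := H2.card_subgroupOf_of_le hNK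
      have h2 : (N.subgroupOf K).index = d := by
        have := (N.subgroupOf K).card_mul_index
        rw [h1, hKc] at this
        exact Nat.eq_of_mul_eq_mul_left hq.pos this
      obtain ⟨C, hC⟩ := Subgroup.exists_right_complement'_of_coprime (N := N.subgroupOf K)
        (by rw [h1, h2]; exact hcop.symm)
      refine ⟨C.map K.subtype, ?_⟩
      rw [H2.card_map_subtype, ← h2, hC.symm.index_eq_card]

end H11
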