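import Mathlib
import Cfsg.Agent.H11.Supersolvable
import Cfsg.Agent.H1.Coprime
import Cfsg.Agent.H2.Schmidt
import Cfsg.Agent.H2.Carter

/-! Huppert's criterion for supersolvability. -/

set_option autoImplicit false

namespace H11

open Subgroup Pointwise Cfsg
open scoped commutatorElement

universe u

variable {G : Type*} [Group G]

theorem exists_largest_prime {n : ℕ} (hn : 1 < n) :
    ∃ p : ℕ, p.Prime ∧ p ∣ n ∧ ∀ q : ℕ, q.Prime → q ∣ n → q ≤ p := by
  have hne : n.primeFactors.Nonempty := Nat.nonempty_primeFactors.2 hn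
  have hpm : n.primeFactors.max' hne ∈ n.primeFactors := Finset.max'_mem _ _
  exact ⟨_, Nat.prime_of_mem_primeFactors hpm, Nat.dvd_of_mem_primeFactors hpm, fun q hq hd =>
    Finset.le_max' _ q (Nat.mem_primeFactors.2 ⟨hq, hd, by omega⟩)⟩

theorem index_normalizer_sylow_modEq [Finite G] {p : ℕ} [Fact p.Prime] (P : Sylow p G) :
    (normalizer ((P : Subgroup G) : Set G)).index ≡ 1 [MOD p] := by
  have := P.card_eq_index_normalizer
  rw [← Sylow.coe_coe] at this
  rw [← this]
  exact card_sylow_modEq_one p G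

theorem index_modEq_one_of_normalizer_le [Finite G] {p : ℕ} [Fact p.Prime] (P : Sylow p G)
    {M : Subgroup G} (h : normalizer ((P : Subgroup G) : Set G) ≤ M) : M.index ≡ 1 [MOD p] := by
  have hPM : (P : Subgroup G) ≤ M := le_normalizer.trans h
  have h1 := index_normalizer_sylow_modEq P
  have h2 := index_normalizer_sylow_modEq (P.subtype hPM)
  rw [Sylow.coe_subtype, ← subgroupOf_normalizer_eq hPM] at h2
  rw [← relIndex_mul_index h] at h1
  have h3 : (normalizer ((P : Subgroup G) : Set G)).relIndex M * M.index ≡ 1 * M.index [MOD p] :=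
    Nat.ModEq.mul_right _ h2
  rw [one_mul] at h3
  exact h3.symm.trans h1

theorem sylow_normal_of_prime_index [Finite G] (h : ∀ M : Subgroup G, IsCoatom M → M.index.Prime)
    {p : ℕ} [hp : Fact p.Prime] (hmax : ∀ q : ℕ, q.Prime → q ∣ Nat.card G → q ≤ p)
    (P : Sylow p G) : (P : Subgroup G).Normal := by
  by_contra hc
  have : normalizer ((P : Subgroup G) : Set G) ≠ ⊤ := fun e => hc (normalizer_eq_top_iff.1 e)
  obtain ⟨M, hM, hle⟩ := H2.exists_coatom_ge this
  have h1 := index_modEq_one_of_normalizer_le P hle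
  have h2 := hmax _ (h M hM) M.index_dvd_card
  have h3 := (h M hM).two_le
  have h4 := (Nat.modEq_iff_dvd' (by omega)).1 h1.symm
  have := Nat.le_of_dvd (by omega) h4
  omega

theorem prime_index_quotient (h : ∀ M : Subgroup G, IsCoatom M → M.index.Prime)
    (N : Subgroup G) [N.Normal] : ∀ M : Subgroup (G ⧸ N), IsCoatom M → M.index.Prime := by
  intro M hM
  have := h _ (Subgroup.isCoatom_comap_of_surjective (QuotientGroup.mk'_surjective N) hM)
  rwa [index_comap_of_surjective _ (QuotientGroup.mk'_surjective N)] at this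

theorem isSolvable_of_prime_index {G : Type u} [Group G] [Finite G]
    (h : ∀ M : Subgroup G, IsCoatom M → M.index.Prime) : Group.IsSolvable G := by
  induction hn : Nat.card G using Nat.strong_induction_on generalizing G with
  | _ n ih =>
    rcases subsingleton_or_nontrivial G with hG | hG
    · infer_instance
    obtain ⟨p, hp, hd, hmax⟩ := exists_largest_prime (Finite.one_lt_card (α := G))
    have := Fact.mk hp
    obtain ⟨P⟩ : Nonempty (Sylow p G) := inferInstance
    have hPn := sylow_normal_of_prime_index h hmax P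
    exact H2.isSolvable_of_normal_quotient (P : Subgroup G) (H1.solvable_of_isPGroup P.isPGroup')
      (ih _ (hn ▸ H2.card_quotient_lt (P.ne_bot_of_dvd_card hd)) (prime_index_quotient h _) rfl)

theorem exists_eigen' {A : Type*} [AddCommGroup A] [Finite A] [Nontrivial A] {p : ℕ}
    [hp : Fact p.Prime] [Module (ZMod p) A] (f : A →+ A) (hf : ∀ x, f^[p] x = f x) :
    ∃ (c : ℕ) (x : A), x ≠ 0 ∧ f x = c • x := by
  let φ : Module.End (ZMod p) A := f.toZModLinearMap p
  have h1 : Polynomial.aeval φ (Polynomial.X ^ p - Polynomial.X : Polynomial (ZMod p)) = 0 := by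
    simp only [map_sub, map_pow, Polynomial.aeval_X]
    ext x
    rw [LinearMap.sub_apply, Module.End.pow_apply]
    exact sub_eq_zero.2 (hf x)
  have hint : IsIntegral (ZMod p) φ := Algebra.IsIntegral.isIntegral φ
  have h2 := minpoly.dvd (ZMod p) φ h1
  have hne : (Polynomial.X ^ p - Polynomial.X : Polynomial (ZMod p)) ≠ 0 :=
    FiniteField.X_pow_card_sub_X_ne_zero _ hp.out.one_lt
  have hs : (Polynomial.X ^ p - Polynomial.X : Polynomial (ZMod p)).Splits := by
    rw [Polynomial.splits_iff_card_roots]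
    have := FiniteField.roots_X_pow_card_sub_X (ZMod p)
    rw [ZMod.card] at this
    rw [this, FiniteField.X_pow_card_sub_X_natDegree_eq _ hp.out.one_lt]
    simp
  obtain ⟨c, hc⟩ := (hs.of_dvd hne h2).exists_eval_eq_zero (minpoly.degree_pos hint).ne'
  obtain ⟨x, hx⟩ := (Module.End.hasEigenvalue_of_isRoot hc).exists_hasEigenvector
  refine ⟨c.val, x, hx.2, ?_⟩
  have := hx.apply_eq_smul
  rw [← ZMod.natCast_zmod_val c, Nat.cast_smul_eq_nsmul] at this
  exact this

theorem exists_eigen {A : Type*} [AddCommGroup A] [Finite A] [Nontrivial A] {p : ℕ}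
    [hp : Fact p.Prime] (hA : ∀ x : A, p • x = 0) (f : A →+ A) (hf : ∀ x, f^[p] x = f x) :
    ∃ (c : ℕ) (x : A), x ≠ 0 ∧ f x = c • x := by
  let _ : Module (ZMod p) A := AddCommGroup.zmodModule hA
  exact exists_eigen' (p := p) f hf

theorem exists_conj_eq_pow [Finite G] {N : Subgroup G} [hN : N.Normal] [IsMulCommutative N]
    (hne : N ≠ ⊥) {p : ℕ} [hp : Fact p.Prime] (hexp : ∀ x ∈ N, x ^ p = 1) {g : G}
    (hg : g ^ (p - 1) ∈ centralizer (N : Set G)) :
    ∃ (c : ℕ) (x : G), x ∈ N ∧ x ≠ 1 ∧ g * x * g⁻¹ = x ^ c := by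
  let _ : CommGroup N := { (inferInstance : Group N) with mul_comm := mul_comm' }
  have : Nontrivial N := (nontrivial_iff_ne_bot N).2 hne
  let f : N →* N := H1.conjHom N g (le_normalizer_of_normal (mem_top g))
  have hit : ∀ (k : ℕ) (x : N), ((f^[k] x : N) : G) = g ^ k * x * (g ^ k)⁻¹ := by
    intro k x
    induction k with
    | zero => simp
    | succ k ih =>
      rw [Function.iterate_succ_apply', H1.coe_conjHom, ih, pow_succ']
      group
  obtain ⟨c, x, hx, hc⟩ := exists_eigen (A := Additive N) (p := p)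
    (fun x => Subtype.ext (hexp x.toMul x.toMul.2)) (MonoidHom.toAdditive f) (by
      intro x
      change f^[p] x.toMul = f x.toMul
      apply Subtype.ext
      rw [hit, H1.coe_conjHom]
      have h1 := mem_centralizer_iff.1 hg _ x.toMul.2
      have h2 : g ^ p = g * g ^ (p - 1) := by
        rw [← pow_succ', Nat.sub_add_cancel hp.out.one_le]
      rw [h2, mul_assoc g, ← h1]
      group)
  refine ⟨c, x.toMul, x.toMul.2, fun e => hx (Subtype.ext e), ?_⟩
  exact congrArg Subtype.val (show f x.toMul = x.toMul ^ c from hc)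

theorem normal_zpowers_of_exponent [Finite G] {N : Subgroup G} (hN : H2.IsMinNormal N)
    [IsMulCommutative N] {p : ℕ} [hp : Fact p.Prime] (hexp : ∀ x ∈ N, x ^ p = 1)
    (hc : ∀ a b : G, ⁅a, b⁆ ∈ centralizer (N : Set G))
    (hg : ∀ g : G, g ^ (p - 1) ∈ centralizer (N : Set G)) {x : G} (hx : x ∈ N) :
    (zpowers x).Normal := by
  have := hN.1
  have key : ∀ g : G, ∃ c : ℕ, ∀ y ∈ N, g * y * g⁻¹ = y ^ c := by
    intro g
    obtain ⟨c, z, hz, hz1, hzc⟩ := exists_conj_eq_pow hN.2.1 hexp (hg g)
    let E : Subgroup G :=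
      { carrier := {y | y ∈ N ∧ g * y * g⁻¹ = y ^ c}
        one_mem' := ⟨N.one_mem, by simp⟩
        mul_mem' := by
          rintro a b ⟨ha, ha'⟩ ⟨hb, hb'⟩
          refine ⟨N.mul_mem ha hb, ?_⟩
          have : Commute a b := setLike_mul_comm (s := N) ha hb
          rw [this.mul_pow, ← ha', ← hb']; group
        inv_mem' := by
          rintro a ⟨ha, ha'⟩
          refine ⟨N.inv_mem ha, ?_⟩
          rw [inv_pow, ← ha']; group }
    have hE : E.Normal := by
      refine ⟨?_⟩
      rintro y ⟨hy, hy'⟩ a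
      refine ⟨this.conj_mem y hy a, ?_⟩
      have h1 := mem_centralizer_iff.1 (hc g a) _
        (this.conj_mem _ (this.conj_mem y hy g) a)
      rw [conj_pow, ← hy']
      rw [commutatorElement_def] at h1
      calc g * (a * y * a⁻¹) * g⁻¹
          = (g * a * g⁻¹ * a⁻¹ * (a * (g * y * g⁻¹) * a⁻¹)) * (g * a * g⁻¹ * a⁻¹)⁻¹ := by group
        _ = a * (g * y * g⁻¹) * a⁻¹ := by rw [← h1]; group
    have hEN : E ≤ N := fun y hy => hy.1
    have hE0 : E ≠ ⊥ := fun e => hz1 (by
      have : z ∈ E := ⟨hz, hzc⟩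
      rwa [e, mem_bot] at this)
    have := (hN.2.2 E hE hEN).resolve_left hE0
    exact ⟨c, fun y hy => (show y ∈ E from this ▸ hy).2⟩
  refine ⟨fun y hy g => ?_⟩
  obtain ⟨c, hc⟩ := key g
  rw [hc y (zpowers_le.2 hx hy)]
  exact pow_mem hy c

theorem pow_mem_centralizer_of_zpowers {x : G} {p : ℕ} (hp : p.Prime) (hx : orderOf x = p)
    (hn : (zpowers x).Normal) (a : G) : a ^ (p - 1) ∈ centralizer (zpowers x : Set G) := by
  have hfin : IsOfFinOrder x := orderOf_pos_iff.1 (hx ▸ hp.pos)
  obtain ⟨i, hi⟩ := hfin.mem_powers_iff_mem_zpowers.2 (hn.conj_mem x (mem_zpowers x) a)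
  replace hi : x ^ i = a * x * a⁻¹ := hi
  have hit : ∀ k : ℕ, a ^ k * x * (a ^ k)⁻¹ = x ^ (i ^ k) := by
    intro k
    induction k with
    | zero => simp
    | succ k ih =>
      calc a ^ (k + 1) * x * (a ^ (k + 1))⁻¹ = a * (a ^ k * x * (a ^ k)⁻¹) * a⁻¹ := by
            rw [pow_succ']; group
        _ = (a * x * a⁻¹) ^ (i ^ k) := by rw [ih, conj_pow]
        _ = x ^ (i ^ (k + 1)) := by rw [← hi, ← pow_mul, pow_succ']
  have hcop : i.Coprime p := by
    rw [Nat.coprime_comm, Nat.Prime.coprime_iff_not_dvd hp]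
    intro hd
    have : x ^ i = 1 := orderOf_dvd_iff_pow_eq_one.1 (hx ▸ hd)
    rw [hi, conj_eq_one_iff] at this
    rw [this, orderOf_one] at hx
    exact hp.ne_one hx.symm
  have h1 : x ^ (i ^ (p - 1)) = x ^ 1 := by
    rw [pow_eq_pow_iff_modEq, hx, ← Nat.totient_prime hp]
    exact Nat.ModEq.pow_totient hcop
  rw [mem_centralizer_iff]
  intro y hy
  obtain ⟨k, rfl⟩ := mem_zpowers_iff.1 hy
  have h2 : Commute x (a ^ (p - 1)) := by
    have := hit (p - 1)
    rw [h1, pow_one] at this
    change x * _ = _ * x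
    rw [mul_inv_eq_iff_eq_mul] at this
    exact this.symm
  exact (h2.zpow_left k).eq

theorem SS.mem_centralizer_of_coprime {G : Type u} [Group G] [Finite G] (h : SS G) {p : ℕ}
    [hp : Fact p.Prime] {P : Subgroup G} (hP : P.Normal) (hPp : IsPGroup p P) {y : G}
    (hy : (orderOf y).Coprime p) (hy' : (∃ a b : G, y = ⁅a, b⁆) ∨ ∃ a : G, y = a ^ (p - 1)) :
    y ∈ centralizer (P : Set G) := by
  induction hn : Nat.card G using Nat.strong_induction_on generalizing G with
  | _ n ih =>
    by_cases hb : P = ⊥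
    · subst hb; rw [mem_centralizer_iff]; simp
    obtain ⟨x, hxP, hx, hN⟩ := h.exists_prime_order_le hP hb
    have hxp : orderOf x = p := by
      obtain ⟨k, hk⟩ := hPp ⟨x, hxP⟩
      have : orderOf x ∣ p ^ k := orderOf_dvd_of_pow_eq_one (congrArg Subtype.val hk)
      exact (Nat.prime_dvd_prime_iff_eq hx hp.out).1 (hx.dvd_of_dvd_pow this)
    have hne : zpowers x ≠ ⊥ := ne_bot_of_card_prime (by rwa [Nat.card_zpowers])
    have hc : y ∈ centralizer (zpowers x : Set G) := by
      rcases hy' with ⟨a, b, rfl⟩ | ⟨a, rfl⟩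
      · exact commutator_mem_centralizer_of_zpowers hN a b
      · exact pow_mem_centralizer_of_zpowers hp.out hxp hN a
    set f := QuotientGroup.mk' (zpowers x) with hf
    have ih' := ih _ (hn ▸ H2.card_quotient_lt hne) (h.quotient (zpowers x))
      (hP.map f (QuotientGroup.mk'_surjective _)) (hPp.map f) (y := f y)
      (hy.coprime_dvd_left (orderOf_map_dvd f y)) (by
        rcases hy' with ⟨a, b, rfl⟩ | ⟨a, rfl⟩
        · exact Or.inl ⟨f a, f b, map_commutatorElement _ _ _⟩
        · exact Or.inr ⟨f a, map_pow _ _ _⟩) rfl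
    rw [mem_centralizer_iff]
    intro z hz
    have h1 := mem_centralizer_iff.1 ih' (f z) (mem_map_of_mem f hz)
    have h2 : z⁻¹ * (y * z * y⁻¹) ∈ zpowers x := by
      rw [← QuotientGroup.eq_one_iff]
      change f _ = 1
      rw [map_mul, map_mul, map_mul, ← h1, map_inv, map_inv]; group
    set w := z⁻¹ * (y * z * y⁻¹) with hw
    have h3 : w * y = y * w := mem_centralizer_iff.1 hc w h2
    have hit : ∀ k : ℕ, y ^ k * z * (y ^ k)⁻¹ = z * w ^ k := by
      intro k
      induction k with
      | zero => simp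
      | succ k ih =>
        have h4 : y * w ^ k * y⁻¹ = w ^ k := by
          rw [← conj_pow, ← h3]; simp
        calc y ^ (k + 1) * z * (y ^ (k + 1))⁻¹ = y * (y ^ k * z * (y ^ k)⁻¹) * y⁻¹ := by
              rw [pow_succ']; group
          _ = (y * z * y⁻¹) * (y * w ^ k * y⁻¹) := by rw [ih]; group
          _ = z * w ^ (k + 1) := by
              rw [h4, pow_succ', ← mul_assoc z, show z * w = y * z * y⁻¹ by rw [hw]; group]
    have h5 : w ^ orderOf y = 1 := by
      have := hit (orderOf y)
      rw [pow_orderOf_eq_one] at this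
      simpa using this.symm
    have h6 : orderOf w ∣ p := by
      rw [← hxp, ← Nat.card_zpowers x]
      exact Subgroup.orderOf_dvd_natCard _ h2
    have h7 : w = 1 := orderOf_eq_one_iff.1
      (Nat.eq_one_of_dvd_coprimes hy (orderOf_dvd_of_pow_eq_one h5) h6)
    have h8 : y * z * y⁻¹ = z := by
      rw [hw, inv_mul_eq_one] at h7; exact h7.symm
    rw [mul_inv_eq_iff_eq_mul] at h8
    exact h8.symm

theorem huppert {G : Type u} [Group G] [Finite G]
    (h : ∀ M : Subgroup G, IsCoatom M → M.index.Prime) : SS G := by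
  induction hn : Nat.card G using Nat.strong_induction_on generalizing G with
  | _ n ih =>
    have ihq : ∀ (N : Subgroup G) [N.Normal], N ≠ ⊥ → SS (G ⧸ N) := fun N _ hN =>
      ih _ (hn ▸ H2.card_quotient_lt hN) (prime_index_quotient h N) rfl
    rcases subsingleton_or_nontrivial G with hG | hG
    · exact fun N _ hN => absurd (Subsingleton.elim _ _) hN
    obtain ⟨p, hp, hd, hmax⟩ := exists_largest_prime (Finite.one_lt_card (α := G))
    have := Fact.mk hp
    obtain ⟨P⟩ : Nonempty (Sylow p G) := inferInstance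
    have hPn := sylow_normal_of_prime_index h hmax P
    obtain ⟨N, hN, hNP⟩ := H2.exists_isMinNormal_le hPn (P.ne_bot_of_dvd_card hd)
    have hNn := hN.1
    have hNp : IsPGroup p N := P.isPGroup'.to_le hNP
    have hNs : Group.IsSolvable N := H1.solvable_of_isPGroup hNp
    have hNc := hN.isMulCommutative hNs
    suffices hcyc : IsCyclic N from SS.of_cyclic_normal N (ihq N hN.2.1)
    by_cases hΦ : N ≤ frattini G
    swap
    · rw [H2.le_frattini_iff] at hΦ
      push Not at hΦ
      obtain ⟨M, hM, hNM⟩ := hΦ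
      have hs := sup_eq_top_of_coatom hM hNM
      have hi := (hN.inf_eq_bot_or_le ((sup_comm _ _).trans hs)).resolve_right hNM
      have hc := isComplement'_of_normal ((inf_comm _ _).trans hi) hs
      have := Fact.mk (h M hM)
      exact isCyclic_of_prime_card (p := M.index) hc.index_eq_card.symm
    obtain ⟨q, hq, hexp⟩ := hN.exists_prime hNs
    obtain rfl : q = p := by
      obtain ⟨x, hx, hx1⟩ := (N.bot_or_exists_ne_one).resolve_left hN.2.1
      obtain ⟨k, hk⟩ := hNp ⟨x, hx⟩
      have := Fact.mk hq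
      have h1 : orderOf x = q := orderOf_eq_prime (hexp x hx) hx1
      have : orderOf x ∣ p ^ k := orderOf_dvd_of_pow_eq_one (congrArg Subtype.val hk)
      exact (Nat.prime_dvd_prime_iff_eq hq hp).1 (hq.dvd_of_dvd_pow (h1 ▸ this))
    obtain ⟨H, hH⟩ := exists_right_complement'_of_coprime (N := (P : Subgroup G))
      P.card_coprime_index
    have hHc : (Nat.card H).Coprime (Nat.card P) := by
      rw [← hH.symm.index_eq_card]; exact P.card_coprime_index.symm
    have hHp : (Nat.card H).Coprime q := by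
      rw [← hH.symm.index_eq_card]
      exact ((Nat.Prime.coprime_iff_not_dvd hp).2 P.not_dvd_index).symm
    have hsup : (P : Subgroup G) ⊔ H = ⊤ := hH.sup_eq_top
    set f := QuotientGroup.mk' N with hf
    have hPbn : ((P : Subgroup G).map f).Normal := hPn.map f (QuotientGroup.mk'_surjective _)
    set K := H ⊓ (centralizer (((P : Subgroup G).map f : Subgroup (G ⧸ N)) : Set (G ⧸ N))).comap f
      with hK
    have hHK : H ≤ normalizer (K : Set G) :=
      H1.le_normalizer_inf le_normalizer le_normalizer_of_normal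
    have hKc : (Nat.card K).Coprime (Nat.card P) :=
      hHc.coprime_dvd_left (card_dvd_of_le inf_le_left)
    have hdec := H1.commutator_sup_centralizer K P le_normalizer_of_normal hKc
      (Or.inr (H1.solvable_of_isPGroup P.isPGroup'))
    have hcomm : ⁅(P : Subgroup G), K⁆ ≤ N := by
      rw [commutator_le]
      intro a ha b hb
      rw [← QuotientGroup.eq_one_iff]
      change f _ = 1
      rw [map_commutatorElement, commutatorElement_eq_one_iff_mul_comm]
      exact mem_centralizer_iff.1 hb.2 _ (mem_map_of_mem f ha)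
    have hKn : K.Normal := by
      rw [← normalizer_eq_top_iff]
      apply H2.eq_top_of_sup_le_frattini hΦ
      rw [eq_top_iff, ← hsup]
      refine sup_le ?_ (hHK.trans le_sup_left)
      rw [← hdec]
      exact sup_le (hcomm.trans le_sup_right)
        ((inf_le_right.trans (centralizer_le_normalizer _)).trans le_sup_left)
    have hKN : K ≤ centralizer (N : Set G) := by
      refine le_centralizer_of_inf_eq_bot le_normalizer_of_normal le_normalizer_of_normal ?_
      exact disjoint_iff.1 (disjoint_of_coprime_natCard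
        (hKc.coprime_dvd_right (card_dvd_of_le hNP)))
    have hPN : (P : Subgroup G) ≤ centralizer (N : Set G) := by
      rw [le_centralizer_iff]
      exact hN.le_centralizer_of_isNilpotent hPn P.isPGroup'.isNilpotent
    have hmemK : ∀ y ∈ H, ((∃ a b : G, y = ⁅a, b⁆) ∨ ∃ a : G, y = a ^ (q - 1)) → y ∈ K := by
      intro y hy hy'
      refine ⟨hy, (ihq N hN.2.1).mem_centralizer_of_coprime hPbn (P.isPGroup'.map f) ?_ ?_⟩
      · exact (hHp.coprime_dvd_left (Subgroup.orderOf_dvd_natCard H hy)).coprime_dvd_left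
          (orderOf_map_dvd f y)
      · rcases hy' with ⟨a, b, rfl⟩ | ⟨a, rfl⟩
        · exact Or.inl ⟨f a, f b, map_commutatorElement _ _ _⟩
        · exact Or.inr ⟨f a, map_pow _ _ _⟩
    have hCn : (centralizer (N : Set G)).Normal := inferInstance
    set π := QuotientGroup.mk' (centralizer (N : Set G)) with hπ
    have hrep : ∀ g : G, ∃ y ∈ H, π g = π y := by
      intro g
      obtain ⟨a, ha, y, hy, rfl⟩ := exists_mul_of_sup_eq_top hsup g
      refine ⟨y, hy, ?_⟩
      rw [map_mul, show π a = 1 from (QuotientGroup.eq_one_iff a).2 (hPN ha), one_mul]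
    obtain ⟨x, hx, hx1⟩ := (N.bot_or_exists_ne_one).resolve_left hN.2.1
    have hxn : (zpowers x).Normal := by
      refine normal_zpowers_of_exponent hN hexp ?_ ?_ hx
      · intro a b
        obtain ⟨a', ha', ha⟩ := hrep a
        obtain ⟨b', hb', hb⟩ := hrep b
        rw [← QuotientGroup.eq_one_iff]
        change π _ = 1
        rw [map_commutatorElement, ha, hb, ← map_commutatorElement]
        refine (QuotientGroup.eq_one_iff _).2 (hKN (hmemK _ ?_ (Or.inl ⟨_, _, rfl⟩)))
        rw [commutatorElement_def]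
        exact H.mul_mem (H.mul_mem (H.mul_mem ha' hb') (H.inv_mem ha')) (H.inv_mem hb')
      · intro a
        obtain ⟨a', ha', ha⟩ := hrep a
        rw [← QuotientGroup.eq_one_iff]
        change π _ = 1
        rw [map_pow, ha, ← map_pow]
        exact (QuotientGroup.eq_one_iff _).2 (hKN (hmemK _ (H.pow_mem ha' _) (Or.inr ⟨_, rfl⟩)))
    have := (hN.2.2 _ hxn (zpowers_le.2 hx)).resolve_left (by simpa using hx1)
    rw [← this]; infer_instance

end H11
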