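import Mathlib
import Cfsg.Agent.H29.Ext

set_option autoImplicit false
set_option maxRecDepth 100000
set_option Elab.async false
set_option linter.all false

namespace H11.J1H

open H29

noncomputable def n0 : Net := ben 7 [(nat_lit 0x3b001cffc0f4400340ed1c0c335505),
 (nat_lit 0xde26e7276327d3e828d72dd7323320),
 (nat_lit 0xb6052478406cfbd67d390052450000),
 (nat_lit 0xf25f15fd607f29ecd1a6b55f8080),
 (nat_lit 0xcc0021994ee9bace5333b46b006b60),
 (nat_lit 0x45e76000944a1e02000000124acb30),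
 (nat_lit 0x7a15ad96b5ea40)]
noncomputable def t0 : List ℕ := [(nat_lit 0xc058a0225ca518112a02984c100a0),
 (nat_lit 0x3205c800245a61dc08008c908cf680),
 (nat_lit 0xfe8ee20a8e1036d04022347c000000),
 (nat_lit 0x2000400000000000000000000000)]
noncomputable def d0 : ℕ := (nat_lit 0x150151550250002a500000000080a)
noncomputable def n1 : Net := ben 7 [(nat_lit 0x505505155255555410555555555550),
 (nat_lit 0x333333222811000000ff0000300003),
 (nat_lit 0xf0f0f070f0e0c000ccf0003000000),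
 (nat_lit 0xe0070000000300c000000000),
 (nat_lit 0xff0000ff000000000000000000),
 (nat_lit 0x0),
 (nat_lit 0x0)]
noncomputable def t1 : List ℕ := [(nat_lit 0x1018088608308730b8024f2df3000a),
 (nat_lit 0xef42f7400400ffcc8803cf3ffffcc0),
 (nat_lit 0x7b5aee9559aa30f232fc3000000000),
 (nat_lit 0x0)]
noncomputable def d1 : ℕ := (nat_lit 0xa00028a000000140000080000224)
noncomputable def n2 : Net := ben 7 [(nat_lit 0x1c41c4134d15cc32854434c4f1045c),
 (nat_lit 0x3003003027319ba522fe3a989a090),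
 (nat_lit 0x2644028caa011085018922673c2009),
 (nat_lit 0xb0f9203a868600f5189c01da0006),
 (nat_lit 0xb08661a6e50000000000006702),
 (nat_lit 0x610000006100008600000086009c06),
 (nat_lit 0x61000086000000)]
noncomputable def t2 : List ℕ := [(nat_lit 0xe60d603c5095e00a13430a07111123),
 (nat_lit 0x36420016a0a0629082410282599840),
 (nat_lit 0xb640602fd136209204bc2000000000),
 (nat_lit 0x0)]
noncomputable def d2 : ℕ := (nat_lit 0xc00e481c600800c478200090)
noncomputable def n3 : Net := n2.rev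
noncomputable def t3 : List ℕ := mapPull n3 t2
noncomputable def d3 : ℕ := (nat_lit 0xec0ec8000000e11000031907820040)
noncomputable def n4 : Net := ben 7 [(nat_lit 0x85d85d76d7b54542b512855da5710c),
 (nat_lit 0x252252b521b02f3bb0110b52a35a00),
 (nat_lit 0x4511044c0008cd00086e9204336900),
 (nat_lit 0x40500242c0c00002900e0000000f),
 (nat_lit 0x404000420090009000000000f0),
 (nat_lit 0x80000000800040000000d0000000),
 (nat_lit 0x800040000000)]
noncomputable def t4 : List ℕ := [(nat_lit 0xf12924cc822a9169a4e2090aa42213),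
 (nat_lit 0x7a7484f10c0048810483993ba64880),
 (nat_lit 0xfb7fb2edfe6cb5e268000084400000),
 (nat_lit 0x0)]
noncomputable def d4 : ℕ := (nat_lit 0x201900204101c2200199100)
noncomputable def n5 : Net := n4.rev
noncomputable def t5 : List ℕ := mapPull n5 t4
noncomputable def d5 : ℕ := (nat_lit 0x120122000002008802e00000446400)
def ivl : List ℕ := [0, 1, 3, 2, 5, 4, 7, 6]
def cols : List ℕ := [0, 1, 2, 3, 4, 5]
def hcols : List ℕ := []
def G0 : List (List ℕ) := [[2, 2, 2],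
 [4, 4, 4],
 [2, 4, 2, 4],
 [0, 2, 0, 2, 0, 2],
 [0, 4, 0, 4],
 [2, 5, 2, 5, 2, 5],
 [3, 0, 4, 0, 3, 0, 4, 0],
 [1, 0, 1, 0],
 [1, 2, 1, 3],
 [1, 4, 1, 5]]
def R0 : List (List ℕ) := G0
theorem hii : ∀ c, ivOf ivl (ivOf ivl c) = c := ivOf_ivOf (by decide +kernel)
theorem der : Derives (ivOf ivl) R0 R0 := Derives.refl _ _
noncomputable def nl : List Net := [n0, n1, n2, n3, n4, n5]
noncomputable def T : TCData := ⟨120, 120, 7, 4, nth Net.nil nl, ivOf ivl, cols, hcols, R0,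
  nth [] [t0, t1, t2, t3, t4, t5], nth 0 [d0, d1, d2, d3, d4, d5]⟩
theorem hn : NetsOK 120 (nth Net.nil nl) := netsOK_of_all (by decide +kernel)
theorem hiv : IvOK (sg (nth Net.nil nl)) (ivOf ivl) :=
  ivOK_of_chk (k := 7) hn (by decide) (n := 8) (by decide) (by decide) (allN_true.1 (by decide +kernel))
theorem hb : T.Basic := TCData.basic_of_chk hn hiv (by decide +kernel)
theorem hG0 : ∀ r ∈ G0, ev (sg (nth Net.nil nl)) r = 1 :=
  rels_of_chk (k := 7) hn (by decide) hiv (allN_true.1 (by decide +kernel))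
noncomputable def s0 : List TCData.Step := [.all 3 0 0,
 .all 4 0 0,
 .all 6 1 0,
 .pts 6 3 0 6 [69],
 .all 7 1 0]
noncomputable def s1 : List TCData.Step := [.all 7 0 0,
 .all 8 0 0,
 .all 8 2 0,
 .all 9 0 0,
 .all 9 2 0]
noncomputable def s2 : List TCData.Step := [.pts 6 0 0 3 [49],
 .pts 6 0 0 5 [86],
 .pts 6 0 0 7 [114]]
noncomputable def s3 : List TCData.Step := [.all 0 0 0,
 .all 2 0 0,
 .all 3 1 0,
 .all 5 0 0,
 .all 8 1 0]
noncomputable def s4 : List TCData.Step := [.all 5 1 0]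
noncomputable def s5 : List TCData.Step := [.all 1 0 0,
 .all 2 1 0,
 .all 4 1 0,
 .all 6 2 0,
 .all 9 1 0]
theorem hR0 : ∀ r ∈ R0, ev (sg (nth Net.nil nl)) r = 1 := hG0
theorem col0 : T.ColOK 0 := TCData.colOK_of_chk (U := (T.stepsMask 0 s0 (T.mask0 0))) (V := (T.stepsMask 0 s0 (T.mask0 0))) hb (TCData.cov_stepsMask hb (by decide) s0 _ (T.cov_mask0 0)) (TCData.cov_stepsMask hb (by decide) s0 _ (T.cov_mask0 0)) (by decide +kernel)
theorem col1 : T.ColOK 1 := TCData.colOK_of_chk (U := (T.stepsMask 1 s1 (T.mask0 1))) (V := (T.stepsMask 1 s1 (T.mask0 1))) hb (TCData.cov_stepsMask hb (by decide) s1 _ (T.cov_mask0 1)) (TCData.cov_stepsMask hb (by decide) s1 _ (T.cov_mask0 1)) (by decide +kernel)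
theorem col2 : T.ColOK 2 := TCData.colOK_of_chk (U := (T.stepsMask 2 s2 (T.mask0 2))) (V := (T.stepsMask 3 s3 (T.mask0 3))) hb (TCData.cov_stepsMask hb (by decide) s2 _ (T.cov_mask0 2)) (TCData.cov_stepsMask hb (by decide) s3 _ (T.cov_mask0 3)) (by decide +kernel)
theorem col3 : T.ColOK 3 := TCData.colOK_of_chk (U := (T.stepsMask 3 s3 (T.mask0 3))) (V := (T.stepsMask 2 s2 (T.mask0 2))) hb (TCData.cov_stepsMask hb (by decide) s3 _ (T.cov_mask0 3)) (TCData.cov_stepsMask hb (by decide) s2 _ (T.cov_mask0 2)) (by decide +kernel)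
theorem col4 : T.ColOK 4 := TCData.colOK_of_chk (U := (T.stepsMask 4 s4 (T.mask0 4))) (V := (T.stepsMask 5 s5 (T.mask0 5))) hb (TCData.cov_stepsMask hb (by decide) s4 _ (T.cov_mask0 4)) (TCData.cov_stepsMask hb (by decide) s5 _ (T.cov_mask0 5)) (by decide +kernel)
theorem col5 : T.ColOK 5 := TCData.colOK_of_chk (U := (T.stepsMask 5 s5 (T.mask0 5))) (V := (T.stepsMask 4 s4 (T.mask0 4))) hb (TCData.cov_stepsMask hb (by decide) s5 _ (T.cov_mask0 5)) (TCData.cov_stepsMask hb (by decide) s4 _ (T.cov_mask0 4)) (by decide +kernel)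
theorem ok : T.OK := ⟨hb, TCData.treeOK_of_chk hn (by decide +kernel), (List.forall_mem_cons.2 ⟨col0, (List.forall_mem_cons.2 ⟨col1, (List.forall_mem_cons.2 ⟨col2, (List.forall_mem_cons.2 ⟨col3, (List.forall_mem_cons.2 ⟨col4, (List.forall_mem_cons.2 ⟨col5, (fun _ h => absurd h List.not_mem_nil)⟩)⟩)⟩)⟩)⟩)⟩), der _ _ hiv hR0⟩
theorem bd {G : Type} [Group G] {e : ℕ → G} (h1 : IvOK e (ivOf ivl)) (h2 : ∀ r ∈ R0, ev e r = 1)
    {m : ℕ} (h : Bd (gen e hcols) m) : Bd (gen e cols) (120 * m) := ok.bd h1 (der G e h1 h2) h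
theorem cm {G : Type} [Group G] {e : ℕ → G} (h1 : IvOK e (ivOf ivl)) (h2 : ∀ r ∈ R0, ev e r = 1)
    (h3 : gen e cols = ⊤) {ρ : G →* Equiv.Perm ℕ} (h4 : ∀ c, ρ (e c) = sg (nth Net.nil nl) c) :
    CosetModel ρ (gen e hcols) 120 := ok.cosetModel h1 (der G e h1 h2) h3 fun c _ => h4 c

end H11.J1H
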