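import Mathlib
import Cfsg.Agent.H9.JRB

/-!
# The involutions of `M₂₄`, and transitivity of the permutation group `Nb`
-/

set_option autoImplicit false
set_option maxRecDepth 100000
set_option Elab.async false
set_option linter.all false

namespace H11.J4R

open Cfsg H29 H9 H9.DC H9.J4 H9.R Subgroup

noncomputable def im (a b : Bool) : Bool := Bool.rec true b a
theorem im_true {a b : Bool} : im a b = true ↔ (a = true → b = true) := by cases a <;> simp [im]
noncomputable def ou (a b : Bool) : Bool := Bool.rec b true a
theorem ou_true {a b : Bool} : ou a b = true ↔ (a = true ∨ b = true) := by cases a <;> simp [ou]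
noncomputable def ne2 (a : Bool) : Bool := Bool.rec true false a
theorem ne2_true {a : Bool} : ne2 a = true ↔ ¬ a = true := by cases a <;> simp [ne2]

theorem cover {pts : List ℕ} {b : ℕ} (hb : b < 24) {o : ℕ}
    (hup : ∀ g ∈ Stab pts [], g (pt b) ∈ ofMask o) {T : List ℕ}
    (hT : (H29.allL T (inStab pts [])) = true)
    (hc : (allN 24 fun i => im (o.testBit i) (H9.anyL T fun t => Nat.beq (dig t b) i)) = true)
    {g : Equiv.Perm GolayPt} (hg : g ∈ Stab pts []) :
    ∃ t ∈ T, validP t = true ∧ (pm t)⁻¹ * g ∈ Stab (b :: pts) [] := by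
  obtain ⟨t, ht, h1⟩ := (anyL_iff _ _).1 (im_true.1 (allN_true.1 hc _ (ix_lt (g (pt b))))
    (mem_ofMask.1 (hup g hg)))
  have h2 := allL_true.1 hT t ht
  have h3 := validP_of_inStab h2
  refine ⟨t, ht, h3, ?_⟩
  rw [← Stab_cons_pt]
  refine mem_inf.2 ⟨mul_mem (inv_mem (mem_Stab_of_inStab h2)) hg, ?_⟩
  rw [MulAction.mem_stabilizer_iff, Equiv.Perm.smul_def, Equiv.Perm.mul_apply,
    Equiv.Perm.inv_eq_iff_eq, pm_pt h3 hb, H29.beq_true.1 h1, pt_ix]

def T1 : List ℕ := [984818244535754528103549039458486304, 975767893687618906148264699718141984, 963387251845851716769057140306020384, 959899622787013919534102911026628640, 981608076376000815495976398360217632, 973005945427600898744131375019296800, 959823851459553241611420302368245792, 984765860546999731135528508597635104, 977990550453851621981231868930525216, 968509718789918725847110413523879968, 982972223309192050273598343822837792, 971775034188102070182232673449576480, 970490885909941007113178752422643744, 977023451795203591179182037798520864, 974047838953398371220996715143464992, 962369085926286082461938885938448416,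 963871381879465904783683688082999328, 969259759458097210468369533780723744, 980274897071942340887925373470771232, 961314453203165787237600564044302368]
def T2 : List ℕ := [984818244535754528103549039458486304, 970452748381697609285226999098476576, 982125237077252311731715764534741024]
def T3 : List ℕ := [984818244535754528103549039458486304, 961365507626256404119956257276790816, 970499966350631336865513127433832480, 972512676110088067912772961567868960, 980224387687010295957922729495201824, 971592882964418941354553515258775584, 976448692869377735270425038196672544, 983548720921252936276249910206105632, 979121071158219704299181131031480352, 975346028712660580592452217730074656, 965128854020860192151391391390468128, 966182099583441531322624363496310816, 981818691054096003685363657089320992, 963721886883755259286232606933354528, 968708902336673183175954409307867168, 967812279691448225500382947153381408]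
def L1 : List ℕ := [850296063016868541285248274291936839, 646530539136750112229577662218427939, 511097258042289762010990570087429839, 148372600517635105294654560784263311, 291244056287464416171172155513836240, 481796264026274209504439404440796458, 840185021816539963577027505234131569, 321192880243270881096189606246427986, 791827031600259355724348632255092262, 555630281166309304062799769969677831, 57304439200856614127178933324065265, 487305466130842876004825571950973034, 333891804435388192023425637247826277, 64025811015704598441978796664672463, 271929143963034558021853561063136585, 419814866675350161598686665664300619, 934709028973326120345937111434839662, 464809741585506613377385082275960373, 849798130691098253077796159878317475, 958345572366362309790218547000100310, 963342305359424397591701031588506895, 855783976901338748580301111683306630, 841197151352429880595599248517848679, 441410488785258161918724428792270181, 937424159213846910707295419708682612, 9431856747695778871956074086651027, 750653930630408119712113296444339888, 968621190245462614604615880105704724,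 231356829149269162996121911953893865, 307649301576038679497860390017641097, 930047496150948649612689070683160905, 472789645853958077585426718766809430, 477067157982122992873830046825063750, 8604104455620894346835205969726645, 813014970515353774911489353055707170, 267957535692805410019050512549644628, 178493624019227656215126586500144395, 58431213681566992334165855293886764, 667982523908089667142400713688520940, 483267035140537978641952379341327072, 113744414289310836707828186283166920, 880808008187533585359699398157341202, 178164911592586526451773956630255151, 940679290330031261991914675294649514, 256226532078866277616968648135590468, 674646543247311639966524546996642158, 12141655306021941192077170258136310, 974341947451609506671612804482835792, 15914807948052525834213791947459251, 818602554494757121105942538250093903, 509548641601099728036188466890395943, 457114143314304022481764322235548980, 348758571812809196512324613278456334, 926068998151125672048219225464473267, 691358985623021244120424960747611159, 420847426801937147340542829988896269, 335472787444967825360863607395947220,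 384293372011113448799938229818625518, 476765228239509685470452336380266773, 507615134358040028388737682954639629, 676634471983748809797655745925420590, 859700997604769391345075583151686721, 932485188031677950118376791330574826, 233314025905078208747518360512935048, 100732752393125201143639590690626869, 66537967978720908183747759659042956]
def L2 : List ℕ := [17665600350620029356359448977933393, 56710341116896544348091463451155107, 528565951770649071994132820205964737, 113751385238935791761247497770841617, 435082571353710371760890471288091777, 963782836236691529243111507372464552, 934913129008713747407271018783953218, 958560676823774048750407399924486453, 665025630812874744351440282571150450, 291500977116852927160927401560937585]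
def m0 : ℕ := 13488246947635466754201336759747671
def r1 : ℕ := 358864966823891061721071266500325377
def r2 : ℕ := 482459827099231466604978979955901516

theorem chk_inv : (H29.allL T1 fun a => seqN (mulF m0 a) fun a => H29.allL T2 fun b =>
    seqN (mulF a b) fun b => H29.allL T3 fun c => seqN (mulF b c) fun c =>
      im (Nat.beq (mulF c c) idP) (ou (H9.anyL L1 fun d => Nat.beq (mulF d r1) (mulF c d))
        (H9.anyL L2 fun d => Nat.beq (mulF d r2) (mulF c d)))) = true := by decide +kernel

theorem chk_L : H29.allL (m0 :: r1 :: r2 :: (L1 ++ L2)) isM24 = true := by decide +kernel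

theorem mulP_eq_idP {a b : ℕ} (ha : validP a = true) (hb : validP b = true)
    (h : pm a * pm b = 1) : mulP a b = idP := by
  have h1 : ∀ i < 24, dig a (dig b i) = i := fun i hi => by
    have := congrArg (fun g : Equiv.Perm GolayPt => g (pt i)) h
    simp only [Equiv.Perm.mul_apply, pm_pt hb hi, pm_pt ha (dig_lt hb hi), Equiv.Perm.one_apply] at this
    exact pt_inj (dig_lt ha (dig_lt hb hi)) hi this
  rw [show idP = mkP fun i => i by decide +kernel]
  apply Nat.eq_of_testBit_eq
  intro j
  rw [Bool.eq_iff_iff, mulP, mkP, mkP, testBit_orLt, testBit_orLt]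
  exact exists_congr fun i => and_congr_right fun hi => by rw [h1 i hi]

theorem inv_std {m : Equiv.Perm GolayPt} (hm : m ∈ M24) (h2 : m * m = 1) (h23 : m (pt 23) = pt 0)
    (h1 : m (pt 1) = pt 2) : ∃ g ∈ M24, g * pm r1 * g⁻¹ = m ∨ g * pm r2 * g⁻¹ = m := by
  have hL := allL_true.1 chk_L
  have v0 := validP_of_isM24 (hL m0 (by simp))
  have k : ∀ p q, m p = q → m q = p := fun p q h => by
    rw [← h, ← Equiv.Perm.mul_apply, h2]; rfl
  have h0 : (pm m0)⁻¹ * m ∈ Stab [2, 1, 0, 23] [] := by
    refine mem_Stab.2 ⟨mul_mem (inv_mem (mem_M24_of_isM24 (hL m0 (by simp)))) hm, ?_, by simp⟩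
    simp only [List.forall_mem_cons, Equiv.Perm.mul_apply, Equiv.Perm.inv_eq_iff_eq]
    rw [h23, h1, k _ _ h23, k _ _ h1, pm_pt v0 (by norm_num), pm_pt v0 (by norm_num),
      pm_pt v0 (by norm_num), pm_pt v0 (by norm_num)]
    exact ⟨rfl, rfl, rfl, rfl, by simp⟩
  obtain ⟨a, ha, va, ha'⟩ := cover (by norm_num) up20 (T := T1) (by decide +kernel) (by decide +kernel) h0
  obtain ⟨b, hb, vb, hb'⟩ := cover (by norm_num) up48 (T := T2) (by decide +kernel) (by decide +kernel) ha'
  obtain ⟨c, hc, vc, hc'⟩ := cover (by norm_num) up16 (T := T3) (by decide +kernel) (by decide +kernel) hb'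
  rw [stab7_bot, mem_bot] at hc'
  have v1 := validP_mulP v0 va
  have v2 := validP_mulP v1 vb
  have v3 := validP_mulP v2 vc
  have e : pm (mulP (mulP (mulP m0 a) b) c) = m := by
    rw [pm_mulP v2 vc, pm_mulP v1 vb, pm_mulP v0 va]
    calc pm m0 * pm a * pm b * pm c = pm m0 * pm a * pm b * pm c *
        ((pm c)⁻¹ * ((pm b)⁻¹ * ((pm a)⁻¹ * ((pm m0)⁻¹ * m)))) := by rw [hc', mul_one]
      _ = m := by group
  have h3 := allL_true.1 chk_inv a ha
  rw [seqN_eq] at h3
  have h4 := allL_true.1 h3 b hb
  rw [seqN_eq] at h4
  have h5 := allL_true.1 h4 c hc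
  simp only [seqN_eq, mulF_eq, im_true, ou_true, anyL_iff, H29.beq_true] at h5
  generalize mulP (mulP (mulP m0 a) b) c = u at *
  have key : ∀ r d, isM24 r = true → isM24 d = true → mulP d r = mulP u d →
      pm d * pm r * (pm d)⁻¹ = m := fun r d hr hd h => by
    have := congrArg pm h
    rw [pm_mulP (validP_of_isM24 hd) (validP_of_isM24 hr), pm_mulP v3 (validP_of_isM24 hd), e] at this
    rw [this, mul_inv_cancel_right]
  rcases h5 (mulP_eq_idP v3 v3 (by rw [e, h2])) with ⟨d, hd, h⟩ | ⟨d, hd, h⟩
  · exact ⟨_, mem_M24_of_isM24 (hL d (by simp [hd])), Or.inl (key _ d (hL _ (by simp)) (hL d (by simp [hd])) h)⟩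
  · exact ⟨_, mem_M24_of_isM24 (hL d (by simp [hd])), Or.inr (key _ d (hL _ (by simp)) (hL d (by simp [hd])) h)⟩

theorem inv_M24 {m : Equiv.Perm GolayPt} (hm : m ∈ M24) (h2 : m * m = 1) (h1 : m ≠ 1) :
    ∃ g ∈ M24, g * pm r1 * g⁻¹ = m ∨ g * pm r2 * g⁻¹ = m := by
  have k : ∀ p q, m p = q → m q = p := fun p q h => by
    rw [← h, ← Equiv.Perm.mul_apply, h2]; rfl
  obtain ⟨p, hp⟩ : ∃ p, m p ≠ p := by
    by_contra h
    push Not at h
    exact h1 (Equiv.ext h)
  obtain ⟨q, hq1, hq2, hq⟩ : ∃ q, q ≠ p ∧ q ≠ m p ∧ m q ≠ q := by
    by_contra h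
    push Not at h
    obtain ⟨g, hg, e1, e2⟩ := M24_trans2 (p' := pt 6) (q' := pt 7) hp.symm (by decide)
    have : g * m * g⁻¹ ∈ Stab [4, 5, 3, 2, 1, 0, 23] [] := by
      refine mem_Stab.2 ⟨mul_mem (mul_mem hg hm) (inv_mem hg), fun i hi => ?_, by simp⟩
      have h3 : pt i ≠ pt 6 ∧ pt i ≠ pt 7 := by revert i; decide
      rw [Equiv.Perm.mul_apply, Equiv.Perm.mul_apply, h _ (fun h4 => h3.1 (by rw [← e1, ← h4]; simp))
        (fun h4 => h3.2 (by rw [← e2, ← h4]; simp))]
      simp
    rw [stab7_bot, mem_bot, conj_eq_one_iff] at this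
    exact h1 this
  have hq3 : m q ≠ p := fun h => hq2 (k _ _ h).symm
  have hq4 : m q ≠ m p := fun h => hq1 (m.injective h)
  obtain ⟨g, hg, e⟩ := M24_trans_list [p, m p, q, m q] [pt 23, pt 0, pt 1, pt 2]
    (by simp [hp.symm, hq1.symm, hq2.symm, hq3.symm, hq4.symm, hq.symm]) (by decide) rfl (by simp)
  simp only [List.map_cons, List.map_nil, List.cons.injEq, and_true] at e
  obtain ⟨e1, e2, e3, e4⟩ := e
  obtain ⟨d, hd, h⟩ := inv_std (m := g * m * g⁻¹) (mul_mem (mul_mem hg hm) (inv_mem hg))
    (by rw [show g * m * g⁻¹ * (g * m * g⁻¹) = g * (m * m) * g⁻¹ by group, h2]; simp)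
    (by rw [← e1, ← e2]; simp) (by rw [← e3, ← e4]; simp)
  refine ⟨g⁻¹ * d, mul_mem (inv_mem hg) hd, h.imp (fun h => ?_) fun h => ?_⟩ <;>
  · rw [show m = g⁻¹ * (g * m * g⁻¹) * g by group, ← h]; group

theorem v_pc0 : validP pc0 = true := by decide +kernel

theorem map_Nb : Nb.map (MulAut.conj (pm pc0)).toMonoidHom = M24 := by
  have hv := v_pc0
  have key : ∀ c ∈ [0, 1, 2], MulAut.conj (pm pc0) (e1 c) ∈ M24 := by
    have : ∀ c ∈ [0, 1, 2], ∃ d ∈ [358864966823891061721071266500325377, 143422908293729086565942473832105995, 805521103547338060537010768023619937],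
        isM24 d = true ∧ mulP d pc0 = mulP pc0 (nth idP cl3 c) := by decide +kernel
    intro c hc
    obtain ⟨d, -, h1, h2⟩ := this c hc
    have h3 := congrArg pm h2
    rw [pm_mulP (validP_of_isM24 h1) hv, pm_mulP hv (v3 c)] at h3
    rw [MulAut.conj_apply, e1, ← h3, mul_inv_cancel_right]
    exact mem_M24_of_isM24 h1
  have h1 : Nb.map (MulAut.conj (pm pc0)).toMonoidHom ≤ M24 := by
    rw [Nb, map_gen]; exact gen_le.2 key
  have f := (MulAut.conj (pm pc0)).subgroupMap Nb
  exact Subgroup.eq_of_le_of_card_ge h1 (by rw [card_M24, ← card_Nb]; exact (Nat.card_congr f.toEquiv).le)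

theorem mem_Nb {g : Equiv.Perm GolayPt} : g ∈ Nb ↔ pm pc0 * g * (pm pc0)⁻¹ ∈ M24 := by
  rw [← map_Nb]
  refine ⟨fun h => ⟨g, h, rfl⟩, ?_⟩
  rintro ⟨a, ha, h⟩
  have : a = g := (MulAut.conj (pm pc0)).injective h
  exact this ▸ ha

theorem mem_Nb' {g : Equiv.Perm GolayPt} (h : g ∈ M24) : (pm pc0)⁻¹ * g * pm pc0 ∈ Nb :=
  mem_Nb.2 (by simpa [mul_assoc] using h)

theorem Nb_trans_list (xs ys : List GolayPt) (hx : xs.Nodup) (hy : ys.Nodup)
    (hl : xs.length = ys.length) (h5 : xs.length ≤ 5) : ∃ n : Nb, xs.map n.1 = ys := by
  obtain ⟨g, hg, h⟩ := M24_trans_list (xs.map (pm pc0)) (ys.map (pm pc0))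
    (hx.map (pm pc0).injective) (hy.map (pm pc0).injective) (by simpa using hl) (by simpa using h5)
  refine ⟨⟨_, mem_Nb' hg⟩, ?_⟩
  apply List.map_injective_iff.2 (pm pc0).injective
  rw [← h, List.map_map, List.map_map]
  exact List.map_congr_left fun a _ => by simp

theorem Nb_trans2 {p q p' q' : GolayPt} (h : p ≠ q) (h' : p' ≠ q') : ∃ n : Nb, n.1 p = p' ∧ n.1 q = q' := by
  obtain ⟨n, hn⟩ := Nb_trans_list [p, q] [p', q'] (by simp [h]) (by simp [h']) rfl (by simp)
  exact ⟨n, by simpa using hn⟩

theorem Nb_trans3 {p q r p' q' r' : GolayPt} (h1 : p ≠ q) (h2 : p ≠ r) (h3 : q ≠ r) (h1' : p' ≠ q')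
    (h2' : p' ≠ r') (h3' : q' ≠ r') : ∃ n : Nb, n.1 p = p' ∧ n.1 q = q' ∧ n.1 r = r' := by
  obtain ⟨n, hn⟩ := Nb_trans_list [p, q, r] [p', q', r'] (by simp [*]) (by simp [*]) rfl (by simp)
  exact ⟨n, by simpa using hn⟩

/-- A word for an involution with fixed points. -/
def w8 : List ℕ := [0, 1, 0, 1, 0, 2, 0, 1, 0, 2, 0, 2, 0, 1, 0, 1, 0, 2, 0, 1, 0, 2, 0, 2]

theorem inv_Nb {m : Nb} (h2 : m * m = 1) (h1 : m ≠ 1) :
    ∃ g : Nb, g * nb [0] * g⁻¹ = m ∨ g * nb w8 * g⁻¹ = m := by
  have hL := allL_true.1 chk_L
  obtain ⟨g, hg, h⟩ := inv_M24 (mem_Nb.1 m.2)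
    (by rw [show pm pc0 * m.1 * (pm pc0)⁻¹ * (pm pc0 * m.1 * (pm pc0)⁻¹) =
      pm pc0 * (m * m).1 * (pm pc0)⁻¹ by simp [mul_assoc], h2]; simp)
    (by rw [Ne, conj_eq_one_iff]; exact fun h => h1 (Subtype.ext h))
  have key : ∀ r w, isM24 r = true → mulP r pc0 = mulP pc0 (evalW cl3 w) →
      g * pm r * g⁻¹ = pm pc0 * m.1 * (pm pc0)⁻¹ →
      (⟨_, mem_Nb' hg⟩ : Nb) * nb w * (⟨_, mem_Nb' hg⟩ : Nb)⁻¹ = m := fun r w hr h3 h4 => by
    have h5 := congrArg pm h3
    rw [pm_mulP (validP_of_isM24 hr) v_pc0, pm_mulP v_pc0 (ev_e1 w).1, ← nb_val] at h5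
    apply Subtype.ext
    show (pm pc0)⁻¹ * g * pm pc0 * (nb w).1 * ((pm pc0)⁻¹ * g * pm pc0)⁻¹ = m.1
    rw [mul_assoc _ (pm pc0), ← h5, show m.1 = (pm pc0)⁻¹ * (pm pc0 * m.1 * (pm pc0)⁻¹) * pm pc0 by group, ← h4]
    group
  exact ⟨_, h.imp (key _ _ (hL _ (by simp)) (by decide +kernel)) (key _ _ (hL _ (by simp)) (by decide +kernel))⟩

end H11.J4R
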