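import Mathlib
import Cfsg.Agent.H11.JM24

/-!
# The involutions of the presented group `J₄`
-/

set_option autoImplicit false
set_option maxRecDepth 100000
set_option Elab.async false
set_option linter.all false

namespace H11.J4R

open Cfsg H29 H9 H9.MX H9.DC H9.J4 H9.JL H9.R Subgroup

theorem trk_evA {e : ℕ → G} {l : List ℕ} (hm : GF2.Mod Q val e l) {A : ℕ} : ∀ (w : List ℕ) {B : ℕ} {g : G},
    GF2.Trk val A B g → GF2.Trk val A (Q.evA (Q.lets l) w B) (g * ev e w)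
  | [], B, g, h => by rw [ev_nil, mul_one]; exact h
  | c :: w, B, g, h => by
    rw [show Q.evA (Q.lets l) (c :: w) B = seqN (Q.mul B (Q.lets l c)) (Q.evA (Q.lets l) w) from rfl,
      seqN_eq, ev_cons, ← mul_assoc]
    exact trk_evA hm w (h.mul Q_ok (hm c))

theorem cDu : (allN 24 fun i => seqN (Q.evA (Q.lets lX) (mw taus (nth 0 cc i)) AU) fun B0 =>
    allN i fun j => seqN (Q.evA (Q.lets lX) (mw taus (nth 0 cc j)) B0) fun B =>
      H29.allL nodes fun a => ne2 (Q.test AU B a.2.1 a.2.2)) = true := by decide +kernel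

theorem not_conj_mem {a : ℕ × ℕ × List (ℕ × ℕ)} (ha : a ∈ nodes) {p q : GolayPt} (h : p ≠ q) :
    eU (52 + 2 * a.1) * δ p q * (eU (52 + 2 * a.1))⁻¹ ∉ V := by
  wlog h1 : ix q < ix p generalizing p q
  · rw [δ_comm]
    exact this h.symm (lt_of_le_of_ne (not_lt.1 h1) fun h2 => h (ix_inj h2))
  intro h2
  have k1 := allN_true.1 cDu _ (ix_lt p)
  rw [seqN_eq] at k1
  have k2 := allN_true.1 k1 _ h1
  rw [seqN_eq] at k2
  refine ne2_true.1 (allL_true.1 k2 a ha) (GF2.test_of_conj Q_ok (by decide) (g := δ p q) ?_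
    (by decide) (hmU _) (allL_true.1 cNode a ha) (V_le_St h2))
  have := trk_evA hmX (mw taus (nth 0 cc (ix q))) (trk_evA hmX (mw taus (nth 0 cc (ix p))) (GF2.Trk.one AU))
  rwa [one_mul, ← vv_eq, ← vv_eq, ← vv_xor] at this

theorem conj_mem_V {g v : G} (hg : g ∈ HH) (hv : v ∈ V) : g * v * g⁻¹ ∈ V :=
  (mem_normalizer_iff.1 (HH_norm hg) v).1 hv

/-- A duad lies in only one conjugate of `V`. -/
theorem mem_HH_of_conj {p q : GolayPt} (h : p ≠ q) {g : G} (hg : g⁻¹ * δ p q * g ∈ V) : g ∈ HH := by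
  obtain ⟨j, h1, n, hn⟩ := okA.mem_O (by decide) covA (g := g) (closure_top ▸ mem_top g)
  have h2 := QuotientGroup.eq.1 hn
  rcases Nat.eq_zero_or_pos j with rfl | h0
  · rw [okA.w0, one_mul] at h2
    have := mul_mem h2 (okA.hN n)
    rw [inv_mul_cancel_right] at this
    exact (inv_mem_iff (H := HH)).1 this
  · obtain ⟨a, ha, rfl⟩ := (by decide : ∀ j < 20, 0 < j → ∃ a ∈ nodes, a.1 = j) j h1 h0
    rw [← eU_w _ h1] at h2
    refine absurd ?_ (not_conj_mem ha (n.1.injective.ne h))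
    have h3 := conj_mem_V (inv_mem (show _ ∈ HH from h2)) hg
    rw [← conj_δ (n := n)]
    convert h3 using 1
    show _ = (g⁻¹ * (eU (52 + 2 * a.1) * φ n)⁻¹)⁻¹ * (g⁻¹ * δ p q * g) * (g⁻¹ * (eU (52 + 2 * a.1) * φ n)⁻¹)⁻¹⁻¹
    group

theorem cent_δ {p q : GolayPt} (h : p ≠ q) : centralizer {δ p q} ≤ HH := fun g hg =>
  mem_HH_of_conj h (by
    rw [mul_assoc, ← mem_centralizer_singleton_iff.1 hg, inv_mul_cancel_left]; exact δ_mem p q)

/-- The codes of the sextets. -/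
def SX : ℕ := nat_lit 0x7ffff9fafff5d3faf7ffffaffffff7fffffcefffffdfd3bf9fcffefffffef7f7ffffffbf7fffb379ff3ffffefeffcdf7bfffbfdfda7f70ff57cf57f75b970efff7effdffffeffffffdbff7dee7dfbdebffdf7bb7e7fffffe7b7fffffffbebdfdfbffffddbdbb7ffff7bbbeffffff7fddffffdffffffe7ffe7d77ef77bdf77ff7ffedf7b7fffdf7f77bfffdffd7fdfbf7fffb7fdffdbfbef7b7fedf7ffebffff7feebeffddfdffdfff7ff7ffebfdffbe7fdfefdff77fb77fffbfdfbebfffbffe7fffeff9fafffffcbf0effffffffffaefff9f6ffefefffdf7fffff9efdfffefd3cffffbffff9bfdfdffffefffffd9d6bfffaefefbfbfdfffdfcdfbf75b6bfffbe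

theorem conj_of_SX {m : ℕ} (h : SX.testBit m = true) : ∃ n : Nb, φ n * s' * (φ n)⁻¹ = vv m := by
  rw [show SX = orbSet (fun g y => lin (nth [] [Ax, Ay] g) y) (fun y => y) [0, 1] 4096 1 by
    decide +kernel] at h
  obtain ⟨y, h1, rfl⟩ := orbSet_sound _ _ _ _ _ (fun y => ∃ n : Nb, φ n * s' * (φ n)⁻¹ = vv y)
    ⟨1, by simp [vv_one]⟩ (fun g hg y ⟨n, hn⟩ => ⟨⟨e1 g, mem_gen (by revert g; decide)⟩ * n, by
      rw [map_mul, eZ_φ (by revert g; decide),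
        show eZ g * φ n * s' * (eZ g * φ n)⁻¹ = eZ g * (φ n * s' * (φ n)⁻¹) * (eZ g)⁻¹ by group, hn]
      simp only [List.mem_cons, List.not_mem_nil, or_false] at hg
      rcases hg with rfl | rfl
      · exact conj_x y
      · exact conj_y y⟩) _ h
  exact h1

/-- The codes of the duads. -/
noncomputable def DU : ℕ := orLt 24 fun i => orLt i fun j => Nat.shiftLeft 1 (dc i j)

theorem duad_of_DU {m : ℕ} (h : DU.testBit m = true) : ∃ i < 24, ∃ j < i, dc i j = m := by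
  obtain ⟨i, hi, h1⟩ := (testBit_orLt _ _ _).1 h
  obtain ⟨j, hj, h2⟩ := (testBit_orLt _ _ _).1 h1
  refine ⟨i, hi, j, hj, ?_⟩
  have : Nat.shiftLeft 1 (dc i j) = 1 <<< dc i j := rfl
  rw [this, Nat.one_shiftLeft, Nat.testBit_two_pow] at h2
  simpa using h2

theorem δ_pt {i j : ℕ} (hi : i < 24) (hj : j < 24) : δ (pt i) (pt j) = vv (dc i j) := by
  rw [δ, ix_pt hi, ix_pt hj]

theorem code_cases {m : ℕ} (h : m < 2048) : m = 0 ∨ SX.testBit m = true ∨ ∃ i < 24, ∃ j < i, dc i j = m := by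
  have k : Nat.lor 1 (Nat.lor SX DU) = 2 ^ 2048 - 1 := by decide +kernel
  have h1 : (Nat.lor 1 (Nat.lor SX DU)).testBit m = true := by
    rw [k, Nat.testBit_two_pow_sub_one]; simpa using h
  simp only [lor_eq, Nat.testBit_or, Bool.or_eq_true, Nat.testBit_one_eq_true_iff_self_eq_zero] at h1
  exact h1.imp id fun h2 => h2.imp id duad_of_DU

theorem V_cases {v : G} (hv : v ∈ V) : v = 1 ∨ (∃ n : Nb, φ n * s' * (φ n)⁻¹ = v) ∨
    ∃ p q, p ≠ q ∧ δ p q = v := by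
  obtain ⟨m, hm, rfl⟩ := exists_vv hv
  rcases code_cases hm with rfl | h | ⟨i, hi, j, hj, rfl⟩
  · exact Or.inl vv_zero
  · exact Or.inr (Or.inl (conj_of_SX h))
  · exact Or.inr (Or.inr ⟨pt i, pt j, fun h => hj.ne' (pt_inj hi (hj.trans hi) h), δ_pt hi (hj.trans hi)⟩)

theorem pt01 : pt 0 ≠ pt 1 := by decide

theorem conj_w0 {p q : GolayPt} (h : p ≠ q) : ∃ n : Nb, φ n * w0 * (φ n)⁻¹ = δ p q := by
  obtain ⟨n, rfl, rfl⟩ := Nb_trans2 pt01 h
  exact ⟨n, conj_δ n _ _⟩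

theorem dc_ne : ∀ i < 24, ∀ j < 24, i ≠ j → dc i j ≠ 0 := by decide +kernel

theorem δ_ne {p q : GolayPt} (h : p ≠ q) : δ p q ≠ 1 := fun h1 =>
  dc_ne _ (ix_lt p) _ (ix_lt q) (fun h2 => h (ix_inj h2))
    (vv_inj (dc_lt _ _) (by norm_num) (h1.trans vv_zero.symm))

theorem V_sq {v : G} (hv : v ∈ V) : v * v = 1 := by
  obtain ⟨m, -, rfl⟩ := exists_vv hv
  exact vv_sq m

theorem ord_s : orderOf s' = 2 := orderOf_eq_prime (by rw [sq, ss]) s'_ne
theorem ord_w : orderOf w0 = 2 := orderOf_eq_prime (by rw [sq]; exact V_sq (δ_mem _ _)) (δ_ne pt01)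

theorem card_cent_conj {Γ : Type*} [Group Γ] {a b : Γ} (h : IsConj a b) :
    Nat.card (centralizer {a}) = Nat.card (centralizer {b}) := by
  obtain ⟨c, rfl⟩ := isConj_iff.1 h
  refine Nat.card_congr ((MulAut.conj c).toEquiv.subtypeEquiv fun g => ?_)
  simp only [mem_centralizer_singleton_iff, MulEquiv.toEquiv_eq_coe, EquivLike.coe_coe, MulAut.conj_apply]
  refine ⟨fun h => ?_, fun h => ?_⟩
  · calc c * g * c⁻¹ * (c * a * c⁻¹) = c * (g * a) * c⁻¹ := by group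
      _ = _ := by rw [h]; group
  · calc g * a = c⁻¹ * (c * g * c⁻¹ * (c * a * c⁻¹)) * c := by group
      _ = _ := by rw [h]; group

theorem not_conj : ¬ IsConj s' w0 := fun h => by
  classical
  have h1 := card_cent_conj h
  have h2 := card_inf_mul (z := w0) N_le_HH
  rw [inf_eq_left.2 (show centralizer {w0} ≤ HH from cent_δ pt01), ← h1, card_H0, card_HH] at h2
  have h3 : ((Finset.range 24).image fun j => vv (if j = 0 then dc 1 2 else dc 0 j)) ⊆ JL.cl φ.range w0 := by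
    intro v hv
    obtain ⟨j, hj, rfl⟩ := Finset.mem_image.1 hv
    have hj' := Finset.mem_range.1 hj
    split_ifs with h0
    · obtain ⟨n, hn⟩ := conj_w0 (p := pt 1) (q := pt 2) (by decide)
      exact mem_cl.2 ⟨_, ⟨n, rfl⟩, hn.trans (δ_pt (by norm_num) (by norm_num))⟩
    · obtain ⟨n, hn⟩ := conj_w0 (p := pt 0) (q := pt j) fun h => h0 (pt_inj (by norm_num) hj' h).symm
      exact mem_cl.2 ⟨_, ⟨n, rfl⟩, hn.trans (δ_pt (by norm_num) hj')⟩
  have h4 := Finset.card_le_card h3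
  rw [Finset.card_image_of_injOn fun i hi j hj h => (by decide +kernel : ∀ i < 24, ∀ j < 24,
    (if i = 0 then dc 1 2 else dc 0 i) = (if j = 0 then dc 1 2 else dc 0 j) → i = j) i (by simpa using hi) j
      (by simpa using hj) (vv_inj (by split_ifs <;> exact dc_lt _ _) (by split_ifs <;> exact dc_lt _ _) h),
    Finset.card_range] at h4
  have := Nat.mul_le_mul_left 21799895040 h4
  omega

/-- A `2`-subgroup is conjugate to a subgroup of any subgroup of odd index. -/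
theorem conj_into {Γ : Type*} [Group Γ] [Finite Γ] {H U : Subgroup Γ} (hH : ¬ 2 ∣ H.index)
    (hU : IsPGroup 2 U) : ∃ g : Γ, ∀ u ∈ U, g⁻¹ * u * g ∈ H := by
  obtain ⟨c, hc⟩ := hU.nonempty_fixed_point_of_prime_not_dvd_card (Γ ⧸ H) hH
  obtain ⟨g, rfl⟩ := QuotientGroup.mk_surjective c
  refine ⟨g, fun u hu => ?_⟩
  have := QuotientGroup.eq.1 (show ((g : Γ) : Γ ⧸ H) = ((u * g : Γ) : Γ ⧸ H) from (hc ⟨u, hu⟩).symm)
  rwa [← mul_assoc] at this

theorem lin_lt11 {A : List ℕ} (hA : ∀ a ∈ A, a < 2048) (m : ℕ) : lin A m < 2048 :=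
  lin_induction (· < 2 ^ 11) (by norm_num) (fun _ _ => Nat.xor_lt_two_pow) A hA m

theorem ovr {w A : List ℕ} {cs : List (ℕ × List ℕ × ℕ)} (hA : chkA lZ w (invW (ivOf ivZ) w) A = true)
    (hA' : ∀ a ∈ A, a < 2048)
    (hc : Q.chkEq lZ (cs.map fun c => (c.2.1 ++ (mw taus c.1 ++ (w ++ invW (ivOf ivZ) c.2.1)),
      mw taus c.2.2)) = true)
    (hS : (seqN (orbGo (fun g y => Nat.xor y (Nat.xor g (lin A g))) (fun y => y)
      [1, 2, 4, 8, 16, 32, 64, 128, 256, 512, 1024] 4096 (cs.map fun c => c.1) 0) fun S =>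
        treeAll (fun a => im (Nat.beq (lin A a) a) (S.testBit a)) 11 0) = true)
    {v : G} (hv : v ∈ V) (h : v * ev eZ w * v = ev eZ w) : ∃ u ∈ V, IsConj (v * ev eZ w) u := by
  have k := conj_vv hmZ (fun _ _ => rfl) (ev_invW hivZ w) hA
  obtain ⟨a, ha, rfl⟩ := exists_vv hv
  have h1 : lin A a = a := vv_inj (lin_lt11 hA' a) ha (by
    rw [← k, ← mul_right_inj (vv a), vv_sq, ← mul_assoc, ← mul_assoc, h, mul_inv_cancel])
  rw [seqN_eq] at hS
  obtain ⟨y, h2, rfl⟩ := orbGo_sound _ _ _ (fun y => ∃ u ∈ V, IsConj (vv y * ev eZ w) u)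
    (fun g _ y ⟨u, hu, h3⟩ => ⟨u, hu, IsConj.trans (isConj_iff.2 ⟨vv g, by
      rw [xor_eq, xor_eq, vv_xor, vv_xor, ← k, inv_eq_of_mul_eq_one_right (vv_sq g)]
      calc vv g * (vv y * (vv g * (ev eZ w * vv g * (ev eZ w)⁻¹)) * ev eZ w) * vv g
          = (vv g * vv y) * vv g * ev eZ w * (vv g * vv g) := by group
        _ = _ := by rw [vv_comm g y, vv_sq, mul_assoc (vv y), vv_sq]; group⟩) h3⟩) _ _ 0
    (fun y hy => by
      obtain ⟨c, hc', rfl⟩ := List.mem_map.1 hy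
      have := hmZ.eqs Q_ok val_inj hc _ (List.mem_map.2 ⟨c, hc', rfl⟩)
      simp only [ev_append, ev_invW hivZ] at this
      exact ⟨_, vv_mem c.2.2, isConj_iff.2 ⟨ev eZ c.2.1, by rw [vv, vv, ← this]; group⟩⟩)
    (by simp) a (im_true.1 ((treeAll_iff _ _).1 hS a ha) (H29.beq_true.2 h1))
  exact h2

theorem over0 {v : G} (hv : v ∈ V) (h : v * ev eZ [0] * v = ev eZ [0]) : ∃ u ∈ V, IsConj (v * ev eZ [0]) u :=
  ovr (A := Ax) (cs := [(0, [3, 32, 36, 38, 46, 2, 0, 2, 0, 1, 0, 2, 0, 1, 0, 1, 0, 2, 0, 1, 0, 1, 3, 32, 2, 0, 1, 0, 2], 213), (8, [3, 34, 36, 38, 2, 0, 1, 0, 2], 1648)])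
    (by decide +kernel) (by decide) (by decide +kernel) (by decide +kernel) hv h

theorem over8 {v : G} (hv : v ∈ V) (h : v * ev eZ w8 * v = ev eZ w8) : ∃ u ∈ V, IsConj (v * ev eZ w8) u :=
  ovr (A := [2019, 1847, 1839, 8, 14, 40, 1899, 73, 264, 1341, 1002])
    (cs := [(0, [3, 34, 40, 46, 1, 0, 2, 0, 1, 0, 1], 25), (68, [3, 40, 1, 0, 2, 0, 1, 0, 2, 0, 1, 0, 2], 24), (288, [3, 32, 36, 46, 1, 0, 2, 0, 2, 0, 1, 0, 2, 0, 1, 0, 2, 0, 1, 0, 2, 0, 1, 0, 2], 1718), (356, [3, 32, 1, 0, 1, 0, 2, 0, 1, 0, 1, 0, 1, 0, 2, 0, 2, 0, 1, 0, 1], 1738), (546, [3, 32, 34, 40, 1, 0, 2, 0, 1, 0, 1], 24), (614, [3, 32, 34, 1, 0, 2, 0, 1, 0, 2, 0, 2, 0, 2], 24), (770, [3, 32, 1, 0, 2, 0, 2, 0, 1, 0, 2, 0, 1, 0, 2, 0, 1, 0, 1], 1718), (838, [3, 32, 34, 46, 2, 0, 1, 0, 1, 0, 2, 0, 2, 0, 1, 0, 2, 0, 2, 0, 1, 0, 2, 0, 1, 0, 1, 0, 1], 1548)])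
    (by decide +kernel) (by decide) (by decide +kernel) (by decide +kernel) hv h

theorem decomp {g : G} (hg : g ∈ HH) : ∃ v ∈ V, ∃ m : Nb, v * φ m = g := by
  obtain ⟨v, hv, _, ⟨m, rfl⟩, h⟩ := JL.exists_mul hvn.norm (HH_sup ▸ hg)
  exact ⟨v, hv, m, h⟩

theorem φ_mem (m : Nb) : φ m ∈ HH := N_le_HH ⟨m, rfl⟩

theorem eq_one_of_V {m : Nb} (h : φ m ∈ V) : m = 1 :=
  φ_inj ((mem_bot.1 (hvn.inf_eq ▸ (⟨h, m, rfl⟩ : φ m ∈ V ⊓ φ.range))).trans (map_one φ).symm)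

/-- Every involution is conjugate to an element of `V`. -/
theorem conj_V {u : G} (hu : u * u = 1) : ∃ v ∈ V, IsConj u v := by
  obtain ⟨g, hg⟩ := conj_into (H := HH) (by rw [index_HH]; norm_num) (pg_zpowers (g := u) (by rw [sq, hu]))
  obtain ⟨v, hv, m, h⟩ := decomp (hg u (mem_zpowers u))
  have c1 : IsConj u (v * φ m) := isConj_iff.2 ⟨g⁻¹, by rw [h, inv_inv]⟩
  have h1 : v * φ m * (v * φ m) = 1 := by
    rw [h, show g⁻¹ * u * g * (g⁻¹ * u * g) = g⁻¹ * (u * u) * g by group, hu]; group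
  have h2 : m * m = 1 := eq_one_of_V (by
    have := inv_mem (mul_mem hv (conj_mem_V (φ_mem m) hv))
    convert this using 1
    rw [map_mul, eq_inv_iff_mul_eq_one, ← mul_eq_one_comm, ← h1]; group)
  by_cases h3 : m = 1
  · exact ⟨v, hv, by simpa [h3] using c1⟩
  obtain ⟨n, hn⟩ := inv_Nb h2 h3
  have key : ∀ w : List ℕ, (∀ c ∈ w, c ∈ [0, 1, 2]) → n * nb w * n⁻¹ = m →
      (∀ {v : G}, v ∈ V → v * ev eZ w * v = ev eZ w → ∃ u ∈ V, IsConj (v * ev eZ w) u) →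
      ∃ v ∈ V, IsConj u v := fun w hw e H => by
    have e' : ev eZ w = (φ n)⁻¹ * φ m * φ n := by rw [← φ_nb hw, ← e]; simp [mul_assoc]
    have h4 : φ m * φ m = 1 := by rw [← map_mul, h2, map_one]
    obtain ⟨a, ha, h5⟩ := H (v := (φ n)⁻¹ * v * (φ n)⁻¹⁻¹) (conj_mem_V (inv_mem (φ_mem n)) hv) (by
      rw [e']
      calc _ = (φ n)⁻¹ * (v * φ m * (v * φ m)) * φ m * (φ m * φ m)⁻¹ * φ n := by group
        _ = _ := by rw [h1, h4]; group)
    exact ⟨a, ha, c1.trans (IsConj.trans (isConj_iff.2 ⟨(φ n)⁻¹, by rw [e']; group⟩) h5)⟩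
  rcases hn with hn | hn
  · exact key _ (by decide) hn over0
  · exact key _ (by decide) hn over8

theorem inv_cases {u : G} (hu : u * u = 1) (h1 : u ≠ 1) : IsConj u s' ∨ IsConj u w0 := by
  obtain ⟨v, hv, h⟩ := conj_V hu
  rcases V_cases hv with rfl | ⟨n, rfl⟩ | ⟨p, q, h2, rfl⟩
  · exact absurd (isConj_one_right.1 h.symm) h1
  · exact Or.inl (h.trans (isConj_iff.2 ⟨_, rfl⟩).symm)
  · obtain ⟨n, hn⟩ := conj_w0 h2
    exact Or.inr (h.trans (isConj_iff.2 ⟨_, hn⟩).symm)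

end H11.J4R
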