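import Mathlib
import Cfsg.Agent.H11.JC1

/-!
# Automorphisms of `V` that permute the duads
-/

set_option autoImplicit false
set_option maxRecDepth 100000
set_option Elab.async false
set_option linter.all false

namespace H11.J4R

open Cfsg H29 H9 H9.DC H9.J4 H9.JL H9.R Subgroup
open scoped symmDiff Pointwise

noncomputable def cz : List (ℕ × ℕ) := (List.range 24).map fun i => (i, nth 0 cc i)

theorem quad0 : (seqN DU fun D => H29.allL cz fun a => H29.allL cz fun b => seqN (Nat.xor a.2 b.2) fun x =>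
    ou (Nat.beq a.1 b.1) (H29.allL cz fun c => H29.allL cz fun d => seqN (Nat.xor x (Nat.xor c.2 d.2)) fun y =>
      and2 (im (Nat.beq y 0) (ou (and2 (Nat.beq a.1 c.1) (Nat.beq b.1 d.1))
        (and2 (Nat.beq a.1 d.1) (Nat.beq b.1 c.1))))
      (im (tb D y) (ou (ou (Nat.beq c.1 d.1) (ou (Nat.beq a.1 c.1) (Nat.beq a.1 d.1)))
        (ou (Nat.beq b.1 c.1) (Nat.beq b.1 d.1)))))) = true := by decide +kernel

theorem quad {p q r s : GolayPt} (h : p ≠ q) :
    (dc (ix p) (ix q) = dc (ix r) (ix s) → p = r ∧ q = s ∨ p = s ∧ q = r) ∧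
    (DU.testBit (dc (ix p) (ix q) ^^^ dc (ix r) (ix s)) = true → (r = s ∨ p = r ∨ p = s) ∨ q = r ∨ q = s) := by
  have m : ∀ p : GolayPt, (ix p, nth 0 cc (ix p)) ∈ cz := fun p =>
    List.mem_map.2 ⟨_, List.mem_range.2 (ix_lt p), rfl⟩
  have e : ∀ p q : GolayPt, ix p = ix q ↔ p = q := fun p q => ⟨ix_inj, congrArg ix⟩
  have k := quad0
  simp only [seqN_eq, allL_true, ou_true, and2_true, im_true, H29.beq_true, tb_eq] at k
  have k1 := (k _ (m p) _ (m q)).resolve_left (fun h1 => h (ix_inj h1)) _ (m r) _ (m s)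
  simp only [e] at k1
  exact ⟨fun h1 => k1.1 (by
    show dc (ix p) (ix q) ^^^ dc (ix r) (ix s) = 0
    rw [h1, Nat.xor_self]), k1.2⟩

theorem δ_inj {p q r s : GolayPt} (h : p ≠ q) (h1 : δ p q = δ r s) : p = r ∧ q = s ∨ p = s ∧ q = r :=
  (quad h).1 (vv_inj (dc_lt _ _) (dc_lt _ _) h1)

theorem DU_dc {p q : GolayPt} (h : p ≠ q) : DU.testBit (dc (ix p) (ix q)) = true :=
  (by decide +kernel : ∀ i < 24, ∀ j < 24, i ≠ j → DU.testBit (dc i j) = true) _ (ix_lt p) _ (ix_lt q)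
    fun h1 => h (ix_inj h1)

theorem δ_meet {p q r s a b : GolayPt} (h : p ≠ q) (h' : r ≠ s) (hab : a ≠ b) (h1 : δ p q * δ r s = δ a b) :
    (p = r ∨ p = s) ∨ q = r ∨ q = s := by
  rw [δ, δ, ← vv_xor] at h1
  have := vv_inj (Nat.xor_lt_two_pow (n := 11) (dc_lt _ _) (dc_lt _ _)) (dc_lt _ _) h1
  exact ((quad h).2 (this ▸ DU_dc hab)).imp_left fun h2 => h2.resolve_left h'

theorem faith' (m : Nb) (h : ∀ v ∈ V, φ m * v = v * φ m) : m = 1 := by
  refine Subtype.ext (Equiv.ext fun p => ?_)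
  have k : ∀ q, p ≠ q → m.1 p = p ∨ m.1 p = q := fun q hq => by
    have := conj_δ m p q
    rw [h _ (δ_mem p q), mul_inv_cancel_right] at this
    exact (δ_inj hq this).imp (·.1.symm) (·.2.symm)
  obtain ⟨q, r, h1, h2, h3⟩ : ∃ q r, p ≠ q ∧ p ≠ r ∧ q ≠ r := by clear k; revert p; decide
  exact (k q h1).elim id fun h4 => (k r h2).resolve_right fun h5 => h3 (h4.symm.trans h5)

/-- The syndromes of the points, in the coordinates of the Golay code. -/
def c3 : List ℕ := [2048, 2488, 3725, 3892, 3672, 3025, 3344, 2194, 2781, 2905, 2345, 2651, 4066, 3342, 3483,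
  2840, 3350, 2861, 3383, 3282, 2875, 2819, 3091, 3430]

theorem mem_GC_of_syn {N : ℕ} (hN : N < 2 ^ 24) (h : lin c3 N = 0) : ofMask N ∈ GC := by
  have h1 : lin c3 (cw N) = 0 := by
    rw [← cw_mod, (cw_facts (Nat.mod_lt _ (by norm_num))).1]
    exact lin_induction (fun a => lin c3 a = 0) rfl (fun a b ha hb => by rw [lin_xor, ha, hb]; rfl) _
      (by decide +kernel) _
  have h2 : (N ^^^ cw N) % 2 ^ 12 = 0 := by
    rw [Nat.xor_mod_two_pow, show cw N % 2 ^ 12 = N % 2 ^ 12 from cw_mod_self N, Nat.xor_self]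
  have h3 : N ^^^ cw N < 2 ^ 24 := Nat.xor_lt_two_pow hN (cw_lt N)
  have h4 := (treeAll_iff _ _).1 (show treeAll (fun k => im (Nat.beq (lin c3 (4096 * k)) 0) (Nat.beq k 0)) 12 0
    = true by decide +kernel) ((N ^^^ cw N) / 4096) (by omega)
  rw [im_true, H29.beq_true, H29.beq_true, show 4096 * ((N ^^^ cw N) / 4096) = N ^^^ cw N by omega,
    lin_xor, h, h1] at h4
  have h5 : N ^^^ cw N = 0 := by have := h4 rfl; omega
  rw [Nat.xor_eq_zero_iff.1 h5]
  exact cw_mem_GC N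

/-- The symmetric difference of a list of pairs. -/
def xs : List (GolayPt × GolayPt) → Finset GolayPt
  | [] => ∅
  | a :: l => ({a.1} ∆ {a.2}) ∆ xs l

/-- The product of the duads of a list. -/
noncomputable def xv : List (GolayPt × GolayPt) → G
  | [] => 1
  | a :: l => δ a.1 a.2 * xv l

/-- The mask of a list of pairs. -/
def xm : List (GolayPt × GolayPt) → ℕ
  | [] => 0
  | a :: l => (2 ^ dig pc0 (ix a.1) ^^^ 2 ^ dig pc0 (ix a.2)) ^^^ xm l

theorem smul_xs (g : Equiv.Perm GolayPt) : ∀ l, g • xs l = xs (l.map (Prod.map g g))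
  | [] => Finset.smul_finset_empty g
  | a :: l => by
    rw [xs, smul_symmDiff', smul_symmDiff', smul_xs g l, Finset.smul_finset_singleton,
      Finset.smul_finset_singleton]; rfl

theorem xm_spec : ∀ l, xm l < 2 ^ 24 ∧ pm pc0 • xs l = ofMask (xm l) ∧ lin c3 (xm l) < 2048 ∧
    xv l = vv (lin c3 (xm l))
  | [] => ⟨by decide, (Finset.smul_finset_empty _).trans ofMask_zero.symm, by decide, vv_zero.symm⟩
  | a :: l => by
    obtain ⟨h1, h2, h3, h4⟩ := xm_spec l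
    have k : ∀ p : GolayPt, dig pc0 (ix p) < 24 := fun p => dig_lt v_pc0 (ix_lt p)
    have k1 : lin c3 (2 ^ dig pc0 (ix a.1) ^^^ 2 ^ dig pc0 (ix a.2)) = dc (ix a.1) (ix a.2) :=
      (by decide +kernel : ∀ i < 24, ∀ j < 24, lin c3 (2 ^ dig pc0 i ^^^ 2 ^ dig pc0 j) = dc i j) _
        (ix_lt _) _ (ix_lt _)
    rw [xm, lin_xor, k1, vv_xor, ← h4]
    refine ⟨Nat.xor_lt_two_pow (Nat.xor_lt_two_pow (Nat.pow_lt_pow_right one_lt_two (k _))
      (Nat.pow_lt_pow_right one_lt_two (k _))) h1, ?_, Nat.xor_lt_two_pow (n := 11) (dc_lt _ _) h3, rfl⟩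
    rw [xs, smul_symmDiff', smul_symmDiff', h2, ofMask_xor, ofMask_xor, ofMask_two_pow (k _),
      ofMask_two_pow (k _), Finset.smul_finset_singleton, Finset.smul_finset_singleton,
      ← pm_apply v_pc0, ← pm_apply v_pc0]; rfl

def basP : List (List (ℕ × ℕ)) := [[(0, 6), (11, 23), (10, 17), (12, 9)], [(1, 6), (18, 11), (21, 23), (20, 12)], [(2, 6), (18, 21), (17, 16), (12, 9)], [(3, 6), (18, 10), (17, 20), (19, 12)], [(4, 6), (18, 23), (10, 20), (16, 9)], [(8, 18), (11, 10), (17, 16), (19, 9)], [(13, 11), (21, 17), (20, 19), (12, 9)], [(5, 6), (11, 21), (10, 17), (20, 16)], [(22, 18), (21, 23), (17, 20), (16, 19)], [(15, 11), (23, 10), (20, 16), (19, 12)], [(7, 6), (11, 21), (23, 16), (19, 9)], [(14, 18), (21, 23), (10, 19), (12, 9)]]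

/-- A permutation of the points that comes from an injective multiplicative map lies in `Nb`. -/
theorem mem_Nb_of {Γ : Type*} [Group Γ] (f f' : V →* Γ) (hf : Function.Injective f') {σ : Equiv.Perm GolayPt}
    (h : ∀ p q, f ⟨δ p q, δ_mem p q⟩ = f' ⟨δ (σ p) (σ q), δ_mem _ _⟩) : σ ∈ Nb := by
  have m : ∀ l, xv l ∈ V := fun l => (xm_spec l).2.2.2 ▸ vv_mem _
  have k : ∀ l, f ⟨xv l, m l⟩ = f' ⟨xv (l.map (Prod.map σ σ)), m _⟩ := fun l => by
    induction l with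
    | nil => exact (map_one f).trans (map_one f').symm
    | cons a l ih =>
      have e := map_mul f ⟨_, δ_mem a.1 a.2⟩ ⟨_, m l⟩
      rw [h, ih, ← map_mul f'] at e
      exact e
  refine mem_Nb.2 (mem_M24_of_basis fun b hb => ?_)
  obtain ⟨l, -, h1, h2⟩ := (by decide +kernel : ∀ b ∈ basL, ∃ l ∈ basP,
    xm (l.map (Prod.map pt pt)) = b ∧ lin c3 b = 0) b hb
  generalize l.map (Prod.map pt pt) = l at h1
  obtain ⟨-, a1, -, a2⟩ := xm_spec l
  obtain ⟨b0, b1, b2, b3⟩ := xm_spec (l.map (Prod.map σ σ))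
  rw [h1, h2, vv_zero] at a2
  have h3 := k l
  rw [show (⟨xv l, m l⟩ : V) = 1 from Subtype.ext a2, map_one, eq_comm, map_eq_one_iff _ hf] at h3
  rw [← h1, ← a1, mul_smul, mul_smul, inv_smul_smul, smul_xs, b1]
  exact mem_GC_of_syn b0 (vv_inj b2 (by norm_num) (b3.symm.trans ((congrArg Subtype.val h3).trans vv_zero.symm)))

theorem V_ind {P : ℕ → Prop} (h0 : P 0) (hx : ∀ a b, P a → P b → P (a ^^^ b))
    (h : ∀ j < 24, P (dc 0 j)) {m : ℕ} (hm : m < 2048) : P m := by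
  have := (treeAll_iff _ _).1 (show treeAll (fun m => Nat.beq (lin cc (lin [14, 82, 1064964, 4325440, 20496,
    4416, 524576, 786436, 655368, 536576, 1573120] m)) m) 11 0 = true by decide +kernel) m hm
  rw [← H29.beq_true.1 this]
  refine lin_induction P h0 hx cc (fun b hb => ?_) _
  obtain ⟨j, hj, rfl⟩ := (by decide +kernel : ∀ b ∈ cc, ∃ j < 24, dc 0 j = b) b hb
  exact h j hj

theorem hom_ext {Γ : Type*} [Group Γ] {f f' : V →* Γ}
    (h : ∀ p q, f ⟨δ p q, δ_mem p q⟩ = f' ⟨δ p q, δ_mem p q⟩) : f = f' := by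
  ext ⟨v, hv⟩
  obtain ⟨m, hm, rfl⟩ := exists_vv hv
  refine V_ind (P := fun m => f ⟨vv m, vv_mem m⟩ = f' ⟨vv m, vv_mem m⟩) ?_ (fun a b ha hb => ?_)
    (fun j hj => ?_) hm
  · rw [show (⟨vv 0, vv_mem 0⟩ : V) = 1 from Subtype.ext vv_zero, map_one, map_one]
  · rw [show (⟨vv (a ^^^ b), vv_mem _⟩ : V) = ⟨vv a, vv_mem a⟩ * ⟨vv b, vv_mem b⟩ from
      Subtype.ext (vv_xor a b), map_mul, map_mul, ha, hb]
  · have := h (pt 0) (pt j)
    simp only [δ_pt (show 0 < 24 by norm_num) hj] at this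
    exact this

/-- Conjugation by an element of `HH`, as a map on `V`. -/
def cj (g : G) (hg : g ∈ HH) : V →* V where
  toFun v := ⟨g * v * g⁻¹, conj_mem_V hg v.2⟩
  map_one' := Subtype.ext (by simp)
  map_mul' a b := Subtype.ext (by simp [mul_assoc])

theorem star' {Γ : Type*} [Group Γ] (υ : V →* Γ) (hυ : Function.Injective υ) (n : Γ)
    (hD : ∀ p q, p ≠ q → ∃ p' q', n * υ ⟨δ p q, δ_mem p q⟩ * n⁻¹ = υ ⟨δ p' q', δ_mem p' q'⟩) :
    ∃ m : Nb, ∀ v v' : V, φ m * v * (φ m)⁻¹ = v' → n * υ v * n⁻¹ = υ v' := by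
  let f : V →* Γ := (MulAut.conj n).toMonoidHom.comp υ
  have hf : Function.Injective f := (MulAut.conj n).injective.comp hυ
  let d : GolayPt → GolayPt → V := fun p q => ⟨δ p q, δ_mem p q⟩
  have dm : ∀ p q r, d p q * d q r = d p r := fun p q r => Subtype.ext (δ_mul p q r)
  have dc : ∀ p q, d p q = d q p := fun p q => Subtype.ext (δ_comm p q)
  have d1 : ∀ p, d p p = 1 := fun p => Subtype.ext (δ_self p)
  change ∀ p q, p ≠ q → ∃ p' q', f (d p q) = υ (d p' q') at hD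
  have ne : ∀ {p q a b}, p ≠ q → f (d p q) = υ (d a b) → a ≠ b := fun h h1 h2 => by
    rw [h2, d1, map_one, map_eq_one_iff _ hf] at h1
    exact δ_ne h (congrArg Subtype.val h1)
  have meet : ∀ {p q r a b c e}, p ≠ q → p ≠ r → q ≠ r → f (d p q) = υ (d a b) → f (d p r) = υ (d c e) →
      (a = c ∨ a = e) ∨ b = c ∨ b = e := fun {p q r a b c e} h1 h2 h3 k1 k2 => by
    obtain ⟨x, y, k3⟩ := hD q r h3
    refine δ_meet (ne h1 k1) (ne h2 k2) (ne h3 k3) (congrArg Subtype.val (hυ (?_ : υ (d a b * d c e) = υ (d x y))))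
    rw [map_mul, ← k1, ← k2, ← k3, ← map_mul, dc p q, dm]
  obtain ⟨a, b, c, k1, k2⟩ : ∃ a b c, f (d (pt 0) (pt 1)) = υ (d a b) ∧ f (d (pt 0) (pt 2)) = υ (d a c) := by
    obtain ⟨a, b, k1⟩ := hD (pt 0) (pt 1) (by decide)
    obtain ⟨c, e, k2⟩ := hD (pt 0) (pt 2) (by decide)
    rcases meet (by decide) (by decide) (by decide) k1 k2 with (rfl | rfl) | rfl | rfl
    · exact ⟨_, _, _, k1, k2⟩
    · exact ⟨_, _, _, k1, k2.trans (congrArg υ (dc _ _))⟩
    · exact ⟨_, _, _, k1.trans (congrArg υ (dc _ _)), k2⟩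
    · exact ⟨_, _, _, k1.trans (congrArg υ (dc _ _)), k2.trans (congrArg υ (dc _ _))⟩
  have k3 : f (d (pt 1) (pt 2)) = υ (d b c) := by
    rw [← dm _ (pt 0), ← dm b a, map_mul, map_mul, k2, dc (pt 1), k1, dc b]
  have key : ∀ q, ∃ y, f (d (pt 0) q) = υ (d a y) := fun q => by
    by_cases q0 : pt 0 = q
    · exact ⟨a, by rw [← q0, d1, d1, map_one, map_one]⟩
    by_cases q1 : pt 1 = q
    · exact ⟨b, q1 ▸ k1⟩
    by_cases q2 : pt 2 = q
    · exact ⟨c, q2 ▸ k2⟩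
    obtain ⟨x, y, k4⟩ := hD _ q q0
    by_cases hx : a = x
    · exact ⟨y, hx ▸ k4⟩
    by_cases hy : a = y
    · exact ⟨x, hy ▸ dc x y ▸ k4⟩
    exfalso
    have h1 := (meet (by decide) q0 q1 k1 k4).resolve_left (not_or.2 ⟨hx, hy⟩)
    have h2 := (meet (by decide) q0 q2 k2 k4).resolve_left (not_or.2 ⟨hx, hy⟩)
    have h3 := ne (by decide) k3
    have h4 : d x y = d b c := by
      rcases h1 with rfl | rfl <;> rcases h2 with rfl | rfl
      exacts [absurd rfl h3, rfl, dc _ _, absurd rfl h3]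
    rw [h4, ← k3] at k4
    rcases δ_inj q0 (congrArg Subtype.val (hf k4)) with h | h <;> exact absurd h.1 (by decide)
  choose s hs using key
  have k5 : ∀ p q, f (d p q) = υ (d (s p) (s q)) := fun p q => by
    rw [← dm _ (pt 0), ← dm (s p) a, map_mul, map_mul, hs, dc p, hs, dc a]
  have si : Function.Injective s := fun p q h => by
    by_contra h1
    exact ne h1 (k5 p q) h
  let σ : Equiv.Perm GolayPt := Equiv.ofBijective s (Finite.injective_iff_bijective.1 si)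
  have hσ : σ ∈ Nb := mem_Nb_of f υ hυ k5
  refine ⟨⟨σ, hσ⟩, fun v v' h => ?_⟩
  have := DFunLike.congr_fun (hom_ext (f := f) (f' := υ.comp (cj _ (φ_mem ⟨σ, hσ⟩))) fun p q =>
    (k5 p q).trans (congrArg υ (Subtype.ext (conj_δ ⟨σ, hσ⟩ p q).symm))) v
  exact this.trans (congrArg υ (Subtype.ext h))

end H11.J4R
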