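import Mathlib
import Cfsg.Agent.H11.JS1
import Cfsg.Agent.S0051

/-!
# The normaliser of `V` in a group with the centraliser of `J₄`
-/

set_option autoImplicit false
set_option maxRecDepth 100000
set_option Elab.async false
set_option linter.all false

namespace H11.J4R

open Cfsg H29 H9 H9.DC H9.J4 H9.JL H9.R Subgroup

/-- The element of `V` with a given code. -/
noncomputable def vV (m : ℕ) : V := ⟨vv m, vv_mem m⟩
theorem vV_xor (a b : ℕ) : vV (a ^^^ b) = vV a * vV b := Subtype.ext (vv_xor a b)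
theorem vV_zero : vV 0 = 1 := Subtype.ext vv_zero
theorem V_comm (a b : V) : a * b = b * a := Subtype.ext (hvn.comm _ a.2 _ b.2)
theorem V_mul_self (a : V) : a * a = 1 := Subtype.ext (V_sq a.2)

section
variable {Γ : Type*} [Group Γ] {υ : V →* Γ}

/-- The element `n` acts on the image of `V` as `m` acts on `V`. -/
def Act (υ : V →* Γ) (n : Γ) (m : Nb) : Prop := ∀ v : V, n * υ v * n⁻¹ = υ (cj (φ m) (φ_mem m) v)

theorem Act.uniq (hυ : Function.Injective υ) {n : Γ} {m m' : Nb} (h : Act υ n m) (h' : Act υ n m') :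
    m = m' := by
  refine (inv_mul_eq_one.1 (faith' _ fun v hv => ?_)).symm
  have : φ m * v * (φ m)⁻¹ = φ m' * v * (φ m')⁻¹ :=
    congrArg Subtype.val (hυ ((h ⟨v, hv⟩).symm.trans (h' ⟨v, hv⟩)))
  rw [map_mul, map_inv]
  calc _ = (φ m')⁻¹ * (φ m * v * (φ m)⁻¹) * φ m := by group
    _ = _ := by rw [this]; group

theorem Act.mul {n n' : Γ} {m m' : Nb} (h : Act υ n m) (h' : Act υ n' m') : Act υ (n * n') (m * m') :=
  fun v => by
    rw [show n * n' * υ v * (n * n')⁻¹ = n * (n' * υ v * n'⁻¹) * n⁻¹ by group, h', h]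
    exact congrArg υ (Subtype.ext (by simp [cj, mul_assoc]))

theorem Act.one_iff {n : Γ} : Act υ n 1 ↔ ∀ v, n * υ v = υ v * n := forall_congr' fun v => by
  rw [show cj (φ 1) (φ_mem 1) v = v from Subtype.ext (by simp [cj]), mul_inv_eq_iff_eq_mul]

theorem act_υ (v : V) : Act υ (υ v) 1 := Act.one_iff.2 fun u => by rw [← map_mul, V_comm, map_mul]

theorem Act.inv {n : Γ} {m : Nb} (h : Act υ n m) : Act υ n⁻¹ m⁻¹ := fun v => by
  have := h (cj (φ m⁻¹) (φ_mem m⁻¹) v)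
  rw [show cj (φ m) (φ_mem m) (cj (φ m⁻¹) (φ_mem m⁻¹) v) = v from Subtype.ext (by simp [cj, mul_assoc])] at this
  rw [← this]; group

theorem Act.swap {n : Γ} {m : Nb} (h : Act υ n m) (v : V) : n * υ v = υ (cj (φ m) (φ_mem m) v) * n := by
  rw [← h, inv_mul_cancel_right]

theorem act_α (α : H0 →* Γ) {h : H0} {m : Nb} (e : φ m = h) : Act (α.comp (inclusion V_le_H0)) (α h) m :=
  fun v => by
    simp only [MonoidHom.comp_apply, ← map_inv, ← map_mul]
    exact congrArg α (Subtype.ext (by simp [cj, e]))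

theorem exists_kappa [Finite Γ] (α : H0 →* Γ) (hα : Function.Injective α)
    (N : Subgroup Γ) (hB : ∀ h : H0, (h : G) ∈ HH → α h ∈ N) (hcard : Nat.card HH ≤ Nat.card N)
    (hact : ∀ n ∈ N, ∃ m : Nb, Act (α.comp (inclusion V_le_H0)) n m)
    (hker : ∀ n ∈ N, Act (α.comp (inclusion V_le_H0)) n 1 → n ∈ (α.comp (inclusion V_le_H0)).range) :
    ∃ κ : Nb →* Γ, ∀ m, κ m ∈ N ∧ Act (α.comp (inclusion V_le_H0)) (κ m) m := by
  set υ := α.comp (inclusion V_le_H0) with hυ0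
  have hυ : Function.Injective υ := hα.comp (inclusion_injective _)
  choose f hf using hact
  let ψ : N →* Nb := MonoidHom.mk' (fun n => f n n.2) fun a b =>
    (hf _ (a * b).2).uniq hυ ((hf _ a.2).mul (hf _ b.2))
  have hψ : ∀ n : N, Act υ n (ψ n) := fun n => hf n n.2
  have h0 : υ.range ≤ N := by rintro _ ⟨v, rfl⟩; exact hB _ (V_le_HH v.2)
  have hK : ψ.ker = υ.range.subgroupOf N := by
    ext n
    refine ⟨fun h => hker _ n.2 (by have := hψ n; rwa [h] at this), ?_⟩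
    rintro ⟨v, hv⟩
    exact (hψ n).uniq hυ ((show υ v = n.1 from hv) ▸ act_υ v)
  have c1 : Nat.card ψ.ker = 2048 := by
    rw [hK, Nat.card_congr (subgroupOfEquivOfLe h0).toEquiv, ← card_V]
    exact (Nat.card_congr (MonoidHom.ofInjective hυ).toEquiv).symm
  have c2 := ψ.ker.card_mul_index
  have c3 : Nat.card ψ.range ≤ Nat.card Nb := card_le_card_group _
  rw [index_ker, c1] at c2
  rw [card_Nb] at c3
  rw [card_HH] at hcard
  have c4 : Nat.card N = 501397585920 := by omega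
  have im : ∀ K : Subgroup G, K ≤ H0 ⊓ HH → (K.subgroupOf H0).map α ≤ N := fun K hK => by
    rintro _ ⟨h, hh, rfl⟩; exact hB h (hK hh).2
  have c5 : Nat.card ((((H0 ⊓ HH).subgroupOf H0).map α).subgroupOf N) = 283115520 := by
    rw [Nat.card_congr (subgroupOfEquivOfLe (im _ le_rfl)).toEquiv, card_map_of_injective hα,
      Nat.card_congr (subgroupOfEquivOfLe inf_le_left).toEquiv, card_B0]
  have c6 := ((((H0 ⊓ HH).subgroupOf H0).map α).subgroupOf N).card_mul_index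
  rw [c5, c4] at c6
  have : IsMulCommutative ψ.ker := ⟨⟨fun a b => by
    obtain ⟨u, hu⟩ := hK.le a.2
    obtain ⟨v, hv⟩ := hK.le b.2
    refine Subtype.ext (Subtype.ext ?_)
    show a.1.1 * b.1.1 = b.1.1 * a.1.1
    change υ u = a.1.1 at hu
    change υ v = b.1.1 at hv
    rw [← hu, ← hv, ← map_mul, V_comm, map_mul]⟩⟩
  have k1 : ψ.ker ≤ (((H0 ⊓ HH).subgroupOf H0).map α).subgroupOf N := by
    rw [hK]
    rintro n ⟨v, hv⟩
    exact ⟨_, ⟨V_le_H0 v.2, V_le_HH v.2⟩, hv⟩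
  obtain ⟨H, hH⟩ := Cfsg.Agent.S0051.result ψ.ker _ k1
    (by rw [c1, show _ = 1771 from (by omega : Subgroup.index _ = 1771)]; norm_num)
    (((S0.subgroupOf H0).map α).subgroupOf N)
    (subgroupOf_mono N (map_mono (subgroupOf_mono H0 (le_sup_right.trans sup_le_B))))
    (eq_bot_iff.2 (by
      rintro n ⟨⟨s, hs, h1⟩, h2⟩
      obtain ⟨v, hv⟩ := hK.le h2
      have h3 : inclusion V_le_H0 v = s := hα (hv.trans h1.symm)
      have h4 : s.1 = 1 := mem_bot.1 (hvn.inf_eq ▸ (⟨h3 ▸ v.2, S0_le hs⟩ : s.1 ∈ V ⊓ φ.range))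
      refine mem_bot.2 (Subtype.ext (h1.symm.trans ?_))
      rw [show s = 1 from Subtype.ext h4, map_one]; rfl))
    (le_antisymm (sup_le k1 (subgroupOf_mono N (map_mono (subgroupOf_mono H0
      (le_sup_right.trans sup_le_B))))) (by
      rintro n ⟨b, hb, h1⟩
      obtain ⟨v, hv, s, hs, h2⟩ := JL.exists_mul (S0_le.trans hvn.norm) (B0_eq.le hb)
      have h3 : n = ⟨υ ⟨v, hv⟩, h0 ⟨_, rfl⟩⟩ * ⟨α ⟨s, S0_le_H0 hs⟩, hB _ (N_le_HH (S0_le hs))⟩ :=
        Subtype.ext (h1.symm.trans ((congrArg α (Subtype.ext h2.symm)).trans (map_mul α _ _)))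
      rw [h3]
      exact mul_mem (mem_sup_left (hK.ge ⟨_, rfl⟩)) (mem_sup_right ⟨_, hs, rfl⟩)))
  have c7 := hH.card_mul
  rw [c1, c4] at c7
  have hb : Function.Bijective (ψ.comp H.subtype) := (Nat.bijective_iff_injective_and_card _).2
    ⟨(injective_iff_map_eq_one _).2 fun a ha => Subtype.ext (mem_bot.1
      (disjoint_iff.1 hH.disjoint ▸ (⟨ha, a.2⟩ : a.1 ∈ ψ.ker ⊓ H))), by rw [card_Nb]; omega⟩
  let e := MulEquiv.ofBijective _ hb
  refine ⟨N.subtype.comp (H.subtype.comp e.symm.toMonoidHom), fun m => ⟨(e.symm m).1.2, ?_⟩⟩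
  have := hψ (e.symm m).1
  rwa [show ψ (e.symm m).1 = m from e.apply_symm_apply m] at this

theorem exists_beta0 {κ : Nb →* Γ} (hκ : ∀ m, Act υ (κ m) m) : ∃ β : HH →* Γ,
    (∀ v : V, β ⟨v, V_le_HH v.2⟩ = υ v) ∧ ∀ m, β ⟨φ m, φ_mem m⟩ = κ m := by
  choose fv hv fm hf using fun h : HH => decomp h.2
  have key : ∀ (h : HH) (v : V) (m : Nb), v * φ m = h → υ ⟨fv h, hv h⟩ * κ (fm h) = υ v * κ m :=
    fun h v m e => by
      have e1 := e.trans (hf h).symm
      have e2 : fm h * m⁻¹ = 1 := eq_one_of_V (by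
        convert mul_mem (inv_mem (hv h)) v.2 using 1
        rw [map_mul, map_inv, eq_inv_mul_iff_mul_eq, ← mul_assoc, ← e1, mul_inv_cancel_right])
      rw [mul_inv_eq_one] at e2
      rw [e2, mul_left_inj] at e1
      rw [e2, show (⟨fv h, hv h⟩ : V) = v from Subtype.ext e1.symm]
  refine ⟨MonoidHom.mk' (fun h => υ ⟨fv h, hv h⟩ * κ (fm h)) fun a b => ?_, fun v => ?_, fun m => ?_⟩
  · rw [key (a * b) (⟨fv a, hv a⟩ * cj (φ (fm a)) (φ_mem _) ⟨fv b, hv b⟩) (fm a * fm b) (by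
      rw [coe_mul, coe_mul, ← hf a, ← hf b]; simp [cj, mul_assoc]), map_mul, map_mul, mul_assoc,
      ← mul_assoc (υ (cj _ _ _)), ← (hκ _).swap]
    group
  · exact (key _ v 1 (by simp)).trans (by simp)
  · exact (key _ 1 m (by simp)).trans (by simp)

end

noncomputable def na : Nb := nb (nth [] sx 0) * nb (nth [] sx 1)
noncomputable def ng : Nb := nb (nth [] sx 1)
noncomputable def ha : H0 := ⟨eZ 52 * eZ 54, mul_mem g1_mem g2_mem⟩
noncomputable def hg : H0 := ⟨eZ 54, g2_mem⟩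
theorem φ_na : φ na = ha := by rw [na, map_mul, ← g1_eq, ← g2_eq]; rfl
theorem φ_ng : φ ng = hg := g2_eq.symm
def Aa : List ℕ := [1, 196, 1751, 407, 947, 1297, 99, 1847, 1736, 1831, 1770]
theorem conj_a (m : ℕ) : φ na * vv m * (φ na)⁻¹ = vv (lin Aa m) := by
  have := conj_vv hmZ (fun _ _ => rfl) (w := [52, 54]) (w' := [55, 53]) (A := Aa)
    (by simp [show eZ 55 = (eZ 54)⁻¹ from hivZ 54, show eZ 53 = (eZ 52)⁻¹ from hivZ 52])
    (by decide +kernel) m
  rw [φ_na]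
  simpa [ha] using this
theorem cj_a (m : ℕ) : cj (φ na) (φ_mem _) (vV m) = vV (lin Aa m) := Subtype.ext (conj_a m)
theorem cj_g (m : ℕ) : cj (φ ng) (φ_mem _) (vV m) = vV (lin A2 m) :=
  Subtype.ext (by have := conj_g2 m; rwa [g2_eq] at this)
def ca : ℕ := 556202026590683783236675276041821317
def cg : ℕ := 297507823897791892168827165355782574
theorem vcc : validP ca = true ∧ validP cg = true := by decide +kernel
theorem na_val : na.1 = pm ca := by
  rw [na, coe_mul, nb_val, nb_val, ← pm_mulP (ev_e1 _).1 (ev_e1 _).1]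
  exact congrArg pm (by decide +kernel)
theorem ng_val : ng.1 = pm cg := (nb_val _).trans (congrArg pm (by decide +kernel))

def Bb : List ℕ := [1, 314, 1793, 751, 1050, 378, 52, 1548, 1739, 150, 906]
def RS : List (List ℕ) := [[1, 1], [0, 0, 1, 0, 0, 1, 0, 0, 1, 0, 0, 1, 0, 0, 1, 0, 0, 1],
  [0, 1, 0, 0, 0, 0, 1, 0, 1, 0, 0, 0, 0, 1, 0, 1, 0, 0, 0, 0, 1],
  [0, 0, 1, 0, 0, 0, 1, 0, 0, 1, 0, 0, 0, 1, 0, 0, 1, 0, 0, 0, 1, 0, 0, 1, 0, 0, 0, 1, 0, 0, 1, 0, 0, 0, 1, 0, 0, 1, 0, 0, 0, 1]]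

/-- The value of a cocycle on a word. -/
noncomputable def co (x y : ℕ) (w : List ℕ) : ℕ :=
  List.rec (motive := fun _ => ℕ) 0 (fun c _ ih => seqN ih fun r =>
    Bool.rec (Nat.xor y (lin A2 r)) (Nat.xor x (lin Aa r)) (Nat.beq c 0)) w

theorem co_cons (x y c : ℕ) (w : List ℕ) : co x y (c :: w) =
    if c = 0 then x ^^^ lin Aa (co x y w) else y ^^^ lin A2 (co x y w) := by
  rw [show co x y (c :: w) = seqN (co x y w) fun r =>
    Bool.rec (Nat.xor y (lin A2 r)) (Nat.xor x (lin Aa r)) (Nat.beq c 0) from rfl, seqN_eq]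
  cases c <;> rfl

theorem ev_two : ∀ w : List ℕ, (∀ c ∈ w, c < 2) → validP (evalW [ca, cg] w) = true ∧
    (ev (fun c => if c = 0 then na else ng) w).1 = pm (evalW [ca, cg] w)
  | [], _ => ⟨validP_idP, pm_idP.symm⟩
  | c :: w, h => by
    have e : evalW [ca, cg] (c :: w) = mulP (nth idP [ca, cg] c) (evalW [ca, cg] w) := by
      rw [nth_eq]; exact force_eq _ _
    obtain ⟨h1, h2⟩ := ev_two w fun a ha => h a (by simp [ha])
    have h3 := h c (by simp)
    rw [e, ev_cons, coe_mul, h2]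
    interval_cases c
    · exact ⟨validP_mulP vcc.1 h1, by rw [if_pos rfl, na_val]; exact (pm_mulP vcc.1 h1).symm⟩
    · exact ⟨validP_mulP vcc.2 h1, by rw [if_neg one_ne_zero, ng_val]; exact (pm_mulP vcc.2 h1).symm⟩

section
variable {Γ : Type*} [Group Γ] {α : H0 →* Γ}

/-- A complement with given values of the cocycle. -/
def Good (α : H0 →* Γ) (υ : V →* Γ) (x y : ℕ) : Prop := ∃ κ : Nb →* Γ, (∀ m, Act υ (κ m) m) ∧
  α ha = υ (vV x) * κ na ∧ α hg = υ (vV y) * κ ng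

theorem Good.rel {υ : V →* Γ} (hυ : Function.Injective υ) {x y : ℕ} (hx : x < 2048) (hy : y < 2048)
    (h : Good α υ x y) {w : List ℕ} (h1 : ∀ c ∈ w, c < 2) (h2 : evalW [ca, cg] w = idP) : co x y w = 0 := by
  obtain ⟨κ, hκ, k1, k2⟩ := h
  have key : ∀ w : List ℕ, co x y w < 2048 ∧
      φ (ev (fun c => if c = 0 then na else ng) w) = (ev (fun c => if c = 0 then ha else hg) w).1 ∧
      α (ev (fun c => if c = 0 then ha else hg) w) =
        υ (vV (co x y w)) * κ (ev (fun c => if c = 0 then na else ng) w) := fun w => by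
    induction w with
    | nil => exact ⟨show 0 < 2048 by norm_num, map_one φ, by simp [show co x y [] = 0 from rfl, vV_zero]⟩
    | cons c w ih =>
      rw [co_cons, ev_cons, ev_cons, map_mul, map_mul, map_mul, ih.2.1, ih.2.2]
      split_ifs
      · refine ⟨Nat.xor_lt_two_pow (n := 11) hx (lin_lt11 (by decide) _), by rw [φ_na]; rfl, ?_⟩
        rw [k1, vV_xor, ← cj_a, map_mul, mul_assoc, ← mul_assoc (κ na), (hκ na).swap]; group
      · refine ⟨Nat.xor_lt_two_pow (n := 11) hy (lin_lt11 (by decide) _), by rw [φ_ng]; rfl, ?_⟩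
        rw [k2, vV_xor, ← cj_g, map_mul, mul_assoc, ← mul_assoc (κ ng), (hκ ng).swap]; group
  obtain ⟨a1, a2, a3⟩ := key w
  have h3 : ev (fun c => if c = 0 then na else ng) w = 1 :=
    Subtype.ext ((ev_two w h1).2.trans (by rw [h2, pm_idP]; rfl))
  rw [h3, map_one] at a2
  rw [h3, show ev (fun c => if c = 0 then ha else hg) w = 1 from Subtype.ext a2.symm, map_one, map_one,
    mul_one, eq_comm, map_eq_one_iff _ hυ] at a3
  exact vv_inj a1 (by norm_num) ((congrArg Subtype.val a3).trans vv_zero.symm)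

theorem Good.m1 {υ : V →* Γ} {x y : ℕ} (h : Good α υ x y) (v : ℕ) :
    Good α υ (x ^^^ (v ^^^ lin Aa v)) (y ^^^ (v ^^^ lin A2 v)) := by
  obtain ⟨κ, hκ, k1, k2⟩ := h
  have i : (υ (vV v))⁻¹ = υ (vV v) := by rw [inv_eq_iff_mul_eq_one, ← map_mul, V_mul_self, map_one]
  have key : ∀ (m : Nb) (a : V), υ a * κ m = υ (a * (vV v * cj (φ m) (φ_mem m) (vV v))) *
      (υ (vV v) * κ m * (υ (vV v))⁻¹) := fun m a => by
    rw [i, mul_assoc (υ (vV v)), (hκ m).swap, ← mul_assoc (υ (vV v)), ← map_mul, ← mul_assoc, ← map_mul,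
      mul_assoc a, V_mul_self, mul_one]
  refine ⟨(MulAut.conj (υ (vV v))).toMonoidHom.comp κ, fun m => ?_, ?_, ?_⟩
  · simpa using ((act_υ (vV v)).mul (hκ m)).mul (act_υ (vV v)).inv
  · rw [k1, vV_xor, vV_xor, ← cj_a]; exact key _ _
  · rw [k2, vV_xor, vV_xor, ← cj_g]; exact key _ _

theorem Good.m2 {υ : V →* Γ} {x y : ℕ} (h : Good α υ x y) : Good α υ x (y ^^^ 1571) := by
  obtain ⟨κ, hκ, k1, k2⟩ := h
  let d : Nb → V := fun m => ⟨δ (pt 10) (m.1 (pt 10)), δ_mem _ _⟩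
  refine ⟨MonoidHom.mk' (fun m => υ (d m) * κ m) fun a b => ?_, fun m => ?_, ?_, ?_⟩
  · rw [mul_assoc, ← mul_assoc (κ a), (hκ a).swap, ← mul_assoc, ← mul_assoc, ← map_mul υ, map_mul κ,
      mul_assoc]
    congr 2
    exact Subtype.ext ((δ_mul _ _ _).symm.trans (congrArg _ (conj_δ a _ _).symm))
  · simpa using (act_υ (d m)).mul (hκ m)
  · have : d na = 1 := Subtype.ext (by
      show δ (pt 10) (na.1 (pt 10)) = 1
      rw [na_val, pm_pt vcc.1 (by norm_num)]; exact δ_self _)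
    simp [k1, this]
  · have : d ng = vV 1571 := Subtype.ext (by
      show δ (pt 10) (ng.1 (pt 10)) = vv 1571
      rw [ng_val, pm_pt vcc.2 (by norm_num)]; exact δ_pt (by norm_num) (by decide +kernel))
    simp only [MonoidHom.mk'_apply]
    rw [k2, this, vV_xor, ← mul_assoc, ← map_mul, mul_assoc, V_mul_self, mul_one]

theorem Good.red {υ : V →* Γ} (hυ : Function.Injective υ) {x y : ℕ} (hx : x < 2048) (hy : y < 2048)
    (h : Good α υ x y) : Good α υ 0 0 ∨ Good α υ 0 1 := by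
  have h1 := h.rel hυ hx hy (w := List.replicate 15 0) (by decide) (by decide +kernel)
  have h2 : co x y (List.replicate 15 0) = co x 0 (List.replicate 15 0) := by
    simp only [List.replicate, co_cons, if_pos]; rfl
  have h3 := H29.beq_true.1 (im_true.1 ((treeAll_iff _ _).1 (show treeAll (fun x => im
    (Nat.beq (co x 0 (List.replicate 15 0)) 0) (Nat.beq (x ^^^ (lin Bb x ^^^ lin Aa (lin Bb x))) 0)) 11 0 = true by
      decide +kernel) x hx) (H29.beq_true.2 (h2 ▸ h1)))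
  have h4 := h.m1 (lin Bb x)
  rw [h3] at h4
  have h5 : y ^^^ (lin Bb x ^^^ lin A2 (lin Bb x)) < 2048 := Nat.xor_lt_two_pow (n := 11) hy
    (Nat.xor_lt_two_pow (n := 11) (lin_lt11 (by decide) _) (lin_lt11 (by decide) _))
  generalize y ^^^ (lin Bb x ^^^ lin A2 (lin Bb x)) = z at h4 h5
  have h6 := memL_true.1 (im_true.1 ((treeAll_iff _ _).1 (show treeAll (fun z => im
    (H29.allL RS fun w => Nat.beq (co 0 z w) 0) (memL z [0, 1, 1570, 1571])) 11 0 = true by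
      decide +kernel) z h5) (allL_true.2 fun w hw => H29.beq_true.2 (h4.rel hυ (by norm_num) h5
        ((by decide : ∀ w ∈ RS, ∀ c ∈ w, c < 2) w hw)
        ((by decide +kernel : ∀ w ∈ RS, evalW [ca, cg] w = idP) w hw))))
  simp only [List.mem_cons, List.not_mem_nil, or_false] at h6
  rcases h6 with rfl | rfl | rfl | rfl
  exacts [Or.inl h4, Or.inr h4, Or.inr h4.m2, Or.inl h4.m2]

theorem Good.fin (h : Good α (α.comp (inclusion V_le_H0)) 0 0) : ∃ β : HH →* Γ,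
    ∀ g (h1 : g ∈ H0) (h2 : g ∈ HH), α ⟨g, h1⟩ = β ⟨g, h2⟩ := by
  obtain ⟨κ, hκ, k1, k2⟩ := h
  obtain ⟨β, b1, b2⟩ := exists_beta0 hκ
  rw [vV_zero, map_one, one_mul, ← b2] at k1 k2
  let K : Subgroup G := (MonoidHom.eqLocus (α.comp (inclusion (inf_le_left : H0 ⊓ HH ≤ H0)))
    (β.comp (inclusion (inf_le_right : H0 ⊓ HH ≤ HH)))).map (H0 ⊓ HH).subtype
  have m : ∀ g (h1 : g ∈ H0) (h2 : g ∈ HH), α ⟨g, h1⟩ = β ⟨g, h2⟩ → g ∈ K := fun g h1 h2 h =>
    ⟨⟨g, h1, h2⟩, h, rfl⟩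
  have m1 : eZ 54 ∈ K := m _ g2_mem (g2_eq ▸ φ_mem _) (k2.trans (congrArg β (Subtype.ext φ_ng)))
  have m2 : eZ 52 * eZ 54 ∈ K := m _ ha.2 (φ_na ▸ φ_mem na : ha.1 ∈ HH)
    (k1.trans (congrArg β (Subtype.ext φ_na)))
  have hK : V ⊔ S0 ≤ K := sup_le (fun v hv => m v (V_le_H0 hv) (V_le_HH hv) (b1 ⟨v, hv⟩).symm)
    (gen_le.2 (by
      simp only [List.forall_mem_cons]
      exact ⟨(mul_mem_cancel_right m1).1 m2, m1, by simp⟩))
  refine ⟨β, fun g h1 h2 => ?_⟩
  obtain ⟨a, h3, rfl⟩ := hK (B0_eq.le ⟨h1, h2⟩)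
  exact h3

end

theorem exists_tau : ∃ τ : H0 →* H0, Function.Bijective τ ∧ (∀ v : V, τ (inclusion V_le_H0 v) =
    inclusion V_le_H0 v) ∧ τ ha = ha ∧ τ hg = inclusion V_le_H0 (vV 1) * hg := by
  classical
  obtain ⟨-, -, M, -, -, -, -, -, -, -, hM, -⟩ := structure_H0
  let z : H0 := inclusion V_le_H0 (vV 1)
  have zc : ∀ h : H0, h * z = z * h := fun h => Subtype.ext (by
    show h.1 * vv 1 = vv 1 * h.1
    rw [vv_one]; exact mem_centralizer_singleton_iff.1 h.2)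
  have zz : z * z = 1 := Subtype.ext (vv_sq 1)
  have a1 : ha ∈ M := by
    have h1 : na ^ 15 = 1 := Subtype.ext (by
      rw [coe_pow, na_val]; exact pm_pow_eq_one vcc.1 (by decide +kernel))
    have h2 : ha ^ 15 = 1 := Subtype.ext (by rw [coe_pow, ← φ_na, ← map_pow, h1, map_one]; rfl)
    have h3 := pow_mem (mul_self_mem_of_index_two hM ha) 8
    rwa [← sq, ← pow_mul, show 2 * 8 = 15 + 1 from rfl, pow_succ, h2, one_mul] at h3
  have com : ∀ (h : H0) (v : H0), v * (h * v * h⁻¹) ∈ M := fun h v => by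
    simp only [mul_mem_iff_of_index_two hM, inv_mem_iff]; tauto
  have hV : ∀ v : V, inclusion V_le_H0 v ∈ M := by
    rintro ⟨v, hv⟩
    obtain ⟨m, hm, rfl⟩ := exists_vv hv
    let P : ℕ → Prop := fun m => inclusion V_le_H0 (vV m) ∈ M
    have px : ∀ a b, P a → P b → P (a ^^^ b) := fun a b h1 h2 => by
      simp only [P, vV_xor, map_mul]; exact mul_mem h1 h2
    have p1 : ∀ a, P (a ^^^ lin Aa a) := fun a => by
      simp only [P, vV_xor, map_mul, ← cj_a]
      convert com ha (inclusion V_le_H0 (vV a)) using 2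
      exact Subtype.ext (by simp [cj, φ_na])
    have p2 : ∀ a, P (a ^^^ lin A2 a) := fun a => by
      simp only [P, vV_xor, map_mul, ← cj_g]
      convert com hg (inclusion V_le_H0 (vV a)) using 2
      exact Subtype.ext (by simp [cj, φ_ng])
    have e := H29.beq_true.1 ((treeAll_iff _ _).1 (show treeAll (fun m => Nat.beq
      (lin [1, 2, 4, 8, 16, 32, 64, 128, 256, 512, 1024] m) m) 11 0 = true by decide +kernel) m hm)
    show P m
    rw [← e]
    refine lin_induction P (by simp [P, vV_zero]) px _ (fun b hb => ?_) m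
    obtain ⟨c, -, rfl⟩ := (by decide +kernel : ∀ b ∈ [1, 2, 4, 8, 16, 32, 64, 128, 256, 512, 1024],
      ∃ c ∈ [(1846, 2), (1548, 2), (54, 2), (750, 0), (1050, 0), (378, 0), (1794, 2), (314, 2), (1738, 0),
        (1952, 2), (1212, 2)], (c.1 ^^^ lin Aa c.1) ^^^ (c.2 ^^^ lin A2 c.2) = b) b hb
    exact px _ _ (p1 _) (p2 _)
  have g1 : hg ∉ M := fun h => by
    have h1 : V ⊔ S0 ≤ M.map H0.subtype := sup_le (fun v hv => ⟨_, hV ⟨v, hv⟩, rfl⟩) (gen_le.2 (by
      simp only [List.forall_mem_cons]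
      have h2 : eZ 54 ∈ M.map H0.subtype := ⟨_, h, rfl⟩
      exact ⟨(mul_mem_cancel_right h2).1 ⟨_, a1, rfl⟩, h2, by simp⟩))
    have h2 := card_dvd_of_le h1
    have h3 := M.card_mul_index
    rw [← B0_eq, card_B0, card_subtype] at h2
    rw [hM, card_H0] at h3
    omega
  have zM : z ∈ M := hV _
  let τ : H0 →* H0 := MonoidHom.mk' (fun h => if h ∈ M then h else z * h) fun a b => by
    by_cases h1 : a ∈ M <;> by_cases h2 : b ∈ M <;> simp only [mul_mem_iff_of_index_two hM, h1, h2] <;> simp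
    · rw [← mul_assoc, ← zc, mul_assoc]
    · rw [mul_assoc]
    · rw [← mul_assoc, mul_assoc z, zc, ← mul_assoc, zz, one_mul]
  have tt : ∀ h, τ (τ h) = h := fun h => by
    by_cases h1 : h ∈ M
    · simp [τ, h1]
    · simp [τ, h1, mul_mem_cancel_left zM, ← mul_assoc, zz]
  exact ⟨τ, Function.Involutive.bijective tt, fun v => if_pos (hV v), if_pos a1, if_neg g1⟩

theorem exists_beta' {Γ : Type*} [Group Γ] [Finite Γ] (α : H0 →* Γ) (hα : Function.Injective α)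
    (N : Subgroup Γ) (hB : ∀ h : H0, (h : G) ∈ HH → α h ∈ N) (hcard : Nat.card HH ≤ Nat.card N)
    (hact : ∀ n ∈ N, ∃ m : Nb, ∀ v v' : V, φ m * v * (φ m)⁻¹ = v' →
      n * α (inclusion V_le_H0 v) * n⁻¹ = α (inclusion V_le_H0 v'))
    (hker : ∀ n ∈ N, (∀ v : V, n * α (inclusion V_le_H0 v) = α (inclusion V_le_H0 v) * n) →
      ∃ v : V, n = α (inclusion V_le_H0 v)) :
    ∃ (α' : H0 →* Γ) (β : HH →* Γ), Function.Injective α' ∧ α'.range = α.range ∧
      (∀ v : V, α' (inclusion V_le_H0 v) = α (inclusion V_le_H0 v)) ∧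
      ∀ g (h1 : g ∈ H0) (h2 : g ∈ HH), α' ⟨g, h1⟩ = β ⟨g, h2⟩ := by
  have hker' : ∀ n ∈ N, Act (α.comp (inclusion V_le_H0)) n 1 → n ∈ (α.comp (inclusion V_le_H0)).range :=
    fun n hn h => (hker n hn (Act.one_iff.1 h)).imp fun _ h => h.symm
  obtain ⟨κ, hκ⟩ := exists_kappa α hα N hB hcard (fun n hn => (hact n hn).imp fun m h v => h v _ rfl) hker'
  have key : ∀ (h : H0) (m : Nb), φ m = h →
      ∃ x < 2048, α h = α.comp (inclusion V_le_H0) (vV x) * κ m := fun h m e => by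
    obtain ⟨⟨v, hv⟩, h1⟩ := hker' _ (mul_mem (hB h (e ▸ φ_mem m)) (inv_mem (hκ m).1))
      (by simpa using (act_α α e).mul (hκ m).2.inv)
    obtain ⟨x, hx, rfl⟩ := exists_vv hv
    exact ⟨x, hx, (eq_mul_inv_iff_mul_eq.1 h1).symm⟩
  obtain ⟨x, hx, k1⟩ := key _ _ φ_na
  obtain ⟨y, hy, k2⟩ := key _ _ φ_ng
  rcases Good.red (hα.comp (inclusion_injective _)) hx hy ⟨κ, fun m => (hκ m).2, k1, k2⟩ with h | h
  · obtain ⟨β, hβ⟩ := h.fin
    exact ⟨α, β, hα, rfl, fun _ => rfl, hβ⟩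
  · obtain ⟨τ, t1, t2, t3, t4⟩ := exists_tau
    have e : (α.comp τ).comp (inclusion V_le_H0) = α.comp (inclusion V_le_H0) :=
      MonoidHom.ext fun v => congrArg α (t2 v)
    obtain ⟨κ, a1, a2, a3⟩ := h
    obtain ⟨β, hβ⟩ := Good.fin (α := α.comp τ) (e ▸ ⟨κ, a1, (congrArg α t3).trans a2, by
      rw [MonoidHom.comp_apply, t4, map_mul, a3, vV_zero, map_one, one_mul, ← mul_assoc]
      show α.comp (inclusion V_le_H0) (vV 1) * _ * _ = _
      rw [← map_mul, V_mul_self, map_one, one_mul]⟩)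
    refine ⟨α.comp τ, β, hα.comp t1.1, ?_, fun v => congrArg α (t2 v), hβ⟩
    rw [MonoidHom.range_comp, MonoidHom.range_eq_top.2 t1.2, ← MonoidHom.range_eq_map]

end H11.J4R
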