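import Mathlib
import Cfsg.Agent.H9.JR6
import Cfsg.Agent.H9.JR7
import Cfsg.Agent.H11.JB1

/-!
# The centraliser of the central involution is determined up to isomorphism
-/

set_option autoImplicit false
set_option maxRecDepth 100000
set_option Elab.async false
set_option linter.all false

namespace H11.J4R

open Cfsg H29 H9 H9.GF2 H9.DC H9.J4 H9.JL H9.R Subgroup

theorem exists_section {X H : Type*} [Group X] [Group H] [Finite X] (F A : Subgroup X) (p : X →* H)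
    (T : Subgroup H) (hA : A ≤ F) (hs : ∀ h, ∃ x ∈ F, p x = h) (hk : ∀ x ∈ F, p x = 1 → x * x = 1)
    (hT : T ≤ A.map p) (hc : Nat.card A ≤ Nat.card T) (ho : Odd T.index) :
    ∃ σ : H →* X, ∀ h, σ h ∈ F ∧ p (σ h) = h := by
  let q : F →* H := p.comp F.subtype
  have hq : Function.Surjective q := fun h => let ⟨x, h1, h2⟩ := hs h; ⟨⟨x, h1⟩, h2⟩
  have : Finite H := Finite.of_surjective q hq
  have k2 : ∀ x ∈ q.ker, x * x = 1 := fun x hx => Subtype.ext (hk x x.2 hx)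
  have : IsMulCommutative q.ker := ⟨⟨fun a b => Subtype.ext (comm_of_sq k2 a.2 b.2)⟩⟩
  have hB : (A.subgroupOf F).map q = A.map p := by
    rw [← map_map, subgroupOf_map_subtype, inf_eq_left.2 hA]
  have h1 := (q.comp (A.subgroupOf F).subtype).ker.card_mul_index
  rw [index_ker, MonoidHom.range_comp, range_subtype, hB,
    Nat.card_congr (subgroupOfEquivOfLe hA).toEquiv] at h1
  have h2 := card_le_of_le hT
  have h3 : 0 < Nat.card T := Nat.card_pos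
  have h4 : (q.comp (A.subgroupOf F).subtype).ker = ⊥ := eq_bot_of_card_le _ (by
    by_contra h5
    have := Nat.mul_le_mul_right (Nat.card (A.map p)) (Nat.succ_le_of_lt (not_le.1 h5))
    omega)
  obtain ⟨n, hn⟩ := IsPGroup.iff_card.1 (pg_of_pow' (L := q.ker) (p := 2) (k := 1) fun x hx => by
    rw [pow_one, sq, k2 x hx])
  obtain ⟨K, hK⟩ := Cfsg.Agent.S0051.result q.ker (q.ker ⊔ A.subgroupOf F) le_sup_left (by
    rw [hn, sup_comm, ← comap_map_eq, index_comap_of_surjective _ hq, hB]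
    exact Nat.Coprime.pow_left _ (Nat.coprime_two_left.2 (ho.of_dvd_nat (index_dvd_of_le hT))))
    (A.subgroupOf F) le_sup_right (eq_bot_iff.2 fun x hx =>
      congrArg Subtype.val (mem_bot.1 (h4.le (show (⟨x, hx.1⟩ : A.subgroupOf F) ∈ _ from hx.2)))) rfl
  have hb : Function.Bijective (q.comp K.subtype) :=
    ⟨(injective_iff_map_eq_one _).2 fun a ha => Subtype.ext (mem_bot.1
      (disjoint_iff.1 hK.disjoint ▸ (⟨ha, a.2⟩ : a.1 ∈ q.ker ⊓ K))), fun h => by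
      obtain ⟨x, rfl⟩ := hq h
      obtain ⟨a, ha, b, hb, rfl⟩ := mem_sup_of_normal_left.1 (hK.sup_eq_top ▸ mem_top x)
      exact ⟨⟨b, hb⟩, by rw [map_mul, show q a = 1 from ha, one_mul]; rfl⟩⟩
  let e := MulEquiv.ofBijective _ hb
  exact ⟨F.subtype.comp (K.subtype.comp e.symm.toMonoidHom), fun m => ⟨(e.symm m).1.2, e.apply_symm_apply m⟩⟩

theorem card_gen_le {X : Type*} [Group X] [Finite X] {e : ℕ → X} {l : List ℕ}
    (h1 : ∀ a ∈ l, ∀ b ∈ l, e a * e b = e b * e a) (h2 : ∀ a ∈ l, e a ^ 2 = 1) :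
    Nat.card (gen e l) ≤ 2 ^ l.length := by
  simpa using Nat.card_le_card_of_surjective
    (fun m : Fin (2 ^ l.length) => (⟨_, ev_mw_mem l m⟩ : gen e l)) fun x => by
      obtain ⟨m, hm, h⟩ := exists_mw h1 h2 x.2
      exact ⟨⟨m, hm⟩, Subtype.ext h⟩

theorem card_D {X : Type*} [Group X] [Finite X] {a b c : X} (ha : a * a = 1) (hb : b * b = 1) (hc : c * c = 1)
    (hac : a * c * (a * c) = 1) (hbc : b * c * (b * c) = 1) (hab : a * b * (a * b) * (a * b * (a * b)) = 1) :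
    Nat.card (closure ({a, b, c} : Set X)) ≤ 16 := by
  have ia := inv_eq_of_mul_eq_one_left ha
  have ib := inv_eq_of_mul_eq_one_left hb
  have ic := inv_eq_of_mul_eq_one_left hc
  have k1 : Commute a c := by rw [Commute, SemiconjBy, ← inv_eq_of_mul_eq_one_left hac, mul_inv_rev, ia, ic]
  have k2 : Commute b c := by rw [Commute, SemiconjBy, ← inv_eq_of_mul_eq_one_left hbc, mul_inv_rev, ib, ic]
  have k3 : a * b * (a * b) = b * a * (b * a) := by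
    rw [← inv_eq_of_mul_eq_one_left hab]; simp [ia, ib, mul_assoc]
  have k4 : Commute (a * b * (a * b)) a := by
    rw [Commute, SemiconjBy]; nth_rewrite 2 [k3]; simp only [mul_assoc]
  have k5 : Commute (a * b * (a * b)) c := (k1.mul_left k2).mul_left (k1.mul_left k2)
  let t : ℕ → X := fun i => [a * b * (a * b), c, a].getD i 1
  have h1 : Nat.card (gen t [0, 1, 2]) ≤ 2 ^ 3 := card_gen_le (by
    simp only [List.forall_mem_cons, List.not_mem_nil, false_imp_iff, implies_true, and_true, true_and]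
    exact ⟨⟨k5, k4⟩, ⟨k5.symm, k1.symm⟩, k4.symm, k1⟩) (by
    simp only [List.forall_mem_cons, List.not_mem_nil, false_imp_iff, implies_true, and_true, sq]
    exact ⟨hab, hc, ha⟩)
  have m : ∀ i ∈ [0, 1, 2], t i ∈ gen t [0, 1, 2] := fun i hi => mem_gen hi
  have h2 : zpowers b ≤ normalizer (gen t [0, 1, 2] : Set X) := zpowers_le.2 (mem_normalizer_fintype fun x hx =>
    (gen_le (H := (gen t [0, 1, 2]).comap (MulAut.conj b).toMonoidHom)).2 (by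
      simp only [List.forall_mem_cons, List.not_mem_nil, false_imp_iff, implies_true, and_true]
      refine ⟨?_, ?_, ?_⟩
      · show b * (a * b * (a * b)) * b⁻¹ ∈ gen t [0, 1, 2]
        rw [show b * (a * b * (a * b)) * b⁻¹ = b * a * (b * a) by group, ← k3]; exact m 0 (by simp)
      · show b * c * b⁻¹ ∈ gen t [0, 1, 2]
        rw [k2.eq, mul_inv_cancel_right]; exact m 1 (by simp)
      · show b * a * b⁻¹ ∈ gen t [0, 1, 2]
        rw [show b * a * b⁻¹ = a * (a * b * (a * b)) by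
          rw [ib, mul_assoc a b, ← mul_assoc a a, ha, one_mul, mul_assoc]]
        exact mul_mem (m 2 (by simp)) (m 0 (by simp))) hx)
  have h3 := card_sup_le h2
  have h4 : Nat.card (zpowers b) ≤ 2 := by
    rw [Nat.card_zpowers]; exact Nat.le_of_dvd two_pos (orderOf_dvd_of_pow_eq_one (by rw [sq, hb]))
  refine (card_le_of_le ((closure_le _).2 ?_)).trans (h3.trans (Nat.mul_le_mul h1 h4))
  rintro x (rfl | rfl | rfl)
  exacts [mem_sup_left (m 2 (by simp)), mem_sup_right (mem_zpowers _), mem_sup_left (m 1 (by simp))]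

theorem bas_ind (P : ℕ → Prop) (h0 : P 0) (px : ∀ a b, P a → P b → P (a ^^^ b))
    (hb : ∀ b ∈ [1, 2, 4, 8, 16, 32, 64, 128, 256, 512, 1024], P b) {m : ℕ} (hm : m < 2048) : P m := by
  rw [← H29.beq_true.1 ((treeAll_iff _ _).1 (show treeAll (fun m => Nat.beq
    (lin [1, 2, 4, 8, 16, 32, 64, 128, 256, 512, 1024] m) m) 11 0 = true by decide +kernel) m hm)]
  exact lin_induction P h0 px _ hb m

/-- The hypotheses. -/
structure AH {X Γ : Type*} [Group X] [Group Γ] (c : Std Γ) (c0 : Std H0) (j : Γ →* X) (υ : J4.V →* Γ) :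
    Prop where
  h0 : Mod0 c0
  hj : Function.Injective j
  hF : ∀ v, (υ v, inclusion V_le_H0 v) ∈ c.FF c0
  hI : ∀ v, inclusion V_le_H0 v ∈ c0.Q → (υ v, inclusion V_le_H0 v) ∈ c.II c0
  hE : ∀ h (h' : H0), (h, h') ∈ c.FF c0 → (h' : G) ∈ HH →
    ∀ v v' : J4.V, (h' : G) * v * (h' : G)⁻¹ = v' → h * υ v * h⁻¹ = υ v'
  hS : ∀ m : Nb, ∃ n : X, ∀ v v' : J4.V, φ m * v * (φ m)⁻¹ = v' → n * j (υ v) * n⁻¹ = j (υ v')
  hK : ∀ n : X, (∀ v, n * j (υ v) = j (υ v) * n) → ∃ v, n = j (υ v)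

theorem ev_HH {w : List ℕ} (h : ∀ i ∈ w, i ∈ [0, 1, 2]) : ((ev eH w : H0) : G) ∈ HH :=
  (gen_le (H := HH.subgroupOf H0)).2 (by
    have h1 : eZ 52 ∈ HH := g1_eq ▸ φ_mem _
    simp only [List.forall_mem_cons]
    exact ⟨h1, (hivZ 52 ▸ inv_mem h1 : eZ 53 ∈ HH), (g2_eq ▸ φ_mem _ : eZ 54 ∈ HH), by simp⟩) (ev_mem_gen h)

/-- The checks for an involution inverting the element of order three. -/
noncomputable def chkL (w n y A : List ℕ) : Bool :=
  and2 (and2 (chkH [(15 :: w, w ++ [16]), (y ++ y, []), (w ++ w, [])])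
    (J4.Q.chkEq lZ [(n ++ mp (nth 66 LH) y, mp (nth 66 LH) w ++ n)]))
  (and2 (and2 (chkA lZ (mp (nth 66 LH) w) (mp (nth 66 LH) w) A) (eqM (P12.evW (P12.lets LMH) y) one))
    (treeAll (fun m => no (Nat.beq (Nat.xor (lin A m) m) 1)) 11 0))

variable {X Γ : Type*} [Group X] [Group Γ] [Finite Γ] {c : Std Γ} {c0 : Std H0} {j : Γ →* X} {υ : J4.V →* Γ}

namespace AH

variable (H : AH c c0 j υ)
include H

theorem z0 : inclusion V_le_H0 (vV 1) = c0.z := H.h0.z ▸ Subtype.ext vv_one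

theorem z : υ (vV 1) = c.z := Std.II_uniq (H.hI _ (H.z0 ▸ c0.zQ)) (H.z0 ▸ c.z_mem_II c0)

theorem eq_one {h : H0} (h1 : ((1 : Γ), h) ∈ c.FF c0) : h = 1 ∨ h = inclusion V_le_H0 (vV 1) := by
  obtain ⟨t, rfl⟩ := Std.F_ker (Std.FF_symm h1)
  rcases z2_cases t with rfl | rfl
  exacts [Or.inl c0.zp_zero, Or.inr (c0.zp_one.trans H.z0.symm)]

theorem inj : Function.Injective υ := (injective_iff_map_eq_one _).2 fun v hv => by
  rcases H.eq_one (hv ▸ H.hF v) with h | h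
  · exact inclusion_injective _ (h.trans (map_one _).symm)
  · rw [inclusion_injective _ h, H.z] at hv; exact absurd hv c.z1

theorem sq {τ : Γ} {τ0 y0 : H0} {n : Nb} {A : List ℕ} (h1 : (τ, τ0) ∈ c.FF c0) (h2 : (τ0 : G) ∈ HH)
    (h3 : τ0 * τ0 = 1) (y1 : y0 ∈ c0.Q) (y2 : (y0 : G) ∈ HH) (y3 : y0 * y0 = 1) (hn : φ n * y0 = τ0 * φ n)
    (hA : ∀ m, (τ0 : G) * vv m * (τ0 : G)⁻¹ = vv (lin A m)) (hA1 : ∀ a ∈ A, a < 2048)
    (hA2 : ∀ m < 2048, lin A m ^^^ m ≠ 1) : τ * τ = 1 := by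
  obtain ⟨y, hy⟩ := c.II_ex y1
  have k1 : y * y = 1 := Std.II_uniq (y3 ▸ show (y * y, y0 * y0) ∈ _ from mul_mem hy hy) (one_mem _)
  obtain ⟨n', hn'⟩ := H.hS n
  have k2 : ∀ v, n' * j y * n'⁻¹ * j (υ v) * (n' * j y * n'⁻¹)⁻¹ = j (υ (cj τ0 h2 v)) := fun v => by
    have a1 := hn' (cj _ (inv_mem (φ_mem n)) v) v (by simp [cj, mul_assoc])
    have a2 := H.hE y y0 (Std.II_le hy) y2 (cj _ (inv_mem (φ_mem n)) v) (cj _ y2 _) rfl
    rw [← hn' (cj _ y2 (cj _ (inv_mem (φ_mem n)) v)) (cj _ h2 v) (by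
      show φ n * (y0 * ((φ n)⁻¹ * v * (φ n)⁻¹⁻¹) * (y0 : G)⁻¹) * (φ n)⁻¹ = τ0 * v * (τ0 : G)⁻¹
      rw [show (τ0 : G) = φ n * y0 * (φ n)⁻¹ by rw [hn, mul_inv_cancel_right]]; group), ← a2, ← a1]
    simp only [map_mul, map_inv]; group
  have k3 : ∀ v, j τ * j (υ v) * (j τ)⁻¹ = j (υ (cj τ0 h2 v)) := fun v => by
    rw [← H.hE τ τ0 h1 h2 v (cj _ h2 v) rfl, map_mul, map_mul, map_inv]
  have k4 : n' * j y * n'⁻¹ * (n' * j y * n'⁻¹) = 1 := by rw [conj_mul, ← map_mul, k1]; simp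
  generalize n' * j y * n'⁻¹ = w at k2 k4
  obtain ⟨⟨v, hv⟩, k5⟩ := H.hK (w⁻¹ * j τ) fun v => by
    calc _ = w⁻¹ * (j τ * j (υ v) * (j τ)⁻¹) * j τ := by group
      _ = _ := by rw [k3, ← k2]; group
  obtain ⟨m, hm, rfl⟩ := exists_vv hv
  have k6 : τ * τ = υ (vV (lin A m ^^^ m)) := H.hj (by
    rw [vV_xor, show vV (lin A m) = cj τ0 h2 (vV m) from Subtype.ext (hA m).symm, map_mul, map_mul, map_mul,
      ← k2, inv_mul_eq_iff_eq_mul.1 k5, inv_eq_of_mul_eq_one_left k4, mul_assoc _ w]; rfl)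
  obtain ⟨t, ht⟩ := Std.F_ker (h3 ▸ show (τ * τ, τ0 * τ0) ∈ _ from mul_mem h1 h1)
  rcases z2_cases t with rfl | rfl
  · exact ht.trans c.zp_zero
  · rw [ht, Co.zp_one, ← H.z] at k6
    exact absurd (vv_inj (Nat.xor_lt_two_pow (n := 11) (lin_lt11 hA1 m) hm) (by norm_num)
      (congrArg Subtype.val (H.inj k6)).symm) (hA2 m hm)

theorem lift {w n y A : List ℕ} (hw : ∀ i ∈ w, i ∈ [0, 1, 2]) (hn : ∀ i ∈ n, i ∈ [0, 1, 2])
    (hy : ∀ i ∈ y, i ∈ [0, 1, 2]) (hA : ∀ a ∈ A, a < 2048) (h : chkL w n y A = true) :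
    ∃ τ, (τ, ev eH w) ∈ c.FF c0 ∧ (τ⁻¹ * c.d * τ = c.d⁻¹ ∧ (ev eH w)⁻¹ * c0.d * ev eH w = c0.d⁻¹) ∧
      (τ, ev eH w) * (τ, ev eH w) = 1 := by
  simp only [chkL, and2_true] at h
  obtain ⟨⟨h1, h2⟩, ⟨h3, h4⟩, h5⟩ := h
  have a1 := eqH h1
  simp only [List.forall_mem_cons, ev_append, ev_cons, ev_nil, mul_one] at a1
  obtain ⟨a1, a2, a3, -⟩ := a1
  have a4 := hmZ.eqs Q_ok val_inj h2 _ (List.mem_singleton_self _)
  simp only [ev_append, ← ev_eH, ← φ_nb hn] at a4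
  have a5 : (ev eH w)⁻¹ * c0.d * ev eH w = c0.d⁻¹ := by
    rw [H.h0.d, mul_assoc, a1, inv_mul_cancel_left]; exact Subtype.ext (hivZ 62)
  obtain ⟨τ, b1, b2⟩ := c.F_exK (Or.inr a5)
  have b3 := b2.resolve_left fun b2 => c0.not_both (g := 1) (by simp) (by rw [← a5, b2.2]; simp)
  refine ⟨τ, b1, b3, Prod.ext (H.sq b1 (ev_HH hw) a3 (c0.ker _ ((H.h0.hm.val_ev ok12 y).trans
    ((eqM_iff.1 h4).trans mat_one))) (ev_HH hy) a2 a4 (fun m => ?_) hA fun m hm h6 => ?_) a3⟩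
  · rw [ev_eH]
    refine conj_vv hmZ (fun _ _ => rfl) ?_ h3 m
    rw [← ev_eH, eq_inv_iff_mul_eq_one, ← coe_mul, a3, coe_one]
  · exact no_true.1 ((treeAll_iff _ _).1 h5 m hm) (H29.beq_true.2 h6)

/-- The graph of `υ`. -/
noncomputable def _root_.H11.J4R.gr (υ : J4.V →* Γ) : J4.V →* Γ × H0 := υ.prod (inclusion V_le_H0)

theorem card_P : Nat.card ↥(c.II c0 ⊔ (gr υ).range) ≤ 8192 * 16 := by
  let R := gen (fun i => gr υ (vV (2 ^ i))) [2, 3, 4, 9]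
  have h1 : Nat.card R ≤ 2 ^ 4 := card_gen_le (fun a _ b _ => by rw [← map_mul, V_comm, map_mul])
    fun a _ => by rw [pow_two, ← map_mul, V_mul_self, map_one]
  have h2 : R ≤ c.FF c0 := gen_le.2 fun i _ => H.hF _
  refine (card_le_of_le (sup_le le_sup_left ?_)).trans
    ((card_sup_le h2).trans (Nat.mul_le_mul Std.card_II h1))
  rintro _ ⟨⟨v, hv⟩, rfl⟩
  obtain ⟨m, hm, rfl⟩ := exists_vv hv
  have p0 : gr υ (vV 0) ∈ c.II c0 ⊔ R := by rw [vV_zero, map_one]; exact one_mem _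
  have px : ∀ a b, gr υ (vV a) ∈ c.II c0 ⊔ R → gr υ (vV b) ∈ c.II c0 ⊔ R → gr υ (vV (a ^^^ b)) ∈ c.II c0 ⊔ R :=
    fun a b h1 h2 => by rw [vV_xor, map_mul]; exact mul_mem h1 h2
  refine bas_ind (fun m => gr υ (vV m) ∈ c.II c0 ⊔ R) p0 px (fun b hb => ?_) hm
  obtain ⟨k, -, q, -, rfl, h3, h4⟩ := (by decide +kernel : ∀ b ∈ [1, 2, 4, 8, 16, 32, 64, 128, 256, 512, 1024],
    ∃ k ∈ [0, 1, 2, 4, 6, 8, 11], ∃ q ∈ [0, 1, 2, 56, 68, 128, 256, 1548], q ^^^ lin [4, 8, 16, 512] k = b ∧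
      mp (nth 66 LH) (mw [4, 5, 6, 7, 8, 9, 10, 11, 12, 13, 14] q) = mw taus q ∧
      eqM (P12.evW (P12.lets LMH) (mw [4, 5, 6, 7, 8, 9, 10, 11, 12, 13, 14] q)) one = true) b hb
  refine px _ _ (mem_sup_left (H.hI _ (c0.ker _ ?_))) (lin_induction (fun m => gr υ (vV m) ∈ c.II c0 ⊔ R) p0 px _
    (fun a ha => mem_sup_right ?_) k)
  · rw [show inclusion V_le_H0 (vV q) = ev eH (mw [4, 5, 6, 7, 8, 9, 10, 11, 12, 13, 14] q) from
      Subtype.ext (by rw [ev_eH, h3]; rfl)]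
    exact (H.h0.hm.val_ev ok12 _).trans ((eqM_iff.1 h4).trans mat_one)
  · obtain ⟨i, hi, rfl⟩ := (by decide : ∀ a ∈ [4, 8, 16, 512], ∃ i ∈ [2, 3, 4, 9], 2 ^ i = a) a ha
    exact mem_gen (e := fun i => gr υ (vV (2 ^ i))) hi

theorem norm_P {x : Γ × H0} (h1 : x ∈ c.FF c0) (h2 : (x.2 : G) ∈ HH) :
    x ∈ normalizer ((c.II c0 ⊔ (gr υ).range : Subgroup (Γ × H0)) : Set (Γ × H0)) :=
  normalizer_inf_normalizer_le_normalizer_sup _ _ ⟨h1, mem_normalizer_fintype (by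
    rintro _ ⟨v, rfl⟩
    exact ⟨cj _ h2 v, Prod.ext (H.hE x.1 x.2 h1 h2 v (cj _ h2 v) rfl).symm rfl⟩)⟩

end AH

def wa : List ℕ := [1, 2, 1, 2, 0, 0, 0, 2, 1, 1, 1, 2, 0, 2, 0]
def wb : List ℕ := [0, 0, 2, 0, 0, 0, 2, 0, 2, 0, 2, 0, 2, 1, 1, 1, 2]
def wc : List ℕ := [1, 1, 2, 0, 0, 0, 2, 0, 2, 0, 2, 0, 2, 0, 2]

theorem chk_a : chkL wa [0, 2, 0, 2, 0, 1, 0, 2, 0, 1, 0, 1, 0, 2, 0, 1, 0, 2, 0]
    [0, 0, 0, 0, 2, 0, 0, 0, 0, 0, 0, 2, 0, 0] [1, 131, 194, 674, 1561, 970, 7, 128, 327, 961, 1899] = true := by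
  decide +kernel
theorem chk_b : chkL wb [1, 0, 1, 0, 2, 0, 2, 0, 1, 0, 1, 0, 1, 0, 2, 0]
    [0, 2, 0, 0, 0, 0, 0, 0, 2, 1] [1, 1974, 1533, 1798, 605, 878, 1210, 313, 1716, 1037, 250] = true := by
  decide +kernel
theorem chk_c : chkL wc [1, 0, 1, 0, 1, 0, 1, 0, 2, 0, 1, 0, 2, 0, 1, 0, 2, 0, 2, 0, 1, 0, 2, 0]
    [0, 0, 0, 2, 0, 0, 0, 0, 0, 0, 2, 0, 0, 0] [1, 184, 1006, 839, 15, 1026, 1240, 1864, 1716, 307, 152] = true := by
  decide +kernel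

theorem inv_inv_comm {Γ : Type*} [Group Γ] {a b d : Γ} (ha : a⁻¹ * d * a = d⁻¹) (hb : b⁻¹ * d * b = d⁻¹) :
    a * b * d = d * (a * b) := comm_of_conj (by
  rw [show (a * b)⁻¹ * d * (a * b) = b⁻¹ * (a⁻¹ * d * a) * b by group, ha, ← inv_inj,
    show (b⁻¹ * d⁻¹ * b)⁻¹ = b⁻¹ * d * b by group, hb])

theorem pair_sq {x : Γ × H0} (w : List ℕ) (H : Mod0 c0) (h1 : x ∈ c.FF c0) (h2 : x.1 * c.d = c.d * x.1)
    (h3 : x.2 * c0.d = c0.d * x.2) (h0 : x.2 = ev eH w)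
    (h4 : eqM (P12.evW (P12.lets LMH) (w ++ w)) one = true) : x * x = 1 := by
  have h5 : c0.ρ x.2 * c0.ρ x.2 = 1 := by
    rw [← map_mul, h0, ← ev_append]; exact (H.hm.val_ev ok12 _).trans ((eqM_iff.1 h4).trans mat_one)
  exact Prod.ext (c.inv_sq h2 (by rw [Std.F_ρ (h := x.1) (h' := x.2) h1, h5])) (c0.inv_sq h3 h5)

theorem AH.alpha (H : AH c c0 j υ) : ∃ α : H0 →* Γ, ∀ h, (α h, h) ∈ c.FF c0 := by
  obtain ⟨a, a1, a2, a3⟩ := H.lift (by decide) (by decide) (by decide) (by decide) chk_a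
  obtain ⟨b, b1, b2, b3⟩ := H.lift (by decide) (by decide) (by decide) (by decide) chk_b
  obtain ⟨e, e1, e2, e3⟩ := H.lift (by decide) (by decide) (by decide) (by decide) chk_c
  have ab := inv_inv_comm a2.1 b2.1
  have ab' := inv_inv_comm a2.2 b2.2
  have h1 := card_D a3 b3 e3
    (pair_sq (wa ++ wc) H.h0 (mul_mem a1 e1) (inv_inv_comm a2.1 e2.1) (inv_inv_comm a2.2 e2.2)
      (ev_append _ _ _).symm (by decide +kernel))
    (pair_sq (wb ++ wc) H.h0 (mul_mem b1 e1) (inv_inv_comm b2.1 e2.1) (inv_inv_comm b2.2 e2.2)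
      (ev_append _ _ _).symm (by decide +kernel))
    (pair_sq ((wa ++ wb) ++ (wa ++ wb)) H.h0 (mul_mem (mul_mem a1 b1) (mul_mem a1 b1))
      (Commute.mul_left ab ab) (Commute.mul_left ab' ab') (by simp only [ev_append]; rfl) (by decide +kernel))
  set D := closure ({(a, ev eH wa), (b, ev eH wb), (e, ev eH wc)} : Set (Γ × H0))
  have h2 : D ≤ normalizer ((c.II c0 ⊔ (gr υ).range : Subgroup (Γ × H0)) : Set (Γ × H0)) := (closure_le _).2 (by
    rintro x (rfl | rfl | rfl)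
    exacts [H.norm_P a1 (ev_HH (by decide)), H.norm_P b1 (ev_HH (by decide)), H.norm_P e1 (ev_HH (by decide))])
  have h3 := (card_sup_le h2).trans (Nat.mul_le_mul H.card_P h1)
  have h4 := c0.T.card_mul_index
  rw [c0.card_T, card_H0] at h4
  set B := (c.II c0 ⊔ (gr υ).range ⊔ D).map (MonoidHom.snd Γ H0)
  have q : c0.Q ≤ B := fun x hx => let ⟨y, hy⟩ := c.II_ex hx; ⟨_, mem_sup_left (mem_sup_left hy), rfl⟩
  have v : ∀ i m, nth 66 LH i = nth 0 taus m → m < 11 → ev eH [i] ∈ B := fun i m h hm =>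
    ⟨gr υ (vV (2 ^ m)), mem_sup_left (mem_sup_right ⟨_, rfl⟩), Subtype.ext (by
      rw [ev_cons, ev_nil, mul_one]
      exact (ev_mw_two_pow taus m hm).trans (congrArg eZ h.symm))⟩
  have l : ∀ k, ev eH (nth [] [[6], [8], [9], [14], wa, wb, wc] k) ∈ B := fun k =>
    nth_forall (p := fun w => ev eH w ∈ B) (one_mem _) (by
      simp only [List.forall_mem_cons]
      exact ⟨v 6 2 rfl (by decide), v 8 4 rfl (by decide), v 9 5 rfl (by decide), v 14 10 rfl (by decide),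
        ⟨(a, ev eH wa), mem_sup_right (subset_closure (by simp)), rfl⟩,
        ⟨(b, ev eH wb), mem_sup_right (subset_closure (by simp)), rfl⟩,
        ⟨(e, ev eH wc), mem_sup_right (subset_closure (by simp)), rfl⟩, by simp⟩) k
  have l' : ∀ w : List ℕ, ev eH (w.map (nth [] [[6], [8], [9], [14], wa, wb, wc])).flatten ∈ B := fun w => by
    induction w with
    | nil => exact one_mem _
    | cons k w ih => rw [List.map_cons, List.flatten_cons, ev_append]; exact mul_mem (l k) ih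
  obtain ⟨σ, hσ⟩ := exists_section (c.FF c0) (c.II c0 ⊔ (gr υ).range ⊔ D) (MonoidHom.snd Γ H0) c0.T
    (sup_le (sup_le Std.II_le (by rintro _ ⟨v, rfl⟩; exact H.hF v)) ((closure_le _).2 (by
      rintro x (rfl | rfl | rfl)
      exacts [a1, b1, e1])))
    (fun h => let ⟨x, hx⟩ := c.F_ex h; ⟨_, hx, rfl⟩)
    (by
      rintro ⟨x, y⟩ hx rfl
      obtain ⟨t, rfl⟩ := Std.F_ker hx
      exact Prod.ext (c.zp_sq t) (mul_one _))
    (sup_le q (gen_le.2 fun i hi => by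
      obtain ⟨w, -, hw⟩ := (by decide +kernel : ∀ i ∈ [0, 1, 2, 3, 4, 5, 6, 7], ∃ w ∈ [[0, 2], [0, 3], [3], [1, 3],
        [5], [0, 2, 5, 6], [4, 5, 4, 5, 6], [3, 5, 4, 5]], eqM (P12.evW (P12.lets LMH)
          (w.map (nth [] [[6], [8], [9], [14], wa, wb, wc])).flatten) (P12.lets pcs i) = true) i hi
      exact (mul_mem_cancel_left (inv_mem (l' w))).1 (q (c0.mem_of_ρ ((H.h0.hm.val_ev ok12 _).trans
        ((eqM_iff.1 hw).trans (c0.hmT i).symm))))))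
    (by rw [c0.card_T]; exact h3) (by rw [show c0.T.index = 10395 by omega]; decide)
  exact ⟨(MonoidHom.fst _ _).comp σ, fun h => by
    convert (hσ h).1 using 1
    exact Prod.ext rfl (hσ h).2.symm⟩

theorem AH.main (H : AH c c0 j υ) : ∃ α : H0 →* Γ, Function.Bijective α ∧ (∀ h, (α h, h) ∈ c.FF c0) ∧
    ∀ v, α (inclusion V_le_H0 v) = υ v := by
  obtain ⟨α, hα⟩ := H.alpha
  have key : ∀ (h : H0) (hh : (h : G) ∈ HH) (v : J4.V), α (inclusion V_le_H0 (v * cj h hh v)) = υ (v * cj h hh v) :=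
    fun h hh v => by
      obtain ⟨t, ht⟩ := Std.F_uniq (hα (inclusion V_le_H0 v)) (H.hF v)
      rw [map_mul, show inclusion V_le_H0 (cj h hh v) = h * inclusion V_le_H0 v * h⁻¹ from rfl, map_mul, map_mul,
        map_mul, map_mul, ht, ← H.hE _ h (hα h) hh v (cj h hh v) rfl, map_inv, ← mul_assoc (α h), Co.zp_mul _ _ (α h)⁻¹,
        Co.mul_zp, CharTwo.add_self_eq_zero, Co.zp_zero, mul_one]
  have h1 : ∀ v, α (inclusion V_le_H0 v) = υ v := by
    rintro ⟨v, hv⟩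
    obtain ⟨m, hm, rfl⟩ := exists_vv hv
    have px : ∀ a b, α (inclusion V_le_H0 (vV a)) = υ (vV a) → α (inclusion V_le_H0 (vV b)) = υ (vV b) →
        α (inclusion V_le_H0 (vV (a ^^^ b))) = υ (vV (a ^^^ b)) := fun a b h1 h2 => by
      simp only [vV_xor, map_mul, h1, h2]
    refine bas_ind (fun m => α (inclusion V_le_H0 (vV m)) = υ (vV m)) (by simp [vV_zero]) px (fun b hb => ?_) hm
    obtain ⟨k, -, rfl⟩ := (by decide +kernel : ∀ b ∈ [1, 2, 4, 8, 16, 32, 64, 128, 256, 512, 1024],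
      ∃ c ∈ [(1846, 2), (1548, 2), (54, 2), (750, 0), (1050, 0), (378, 0), (1794, 2), (314, 2), (1738, 0),
        (1952, 2), (1212, 2)], (c.1 ^^^ lin Aa c.1) ^^^ (c.2 ^^^ lin A2 c.2) = b) b hb
    refine px _ _ ?_ ?_
    · rw [vV_xor, ← cj_a]
      convert key ha (φ_na ▸ φ_mem na) (vV k.1) <;> exact φ_na
    · rw [vV_xor, ← cj_g]
      convert key hg (φ_ng ▸ φ_mem ng) (vV k.2) <;> exact φ_ng
  refine ⟨α, (Nat.bijective_iff_injective_and_card _).2 ⟨(injective_iff_map_eq_one _).2 fun h hh => ?_,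
    card_H0.trans c.card.symm⟩, hα, h1⟩
  refine (H.eq_one (hh ▸ hα h)).resolve_right fun h2 => c.z1 ?_
  rw [← H.z, ← h1, ← h2, hh]

end H11.J4R
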