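import Mathlib
import Cfsg.Agent.H11.JC1
import Cfsg.Agent.H6.Dihedral

/-!
# The dihedral endgame for `J₄`
-/

set_option autoImplicit false
set_option maxRecDepth 100000
set_option Elab.async false
set_option linter.all false

namespace H11.J4R

open Cfsg H29 H9 H9.MX H9.DC H9.J4 H9.JL H9.R Subgroup

section
variable {Y : Type*} [Group Y] [Finite Y]

theorem dih {x y : Y} (hx : x * x = 1) (hy : y * y = 1) (h : ¬ IsConj x y) :
    ∃ u, u ≠ 1 ∧ u * u = 1 ∧ u * x = x * u ∧ u * y = y * u ∧ (IsConj x (x * u) ∨ IsConj y (x * u)) := by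
  have he : Even (orderOf (x * y)) := Nat.not_odd_iff_even.1 fun h1 => h (H6.isConj_of_odd hx hy h1)
  obtain ⟨h1, h2, h3⟩ := H6.central_involution hx hy he
  refine ⟨_, H6.ne_one_of_orderOf_two h1, H6.mul_self_of_orderOf_two h1, h2.eq, h3.eq, ?_⟩
  have key : ∀ s : Y, s * (x * y) * s⁻¹ = (x * y)⁻¹ → ∀ m : ℕ, IsConj s (s * (x * y) ^ (m + m)) :=
    fun s h m => isConj_iff.2 ⟨((x * y) ^ m)⁻¹, by
      rw [← inv_pow, ← (show SemiconjBy s (x * y) (x * y)⁻¹ from mul_inv_eq_iff_eq_mul.1 h).pow_right m,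
        inv_pow, inv_inv, pow_add, mul_assoc]⟩
  obtain ⟨k, hk | hk⟩ := Nat.even_or_odd' (orderOf (x * y) / 2)
  · rw [hk, two_mul]; exact Or.inl (key x (H6.conj_mul_left hx hy) k)
  · rw [hk, two_mul, pow_succ', ← mul_assoc, show x * (x * y) = y by rw [← mul_assoc, hx, one_mul]]
    exact Or.inr (key y (H6.conj_mul_right hx hy) k)

theorem DH (Y0 A : Subgroup Y) (hA : A ≤ Y0) (hn : ∀ g ∈ Y0, ∀ a ∈ A, g * a * g⁻¹ ∈ A)
    (h2 : ∀ a ∈ A, a * a = 1) (hu : ∀ a ∈ A, a ≠ 1 → ∀ g, g⁻¹ * a * g ∈ Y0 → g ∈ Y0) {a b : Y}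
    (ha : a ∈ A) (hb : b ∈ A) (a1 : a ≠ 1) (b1 : b ≠ 1) (hab : ¬ IsConj a b) (c : Y) : c ∈ Y0 := by
  have cb : IsConj b (c⁻¹ * b * c) := isConj_iff.2 ⟨c⁻¹, by rw [inv_inv]⟩
  obtain ⟨u, u1, -, u2, u3, u4⟩ := dih (y := c⁻¹ * b * c) (h2 a ha)
    (by rw [show c⁻¹ * b * c * (c⁻¹ * b * c) = c⁻¹ * (b * b) * c by group, h2 b hb]; group)
    fun h => hab (h.trans cb.symm)
  have k1 : a * u ∈ Y0 := hu a ha a1 _ (by
    rw [mul_assoc, ← u2, ← mul_assoc a, ← u2, mul_assoc u a, ← mul_assoc u, inv_mul_cancel_left]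
    exact hA ha)
  have key : ∀ d ∈ A, d ≠ 1 → IsConj d (a * u) → u ∈ A := fun d hd d1 h => by
    obtain ⟨g, hg⟩ := isConj_iff.1 h
    have := hu d hd d1 g⁻¹ (by rw [inv_inv, hg]; exact k1)
    exact (mul_mem_cancel_left ha).1 (hg ▸ hn g ((inv_mem_iff (H := Y0)).1 this) d hd)
  have k2 : u ∈ A := u4.elim (key a ha a1) fun h => key b hb b1 (cb.trans h)
  exact hu b hb b1 c (hu u k2 u1 _ (by rw [mul_assoc, u3, inv_mul_cancel_left]; exact hA k2))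

theorem DHE (G0 A E : Subgroup Y) (hEA : E ≤ A) (hA : A ≤ G0) (hc : A ≤ centralizer (E : Set Y))
    (h2 : ∀ a ∈ A, a * a = 1) (hn : ∀ g ∈ G0, g ∈ centralizer (E : Set Y) → ∀ a ∈ A, g * a * g⁻¹ ∈ A)
    (hu : ∀ a ∈ A, a ∉ E → ∀ g ∈ centralizer (E : Set Y), g⁻¹ * a * g ∈ G0 → g ∈ G0) {a b : Y}
    (ha : a ∈ A) (hb : b ∈ A) (a1 : a ∉ E) (b1 : b ∉ E)
    (hab : ∀ g ∈ centralizer (E : Set Y), ∀ e ∈ E, g * a * g⁻¹ ≠ b * e) :
    centralizer (E : Set Y) ≤ G0 := by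
  set C := centralizer (E : Set Y)
  have : (E.subgroupOf C).Normal := ⟨fun e he g => by
    rw [mem_subgroupOf] at he ⊢
    show g.1 * e.1 * g.1⁻¹ ∈ E
    rw [← g.2 e he, mul_inv_cancel_right]; exact he⟩
  let π := QuotientGroup.mk' (E.subgroupOf C)
  have key : ∀ K : Subgroup Y, E ≤ K → ∀ g : C, π g ∈ (K.subgroupOf C).map π ↔ g.1 ∈ K := fun K hK g => by
    rw [← mem_comap, comap_map_eq_self (by rw [QuotientGroup.ker_mk']; exact subgroupOf_mono C hK),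
      mem_subgroupOf]
  have k0 := key G0 (hEA.trans hA)
  have kA := key A hEA
  have k1 : ∀ g : C, π g = 1 ↔ g.1 ∈ E := fun g => QuotientGroup.eq_one_iff g
  have sj := QuotientGroup.mk'_surjective (E.subgroupOf C)
  intro c hc'
  refine (k0 ⟨c, hc'⟩).1 (DH _ ((A.subgroupOf C).map π) (map_mono (subgroupOf_mono C hA)) ?_ ?_ ?_
    (a := π ⟨a, hc ha⟩) (b := π ⟨b, hc hb⟩) ((kA _).2 ha) ((kA _).2 hb) (mt (k1 _).1 a1) (mt (k1 _).1 b1) ?_ _)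
  · intro g hg x hx
    obtain ⟨g, rfl⟩ := sj g
    obtain ⟨x, rfl⟩ := sj x
    rw [← map_inv, ← map_mul, ← map_mul]
    exact (kA _).2 (hn _ ((k0 g).1 hg) g.2 _ ((kA x).1 hx))
  · intro x hx
    obtain ⟨x, rfl⟩ := sj x
    rw [← map_mul, show x * x = 1 from Subtype.ext (h2 _ ((kA x).1 hx)), map_one]
  · intro x hx x1 g hg
    obtain ⟨g, rfl⟩ := sj g
    obtain ⟨x, rfl⟩ := sj x
    rw [← map_inv, ← map_mul, ← map_mul] at hg
    exact (k0 g).2 (hu _ ((kA x).1 hx) (mt (k1 x).2 x1) _ g.2 ((k0 _).1 hg))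
  · intro h
    obtain ⟨g, hg⟩ := isConj_iff.1 h
    obtain ⟨g, rfl⟩ := sj g
    rw [← map_inv, ← map_mul, ← map_mul, eq_comm, ← inv_mul_eq_one, ← map_inv, ← map_mul] at hg
    exact hab g g.2 _ ((k1 _).1 hg) (by simp)

end

/-- The subgroup of `V` with a given list of codes. -/
def sp (L : List ℕ) (h : 0 ∈ L ∧ ∀ a ∈ L, ∀ b ∈ L, a ^^^ b ∈ L) : Subgroup G where
  carrier := {x | ∃ m ∈ L, vv m = x}
  one_mem' := ⟨0, h.1, vv_zero⟩
  mul_mem' := by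
    rintro _ _ ⟨a, ha, rfl⟩ ⟨b, hb, rfl⟩
    exact ⟨_, h.2 a ha b hb, vv_xor a b⟩
  inv_mem' := by
    rintro _ ⟨a, ha, rfl⟩
    exact ⟨a, ha, eq_inv_of_mul_eq_one_left (vv_sq a)⟩

theorem sp_le {L : List ℕ} {h : 0 ∈ L ∧ ∀ a ∈ L, ∀ b ∈ L, a ^^^ b ∈ L} : sp L h ≤ V := by
  rintro _ ⟨a, -, rfl⟩; exact vv_mem a

theorem odd_H0 : ¬ 2 ∣ H0.index := by
  have := H0.card_mul_index
  rw [card_H0, card_G] at this
  omega

theorem w0_eq : w0 = vv 440 := δ_pt (by norm_num) (by norm_num)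

section
variable {Γ : Type*} [Group Γ] [Finite Γ] {Φ : G →* Γ} (hΦ : Function.Injective Φ)
  (hC : centralizer {Φ s'} ≤ Φ.range) (hnc : ¬ IsConj (Φ s') (Φ w0))

theorem cent_conj {x y : G} (h : IsConj x y) (h1 : centralizer {Φ y} ≤ Φ.range) :
    centralizer {Φ x} ≤ Φ.range := fun g hg => by
  obtain ⟨c, rfl⟩ := isConj_iff.1 h
  have : Φ c * g * (Φ c)⁻¹ ∈ Φ.range := h1 (mem_centralizer_singleton_iff.2 (by
    simp only [map_mul, map_inv]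
    calc _ = Φ c * (g * Φ x) * (Φ c)⁻¹ := by group
      _ = _ := by rw [mem_centralizer_singleton_iff.1 hg]; group))
  have h2 : Φ c ∈ Φ.range := ⟨c, rfl⟩
  exact (mul_mem_cancel_left h2).1 ((mul_mem_cancel_right (inv_mem h2)).1 this)

include hΦ hC hnc

theorem U1 {x : G} (hx : IsConj x s') {g : Γ} (h : g⁻¹ * Φ x * g ∈ Φ.range) : g ∈ Φ.range := by
  obtain ⟨y, hy⟩ := h
  have c1 : IsConj (Φ x) (Φ y) := isConj_iff.2 ⟨g⁻¹, by rw [inv_inv, hy]⟩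
  have o1 : orderOf y = 2 := by
    rw [← orderOf_injective Φ hΦ, ← H6.orderOf_of_isConj c1, orderOf_injective Φ hΦ,
      H6.orderOf_of_isConj hx, ord_s]
  rcases inv_cases (H6.mul_self_of_orderOf_two o1) (H6.ne_one_of_orderOf_two o1) with h1 | h1
  · obtain ⟨c, rfl⟩ := isConj_iff.1 (hx.trans h1.symm)
    have : g * Φ c ∈ Φ.range := cent_conj hx hC (mem_centralizer_singleton_iff.2 (by
      simp only [map_mul, map_inv] at hy
      calc _ = g * (Φ c * Φ x * (Φ c)⁻¹) * Φ c := by group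
        _ = _ := by rw [hy]; group))
    exact (mul_mem_cancel_right (show Φ c ∈ Φ.range from ⟨c, rfl⟩)).1 this
  · exact absurd ((Φ.map_isConj hx).symm.trans (c1.trans (Φ.map_isConj h1))) hnc

theorem U2 {U : Subgroup Γ} (hU : ∀ u ∈ U, u * u = 1) (h1 : centralizer (U : Set Γ) ≤ Φ.range) {g : Γ}
    (h : ∀ u ∈ U, g⁻¹ * u * g ∈ Φ.range) : g ∈ Φ.range := by
  obtain ⟨c, hc⟩ := conj_into odd_H0 (U := (U.comap (MulAut.conj g).toMonoidHom).comap Φ)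
    (pg_of_pow fun x hx => hΦ (by
      have := hU _ hx
      simp only [MulEquiv.toMonoidHom_eq_coe, MonoidHom.coe_coe, MulAut.conj_apply, conj_mul,
        conj_eq_one_iff] at this
      rw [sq, map_mul, this, map_one]))
  refine (inv_mem_iff (H := Φ.range)).1 (U1 hΦ hC hnc (x := c * s' * c⁻¹) (isConj_iff.2 ⟨c, rfl⟩).symm
    (h1 fun u hu => ?_))
  obtain ⟨y, hy⟩ := h u hu
  have h2 := congrArg Φ (mem_centralizer_singleton_iff.1 (hc y (by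
    show g * Φ y * g⁻¹ ∈ U
    rw [hy]; simpa [mul_assoc] using hu)))
  simp only [map_mul, map_inv, hy, inv_inv] at h2 ⊢
  calc _ = g * Φ c * ((Φ c)⁻¹ * (g⁻¹ * u * g) * Φ c * Φ s') * (Φ c)⁻¹ * g⁻¹ := by group
    _ = _ := by rw [h2]; group

theorem stepE {L : List ℕ} (h : 0 ∈ L ∧ ∀ a ∈ L, ∀ b ∈ L, a ^^^ b ∈ L) (hw : 440 ∈ L)
    (hu : ∀ m < 2048, m ∉ L → ∀ g, (∀ l ∈ L, Φ (vv l) * g = g * Φ (vv l)) →
      g⁻¹ * Φ (vv m) * g ∈ Φ.range → g ∈ Φ.range)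
    (hL : ∀ l ∈ L, l < 2048 ∧ l ≠ 5 ∧ l ≠ dc 3 4 ∧ SX.testBit (5 ^^^ l) = true) :
    centralizer ((sp L h).map Φ : Set Γ) ≤ Φ.range := by
  have nm : ∀ m < 2048, Φ (vv m) ∈ (sp L h).map Φ → m ∈ L := by
    rintro m hm ⟨_, ⟨l, hl, rfl⟩, h1⟩
    exact vv_inj (hL l hl).1 hm (hΦ h1) ▸ hl
  refine DHE _ (V.map Φ) _ (map_mono sp_le) (map_le_range _ _) ?_ ?_ ?_ ?_ (a := Φ (vv 5))
    (b := Φ (vv (dc 3 4))) ⟨_, vv_mem _, rfl⟩ ⟨_, vv_mem _, rfl⟩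
    (fun h1 => (hL _ (nm _ (by norm_num) h1)).2.1 rfl) (fun h1 => (hL _ (nm _ (dc_lt _ _) h1)).2.2.1 rfl) ?_
  · rintro _ ⟨a, ha, rfl⟩ _ ⟨b, hb, rfl⟩
    rw [← map_mul, hvn.comm _ (sp_le hb) _ ha, map_mul]
  · rintro _ ⟨a, ha, rfl⟩
    rw [← map_mul, V_sq ha, map_one]
  · rintro _ ⟨x, rfl⟩ hx _ ⟨a, ha, rfl⟩
    refine ⟨_, conj_mem_V (g := x) (cent_δ pt01 (mem_centralizer_singleton_iff.2 (hΦ ?_))) ha, by simp⟩
    rw [map_mul, map_mul]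
    exact (hx _ ⟨_, ⟨440, hw, w0_eq.symm⟩, rfl⟩).symm
  · rintro _ ⟨a, ha, rfl⟩ h1 g hg h2
    obtain ⟨m, hm, rfl⟩ := exists_vv ha
    exact hu m hm (fun h3 => h1 ⟨_, ⟨m, h3, rfl⟩, rfl⟩) g (fun l hl => hg _ ⟨_, ⟨l, hl, rfl⟩, rfl⟩) h2
  · rintro g hg _ ⟨_, ⟨l, hl, rfl⟩, rfl⟩ h1
    obtain ⟨n, hn⟩ := conj_of_SX (hL l hl).2.2.2
    obtain ⟨n', hn'⟩ := conj_w0 (p := pt 3) (q := pt 4) (by decide)
    rw [δ_pt (by norm_num) (by norm_num)] at hn'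
    refine hnc ((Φ.map_isConj (isConj_iff.2 ⟨_, hn⟩)).trans (IsConj.trans (isConj_iff.2 ⟨g, ?_⟩)
      (Φ.map_isConj (isConj_iff.2 ⟨_, hn'⟩)).symm))
    have h2 : Φ (vv l) * g = g * Φ (vv l) := hg _ ⟨_, ⟨l, hl, rfl⟩, rfl⟩
    have h3 : Φ (vv l) * Φ (vv l) = 1 := by rw [← map_mul, vv_sq, map_one]
    rw [vv_xor, map_mul]
    calc _ = g * Φ (vv 5) * g⁻¹ * (g * Φ (vv l)) * g⁻¹ := by group
      _ = _ := by rw [h1, ← h2, mul_assoc, mul_inv_cancel_right, mul_assoc, h3, mul_one]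

theorem U1' {m l : ℕ} (h : SX.testBit (m ^^^ l) = true) {g : Γ} (h1 : Φ (vv l) * g = g * Φ (vv l))
    (h2 : g⁻¹ * Φ (vv m) * g ∈ Φ.range) : g ∈ Φ.range := by
  obtain ⟨n, hn⟩ := conj_of_SX h
  refine U1 hΦ hC hnc (isConj_iff.2 ⟨_, hn⟩).symm ?_
  rw [vv_xor, map_mul, ← mul_assoc, mul_assoc _ _ g, h1, ← mul_assoc]
  exact mul_mem h2 ⟨_, rfl⟩

theorem centE : centralizer ((sp [0, 440, 1677, 1845] (by decide)).map Φ : Set Γ) ≤ Φ.range :=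
  stepE hΦ hC hnc _ (by simp) (fun m hm h1 g h2 h3 => by
    have := (treeAll_iff _ _).1 (show treeAll (fun m => ou (memL m [0, 440, 1677, 1845])
      (H9.anyL [0, 440, 1677, 1845] fun l => SX.testBit (m ^^^ l))) 11 0 = true by decide +kernel) m hm
    simp only [ou_true, memL_true, anyL_iff] at this
    obtain ⟨l, hl, h4⟩ := this.resolve_left h1
    exact U1' hΦ hC hnc h4 (h2 l hl) h3) (by decide +kernel)

theorem centW : centralizer ((sp [0, 440] (by decide)).map Φ : Set Γ) ≤ Φ.range :=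
  stepE hΦ hC hnc _ (by simp) (fun m hm h1 g h2 h3 => by
    have := (treeAll_iff _ _).1 (show treeAll (fun m => ou (ou (memL m [0, 440])
      (H9.anyL [0, 440] fun l => SX.testBit (m ^^^ l))) (anyLt 22 fun r => H9.anyL [0, 440] fun l =>
        Nat.beq (m ^^^ l) (dc 0 (r + 2)))) 11 0 = true by decide +kernel) m hm
    simp only [ou_true, memL_true, anyL_iff, anyLt_iff, H29.beq_true] at this
    rcases this with (h4 | ⟨l, hl, h4⟩) | ⟨r, hr, l, hl, h4⟩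
    · exact absurd h4 h1
    · exact U1' hΦ hC hnc h4 (h2 l hl) h3
    have k0 : ∀ i < 24, ∀ j < 24, i ≠ j → pt i ≠ pt j := fun i hi j hj h h' => h (pt_inj hi hj h')
    obtain ⟨n, n0, n1, n2⟩ := Nb_trans3 (p := pt 0) (q := pt 1) (r := pt 2) (p' := pt 0) (q' := pt 1)
      (r' := pt (r + 2)) (by decide) (by decide) (by decide) (by decide)
      (k0 _ (by omega) _ (by omega) (by omega)) (k0 _ (by omega) _ (by omega) (by omega))
    have k1 : g⁻¹ * Φ (δ (pt 0) (pt (r + 2))) * g ∈ Φ.range := by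
      rw [δ_pt (by omega) (by omega), ← h4, vv_xor, map_mul, ← mul_assoc, mul_assoc _ _ g, h2 l hl,
        ← mul_assoc]
      exact mul_mem h3 ⟨_, rfl⟩
    have k2 : g⁻¹ * Φ w0 * g ∈ Φ.range := by
      rw [w0_eq, mul_assoc, h2 440 (by simp), inv_mul_cancel_left]; exact ⟨_, rfl⟩
    refine (mul_mem_cancel_left (inv_mem (show Φ (φ n) ∈ Φ.range from ⟨_, rfl⟩))).1 (U2 hΦ hC hnc ?_ (centE hΦ hC hnc) ?_)
    · rintro _ ⟨a, ha, rfl⟩
      rw [← map_mul, V_sq (sp_le ha), map_one]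
    have k3 : ∀ p q, ((Φ (φ n))⁻¹ * g)⁻¹ * Φ (δ p q) * ((Φ (φ n))⁻¹ * g) =
        g⁻¹ * Φ (δ (n.1 p) (n.1 q)) * g := fun p q => by
      rw [← conj_δ, map_mul, map_mul, map_inv]; group
    have k4 := k3 (pt 0) (pt 1)
    have k5 := k3 (pt 0) (pt 2)
    rw [n0, n1, δ_pt (by norm_num) (by norm_num)] at k4
    rw [n0, n2, δ_pt (by norm_num) (by norm_num)] at k5
    replace k4 := k4 ▸ (show _ ∈ Φ.range from k2)
    replace k5 := k5 ▸ k1
    rintro _ ⟨_, ⟨a, ha, rfl⟩, rfl⟩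
    simp only [List.mem_cons, List.not_mem_nil, or_false] at ha
    rcases ha with rfl | rfl | rfl | rfl
    · simp [vv_zero]
    · exact k4
    · exact k5
    · convert mul_mem k4 k5 using 1
      rw [show (1845 : ℕ) = dc 0 1 ^^^ dc 0 2 from rfl, vv_xor, map_mul]; group) (by decide +kernel)

theorem surj' : Function.Surjective Φ := fun g => by
  have hW : centralizer {Φ w0} ≤ Φ.range := fun c hc => centW hΦ hC hnc (by
    rintro _ ⟨_, ⟨a, ha, rfl⟩, rfl⟩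
    simp only [List.mem_cons, List.not_mem_nil, or_false] at ha
    rcases ha with rfl | rfl
    · simp [vv_zero]
    · rw [← w0_eq]; exact (mem_centralizer_singleton_iff.1 hc).symm)
  have w2 : Φ w0 * Φ w0 = 1 := by rw [← map_mul, V_sq (v := w0) (δ_mem _ _), map_one]
  obtain ⟨u, u1, u2, u3, u4, -⟩ := dih (x := Φ s') (y := g⁻¹ * Φ w0 * g) (by rw [← map_mul, ss, map_one])
    (by rw [show g⁻¹ * Φ w0 * g * (g⁻¹ * Φ w0 * g) = g⁻¹ * (Φ w0 * Φ w0) * g by group, w2]; group)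
    fun h => hnc (h.trans (isConj_iff.2 ⟨g, by group⟩))
  obtain ⟨y, rfl⟩ := hC (mem_centralizer_singleton_iff.2 u3)
  have h1 : centralizer {Φ y} ≤ Φ.range :=
    (inv_cases (hΦ (by rw [map_mul, u2, map_one])) fun h => u1 (by rw [h, map_one])).elim
      (fun h => cent_conj h hC) fun h => cent_conj h hW
  refine U2 hΦ hC hnc ?_ (centW hΦ hC hnc) ?_
  · rintro _ ⟨a, ha, rfl⟩
    rw [← map_mul, V_sq (sp_le ha), map_one]
  · rintro _ ⟨_, ⟨a, ha, rfl⟩, rfl⟩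
    simp only [List.mem_cons, List.not_mem_nil, or_false] at ha
    rcases ha with rfl | rfl
    · simp [vv_zero]
    · rw [← w0_eq]; exact h1 (mem_centralizer_singleton_iff.2 u4.symm)

end

end H11.J4R
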