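import Mathlib
import Cfsg.Agent.H17.ZStar
import Cfsg.Agent.S1161
import Cfsg.Agent.H24.Base5

/-!
# Finite Jordan division subrings in characteristic two are fields

An additive subgroup `S` of a finite ring of characteristic 2 which contains `1` and the inverse of
each of its non-zero elements is commutative and closed under multiplication.
-/

set_option autoImplicit false
set_option linter.unusedSectionVars false
set_option linter.style.haveILetI false

namespace H11.JF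

open Subgroup Cfsg H24
open scoped commutatorElement

universe u

variable {R : Type u} [Ring R] [Finite R] {S : AddSubgroup R}

/-- the hypothesis -/
structure JD (S : AddSubgroup R) : Prop where
  two : (2 : R) = 0
  one : (1 : R) ∈ S
  inv : ∀ a ∈ S, a ≠ 0 → ∃ b ∈ S, a * b = 1 ∧ b * a = 1

theorem JD.add_self (h : JD S) (x : R) : x + x = 0 := by rw [← two_mul, h.two, zero_mul]

theorem JD.eq_of_add (h : JD S) {x y : R} (hxy : x + y = 0) : x = y := by
  have := h.add_self y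
  calc x = x + (y + y) := by rw [this, add_zero]
    _ = y := by rw [← add_assoc, hxy, zero_add]

theorem JD.hua (h : JD S) {a b : R} (ha : a ∈ S) (hb : b ∈ S) : a * b * a ∈ S := by
  by_cases ha0 : a = 0
  · simp [ha0]
  by_cases hb0 : b = 0
  · simp [hb0]
  obtain ⟨a', ha'S, ha1, ha2⟩ := h.inv a ha ha0
  obtain ⟨b', hb'S, hb1, hb2⟩ := h.inv b hb hb0
  by_cases hc0 : b' + a = 0
  · have : b' = a := h.eq_of_add hc0
    rw [← this, hb2, one_mul]; exact hb'S
  obtain ⟨c, hcS, hc1, hc2⟩ := h.inv _ (S.add_mem hb'S ha) hc0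
  have key : (a' + c) * (a + a * b * a) = 1 := by
    have e1 : a + a * b * a = (b' + a) * (b * a) := by
      rw [add_mul, ← mul_assoc, hb2, one_mul, mul_assoc]
    have e2 : c * (a + a * b * a) = b * a := by rw [e1, ← mul_assoc, hc2, one_mul]
    rw [add_mul, e2, mul_add, ha2, ← mul_assoc, ← mul_assoc, ha2, one_mul, add_assoc, h.add_self,
      add_zero]
  have hd0 : a' + c ≠ 0 := by
    intro h0
    rw [h0, zero_mul] at key
    apply ha0
    rw [← mul_one a, ← key, mul_zero]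
  obtain ⟨e, heS, he1, he2⟩ := h.inv _ (S.add_mem ha'S hcS) hd0
  have : e = a + a * b * a := by
    rw [← mul_one e, ← key, ← mul_assoc, he2, one_mul]
  have h3 : a * b * a = a + e := by rw [this, ← add_assoc, h.add_self, zero_add]
  rw [h3]; exact S.add_mem ha heS

theorem JD.pow_mem (h : JD S) {a : R} (ha : a ∈ S) (n : ℕ) : a ^ n ∈ S := by
  induction n using Nat.twoStepInduction with
  | zero => simpa using h.one
  | one => simpa using ha
  | more n ih _ =>
    have : a ^ (n + 2) = a * a ^ n * a := by rw [pow_succ, pow_succ']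
    rw [this]; exact h.hua ha ih

theorem JD.eq_one_of_sq (h : JD S) {a : R} (ha : a ∈ S) (h2 : a * a = 1) : a = 1 := by
  by_contra hne
  have h0 : a + 1 ≠ 0 := fun h0 => hne (h.eq_of_add h0)
  obtain ⟨b, -, hb1, hb2⟩ := h.inv _ (S.add_mem ha h.one) h0
  have : (a + 1) * (a + 1) = 0 := by
    rw [add_mul, mul_add, h2, one_mul, mul_one, add_comm a 1, h.add_self]
  apply h0
  calc a + 1 = (a + 1) * ((a + 1) * b) := by rw [hb1, mul_one]
    _ = 0 := by rw [← mul_assoc, this, zero_mul]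

theorem JD.exists_odd (h : JD S) {a : R} (ha : a ∈ S) (ha0 : a ≠ 0) : ∃ n, Odd n ∧ a ^ n = 1 := by
  obtain ⟨b, -, hb1, hb2⟩ := h.inv a ha ha0
  let u : Rˣ := ⟨a, b, hb1, hb2⟩
  have hu : (u : R) = a := rfl
  refine ⟨orderOf u, ?_, by rw [← hu, ← Units.val_pow_eq_pow_val, pow_orderOf_eq_one, Units.val_one]⟩
  rw [← Nat.not_even_iff_odd]
  rintro ⟨k, hk⟩
  have hpos : 0 < orderOf u := orderOf_pos u
  have h1 : a ^ k * a ^ k = 1 := by
    rw [← pow_add, ← hk, ← hu, ← Units.val_pow_eq_pow_val, pow_orderOf_eq_one, Units.val_one]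
  have h2 := h.eq_one_of_sq (h.pow_mem ha k) h1
  have h3 : u ^ k = 1 := Units.ext (by rw [Units.val_pow_eq_pow_val, hu, h2, Units.val_one])
  have := Nat.le_of_dvd (by omega) (orderOf_dvd_of_pow_eq_one h3)
  omega

theorem JD.sq_ne_zero (h : JD S) {a : R} (ha : a ∈ S) (ha0 : a ≠ 0) : a * a ≠ 0 := by
  obtain ⟨b, -, hb1, hb2⟩ := h.inv a ha ha0
  intro h0
  apply ha0
  rw [← mul_one a, ← hb1, ← mul_assoc, h0, zero_mul]

theorem JD.sq_inj (h : JD S) {a b : R} (ha : a ∈ S) (hb : b ∈ S) (hab : a * a = b * b) : a = b := by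
  by_cases ha0 : a = 0
  · by_contra hne
    exact h.sq_ne_zero hb (fun hb0 => hne (ha0.trans hb0.symm)) (by rw [← hab, ha0, mul_zero])
  by_cases hb0 : b = 0
  · exact absurd (by rw [hab, hb0, mul_zero]) (h.sq_ne_zero ha ha0)
  obtain ⟨m, hm, hm1⟩ := h.exists_odd ha ha0
  obtain ⟨n, hn, hn1⟩ := h.exists_odd hb hb0
  obtain ⟨k, hk⟩ := hm.mul hn
  have e1 : a = (a * a) ^ (k + 1) := by
    rw [← pow_two, ← pow_mul, show 2 * (k + 1) = m * n + 1 by omega, pow_succ, pow_mul, hm1,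
      one_pow, one_mul]
  have e2 : b = (b * b) ^ (k + 1) := by
    rw [← pow_two, ← pow_mul, show 2 * (k + 1) = n * m + 1 by rw [mul_comm n m]; omega, pow_succ,
      pow_mul, hn1, one_pow, one_mul]
  rw [e1, hab, ← e2]

theorem JD.exists_sqrt (h : JD S) {a : R} (ha : a ∈ S) : ∃ c ∈ S, c * c = a := by
  let f : S → S := fun x => ⟨x * x, by simpa using h.hua x.2 h.one⟩
  have hf : Function.Injective f := fun x y hxy =>
    Subtype.ext (h.sq_inj x.2 y.2 (congrArg Subtype.val hxy))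
  obtain ⟨c, hc⟩ := Finite.surjective_of_injective hf ⟨a, ha⟩
  exact ⟨c, c.2, congrArg Subtype.val hc⟩

theorem JD.isUnit (h : JD S) {a : R} (ha : a ∈ S) (ha0 : a ≠ 0) : IsUnit a := by
  obtain ⟨b, -, hb1, hb2⟩ := h.inv a ha ha0
  exact ⟨⟨a, b, hb1, hb2⟩, rfl⟩

theorem JD.inverse_mem (h : JD S) {a : R} (ha : a ∈ S) : Ring.inverse a ∈ S := by
  by_cases ha0 : a = 0
  · rw [ha0, Ring.inverse_zero]; exact S.zero_mem
  obtain ⟨b, hb, hb1, hb2⟩ := h.inv a ha ha0
  have : Ring.inverse a = b := by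
    have := Ring.inverse_unit (⟨a, b, hb1, hb2⟩ : Rˣ)
    exact this
  rw [this]; exact hb

/-- the units lying in `S` -/
def InS (S : AddSubgroup R) (c : Rˣ) : Prop := (c : R) ∈ S

theorem JD.inv_mem (h : JD S) {c : Rˣ} (hc : InS S c) : InS S c⁻¹ := by
  have := h.inverse_mem hc
  rwa [Ring.inverse_unit] at this

/-- the permutation `x ↦ c x c` -/
def JD.U (h : JD S) (c : Rˣ) (hc : InS S c) : Equiv.Perm S where
  toFun x := ⟨c * x * c, h.hua hc x.2⟩
  invFun x := ⟨(c⁻¹ : Rˣ) * x * (c⁻¹ : Rˣ), h.hua (h.inv_mem hc) x.2⟩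
  left_inv x := Subtype.ext (by simp [mul_assoc])
  right_inv x := Subtype.ext (by simp [mul_assoc])

theorem JD.U_apply (h : JD S) (c : Rˣ) (hc : InS S c) (x : S) :
    ((h.U c hc x : S) : R) = c * x * c := rfl

theorem JD.U_inv (h : JD S) (c : Rˣ) (hc : InS S c) : (h.U c hc)⁻¹ = h.U c⁻¹ (h.inv_mem hc) := by
  ext x; rfl

theorem JD.inverse_inverse (h : JD S) {a : R} (ha : a ∈ S) :
    Ring.inverse (Ring.inverse a) = a := by
  by_cases ha0 : a = 0
  · simp [ha0]
  exact Ring.inverse_inverse (h.isUnit ha ha0)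

/-- inversion -/
noncomputable def JD.w (h : JD S) : Equiv.Perm S where
  toFun x := ⟨Ring.inverse x, h.inverse_mem x.2⟩
  invFun x := ⟨Ring.inverse x, h.inverse_mem x.2⟩
  left_inv x := Subtype.ext (h.inverse_inverse x.2)
  right_inv x := Subtype.ext (h.inverse_inverse x.2)

theorem JD.w_apply (h : JD S) (x : S) : ((h.w x : S) : R) = Ring.inverse (x : R) := rfl

theorem JD.w_mul_w (h : JD S) : h.w * h.w = 1 := by
  ext x; exact h.inverse_inverse x.2

theorem JD.w_inv (h : JD S) : h.w⁻¹ = h.w := inv_eq_of_mul_eq_one_right h.w_mul_w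

theorem JD.w_U (h : JD S) (c : Rˣ) (hc : InS S c) :
    h.w * h.U c hc = h.U c⁻¹ (h.inv_mem hc) * h.w := by
  ext x
  simp only [Equiv.Perm.coe_mul, Function.comp, h.w_apply, h.U_apply]
  by_cases hx : (x : R) = 0
  · simp [hx]
  obtain ⟨v, hv⟩ := h.isUnit x.2 hx
  rw [← hv, ← Units.val_mul, ← Units.val_mul, Ring.inverse_unit, Ring.inverse_unit]
  simp [mul_assoc]

theorem JD.U_U_U (h : JD S) (c d : Rˣ) (hc : InS S c) (hd : InS S d) :
    h.U d hd * h.U c hc * h.U d hd = h.U (d * c * d) (h.hua hd hc) := by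
  ext x
  simp only [Equiv.Perm.coe_mul, Function.comp, h.U_apply, Units.val_mul, mul_assoc]

theorem JD.U_congr (h : JD S) {c d : Rˣ} (hc : InS S c) (hd : InS S d) (e : c = d) :
    h.U c hc = h.U d hd := by subst e; rfl

theorem JD.inS_pow (h : JD S) {c : Rˣ} (hc : InS S c) (n : ℕ) : InS S (c ^ n) := by
  unfold InS; rw [Units.val_pow_eq_pow_val]; exact h.pow_mem hc n

theorem JD.inS_one (h : JD S) : InS S 1 := h.one

theorem JD.U_one (h : JD S) : h.U 1 h.inS_one = 1 := by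
  ext x; simp [h.U_apply]

theorem JD.U_pow (h : JD S) {c : Rˣ} (hc : InS S c) (n : ℕ) :
    h.U c hc ^ n = h.U (c ^ n) (h.inS_pow hc n) := by
  induction n with
  | zero => rw [pow_zero, ← h.U_one]; exact h.U_congr _ _ (by simp)
  | succ n ih =>
    rw [pow_succ', ih]
    ext x
    simp only [Equiv.Perm.coe_mul, Function.comp, h.U_apply, Units.val_pow_eq_pow_val]
    conv_rhs => rw [pow_succ']; enter [2]; rw [← pow_succ', pow_succ]
    simp only [mul_assoc]

theorem JD.U_inj (h : JD S) {c d : Rˣ} (hc : InS S c) (hd : InS S d) (e : h.U c hc = h.U d hd) :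
    c = d := by
  have := congrArg (fun g : Equiv.Perm S => ((g ⟨1, h.one⟩ : S) : R)) e
  simp only [h.U_apply, mul_one] at this
  exact Units.ext (h.sq_inj hc hd this)

theorem JD.exists_sqrt_unit (h : JD S) {c : Rˣ} (hc : InS S c) : ∃ d, InS S d ∧ d ^ 2 = c := by
  obtain ⟨d, hd, hdd⟩ := h.exists_sqrt hc
  by_cases hd0 : d = 0
  · refine ⟨1, h.inS_one, Units.ext ?_⟩
    have h0 : (c : R) = 0 := by rw [← hdd, hd0, mul_zero]
    have : (1 : R) = 0 := by rw [← c.mul_inv, h0, zero_mul]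
    rw [h0]; simpa using this
  obtain ⟨v, hv⟩ := h.isUnit hd hd0
  refine ⟨v, by unfold InS; rwa [hv], Units.ext ?_⟩
  rw [pow_two, Units.val_mul, hv, hdd]

/-- the Hua group -/
def JD.D (h : JD S) : Subgroup (Equiv.Perm S) := closure {g | ∃ c hc, g = h.U c hc}

/-- the Hua group extended by inversion -/
noncomputable def JD.X (h : JD S) : Subgroup (Equiv.Perm S) := h.D ⊔ zpowers h.w

theorem JD.U_mem (h : JD S) (c : Rˣ) (hc : InS S c) : h.U c hc ∈ h.D :=
  subset_closure ⟨c, hc, rfl⟩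

theorem JD.w_mem (h : JD S) : h.w ∈ h.X := mem_sup_right (mem_zpowers _)

theorem JD.w_conj (h : JD S) (c : Rˣ) (hc : InS S c) :
    h.w * h.U c hc * h.w⁻¹ = h.U c⁻¹ (h.inv_mem hc) := by
  rw [h.w_U, mul_inv_cancel_right]

theorem JD.D_nml (h : JD S) : h.D ⊴ h.X := by
  refine ⟨le_sup_left, sup_le le_normalizer ((zpowers_le (G := Equiv.Perm S)).2 ?_)⟩
  have key : ∀ g ∈ h.D, h.w * g * h.w⁻¹ ∈ h.D := by
    intro g hg
    have : h.D ≤ h.D.comap (MulAut.conj h.w).toMonoidHom := by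
      rw [JD.D, closure_le]
      rintro _ ⟨c, hc, rfl⟩
      change h.w * h.U c hc * h.w⁻¹ ∈ h.D
      rw [h.w_conj]; exact h.U_mem _ _
    exact this hg
  rw [mem_normalizer_iff]
  intro g
  refine ⟨key g, fun hg => ?_⟩
  have := key _ hg
  rwa [h.w_inv, ← mul_assoc, ← mul_assoc, h.w_mul_w, one_mul, mul_assoc, h.w_mul_w, mul_one]
    at this

theorem JD.conj_w (h : JD S) {g : Equiv.Perm S} (hg : g ∈ h.X) :
    ∃ c hc, g * h.w * g⁻¹ = h.U c hc * h.w := by
  have hX : h.X = closure ({g | ∃ c hc, g = h.U c hc} ∪ {h.w}) := by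
    rw [Subgroup.closure_union, JD.X, JD.D, zpowers_eq_closure]
  rw [hX] at hg
  have step : ∀ x ∈ ({g | ∃ c hc, g = h.U c hc} ∪ {h.w} : Set (Equiv.Perm S)),
      ∀ c hc, ∃ c' hc', x * (h.U c hc * h.w) * x⁻¹ = h.U c' hc' * h.w := by
    rintro x (⟨d, hd, rfl⟩ | rfl) c hc
    · refine ⟨d * c * d, h.hua hd hc, ?_⟩
      rw [← h.U_U_U c d hc hd, h.U_inv, mul_assoc, mul_assoc, h.w_U]
      simp only [mul_assoc, inv_inv]
    · refine ⟨c⁻¹, h.inv_mem hc, ?_⟩
      rw [← h.w_conj c hc]; group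
  have step' : ∀ x ∈ ({g | ∃ c hc, g = h.U c hc} ∪ {h.w} : Set (Equiv.Perm S)),
      x⁻¹ ∈ ({g | ∃ c hc, g = h.U c hc} ∪ {h.w} : Set (Equiv.Perm S)) := by
    rintro x (⟨d, hd, rfl⟩ | rfl)
    · exact Or.inl ⟨_, _, h.U_inv d hd⟩
    · exact Or.inr h.w_inv
  induction hg using closure_induction_left with
  | one => exact ⟨1, h.inS_one, by simp [h.U_one]⟩
  | mul_left x hx y _ ih =>
    obtain ⟨c, hc, e⟩ := ih
    obtain ⟨c', hc', e'⟩ := step x hx c hc
    exact ⟨c', hc', by rw [← e', ← e]; group⟩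
  | inv_mul_cancel x hx y _ ih =>
    obtain ⟨c, hc, e⟩ := ih
    obtain ⟨c', hc', e'⟩ := step _ (step' x hx) c hc
    exact ⟨c', hc', by rw [← e', ← e]; group⟩

theorem JD.U_sq_comm (h : JD S) (c : Rˣ) (hc : InS S c) :
    ∃ d hd, h.U c hc = h.w * h.U d hd * h.w⁻¹ * (h.U d hd)⁻¹ := by
  obtain ⟨e, he, hec⟩ := h.exists_sqrt_unit hc
  refine ⟨e⁻¹, h.inv_mem he, ?_⟩
  rw [h.w_conj, h.U_inv, ← pow_two, h.U_pow]
  exact h.U_congr _ _ (by rw [inv_inv, hec])

theorem JD.odd_D (h : JD S) (hw : h.w ≠ 1) : Odd (Nat.card h.D) := by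
  let z : h.X := ⟨h.w, h.w_mem⟩
  have hz : IsIsolatedInvolution z := by
    refine ⟨orderOf_eq_prime (Subtype.ext (by rw [pow_two]; exact h.w_mul_w))
      (fun e => hw (congrArg Subtype.val e)), fun g hg => ?_⟩
    obtain ⟨c, hc, e⟩ := h.conj_w g.2
    have hg' : h.w * (g.1 * h.w * g.1⁻¹) = (g.1 * h.w * g.1⁻¹) * h.w := congrArg Subtype.val hg
    rw [e, ← mul_assoc, h.w_U, mul_assoc (h.U c hc), h.w_mul_w, mul_assoc, h.w_mul_w, mul_one,
      mul_one] at hg'
    have h1 := h.U_inj _ _ hg'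
    have h2 : (c : R) * c = 1 := by
      rw [← Units.val_mul]; conv_lhs => enter [1, 1]; rw [← h1]
      simp
    have h3 : c = 1 := Units.ext (h.eq_one_of_sq hc h2)
    apply Subtype.ext
    change g.1 * h.w * g.1⁻¹ = h.w
    rw [e, h.U_congr hc h.inS_one h3, h.U_one, one_mul]
  have hle : h.D ≤ (pPrimeCore 2 h.X).map h.X.subtype := by
    rw [JD.D, closure_le]
    rintro _ ⟨c, hc, rfl⟩
    obtain ⟨d, hd, e⟩ := h.U_sq_comm c hc
    refine ⟨_, H17.zstar hz ⟨h.U d hd, h.D_nml.le (h.U_mem d hd)⟩, ?_⟩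
    rw [e]; rfl
  have h1 := card_dvd_of_le hle
  rw [card_map_of_injective h.X.subtype_injective] at h1
  exact Odd.of_dvd_nat H17.odd_card_pPrimeCore h1

theorem JD.D_add (h : JD S) {g : Equiv.Perm S} (hg : g ∈ h.D) (x y : S) : g (x + y) = g x + g y := by
  induction hg using closure_induction generalizing x y with
  | mem g hg =>
    obtain ⟨c, hc, rfl⟩ := hg
    apply Subtype.ext
    simp only [h.U_apply, AddSubgroup.coe_add, mul_add, add_mul]
  | one => rfl
  | mul a b _ _ ha hb => simp only [Equiv.Perm.coe_mul, Function.comp, ha, hb]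
  | inv a _ ha =>
    apply a.injective
    rw [ha]; simp

theorem JD.D_zero (h : JD S) {g : Equiv.Perm S} (hg : g ∈ h.D) : g 0 = 0 := by
  have := h.D_add hg 0 0
  rw [add_zero] at this
  exact (add_eq_left.1 this.symm)

theorem JD.exists_U (h : JD S) {x : S} (hx : x ≠ 0) : ∃ c hc, h.U c hc ⟨1, h.one⟩ = x := by
  obtain ⟨v, hv⟩ := h.isUnit x.2 (fun e => hx (Subtype.ext e))
  obtain ⟨d, hd, e⟩ := h.exists_sqrt_unit (c := v) (by unfold InS; rw [hv]; exact x.2)
  refine ⟨d, hd, Subtype.ext ?_⟩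
  rw [h.U_apply, mul_one, ← hv, ← e, pow_two, Units.val_mul]

theorem JD.cyc_D (h : JD S) (hw : h.w ≠ 1) : Cyc h.D := by
  have hodd := h.odd_D hw
  letI : DistribMulAction h.D S :=
    { smul := fun g x => g.1 x
      one_smul := fun _ => rfl
      mul_smul := fun _ _ _ => rfl
      smul_zero := fun g => h.D_zero g.2
      smul_add := fun g => h.D_add g.2 }
  haveI : FaithfulSMul h.D S := ⟨fun {a b} hab => Subtype.ext (Equiv.ext hab)⟩
  haveI : Nontrivial S := by
    by_contra hn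
    rw [not_nontrivial_iff_subsingleton] at hn
    exact hw (Subsingleton.elim _ _)
  have hH := Cfsg.Agent.S1161.result (D := h.D) (E := S) hodd Nat.prime_two
    (fun e => Subtype.ext (by rw [two_nsmul]; exact h.add_self _)) (by
      intro a b ha hb
      obtain ⟨c, hc, e1⟩ := h.exists_U ha
      obtain ⟨d, hd, e2⟩ := h.exists_U hb
      refine ⟨⟨h.U d hd * (h.U c hc)⁻¹, h.D.mul_mem (h.U_mem _ _) (h.D.inv_mem (h.U_mem _ _))⟩, ?_⟩
      change h.U d hd ((h.U c hc)⁻¹ a) = b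
      rw [← e1, ← e2]; simp)
  have hF : F[h.D] = (fittingSubgroup h.D).map h.D.subtype := by
    rw [← Fitting_top, ← Fitting_map_subtype, ← MonoidHom.range_eq_map, range_subtype]
  have hFc : Cyc F[h.D] := by
    rw [hF]; exact Cyc.map hH.1 _
  have hsol : Sol h.D := Cfsg.Agent.S0205.result hodd
  have hFn : F[h.D] ⊴ h.X := h.D_nml.Fitting
  have hle : h.D ≤ F[h.D] := by
    conv_lhs => rw [JD.D]
    rw [closure_le]
    rintro _ ⟨c, hc, rfl⟩
    refine cent_sub_Fitting hsol ⟨h.U_mem c hc, ?_⟩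
    obtain ⟨d, hd, e⟩ := h.U_sq_comm c hc
    haveI : (F[h.D].subgroupOf h.X).Normal := (normal_subgroupOf_iff_le_normalizer hFn.le).2 hFn.norm
    haveI : IsCyclic (F[h.D].subgroupOf h.X) := hFc.subgroupOf _
    have := H21.Hup.commutator_le_centralizer_of_cyclic (F[h.D].subgroupOf h.X)
      (commutator_mem_commutator (mem_top (⟨h.w, h.w_mem⟩ : h.X))
        (mem_top (⟨h.U d hd, h.D_nml.le (h.U_mem d hd)⟩ : h.X)))
    rw [e]
    intro y hy
    exact congrArg Subtype.val (this ⟨y, hFn.le hy⟩ hy)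
  exact hFc.of_le hle

theorem JD.exists_gen (h : JD S) : ∃ e ∈ S, ∀ a ∈ S, a ≠ 0 → ∃ n : ℕ, a = e ^ n := by
  by_cases hw : h.w = 1
  · refine ⟨1, h.one, fun a ha ha0 => ⟨0, ?_⟩⟩
    have := congrArg (fun g : Equiv.Perm S => ((g ⟨a, ha⟩ : S) : R)) hw
    simp only [h.w_apply, Equiv.Perm.coe_one, id] at this
    rw [pow_zero]
    apply h.eq_one_of_sq ha
    conv_lhs => enter [1]; rw [← this]
    exact Ring.inverse_mul_cancel _ (h.isUnit ha ha0)
  have hc := h.cyc_D hw
  obtain ⟨g, hg, hgen⟩ := hc.exists_gen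
  have hone : (⟨1, h.one⟩ : S) ≠ 0 := by
    intro e
    have e' : (1 : R) = 0 := congrArg Subtype.val e
    haveI : Subsingleton R := subsingleton_of_zero_eq_one e'.symm
    exact hw (Subsingleton.elim _ _)
  have hx : g ⟨1, h.one⟩ ≠ 0 := by
    rw [← h.D_zero hg]; exact fun e => hone (g.injective e)
  obtain ⟨e, he, e1⟩ := h.exists_U hx
  have hge : g = h.U e he := by
    ext y
    by_cases hy : y = 0
    · rw [hy, h.D_zero hg, h.D_zero (h.U_mem e he)]
    obtain ⟨c, hcS, rfl⟩ := h.exists_U hy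
    have c1 := congrArg (fun k : Equiv.Perm S => k ⟨1, h.one⟩) (hc.abl.comm hg (h.U_mem c hcS))
    have c2 := congrArg (fun k : Equiv.Perm S => k ⟨1, h.one⟩)
      (hc.abl.comm (h.U_mem e he) (h.U_mem c hcS))
    simp only [Equiv.Perm.coe_mul, Function.comp] at c1 c2
    rw [c1, c2, e1]
  refine ⟨e, he, fun a ha ha0 => ?_⟩
  obtain ⟨v, hv⟩ := h.isUnit ha ha0
  have hvS : InS S v := by unfold InS; rwa [hv]
  have hm := h.U_mem v hvS
  rw [← hgen, ← mem_powers_iff_mem_zpowers] at hm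
  obtain ⟨n, hn⟩ := hm
  refine ⟨n, ?_⟩
  simp only [hge, h.U_pow] at hn
  rw [← hv, ← h.U_inj _ _ hn, Units.val_pow_eq_pow_val]

theorem JD.comm (h : JD S) {a b : R} (ha : a ∈ S) (hb : b ∈ S) : a * b = b * a := by
  obtain ⟨e, -, he⟩ := h.exists_gen
  by_cases ha0 : a = 0
  · simp [ha0]
  by_cases hb0 : b = 0
  · simp [hb0]
  obtain ⟨m, rfl⟩ := he a ha ha0
  obtain ⟨n, rfl⟩ := he b hb hb0
  rw [← pow_add, ← pow_add, add_comm]

theorem JD.mul_mem' (h : JD S) {a b : R} (ha : a ∈ S) (hb : b ∈ S) : a * b ∈ S := by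
  obtain ⟨e, heS, he⟩ := h.exists_gen
  by_cases ha0 : a = 0
  · simp [ha0]
  by_cases hb0 : b = 0
  · simp [hb0]
  obtain ⟨m, rfl⟩ := he a ha ha0
  obtain ⟨n, rfl⟩ := he b hb hb0
  rw [← pow_add]; exact h.pow_mem heS _

/-- the subring -/
def JD.subring (h : JD S) : Subring R where
  carrier := S
  mul_mem' := h.mul_mem'
  one_mem' := h.one
  add_mem' := S.add_mem
  zero_mem' := S.zero_mem
  neg_mem' := S.neg_mem

theorem JD.isField (h : JD S) [Nontrivial R] : IsField h.subring where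
  exists_pair_ne := ⟨0, 1, zero_ne_one⟩
  mul_comm a b := Subtype.ext (h.comm a.2 b.2)
  mul_inv_cancel {a} ha := by
    obtain ⟨b, hb, hb1, -⟩ := h.inv a a.2 (fun e => ha (Subtype.ext e))
    exact ⟨⟨b, hb⟩, Subtype.ext hb1⟩

/-- a field in the base universe -/
theorem JD.exists_field (h : JD S) [Nontrivial R] :
    ∃ (F : Type) (_ : Field F) (_ : Fintype F) (φ : F →+* R), Function.Injective φ ∧
      ∀ a, a ∈ S ↔ ∃ x, φ x = a := by
  letI : Field h.subring := h.isField.toField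
  haveI : Small.{0} h.subring := inferInstance
  letI : Fintype (Shrink.{0} h.subring) := Fintype.ofFinite _
  refine ⟨Shrink.{0} h.subring, inferInstance, inferInstance,
    h.subring.subtype.comp (Shrink.ringEquiv h.subring).toRingHom, ?_, fun a => ⟨fun ha => ?_, ?_⟩⟩
  · exact h.subring.subtype_injective.comp (Shrink.ringEquiv h.subring).injective
  · exact ⟨(Shrink.ringEquiv h.subring).symm ⟨a, ha⟩, by simp⟩
  · rintro ⟨x, rfl⟩
    exact ((Shrink.ringEquiv h.subring) x).2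

end H11.JF
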