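import Mathlib
import Cfsg.Agent.H24.Base5
import Cfsg.Agent.H26.Coprime
import Cfsg.Agent.H26.S01a
import Cfsg.Agent.H3.Transfer
import Cfsg.Agent.H11.Basic
import Cfsg.Agent.H11.Ito

/-! Normal complements to nilpotent Hall subgroups; products of normal Hall subgroups of the
factors of a solvable factorised group. -/

set_option autoImplicit false

namespace H11

open Subgroup Cfsg H24 H26

universe u

variable {G : Type u} [Group G] [Finite G]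

theorem ncompl_of_forall {π : Set ℕ} {M : Subgroup G}
    (h : ∀ p, p.Prime → p ∈ π → p ∣ ♯M → NCompl {p} M) : NCompl π M := by
  set L : Subgroup G := Subgroup.closure {x | x ∈ M ∧ PiElt πᶜ x} with hL
  have hLM : L ≤ M := (closure_le _).2 fun x hx => hx.1
  have hLn : M ≤ N[L] := norm_closure fun a ha s hs =>
    subset_closure ⟨M.mul_mem (M.mul_mem ha hs.1) (M.inv_mem ha), hs.2.conj a⟩
  have hLp : IsPi πᶜ L := by
    intro p hp hd hπ
    have h1 := h p hp hπ (hd.trans (card_dvd hLM))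
    have h2 : L ≤ O[{p}ᶜ, M] := (closure_le _).2 fun x hx =>
      h1.mem_pcore (PiNat.compl_of_mem hx.2 hπ) hx.1
    exact ((pcore_pi _ _).of_le h2).not_dvd' hp rfl hd
  refine ncompl_of_nml (hall_of_syl hLM hLp fun p hp hπ _ => ?_) hLn
  obtain ⟨P, hP⟩ := Sylow_exists hp M
  exact ⟨P, hP, fun x hx => subset_closure ⟨hP.le hx, (hP.pi.piElt hx).of_mem hπ⟩⟩

theorem ncompl_of_no_fusion {p : ℕ} {M P : Subgroup G} (hp : p.Prime) (hP : Syl p M P)
    (h : ∀ x ∈ P, ∀ g ∈ M, g * x * g⁻¹ ∈ P → ∃ w ∈ P, w * x * w⁻¹ = g * x * g⁻¹) :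
    NCompl {p} M := by
  have := Fact.mk hp
  obtain ⟨S, rfl⟩ := hP.exists_sylow hp
  rw [ncompl_iff_hasNPC hp]
  apply H3.hasNPC_of_no_fusion S
  intro x hx g hg
  obtain ⟨_, ⟨w, hw, rfl⟩, e⟩ := h x (mem_map_of_mem _ hx) g g.2 (mem_map_of_mem M.subtype hg)
  exact ⟨w, hw, Subtype.ext e⟩

/-- Wielandt's criterion. -/
theorem ncompl_of_nil_hall {M H : Subgroup G} (hH : Nil H) (hHall : IsHall M H)
    (h : ∀ p, p.Prime → p ∣ ♯H → ∃ q, q.Prime ∧ q ≠ p ∧ q ∣ ♯H ∧ M ⊓ N[O[{q}, H]] ≤ H) :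
    NCompl (primesOf H) M := by
  apply ncompl_of_forall
  intro p hp hπ _
  obtain ⟨q, hq, hqp, hqd, hN⟩ := h p hp hπ.2
  have hP := hHall.syl (hH.pcore_hall {p}) hp hπ.2
  have hQ := hHall.syl (hH.pcore_hall {q}) hq hqd
  apply ncompl_of_no_fusion hp hP
  intro x hx g hg hy
  set Q := O[{q}, H] with hQd
  have hQc : Q ≤ C[O[{p}, H]] := pcore_cent_pcore_of_ne hqp H
  have h1 : Q ≤ M ⊓ C{g * x * g⁻¹} := le_inf hQ.le (hQc.trans (C_le_C1 hy))
  have h2 : cj g Q ≤ M ⊓ C{g * x * g⁻¹} := by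
    refine le_inf (cj_le_of_mem hQ.le hg) ?_
    rw [← cj_C1]
    exact cj_mono g (hQc.trans (C_le_C1 hx))
  obtain ⟨c, hc, e⟩ := Sylow_trans hq (hQ.of_le h1 inf_le_left)
    ((hQ.cj_mem hg).of_le h2 inf_le_left)
  have hw : c⁻¹ * g ∈ H := hN ⟨M.mul_mem (M.inv_mem hc.1) hg, cj_eq_cj_iff.1 e⟩
  obtain ⟨a, ha, b, hb, e'⟩ := (hH.pcoreC {p}).isProd.mul _ hw
  refine ⟨a, ha, ?_⟩
  have h3 : b * x * b⁻¹ = x := conj_eq_of_mem_C (pcore_compl_cent_pcore _ _ hb) hx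
  have h4 : c⁻¹ * (g * x * g⁻¹) * c⁻¹⁻¹ = g * x * g⁻¹ := mem_C1_iff_conj.1 (inv_mem hc.2)
  calc a * x * a⁻¹ = a * (b * x * b⁻¹) * a⁻¹ := by rw [h3]
    _ = (a * b) * x * (a * b)⁻¹ := by group
    _ = c⁻¹ * (g * x * g⁻¹) * c⁻¹⁻¹ := by rw [← e']; group
    _ = _ := h4

omit [Finite G] in
theorem isProd_top_iff {A B : Subgroup G} :
    IsProd A B ⊤ ↔ ∀ g : G, ∃ a ∈ A, ∃ b ∈ B, g = a * b :=
  ⟨fun h g => h.mul g trivial, fun h => ⟨le_top, le_top, fun g _ => h g⟩⟩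

omit [Finite G] in
theorem IsProd.cj' {A B M : Subgroup G} (h : IsProd A B M) (g : G) :
    IsProd (cj g A) (cj g B) (cj g M) := by
  refine ⟨cj_mono g h.left_le, cj_mono g h.right_le, fun m hm => ?_⟩
  obtain ⟨y, hy, rfl⟩ := mem_cj'.1 hm
  obtain ⟨a, ha, b, hb, rfl⟩ := h.mul y hy
  exact ⟨_, conj_mem_cj g ha, _, conj_mem_cj g hb, by group⟩

omit [Finite G] in
open Pointwise in
theorem IsProd.coe_eq {A B M : Subgroup G} (h : IsProd A B M) : (M : Set G) = (A : Set G) * B := by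
  ext m
  constructor
  · intro hm
    obtain ⟨a, ha, b, hb, rfl⟩ := h.mul m hm
    exact Set.mul_mem_mul ha hb
  · rintro ⟨a, ha, b, hb, rfl⟩
    exact M.mul_mem (h.left_le ha) (h.right_le hb)

theorem exists_isProd_of_hall {M H K A B : Subgroup G} (hM : Sol M) (hHK : IsProd H K M)
    (hA : A ⊴ H) (hB : B ⊴ K) (hAh : IsHall M A) (hBh : IsHall M B) :
    ∃ R, IsProd A B R ∧ Hall (primesOf A ∪ primesOf B) M R := by
  obtain ⟨R, hR, hAR⟩ := Hall_superset hM hAh.le ((isPi_primesOf A).mono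
    (Set.subset_union_left (t := primesOf B)))
  obtain ⟨g, hg, hBR⟩ := Hall_subJ hM hR hBh.le ((isPi_primesOf B).mono Set.subset_union_right)
  obtain ⟨k, hk, h, hh, rfl⟩ := hHK.symm.mul g hg
  have h1 : B ≤ cj h R := by
    rw [cj_mul, le_cj_iff, cj_of_mem_N (hB.norm (K.inv_mem hk))] at hBR
    exact hBR
  have h2 : A ≤ cj h R := (cj_of_mem_N (hA.norm hh)).symm.le.trans (cj_mono h hAR)
  have hR' := hR.cj_mem (hHK.left_le hh)
  refine ⟨cj h R, isProd_of_coprime_relIndex h2 h1 ?_, hR'⟩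
  rw [Nat.coprime_iff_gcd_eq_one, Nat.eq_one_iff_not_exists_prime_dvd]
  intro r hr hd
  have d1 := hd.trans (Nat.gcd_dvd_left _ _)
  have d2 := hd.trans (Nat.gcd_dvd_right _ _)
  rcases hR'.pi.mem hr (d1.trans (relIndex_dvd_card _ _)) with e | e
  · exact (hAh.of_le h2 hR'.le).hall.idx.not_dvd' hr e d1
  · exact (hBh.of_le h1 hR'.le).hall.idx.not_dvd' hr e d2

end H11
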