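import Mathlib
import Cfsg.Agent.H11.Basic

/-!
# Solvable primitive groups; Kegel's lemma; Sylow subgroups of products
-/

set_option autoImplicit false

namespace H11

open Subgroup Pointwise
open scoped commutatorElement

universe u

variable {G : Type u} [Group G]

theorem normalCore_stabilizer_eq_bot {Ω : Type*} [MulAction G Ω] [FaithfulSMul G Ω]
    [MulAction.IsPretransitive G Ω] (ω : Ω) : (MulAction.stabilizer G ω).normalCore = ⊥ := by
  rw [eq_bot_iff]
  intro g hg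
  rw [mem_bot]
  apply eq_of_smul_eq_smul (α := Ω)
  intro x
  obtain ⟨h, rfl⟩ := MulAction.exists_smul_eq G ω x
  have : (h⁻¹ * g * h⁻¹⁻¹) • ω = ω := hg h⁻¹
  rw [inv_inv, mul_smul, mul_smul, inv_smul_eq_iff] at this
  rw [this, one_smul]

theorem isCoatom_stabilizer_of_ne_bot {Ω : Type*} [MulAction G Ω] [FaithfulSMul G Ω]
    (hprim : MulAction.IsPreprimitive G Ω) {M : Subgroup G} (hM : M ≠ ⊥) (ω : Ω) :
    IsCoatom (MulAction.stabilizer G ω) := by
  rcases subsingleton_or_nontrivial Ω with h | h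
  · exfalso
    apply hM
    rw [eq_bot_iff]
    intro g _
    rw [mem_bot]
    exact eq_of_smul_eq_smul (α := Ω) fun x => Subsingleton.elim _ _
  · exact hprim.isCoatom_stabilizer_of_isPreprimitive G ω

/-- Kegel's lemma. -/
theorem kegel [Finite G] {A B : Subgroup G}
    (h : ∀ x : G, ∃ S : Subgroup G, S ≠ ⊤ ∧
      (S : Set G) = (A : Set G) * ((MulAut.conj x • B : Subgroup G) : Set G)) :
    ∃ N : Subgroup G, N.Normal ∧ N ≠ ⊤ ∧ (A ≤ N ∨ B ≤ N) := by
  induction A using WellFoundedGT.induction with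
  | ind A ih =>
  choose S hS hS' using h
  have hAS : ∀ x, A ≤ S x := fun x a ha => by
    rw [← SetLike.mem_coe, hS']; exact ⟨a, ha, 1, one_mem _, mul_one a⟩
  have hBS : ∀ x, MulAut.conj x • B ≤ S x := fun x b hb => by
    rw [← SetLike.mem_coe, hS']; exact ⟨1, one_mem _, b, hb, one_mul b⟩
  by_cases hn : ∀ y : G, MulAut.conj y • B ≤ normalizer (A : Set G)
  · by_cases hA : A.Normal
    · exact ⟨A, hA, fun e => hS 1 (top_le_iff.1 (e ▸ hAS 1)), Or.inl le_rfl⟩
    · refine ⟨normalClosure B, inferInstance, fun e => hA (normal_of_top_le ?_),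
        Or.inr le_normalClosure⟩
      rw [← e, normalClosure, closure_le]
      intro z hz
      obtain ⟨b, hb, hz⟩ := Group.mem_conjugatesOfSet_iff.1 hz
      obtain ⟨c, rfl⟩ := isConj_iff.1 hz
      exact hn c (smul_mem_pointwise_smul b (MulAut.conj c) B hb)
  push Not at hn
  obtain ⟨y, hy⟩ := hn
  obtain ⟨b, hb, hbA⟩ := SetLike.not_le_iff_exists.1 hy
  -- `A₁ = ⟨A, A^b⟩`
  have hlt : A < A ⊔ MulAut.conj b • A := by
    refine lt_of_le_of_ne le_sup_left fun e => hbA ?_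
    have : MulAut.conj b • A ≤ A := le_sup_right.trans e.symm.le
    exact H1.conj_smul_eq_iff_mem_normalizer.1
      (eq_of_le_of_card_ge this (H1.card_conj_smul b A).ge)
  have hA₁ : A ⊔ MulAut.conj b • A ≤ S y :=
    sup_le (hAS y) (H1.conj_smul_le_of_mem_normalizer (hAS y) (le_normalizer (hBS y hb)))
  -- every conjugate of `A` permutes with every conjugate of `B`
  have perm : ∀ g x : G, ∀ a ∈ MulAut.conj g • A, ∀ c ∈ MulAut.conj x • B,
      ∃ a' ∈ MulAut.conj g • A, ∃ c' ∈ MulAut.conj x • B, c * a = a' * c' := by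
    intro g x a ha c hc
    rw [H1.mem_conj_smul] at ha hc
    have h1 : (g⁻¹ * c * g) * (g⁻¹ * a * g) ∈ S (g⁻¹ * x) := by
      refine mul_mem (hBS _ ?_) (hAS _ ha)
      rw [H1.mem_conj_smul]; simpa [mul_assoc] using hc
    rw [← SetLike.mem_coe, hS'] at h1
    obtain ⟨a', ha', c', hc', e⟩ := h1
    rw [SetLike.mem_coe, H1.mem_conj_smul] at hc'
    refine ⟨g * a' * g⁻¹, ?_, g * c' * g⁻¹, ?_, ?_⟩
    · rw [H1.mem_conj_smul]; simpa [mul_assoc] using ha'
    · rw [H1.mem_conj_smul]; simpa [mul_assoc] using hc'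
    · calc c * a = g * ((g⁻¹ * c * g) * (g⁻¹ * a * g)) * g⁻¹ := by group
        _ = _ := by rw [← e]; group
  have perm₁ : ∀ x : G, ∀ a ∈ A ⊔ MulAut.conj b • A, ∀ c ∈ MulAut.conj x • B,
      ∃ a' ∈ A ⊔ MulAut.conj b • A, ∃ c' ∈ MulAut.conj x • B, c * a = a' * c' := by
    intro x a ha
    rw [sup_eq_closure] at ha
    induction ha using closure_induction'' with
    | mem a ha =>
      intro c hc
      rcases ha with ha | ha
      · obtain ⟨a', ha', c', hc', e⟩ := perm 1 x a (by simpa using ha) c hc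
        exact ⟨a', mem_sup_left (by simpa using ha'), c', hc', e⟩
      · obtain ⟨a', ha', c', hc', e⟩ := perm b x a ha c hc
        exact ⟨a', mem_sup_right ha', c', hc', e⟩
    | inv_mem a ha =>
      intro c hc
      rcases ha with ha | ha
      · obtain ⟨a', ha', c', hc', e⟩ := perm 1 x a⁻¹ (by simpa using ha) c hc
        exact ⟨a', mem_sup_left (by simpa using ha'), c', hc', e⟩
      · obtain ⟨a', ha', c', hc', e⟩ := perm b x a⁻¹ (inv_mem ha) c hc
        exact ⟨a', mem_sup_right ha', c', hc', e⟩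
    | one => exact fun c hc => ⟨1, one_mem _, c, hc, by simp⟩
    | mul a₁ a₂ _ _ ih₁ ih₂ =>
      intro c hc
      obtain ⟨a', ha', c', hc', e⟩ := ih₁ c hc
      obtain ⟨a'', ha'', c'', hc'', e'⟩ := ih₂ c' hc'
      exact ⟨a' * a'', mul_mem ha' ha'', c'', hc'', by rw [← mul_assoc, e, mul_assoc, e', mul_assoc]⟩
  obtain ⟨N, hN, hN', hle⟩ := ih (A ⊔ MulAut.conj b • A) hlt (fun x => by
    let T : Subgroup G :=
      { carrier := ((A ⊔ MulAut.conj b • A : Subgroup G) : Set G) *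
          ((MulAut.conj x • B : Subgroup G) : Set G)
        one_mem' := ⟨1, one_mem _, 1, one_mem _, mul_one 1⟩
        mul_mem' := by
          rintro _ _ ⟨a₁, ha₁, c₁, hc₁, rfl⟩ ⟨a₂, ha₂, c₂, hc₂, rfl⟩
          obtain ⟨a', ha', c', hc', e⟩ := perm₁ x a₂ ha₂ c₁ hc₁
          refine ⟨a₁ * a', mul_mem ha₁ ha', c' * c₂, mul_mem hc' hc₂, ?_⟩
          calc a₁ * a' * (c' * c₂) = a₁ * (a' * c') * c₂ := by group
            _ = _ := by rw [← e]; group
        inv_mem' := by
          rintro _ ⟨a, ha, c, hc, rfl⟩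
          obtain ⟨a', ha', c', hc', e⟩ := perm₁ x a⁻¹ (inv_mem ha) c⁻¹ (inv_mem hc)
          exact ⟨a', ha', c', hc', e.symm.trans (mul_inv_rev a c).symm⟩ }
    refine ⟨T, fun e => hS y ?_, rfl⟩
    have h1 : ∀ g : G, ∃ a ∈ A ⊔ MulAut.conj b • A, ∃ c ∈ MulAut.conj x • B, g = a * c := by
      intro g
      obtain ⟨a, ha, c, hc, e⟩ : g ∈ T := e ▸ mem_top g
      exact ⟨a, ha, c, hc, e.symm⟩
    have h2 := forall_mul_conj h1 1 (y * x⁻¹)
    rw [← H1.conj_mul_smul, inv_mul_cancel_right, map_one, one_smul] at h2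
    rw [eq_top_iff, ← sup_eq_top_of_mul h2]
    exact sup_le hA₁ (hBS y))
  exact ⟨N, hN, hN', hle.imp_left fun h => le_sup_left.trans h⟩

theorem card_sylow_mul_le [Finite G] {H K : Subgroup G}
    (hHK : ∀ g : G, ∃ h ∈ H, ∃ k ∈ K, g = h * k) {p : ℕ} [Fact p.Prime] (P : Sylow p H)
    (Q : Sylow p K) (R : Sylow p G) :
    Nat.card R * Nat.card ↥((P : Subgroup H).map H.subtype ⊓ (Q : Subgroup K).map K.subtype) ≤
      Nat.card ↥((P : Subgroup H).map H.subtype) * Nat.card ↥((Q : Subgroup K).map K.subtype) := by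
  have hp : p.Prime := Fact.out
  have h1 := card_mul_card_inf_of_mul hHK
  have h2 := congrArg (fun n => n.factorization p) h1
  simp only [Nat.factorization_mul Nat.card_pos.ne' Nat.card_pos.ne', Finsupp.add_apply] at h2
  obtain ⟨k, hk⟩ := (((P.isPGroup'.map H.subtype).to_inf_left
    (K := (Q : Subgroup K).map K.subtype))).exists_card_eq
  have h3 : p ^ k ∣ Nat.card ↥(H ⊓ K) :=
    hk ▸ card_dvd_of_le (inf_le_inf (map_subtype_le _) (map_subtype_le _))
  have h4 := (hp.pow_dvd_iff_le_factorization Nat.card_pos.ne').1 h3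
  rw [hk, H2.card_map_subtype, H2.card_map_subtype, P.card_eq_multiplicity, Q.card_eq_multiplicity,
    R.card_eq_multiplicity, ← pow_add, ← pow_add]
  exact Nat.pow_le_pow_right hp.pos (by omega)

theorem exists_sylow_le_sylow [Finite G] {H K : Subgroup G}
    (hHK : ∀ g : G, ∃ h ∈ H, ∃ k ∈ K, g = h * k) (p : ℕ) [Fact p.Prime] :
    ∃ (P : Sylow p H) (Q : Sylow p K) (R : Sylow p G),
      (P : Subgroup H).map H.subtype ≤ R ∧ (Q : Subgroup K).map K.subtype ≤ R := by
  obtain ⟨P⟩ : Nonempty (Sylow p H) := inferInstance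
  obtain ⟨Q⟩ : Nonempty (Sylow p K) := inferInstance
  obtain ⟨R₁, h₁⟩ := (P.isPGroup'.map H.subtype).exists_le_sylow
  obtain ⟨R₂, h₂⟩ := (Q.isPGroup'.map K.subtype).exists_le_sylow
  obtain ⟨g, rfl⟩ := MulAction.exists_smul_eq G R₁ R₂
  obtain ⟨k, hk, h, hh, rfl⟩ := exists_mul_swap hHK g
  refine ⟨(⟨h, hh⟩ : H) • P, (⟨k, hk⟩ : K)⁻¹ • Q, h • R₁, ?_, ?_⟩
  · rw [Sylow.coe_subgroup_smul, Sylow.coe_subgroup_smul, ← H1.conj_coe_smul_map_subtype]
    exact pointwise_smul_le_pointwise_smul_iff.2 h₁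
  · rw [Sylow.coe_subgroup_smul, Sylow.coe_subgroup_smul, ← H1.conj_coe_smul_map_subtype]
    rw [Sylow.coe_subgroup_smul, H1.conj_mul_smul] at h₂
    have := (pointwise_smul_le_pointwise_smul_iff (a := MulAut.conj k⁻¹)).2 h₂
    rwa [← H1.conj_mul_smul, inv_mul_cancel, map_one, one_smul] at this

theorem exists_sylow_mul [Finite G] {H K : Subgroup G}
    (hHK : ∀ g : G, ∃ h ∈ H, ∃ k ∈ K, g = h * k) (p : ℕ) [Fact p.Prime] :
    ∃ (P : Sylow p H) (Q : Sylow p K) (R : Sylow p G), ((R : Subgroup G) : Set G) =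
      (((P : Subgroup H).map H.subtype : Subgroup G) : Set G) *
        (((Q : Subgroup K).map K.subtype : Subgroup G) : Set G) := by
  obtain ⟨P, Q, R, h1, h2⟩ := exists_sylow_le_sylow hHK p
  exact ⟨P, Q, R, coe_eq_mul_of_card_le h1 h2 (card_sylow_mul_le hHK P Q R)⟩

/-- core-free maximal subgroups of a solvable group are conjugate -/
theorem corefree_conj [Finite G] [Group.IsSolvable G] {U V : Subgroup G} (hU : IsCoatom U)
    (hV : IsCoatom V) (hUc : U.normalCore = ⊥) (hVc : V.normalCore = ⊥) :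
    ∃ g : G, MulAut.conj g • U = V := by
  have hG : Nontrivial G := by
    by_contra h
    rw [not_nontrivial_iff_subsingleton] at h
    exact hU.1 (Subsingleton.elim _ _)
  obtain ⟨N, p, hp, hN, -, hNc, hNp, -⟩ := H2.exists_elementary_abelian_normal_le
    (N := (⊤ : Subgroup G)) inferInstance inferInstance top_ne_bot
  have := hN.1
  have := Fact.mk hp
  obtain ⟨hC, hU1, hU2, -⟩ := abelian_normal_of_corefree hU hUc hN.2.1
  obtain ⟨-, hV1, hV2, -⟩ := abelian_normal_of_corefree hV hVc hN.2.1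
  by_cases hNt : N = ⊤
  · rw [hNt, top_inf_eq] at hU1 hV1
    exact ⟨1, by rw [hU1, hV1, map_one, one_smul]⟩
  have : Nontrivial (G ⧸ N) := QuotientGroup.nontrivial_iff.2 hNt
  obtain ⟨L', q, hq, hL', -, -, hLq, -⟩ := H2.exists_elementary_abelian_normal_le
    (N := (⊤ : Subgroup (G ⧸ N))) inferInstance inferInstance top_ne_bot
  have := hL'.1
  have := Fact.mk hq
  set L := L'.comap (QuotientGroup.mk' N) with hL
  have hNL : N ≤ L := H2.le_comap_mk' N L'
  have hLN : ¬ L ≤ N := fun h => hL'.2.1 (by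
    rw [← H2.map_comap_mk' N L', H2.map_mk'_eq_bot_iff]; exact h)
  have hpq : q ≠ p := by
    rintro rfl
    have hLp : IsPGroup q L := hLq.comap_of_ker_isPGroup _ (by rwa [QuotientGroup.ker_mk'])
    exact hLN ((le_centralizer_iff.1
      (hN.le_centralizer_of_isNilpotent inferInstance hLp.isNilpotent)).trans hC.le)
  have key : ∀ W : Subgroup G, IsCoatom W → W.normalCore = ⊥ → N ⊓ W = ⊥ → N ⊔ W = ⊤ →
      N ⊔ (W ⊓ L) = L ∧ IsPGroup q ↥(W ⊓ L) ∧
        normalizer ((W ⊓ L : Subgroup G) : Set G) = W ∧ Nat.card ↥(W ⊓ L) = Nat.card L' := by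
    intro W hW hWc h1 h2
    have e := (eq_sup_inf_of_sup_eq_top h2 hNL).symm
    have hcard : Nat.card ↥(W ⊓ L) = Nat.card L' := by
      have c1 := H2.card_comap_mk' N L'
      have c2 := H2.card_sup_of_disjoint (H := W ⊓ L) (K := N) le_normalizer_of_normal
        (by rw [eq_bot_iff, ← h1, inf_comm]; exact inf_le_inf_left _ inf_le_left)
      rw [sup_comm, e, c1, mul_comm] at c2
      exact (Nat.eq_of_mul_eq_mul_right Nat.card_pos c2).symm
    obtain ⟨k, hk⟩ := hLq.exists_card_eq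
    refine ⟨e, IsPGroup.of_card (hcard.trans hk), ?_, hcard⟩
    have hle : W ≤ normalizer ((W ⊓ L : Subgroup G) : Set G) :=
      H1.le_normalizer_inf le_normalizer le_normalizer_of_normal
    refine ((hW.le_iff.1 hle).resolve_left fun h => hLN ?_)
    rw [← e, eq_bot_of_normal_of_le_of_normalCore hWc (normalizer_eq_top_iff.1 h) inf_le_left,
      sup_bot_eq]
  obtain ⟨a1, a2, a3, a4⟩ := key U hU hUc hU1 hU2
  obtain ⟨b1, b2, b3, b4⟩ := key V hV hVc hV1 hV2
  obtain ⟨n, -, hn⟩ := H1.exists_conj_eq_of_le_sup N (U ⊓ L) (V ⊓ L) le_normalizer_of_normal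
    le_normalizer_of_normal (IsPGroup.coprime_card_of_ne q p hpq _ _ b2 hNp)
    (Or.inl inferInstance) (by rw [a1]; exact inf_le_right) (by rw [a4, b4])
  exact ⟨n, by rw [← a3, ← H1.normalizer_conj_smul, hn, b3]⟩

end H11
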