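import Mathlib
import Cfsg.Agent.H11.NilHall
import Cfsg.Agent.H11.Primitive
import Cfsg.Agent.H4.Central

/-! Products of two nilpotent groups of coprime orders (Wielandt). -/

set_option autoImplicit false

namespace H11

open Subgroup Cfsg H24 H26

universe u

variable {G : Type u} [Group G] [Finite G]

omit [Finite G] in
open Pointwise in
theorem isProd_of_coe_eq {A B M : Subgroup G} (h : (M : Set G) = (A : Set G) * B) :
    IsProd A B M := by
  refine ⟨fun a ha => ?_, fun b hb => ?_, fun m hm => ?_⟩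
  · change a ∈ (M : Set G)
    rw [h]; exact ⟨a, ha, 1, B.one_mem, mul_one a⟩
  · change b ∈ (M : Set G)
    rw [h]; exact ⟨1, A.one_mem, b, hb, one_mul b⟩
  · have : m ∈ (M : Set G) := hm
    rw [h] at this
    obtain ⟨a, ha, b, hb, e⟩ := this
    exact ⟨a, ha, b, hb, e.symm⟩

omit [Finite G] in
theorem IsProd.subgroupOf' {A B M X : Subgroup G} (h : IsProd A B M) (hX : M ≤ X) :
    IsProd (A.subgroupOf X) (B.subgroupOf X) (M.subgroupOf X) := by
  refine ⟨comap_mono h.left_le, comap_mono h.right_le, fun m hm => ?_⟩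
  obtain ⟨a, ha, b, hb, e⟩ := h.mul m hm
  exact ⟨⟨a, hX (h.left_le ha)⟩, ha, ⟨b, hX (h.right_le hb)⟩, hb, Subtype.ext e⟩

omit [Finite G] in
theorem IsProd.map' {G' : Type*} [Group G'] {A B M : Subgroup G} (h : IsProd A B M)
    (f : G →* G') : IsProd (A.map f) (B.map f) (M.map f) := by
  refine ⟨map_mono h.left_le, map_mono h.right_le, ?_⟩
  rintro _ ⟨m, hm, rfl⟩
  obtain ⟨a, ha, b, hb, rfl⟩ := h.mul m hm
  exact ⟨_, mem_map_of_mem f ha, _, mem_map_of_mem f hb, map_mul f a b⟩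

omit [Finite G] in
theorem cj_subgroupOf {X B : Subgroup G} (x : X) :
    cj x (B.subgroupOf X) = (cj (x : G) B).subgroupOf X := by
  ext y
  simp only [mem_cj, mem_subgroupOf]
  rfl

theorem kegel_rel {A B X : Subgroup G} (h : ∀ x ∈ X, ∃ S, S < X ∧ IsProd A (cj x B) S) :
    ∃ N, N ⊴ X ∧ N ≠ X ∧ (A ≤ N ∨ B ≤ N) := by
  obtain ⟨S, hS, hp⟩ := h 1 X.one_mem
  rw [cj_one] at hp
  have hA : A ≤ X := hp.left_le.trans hS.le
  have hB : B ≤ X := hp.right_le.trans hS.le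
  obtain ⟨N, hN, hNt, hor⟩ := kegel (A := A.subgroupOf X) (B := B.subgroupOf X) (by
    intro x
    obtain ⟨S, hS, hp⟩ := h x x.2
    refine ⟨S.subgroupOf X, fun e => hS.not_ge (subgroupOf_eq_top.1 e), ?_⟩
    have := IsProd.coe_eq (IsProd.subgroupOf' hp hS.le)
    rw [← cj_subgroupOf] at this
    exact this)
  refine ⟨N.map X.subtype, nml_map_subtype N, fun e => hNt ?_, ?_⟩
  · rw [← subgroupOf_map_subtype' N, e, subgroupOf_self]
  · rcases hor with h | h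
    · exact Or.inl ((le_map_subtype_iff hA).2 h)
    · exact Or.inr ((le_map_subtype_iff hB).2 h)

/-- hypotheses satisfied by a minimal counterexample to Wielandt's theorem -/
structure KW (A B : Subgroup G) : Prop where
  simple : IsSimpleGroup G
  nsol : ¬ Group.IsSolvable G
  nilA : Nil A
  nilB : Nil B
  cop : (♯A).Coprime ♯B
  prod : IsProd A B ⊤
  sub : ∀ A' B' H : Subgroup G, H ≠ ⊤ → Nil A' → Nil B' → IsProd A' B' H → Sol H

namespace KW

variable {A B : Subgroup G}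

omit [Finite G] in
theorem symm (h : KW A B) : KW B A :=
  ⟨h.simple, h.nsol, h.nilB, h.nilA, h.cop.symm, h.prod.symm, h.sub⟩

omit [Finite G] in
theorem exists_conj (h : KW A B) (x : G) : ∃ a ∈ A, ∃ b ∈ B, x = a * b := h.prod.mul x trivial

omit [Finite G] in
theorem cj_right (h : KW A B) (x : G) : KW A (cj x B) := by
  obtain ⟨a, ha, b, hb, rfl⟩ := h.exists_conj x
  refine ⟨h.simple, h.nsol, h.nilA, h.nilB.cj _, by rw [card_cj]; exact h.cop, ?_, h.sub⟩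
  have := IsProd.cj' h.prod a
  rwa [cj_of_mem ha, cj_top, ← cj_of_mem hb, ← cj_mul] at this

omit [Finite G] in
theorem norm_ne (h : KW A B) {X : Subgroup G} (h0 : X ≠ ⊥) (h1 : X ≠ ⊤) : N[X] ≠ ⊤ := by
  intro e
  have := h.simple
  rcases (normalizer_eq_top_iff.1 e).eq_bot_or_eq_top with e | e
  exacts [h0 e, h1 e]

omit [Finite G] in
theorem ne_top_of_sol (h : KW A B) {X : Subgroup G} (hX : Sol X) : X ≠ ⊤ := by
  rintro rfl
  exact h.nsol (sol_top_iff.1 hX)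

omit [Finite G] in
theorem ne_top_of_norm (h : KW A B) {X Y : Subgroup G} (h0 : X ≠ ⊥) (hX : Sol X)
    (hY : Y ≤ N[X]) : Y ≠ ⊤ := fun e =>
  h.norm_ne h0 (h.ne_top_of_sol hX) (top_le_iff.1 (e ▸ hY))

omit [Finite G] in
theorem ne_top_of_cent1 (h : KW A B) {x : G} (h0 : x ≠ 1) {Y : Subgroup G} (hY : Y ≤ C{x}) :
    Y ≠ ⊤ :=
  h.ne_top_of_norm (X := zpowers x) (by simpa using h0) (abl_zpowers x).sol
    (norm_zpowers_of_cent hY)

omit [Finite G] in
theorem piB (h : KW A B) : IsPi (primesOf A)ᶜ B := isPi_compl_of_coprime h.cop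

omit [Finite G] in
theorem hallA (h : KW A B) : Hall (primesOf A) ⊤ A := h.prod.hall_left (isPi_primesOf A) h.piB

omit [Finite G] in
theorem inf_eq (h : KW A B) : A ⊓ B = ⊥ := inf_eq_bot_of_cop h.cop

omit [Finite G] in
theorem ne_bot (h : KW A B) : A ≠ ⊥ := by
  rintro rfl
  have := h.prod.sup_eq
  rw [bot_sup_eq] at this
  exact h.ne_top_of_sol h.nilB.sol this

omit [Finite G] in
theorem dvd_or (h : KW A B) {p : ℕ} (hp : p.Prime) {X : Subgroup G} (hd : p ∣ ♯X) :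
    p ∣ ♯A ∨ p ∣ ♯B :=
  (Nat.Prime.dvd_mul hp).1 ((hd.trans (card_dvd le_top)).trans h.prod.card_dvd)

theorem syl (h : KW A B) {p : ℕ} (hp : p.Prime) (hd : p ∣ ♯A) : Syl p ⊤ O[{p}, A] :=
  h.hallA.trans_syl (h.nilA.pcore_hall _) ⟨hp, hd⟩

theorem exists_central (h : KW A B) {p : ℕ} (hp : p.Prime) (hd : p ∣ ♯A) :
    ∃ a ∈ A, a ∈ C[A] ∧ orderOf a = p := by
  have h1 := ((pcore_pi {p} A).nil hp).center_ne_bot (h.nilA.pcore_ne_bot hp rfl hd)
  rw [← h.nilA.pcore_center] at h1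
  obtain ⟨a, ha, e⟩ := exists_orderOf_eq hp ((pcore_pi _ _).dvd_card h1)
  exact ⟨a, (pcore_le _ _ ha).1, (pcore_le _ _ ha).2, e⟩

theorem two_primes (h : KW A B) {p : ℕ} (hp : p.Prime) :
    ∃ r, r.Prime ∧ r ≠ p ∧ r ∣ ♯A := by
  by_contra hc
  push Not at hc
  have hA : IsPi {p} A := fun r hr hd => by
    by_contra hne
    exact hc r hr hne hd
  obtain ⟨q, hq, hd⟩ := exists_prime_dvd_card h.symm.ne_bot
  obtain ⟨b, -, hb, e⟩ := h.symm.exists_central hq hd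
  have h1 : PiNat {p} (C{b}).index := by
    have := (h.prod.hall_right (π := {p}ᶜ) (by rwa [compl_compl]) (by
      intro r hr hrd hrp
      obtain rfl : r = p := hrp
      exact hr.ne_one (Nat.eq_one_of_dvd_coprimes h.cop (hA.dvd_card h.ne_bot) hrd))).idx_of_ge
      (mem_C_iff_le_C1.1 hb)
    rwa [relIndex_top_right, compl_compl] at this
  obtain ⟨k, hk⟩ := (piNat_singleton hp index_ne_zero_of_finite).1 h1
  have := h.simple
  have h2 := H4.prime_card_of_simple_of_prime_power_class hp (ne_one_of_orderOf_prime (e ▸ hq)) hk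
  apply h.nsol
  rw [← sol_top_iff]
  exact (abl_of_prime (by rwa [card_top])).sol

omit [Finite G] in
theorem F0 (h : KW A B) {B₀ : Subgroup G} (hB : B ≤ N[B₀]) (h0 : B₀ ≠ ⊥) : A ⊔ B₀ = ⊤ := by
  have := h.simple
  have h1 : B₀ ≤ (A ⊔ B₀).normalCore := by
    intro y hy g
    obtain ⟨a, ha, b, hb, rfl⟩ := h.exists_conj g
    have := conj_mem (norm_self (A ⊔ B₀) (mem_sup_left ha)) (mem_sup_right (conj_mem (hB hb) hy))
    simpa only [mul_inv_rev, mul_assoc] using this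
  rcases (normalCore_normal (A ⊔ B₀)).eq_bot_or_eq_top with e | e
  · exact absurd (eq_bot_of_le e h1) h0
  · exact top_le_iff.1 (e.ge.trans (normalCore_le _))

theorem fact (h : KW A B) {A₀ B₀ : Subgroup G} (hA : A ≤ N[A₀]) (hB : B ≤ N[B₀]) :
    IsProd (N[A₀ ⊔ B₀] ⊓ A) (N[A₀ ⊔ B₀] ⊓ B) N[A₀ ⊔ B₀] :=
  ⟨inf_le_left, inf_le_left, normalizer_sup_factorized (isProd_top_iff.1 h.prod) hA hB⟩

omit [Finite G] in
theorem sol_of_fact (h : KW A B) {X : Subgroup G} (hX : X ≠ ⊤) (hp : IsProd (X ⊓ A) (X ⊓ B) X) :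
    Sol X :=
  h.sub _ _ _ hX (h.nilA.of_le inf_le_right) (h.nilB.of_le inf_le_right) hp

omit [Finite G] in
theorem hall_of_fact (h : KW A B) {X : Subgroup G} (hp : IsProd (X ⊓ A) (X ⊓ B) X) :
    Hall (primesOf A) X (X ⊓ A) :=
  hp.hall_left ((isPi_primesOf A).inf_right X) (h.piB.inf_right X)

/-- a normal `t`-subgroup of a factorised subgroup lies in `A_t` -/
theorem le_pcore_of_fact (h : KW A B) {X T : Subgroup G} (hp : IsProd (X ⊓ A) (X ⊓ B) X) {t : ℕ}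
    (ht : t.Prime) (hd : t ∣ ♯A) (hT : IsPi {t} T) (hn : T ⊴ X) : T ≤ O[{t}, A] :=
  h.nilA.le_pcore hT (((h.hall_of_fact hp).nml_le (hT.of_mem ⟨ht, hd⟩) hn).trans inf_le_right)

theorem F1 (h : KW A B) {p q : ℕ} (hp : p.Prime) (hq : q.Prime) (hpd : p ∣ ♯A) (hqd : q ∣ ♯B) :
    O[{p}, A] ⊔ O[{q}, B] = ⊤ := by
  by_contra hne
  have hA0 := h.nilA.pcore_ne_bot (π := {p}) hp rfl hpd
  have hB0 := h.nilB.pcore_ne_bot (π := {q}) hq rfl hqd
  have hf := h.fact (pcore_nml {p} A).norm (pcore_nml {q} B).norm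
  set J := O[{p}, A] ⊔ O[{q}, B] with hJ
  have hs := h.sol_of_fact (h.norm_ne (ne_bot_of_le hA0 le_sup_left) hne) hf
  have hAN : O[{p}, A] ≤ N[J] := le_sup_left.trans (norm_self J)
  have hBN : O[{q}, B] ≤ N[J] := le_sup_right.trans (norm_self J)
  obtain ⟨R, hR, hRh⟩ := exists_isProd_of_hall hs hf
    ((pcore_nml {p} A).of_le (le_inf hAN (pcore_le _ _)) inf_le_right)
    ((pcore_nml {q} B).of_le (le_inf hBN (pcore_le _ _)) inf_le_right)
    ((h.syl hp hpd).isHall.of_le hAN le_top) ((h.symm.syl hq hqd).isHall.of_le hBN le_top)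
  have hRt : R ≠ ⊤ := h.ne_top_of_sol (hs.of_le hRh.le)
  obtain ⟨N, hN, hNt, hor⟩ := kegel_rel (A := O[{p}, A]) (B := O[{q}, B]) (X := ⊤) (by
    intro x _
    obtain ⟨a, ha, b, hb, rfl⟩ := h.exists_conj x
    refine ⟨cj a R, lt_top_iff_ne_top.2 fun e => hRt (cj_eq_top.1 e), ?_⟩
    have := IsProd.cj' hR a
    rwa [cj_of_mem_N ((pcore_nml {p} A).norm ha), ← cj_of_mem_N ((pcore_nml {q} B).norm hb),
      ← cj_mul] at this)
  have := h.simple
  rcases (nml_top_iff.1 hN).eq_bot_or_eq_top with e | e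
  · rcases hor with h1 | h1
    exacts [hA0 (eq_bot_of_le e h1), hB0 (eq_bot_of_le e h1)]
  · exact hNt e

theorem F2_aux (h : KW A B) {r q : ℕ} (hr : r.Prime) (hq : q.Prime) (hrd : r ∣ ♯A)
    {B₀ : Subgroup G} (hB : B₀ ⊴ B) (h0 : B₀ ≠ ⊥) (hB0 : IsPi {q} B₀) : O[{r}, A] ⊔ B₀ = ⊤ := by
  by_contra hne
  have hqd : q ∣ ♯B := (hB0.dvd_card h0).trans (card_dvd hB.le)
  have hf := h.fact (pcore_nml {r} A).norm hB.norm
  set J := O[{r}, A] ⊔ B₀ with hJ
  have hJ0 : J ≠ ⊥ := ne_bot_of_le h0 le_sup_right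
  have hs := h.sol_of_fact (h.norm_ne hJ0 hne) hf
  have hAN : O[{r}, A] ≤ N[J] := le_sup_left.trans (norm_self J)
  have hBN : B₀ ≤ N[J] := le_sup_right.trans (norm_self J)
  have hnil : Nil (N[J] ⊓ B) := h.nilB.of_le inf_le_right
  have hQ : Syl q N[J] O[{q}, N[J] ⊓ B] :=
    (h.symm.hall_of_fact hf.symm).trans_syl (hnil.pcore_hall _) ⟨hq, hqd⟩
  obtain ⟨R, hR, -⟩ := exists_isProd_of_hall hs hf
    ((pcore_nml {r} A).of_le (le_inf hAN (pcore_le _ _)) inf_le_right) (pcore_nml {q} _)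
    ((h.syl hr hrd).isHall.of_le hAN le_top) hQ.isHall
  have hJR : J ≤ R := sup_le hR.left_le
    ((hnil.le_pcore hB0 (le_inf hBN hB.le)).trans hR.right_le)
  obtain ⟨t, ht, hT⟩ := exists_pcore_ne_bot (hs.of_le (norm_self J)) hJ0
  have hTn : O[{t}, J] ⊴ N[J] := (nml_N J).pcore _
  have hTs : Sol O[{t}, J] := (pcore_pi _ _).sol ht
  have htd : t ∣ ♯O[{r}, A] * ♯O[{q}, N[J] ⊓ B] :=
    (((pcore_pi _ _).dvd_card hT).trans (card_dvd ((pcore_le _ _).trans hJR))).trans hR.card_dvd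
  rcases (Nat.Prime.dvd_mul ht).1 htd with e | e
  · obtain rfl : t = r := (pcore_pi {r} A).mem ht e
    have h1 := h.le_pcore_of_fact hf ht hrd (pcore_pi _ _) hTn
    refine h.ne_top_of_norm hT hTs (sup_le ?_ (hBN.trans hTn.norm)) (h.F0 hB.norm h0)
    rw [← (h.nilA.pcoreC {t}).sup]
    exact sup_le (hAN.trans hTn.norm) (norm_of_cent (cents_of_le (pcore_compl_cent_pcore _ _) h1))
  · obtain rfl : t = q := (pcore_pi {q} _).mem ht e
    have h1 := h.symm.le_pcore_of_fact hf.symm ht hqd (pcore_pi _ _) hTn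
    obtain ⟨s, hs', hst, hsd⟩ := h.symm.two_primes ht
    exact h.ne_top_of_norm hT hTs (sup_le (hAN.trans hTn.norm)
      (norm_of_cent (cents_of_le (pcore_cent_pcore_of_ne hst B) h1))) (h.F1 hr hs' hrd hsd)

theorem F2 (h : KW A B) {p q : ℕ} (hp : p.Prime) (hq : q.Prime) {A₀ B₀ : Subgroup G}
    (hA : A₀ ⊴ A) (hA0 : A₀ ≠ ⊥) (hAp : IsPi {p} A₀) (hB : B₀ ⊴ B) (hB0 : B₀ ≠ ⊥)
    (hBq : IsPi {q} B₀) : A₀ ⊔ B₀ = ⊤ := by
  by_contra hne
  have hf := h.fact hA.norm hB.norm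
  set J := A₀ ⊔ B₀ with hJ
  have hJ0 : J ≠ ⊥ := ne_bot_of_le hB0 le_sup_right
  have hs := h.sol_of_fact (h.norm_ne hJ0 hne) hf
  obtain ⟨t, ht, hT⟩ := exists_pcore_ne_bot (hs.of_le (norm_self J)) hJ0
  have hTn : O[{t}, J] ⊴ N[J] := (nml_N J).pcore _
  have hTs : Sol O[{t}, J] := (pcore_pi _ _).sol ht
  rcases h.dvd_or ht ((pcore_pi _ _).dvd_card hT) with e | e
  · have h1 := h.le_pcore_of_fact hf ht e (pcore_pi _ _) hTn
    obtain ⟨r, hr, hrt, hrd⟩ := h.two_primes ht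
    exact h.ne_top_of_norm hT hTs (sup_le
      (norm_of_cent (cents_of_le (pcore_cent_pcore_of_ne hrt A) h1))
      ((le_sup_right.trans (norm_self J)).trans hTn.norm)) (h.F2_aux hr hq hrd hB hB0 hBq)
  · have h1 := h.symm.le_pcore_of_fact hf.symm ht e (pcore_pi _ _) hTn
    obtain ⟨r, hr, hrt, hrd⟩ := h.symm.two_primes ht
    exact h.ne_top_of_norm hT hTs (sup_le
      (norm_of_cent (cents_of_le (pcore_cent_pcore_of_ne hrt B) h1))
      ((le_sup_left.trans (norm_self J)).trans hTn.norm)) (h.symm.F2_aux hr hp hrd hA hA0 hAp)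

theorem F2' (h : KW A B) {a b : G} (ha : a ∈ A) (haC : a ∈ C[A]) (hp : (orderOf a).Prime)
    (hb : b ∈ B) (hbC : b ∈ C[B]) (hq : (orderOf b).Prime) : zpowers a ⊔ zpowers b = ⊤ :=
  h.F2 hp hq (nml_of_le_center (zpowers_le.2 ⟨ha, haC⟩))
    (by simpa using ne_one_of_orderOf_prime hp) (piElt_of_orderOf_prime hp rfl).isPi
    (nml_of_le_center (zpowers_le.2 ⟨hb, hbC⟩))
    (by simpa using ne_one_of_orderOf_prime hq) (piElt_of_orderOf_prime hq rfl).isPi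

theorem F3 (h : KW A B) {a : G} (ha : a ∈ A) (haC : a ∈ C[A]) (hp : (orderOf a).Prime) :
    C{a} = A := by
  have hle : A ≤ C{a} := mem_C_iff_le_C1.1 haC
  have hf := h.prod.inf_left hle le_top
  by_cases h0 : B ⊓ C{a} = ⊥
  · rw [← hf.sup_eq, h0, sup_bot_eq]
  exfalso
  obtain ⟨b, hb, hb1⟩ := exists_ne_one h0
  obtain ⟨q, hq, hd⟩ := exists_prime_dvd_card h.symm.ne_bot
  obtain ⟨z, hz, hzC, e⟩ := h.symm.exists_central hq hd
  exact h.ne_top_of_cent1 hb1 (sup_le (zpowers_le.2 (mem_C1_comm.1 hb.2))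
    (zpowers_le.2 (C_le_C1 hb.1 hzC))) (h.F2' ha haC hp hz hzC (e ▸ hq))

theorem F4 (h : KW A B) {p : ℕ} (hp : p.Prime) (hd : p ∣ ♯A) : N[O[{p}, A]] ≤ N[A] := by
  obtain ⟨a, ha, haC, e⟩ := h.exists_central hp hd
  have h1 : C[O[{p}, A]] ≤ A :=
    (C_le_C1 (h.nilA.mem_pcore (piElt_of_orderOf_prime hp e) ha)).trans (h.F3 ha haC (e ▸ hp)).le
  have h2 : O[{p}, A] ⊔ C[O[{p}, A]] = A := by
    refine le_antisymm (sup_le (pcore_le _ _) h1) ?_
    conv_lhs => rw [← (h.nilA.pcoreC {p}).sup]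
    exact sup_le_sup_left (pcore_compl_cent_pcore _ _) _
  have := norm_sup (le_refl N[O[{p}, A]]) (N_le_NC _)
  rwa [h2] at this

theorem F5 (h : KW A B) {z g : G} (hz : z ∈ A) (hzC : z ∈ C[A]) (hp : (orderOf z).Prime)
    (hg : g * z * g⁻¹ ∈ A) : g ∈ N[A] := by
  obtain ⟨r, hr, hrp, hrd⟩ := h.two_primes hp
  apply h.F4 hr hrd
  apply mem_N_of_le_cj
  rw [← pcore_cj]
  refine (h.nilA.cj g).le_pcore (pcore_pi _ _) ?_
  rw [← h.F3 hz hzC hp, cj_C1, h.F3 hz hzC hp]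
  exact (pcore_cent_pcore_of_ne hrp A).trans
    (C_le_C1 (h.nilA.mem_pcore ((piElt_of_orderOf_prime hp rfl).conj g) hg))

theorem F6 (h : KW A B) {a : G} (ha : a ∈ A) (haC : a ∈ C[A]) (hp : (orderOf a).Prime) {q : ℕ}
    (hq : q.Prime) (hqd : q ∣ ♯B) {Q : Subgroup G} (hQ : IsPi {q} Q) (hn : a ∈ N[Q]) : Q = ⊥ := by
  by_contra h0
  obtain ⟨x, -, hx⟩ := Sylow_subJ hq (h.symm.syl hq hqd) hQ le_top
  rw [← pcore_cj] at hx
  have h' := h.cj_right x
  obtain ⟨s, hs, hsq, hsd⟩ := h'.symm.two_primes hq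
  obtain ⟨z, hz, hzC, e⟩ := h'.symm.exists_central hs hsd
  refine h.ne_top_of_norm h0 (hQ.sol hq) (sup_le (zpowers_le.2 hn) (zpowers_le.2 ?_))
    (h'.F2' ha haC hp hz hzC (e ▸ hs))
  exact C_le_N Q (cents_of_le (pcore_cent_pcore_of_ne hsq _) hx
    (h'.nilB.mem_pcore (piElt_of_orderOf_prime hs e) hz))

theorem L7 (h : KW A B) {v : G} (hv : v ∈ B) (hvA : v ∈ N[A]) (h1 : v ≠ 1) : C{v} ≤ N[B] := by
  have hf : IsProd (C{v} ⊓ A) (C{v} ⊓ B) C{v} := by
    refine ⟨inf_le_left, inf_le_left, fun c hc => ?_⟩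
    obtain ⟨a, ha, b, hb, rfl⟩ := h.exists_conj c
    have e := mem_C1_iff_conj.1 hc
    have e1 : v⁻¹ * (b * v * b⁻¹) = v⁻¹ * a⁻¹ * v * a := by
      conv_rhs => rw [← e]
      conv_rhs => enter [1, 1, 1]; rw [e]
      group
    have e2 : v⁻¹ * (b * v * b⁻¹) ∈ A ⊓ B := mem_inf.2
      ⟨e1 ▸ A.mul_mem (conj_mem' hvA (A.inv_mem ha)) ha,
        B.mul_mem (B.inv_mem hv) (B.mul_mem (B.mul_mem hb hv) (B.inv_mem hb))⟩
    rw [h.inf_eq, mem_bot, inv_mul_eq_one] at e2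
    have hbC : b ∈ C{v} := mem_C1_iff_conj.2 e2.symm
    refine ⟨a, ⟨?_, ha⟩, b, ⟨hbC, hb⟩, rfl⟩
    have := mul_mem hc (inv_mem hbC)
    simpa using this
  have hs := h.sol_of_fact (h.ne_top_of_cent1 h1 le_rfl) hf
  obtain ⟨q, hq, hd⟩ := exists_prime_dvd_card h.symm.ne_bot
  obtain ⟨b, hb, hbC, e⟩ := h.symm.exists_central hq hd
  have hbv : b ∈ C{v} := C_le_C1 hv hbC
  have hF : F[C{v}] ≤ B := by
    refine Fitting_le_of_pcore_le fun p hp hpd => ?_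
    rcases h.dvd_or hp hpd with e' | e'
    · rw [h.symm.F6 hb hbC (e ▸ hq) hp e' (pcore_pi _ _) ((pcore_nml _ _).norm hbv)]
      exact bot_le
    · exact (h.symm.le_pcore_of_fact hf.symm hp e' (pcore_pi _ _) (pcore_nml _ _)).trans
        (pcore_le _ _)
  have hbF : b ∈ F[C{v}] := cent_sub_Fitting hs ⟨hbv, C_anti hF hbC⟩
  intro c hc
  exact h.symm.F5 hb hbC (e ▸ hq) (hF ((Fitting_nml _).conj_mem hc hbF))

theorem TI (h : KW A B) {g : G} (hg : g ∉ N[A]) : A ⊓ cj g A = ⊥ := by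
  by_contra h0
  obtain ⟨y, hy, hy1⟩ := exists_ne_one h0
  have hnorm : ∀ {x : G}, PiElt (primesOf A) x → x ∈ N[A] → x ∈ A := fun hx hxN =>
    (h.hallA.of_le (norm_self A) le_top).mem_of_nml le_rfl hx hxN
  have hC : ¬ C{y} ≤ N[A] := by
    intro hle
    obtain ⟨p, hp, hd⟩ := exists_prime_dvd_card h.ne_bot
    obtain ⟨z, hz, hzC, e⟩ := h.exists_central hp hd
    refine hg (h.F5 hz hzC (e ▸ hp) (hnorm ?_ (hle ?_)))
    · exact ((piElt_of_orderOf_prime hp e).of_mem (mem_primesOf.2 ⟨hp, hd⟩)).conj g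
    · refine C_le_C1 hy.2 ?_
      rw [← cj_C]; exact conj_mem_cj g hzC
  set H := C{y} ⊓ A with hH
  have hHn : Nil H := h.nilA.of_le inf_le_right
  have hZ : ∀ {z : G}, z ∈ A → z ∈ C[A] → z ∈ H := fun hz hzC => ⟨C_le_C1 hy.1 hzC, hz⟩
  have hdH : ∀ p, p.Prime → p ∣ ♯A → p ∣ ♯H := by
    intro p hp hd
    obtain ⟨z, hz, hzC, e⟩ := h.exists_central hp hd
    exact e ▸ orderOf_dvd_card' (hZ hz hzC)
  have hN : ∀ p, p.Prime → p ∣ ♯A → N[O[{p}, H]] ≤ N[A] := by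
    intro p hp hd n hn
    obtain ⟨z, hz, hzC, e⟩ := h.exists_central hp hd
    exact h.F5 hz hzC (e ▸ hp) (pcore_le _ _ (conj_mem hn
      (hHn.mem_pcore (piElt_of_orderOf_prime hp e) (hZ hz hzC)))).2
  have hH1 : Hall (primesOf A) (C{y} ⊓ N[A]) H := by
    have := (h.hallA.of_le (norm_self A) le_top).nml_inf' le_rfl
      (inf_le_right : C{y} ⊓ N[A] ≤ N[A])
    rwa [inf_assoc, inf_eq_right.2 (norm_self A)] at this
  by_cases hc : C{y} ⊓ N[A] ≤ A
  · have hH2 : Hall (primesOf A) C{y} H := by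
      refine hall_of_syl inf_le_left hH1.pi fun p hp hπ _ => ⟨_, ?_, pcore_le {p} H⟩
      exact (hH1.trans_syl (hHn.pcore_hall _) hπ).of_norm_le hp inf_le_left
        (inf_le_inf_left _ (hN p hp hπ.2))
    have hnc := ncompl_of_nil_hall hHn hH2.isHall (by
      intro p hp _
      obtain ⟨r, hr, hrp, hrd⟩ := h.two_primes hp
      exact ⟨r, hr, hrp, hdH r hr hrd,
        le_inf inf_le_left ((inf_le_inf_left _ (hN r hr hrd)).trans hc)⟩)
    have hsd := (ncompl_iff hH2.isHall.hall).1 hnc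
    set K := O[(primesOf H)ᶜ, C{y}] with hK
    have hK0 : K ≠ ⊥ := by
      intro e
      rw [e] at hsd
      exact hC (hsd.eq_of_left_bot.ge.trans (inf_le_right.trans (norm_self A)))
    obtain ⟨q, hq, hqd⟩ := exists_prime_dvd_card hK0
    have hqB : q ∣ ♯B := (h.dvd_or hq hqd).resolve_left fun e =>
      (pcore_pi _ _).mem hq hqd ⟨hq, hdH q hq e⟩
    obtain ⟨Q, hQ, hHQ⟩ := sol_coprime_Sylow_exists hq hsd.norm
      ((pcore_pi _ _).coprime' (isPi_primesOf H)) (Or.inl hHn.sol)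
    obtain ⟨p, hp, hd⟩ := exists_prime_dvd_card h.ne_bot
    obtain ⟨z, hz, hzC, e⟩ := h.exists_central hp hd
    exact hQ.ne_bot hq rfl hqd (h.F6 hz hzC (e ▸ hp) hq hqB hQ.pi (hHQ (hZ hz hzC)))
  · have : ¬ IsPi (primesOf A) (C{y} ⊓ N[A]) := fun hpi =>
      hc ((hH1.eq_self hpi).ge.trans inf_le_right)
    rw [isPi_def] at this
    push Not at this
    obtain ⟨q, hq, hqd, hqA⟩ := this
    have hqB : q ∣ ♯B := (h.dvd_or hq hqd).resolve_left fun e => hqA ⟨hq, e⟩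
    obtain ⟨v, hv, e⟩ := exists_orderOf_eq hq hqd
    obtain ⟨x, -, hx⟩ := Sylow_subJ hq (h.symm.syl hq hqB) (piElt_of_orderOf_prime hq e).isPi le_top
    have hvB : v ∈ cj x B := cj_mono x (pcore_le _ _) (hx (mem_zpowers v))
    have h' := h.cj_right x
    have h2 := h'.L7 hvB hv.2 (ne_one_of_orderOf_prime (e ▸ hq))
    exact hC (h'.symm.L7 hy.1 (h2 (mem_C1_comm.1 hv.1)) hy1)

theorem card_le (h : KW A B) : ♯A ≤ ♯B := by
  obtain ⟨g, -, hg⟩ := SetLike.exists_of_lt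
    (lt_top_iff_ne_top.2 (h.norm_ne h.ne_bot (h.ne_top_of_sol h.nilA.sol)))
  have h1 := card_mul_card_inf A (cj g A)
  rw [h.TI hg, card_bot, mul_one, card_cj] at h1
  have h2 := h.prod.card
  rw [h.inf_eq, card_bot, mul_one, card_top] at h2
  have h3 : ♯A * ♯A ≤ ♯A * ♯B := by
    rw [← h1, ← h2]
    exact Nat.card_le_card_of_injective _ Subtype.val_injective
  exact Nat.le_of_mul_le_mul_left h3 (card_pos A)

theorem false (h : KW A B) : False := by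
  have h1 := le_antisymm h.card_le h.symm.card_le
  have h2 := h.cop
  rw [← h1, Nat.coprime_self] at h2
  exact h.ne_bot (card_eq_one'.1 h2)

end KW

end H11
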