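import Mathlib
import Cfsg.Prelude.Def_SolvableStructure
import Cfsg.Agent.H24.Base5
import Cfsg.Agent.H26.Coprime
import Cfsg.Agent.H1.SylowSystem
import Cfsg.Agent.H2.Carter
import Cfsg.Agent.H11.Supersolvable

/-! Hall complement systems and system normalizers. -/

set_option autoImplicit false

namespace H11

open Subgroup Cfsg H24 H26
open scoped commutatorElement

universe u

variable {G : Type u} [Group G] [Finite G]

/-- complement system in the vocabulary of Hall subgroups -/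
def CS (K : Nat.Primes → Subgroup G) : Prop := ∀ p : Nat.Primes, Hall {(p : ℕ)}ᶜ ⊤ (K p)

theorem cs_iff {K : Nat.Primes → Subgroup G} : IsComplementSystem K ↔ CS K := by
  refine forall_congr' fun p => ⟨fun h => ?_, fun h => ?_⟩
  · refine Hall.mk' le_top ?_ ?_
    · rw [isPi_compl_iff p.2]
      intro hd
      have h1 : (p : ℕ) ^ ((Nat.card G).factorization p + 1) ∣ Nat.card G := by
        conv_rhs => rw [← (K p).index_mul_card, h]
        rw [pow_succ]
        exact mul_dvd_mul_left _ hd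
      exact Nat.pow_succ_factorization_not_dvd Nat.card_pos.ne' p.2 h1
    · rw [relIndex_top_right, h, compl_compl]
      exact piNat_self_pow p.2 _
  · refine H1.index_eq_pow_factorization p.2 _ ((isPi_compl_iff p.2).1 h.pi) fun q hq hd => ?_
    have := h.idx
    rw [relIndex_top_right, compl_compl] at this
    exact this q hq hd

omit [Finite G] in
theorem mem_sysNorm {K : Nat.Primes → Subgroup G} {g : G} :
    g ∈ systemNormalizer K ↔ ∀ p, g ∈ N[K p] := by
  simp [systemNormalizer, mem_iInf]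

omit [Finite G] in
theorem CS.cj {K : Nat.Primes → Subgroup G} (h : CS K) (g : G) : CS fun p => cj g (K p) :=
  fun p => (h p).cj_mem trivial

omit [Finite G] in
theorem CS.map {G' : Type*} [Group G'] {K : Nat.Primes → Subgroup G} (h : CS K) {f : G →* G'}
    (hf : Function.Surjective f) : CS fun p => (K p).map f := fun p => by
  have := (h p).map f
  rwa [map_top_of_surjective f hf] at this

theorem exists_cs [Group.IsSolvable G] : ∃ K : Nat.Primes → Subgroup G, CS K := by
  choose K hK using fun p : Nat.Primes => Hall_exists {(p : ℕ)}ᶜ (sol_top (G := G))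
  exact ⟨K, hK⟩

omit [Finite G] in
theorem sysNorm_cj (K : Nat.Primes → Subgroup G) (g : G) :
    systemNormalizer (fun p => cj g (K p)) = cj g (systemNormalizer K) := by
  ext x
  simp only [mem_sysNorm, mem_cj, ← cj_N]

theorem Chief.piNat {H V U : Subgroup G} (h : Chief H V U) (hs : Sol U) :
    ∃ q, q.Prime ∧ PiNat {q} (V.relIndex U) := by
  obtain ⟨q, hq, he⟩ := h.elem hs
  refine ⟨q, hq, (isPi_quo_iff h.nml.norm).1 ?_⟩
  exact isPi_of_isPGroup hq (H2.isPGroup_of_forall_pow_eq_one he.2)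

theorem CS.exists_conj [Group.IsSolvable G] (N : Subgroup G) :
    ∀ {K L : Nat.Primes → Subgroup G}, N.Normal → CS K → CS L → (∀ p, K p ⊔ N = L p ⊔ N) →
      ∃ n ∈ N, ∀ p, H24.cj n (K p) = L p := by
  induction N using subgroup_ind with
  | h N ih =>
    intro K L hN hK hL h
    by_cases h0 : N = ⊥
    · subst h0
      exact ⟨1, one_mem _, fun p => by simpa [cj_one] using h p⟩
    obtain ⟨V, hV, -⟩ := exists_chief_below (Nml.bot ⊤) (nml_top N) (bot_lt_iff_ne_bot.2 h0)
    have hVn : V.Normal := nml_top_iff.1 hV.nmlV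
    obtain ⟨q, hq, hi⟩ := Chief.piNat hV (sol_top.of_le le_top)
    have key : ∀ (X : Subgroup G) (p : ℕ), p ≠ q → Hall {p}ᶜ ⊤ X → X ⊔ V = X ⊔ N := by
      intro X p hpq hX
      refine le_antisymm (sup_le_sup_left hV.le _) (sup_le le_sup_left ?_)
      have := ((hX.inf_nml (nml_top N)).isProd_of_idx hV.le (hi.compl_of_ne hpq.symm)).sup_eq
      exact this.symm.le.trans (sup_le_sup_right inf_le_left _)
    obtain ⟨g, hg, e⟩ := Hall_trans (M := K ⟨q, hq⟩ ⊔ N) (sol_top.of_le le_top)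
      ((hK ⟨q, hq⟩).of_le le_sup_left le_top)
      ((hL ⟨q, hq⟩).of_le (le_sup_left.trans (h _).ge) le_top)
    rw [sup_comm] at hg
    obtain ⟨n, hn, k, hk, rfl⟩ := (mem_sup_of_norm (norm_of_normal _ N)).1 hg
    rw [cj_mul, cj_of_mem hk] at e
    obtain ⟨v, hv, e'⟩ := ih V hV.lt hVn (hK.cj n) hL (by
      intro p
      by_cases hp : p = ⟨q, hq⟩
      · subst hp; rw [e]
      · have hpq : (p : ℕ) ≠ q := fun e => hp (Subtype.ext e)
        rw [key _ p hpq (hL p), ← h p, ← cj_of_mem_N (norm_of_normal ⊤ V (mem_top n)), ← cj_sup,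
          key _ p hpq (hK p), cj_of_mem (mem_sup_right hn)])
    exact ⟨v * n, N.mul_mem (hV.le hv) hn, fun p => by rw [cj_mul]; exact e' p⟩

theorem CS.exists_mul_mem [Group.IsSolvable G] {K : Nat.Primes → Subgroup G} (hK : CS K)
    (N : Subgroup G) [hN : N.Normal] {g : G} (hg : ∀ p, g ∈ N[K p ⊔ N]) :
    ∃ n ∈ N, n⁻¹ * g ∈ systemNormalizer K := by
  obtain ⟨n, hn, e⟩ := CS.exists_conj N hN hK (hK.cj g) (fun p => by
    rw [← cj_of_mem_N (hg p), cj_sup, cj_of_mem_N (norm_of_normal ⊤ N (mem_top g))])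
  exact ⟨n, hn, mem_sysNorm.2 fun p => cj_eq_cj_iff.1 (e p).symm⟩

theorem CS.mem_sup [Group.IsSolvable G] {K : Nat.Primes → Subgroup G} (hK : CS K)
    (N : Subgroup G) [hN : N.Normal] {g : G} (hg : ∀ p, g ∈ N[K p ⊔ N]) :
    g ∈ N ⊔ systemNormalizer K := by
  obtain ⟨n, hn, e⟩ := hK.exists_mul_mem N hg
  have : g = n * (n⁻¹ * g) := by group
  rw [this]
  exact mul_mem (mem_sup_left hn) (mem_sup_right e)

omit [Finite G] in
theorem mem_N_comap {G' : Type*} [Group G'] (f : G →* G') {X : Subgroup G'} {g : G}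
    (hg : f g ∈ N[X]) : g ∈ N[X.comap f] := by
  rw [mem_N]
  intro x
  rw [mem_comap, mem_comap, map_mul, map_mul, map_inv]
  exact mem_N.1 hg (f x)

theorem CS.sysNorm_map [Group.IsSolvable G] {K : Nat.Primes → Subgroup G} (hK : CS K)
    (N : Subgroup G) [hN : N.Normal] :
    systemNormalizer (fun p => (K p).map (QuotientGroup.mk' N)) =
      (systemNormalizer K).map (QuotientGroup.mk' N) := by
  apply le_antisymm
  · intro y hy
    obtain ⟨g, rfl⟩ := QuotientGroup.mk'_surjective N y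
    have := hK.mem_sup N (g := g) fun p => by
      rw [← H2.comap_map_mk']
      exact mem_N_comap _ (mem_sysNorm.1 hy p)
    rw [sup_comm, ← H2.comap_map_mk'] at this
    exact this
  · rintro _ ⟨g, hg, rfl⟩
    exact mem_sysNorm.2 fun p => le_normalizer_map _ (mem_map_of_mem _ (mem_sysNorm.1 hg p))

theorem CS.nil {K : Nat.Primes → Subgroup G} (hK : CS K) : Nil (systemNormalizer K) := by
  apply nil_of_syl_nml
  intro q Q hq hQ
  set D := systemNormalizer K with hD
  set S : Subgroup G := ⨅ p : {p : Nat.Primes // (p : ℕ) ≠ q}, K p with hS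
  have hSq : IsPi {q} S := by
    intro r hr hd
    by_contra hrq
    have : S ≤ K ⟨r, hr⟩ := iInf_le (fun p : {p : Nat.Primes // (p : ℕ) ≠ q} => K p) ⟨⟨r, hr⟩, hrq⟩
    exact (hK ⟨r, hr⟩).pi.not_dvd' hr rfl (hd.trans (card_dvd this))
  have hDK : ∀ p, D ≤ N[K p] := fun p g hg => mem_sysNorm.1 hg p
  have hQS : Q ≤ S := le_iInf fun p =>
    (hK p).le_of_norm (hQ.pi.compl_of_ne p.2.symm) le_top (hQ.le.trans (hDK p))
  have hn : D ≤ N[D ⊓ S] := norm_inf (norm_self D) (norm_iInf fun p => hDK p)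
  rwa [hQ.eq_of_le (hSq.inf_right D) (le_inf hQ.le hQS) inf_le_left] at hn

theorem minNml_central_of_inf_C [Group.IsSolvable G] {V K : Subgroup G} {p : ℕ} (hp : p.Prime)
    (hV : MinNml V ⊤) (hVp : IsPi {p} V) (hK : Hall {p}ᶜ ⊤ K) (h : V ⊓ C[K] ≠ ⊥) :
    ⊤ ≤ C[V] := by
  by_contra hc
  have hCn : C[V] ⊴ ⊤ := ⟨le_top, norm_C hV.norm⟩
  obtain ⟨W, hW, -⟩ := exists_chief_above hCn (Nml.refl ⊤)
    (lt_of_le_of_ne le_top fun e => hc e.ge)
  obtain ⟨q, hq, hi⟩ := Chief.piNat hW (sol_top.of_le le_top)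
  have : ∃ X, IsProd X C[V] W ∧ V ⊓ C[X] ≠ ⊥ := by
    by_cases hqp : q = p
    · subst hqp
      obtain ⟨P, hP⟩ := Sylow_exists hq W
      exact ⟨P, hP.isProd_of_idx hW.le hi, hP.pi.inf_C_ne_bot hq hVp (le_top.trans hV.norm) hV.ne_bot⟩
    · exact ⟨K ⊓ W, (hK.inf_nml hW.nmlU).isProd_of_idx hW.le (hi.compl_of_ne hqp),
        ne_bot_of_le h (inf_le_inf_left _ (C_anti inf_le_left))⟩
  obtain ⟨X, hX, hne⟩ := this
  have h1 : V ⊓ C[W] ≠ ⊥ := by
    refine ne_bot_of_le hne (le_inf inf_le_left ?_)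
    rw [← hX.sup_eq]
    exact cents_sup inf_le_right (inf_le_left.trans (le_CC V))
  exact hW.lt.not_ge (cents_symm (hV.le_of_inf_ne_bot (norm_C hW.nmlU.norm) h1))

theorem MinNml.exists_pi {V A : Subgroup G} (hV : MinNml V A) (hs : Sol V) :
    ∃ p, p.Prime ∧ IsPi {p} V := by
  obtain ⟨p, hp, he⟩ := hV.elem hs
  exact ⟨p, hp, isPi_of_isPGroup hp (H2.isPGroup_of_forall_pow_eq_one he.2)⟩

theorem CS.inf_eq_bot [Group.IsSolvable G] {K : Nat.Primes → Subgroup G} (hK : CS K)
    {V : Subgroup G} (hV : MinNml V ⊤) (hc : ¬ ⊤ ≤ C[V]) : V ⊓ systemNormalizer K = ⊥ := by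
  obtain ⟨p, hp, hVp⟩ := MinNml.exists_pi hV (sol_top.of_le le_top)
  by_contra hne
  refine hc (minNml_central_of_inf_C hp hV hVp (hK ⟨p, hp⟩) (ne_bot_of_le hne ?_))
  rw [← coprime_norm_cent (le_top.trans hV.norm) (hVp.coprime (hK ⟨p, hp⟩).pi)]
  exact inf_le_inf_left _ fun g hg => mem_sysNorm.1 hg _

theorem norm_hall_le_of_coatom {G : Type u} [Group G] [Finite G] [Group.IsSolvable G]
    {M K : Subgroup G} {p : ℕ} (hp : p.Prime) (hM : IsCoatom M) (hn : ¬ M.Normal)
    (hK : Hall {p}ᶜ ⊤ K) (hKM : K ≤ M) : N[K] ≤ M := by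
  induction hc : Nat.card G using Nat.strong_induction_on generalizing G with
  | _ n ih =>
    have h0 : (⊤ : Subgroup G) ≠ ⊥ := fun e => hM.1 (eq_top_iff.2 (e.le.trans bot_le))
    obtain ⟨V, hV, -⟩ := exists_minNml h0 (norm_self ⊤)
    have hVn : V.Normal := nml_top_iff.1 ⟨le_top, hV.norm⟩
    by_cases hVM : V ≤ M
    · have hK' := hK.map (QuotientGroup.mk' V)
      rw [map_top_of_surjective _ (QuotientGroup.mk'_surjective V)] at hK'
      have := ih _ (hc ▸ H2.card_quotient_lt hV.ne_bot) (isCoatom_map_mk' hM hVM)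
        (fun h => hn (H2.normal_of_map_mk'_normal hVM h)) hK' (map_mono hKM) rfl
      intro g hg
      have h1 : g ∈ (M.map (QuotientGroup.mk' V)).comap (QuotientGroup.mk' V) :=
        this (le_normalizer_map _ (mem_map_of_mem _ hg))
      rwa [H2.comap_map_mk', sup_eq_left.2 hVM] at h1
    have hs := sup_eq_top_of_coatom hM hVM
    have hVa : Abl V := hV.abl (sol_top.of_le le_top)
    have hi : V ⊓ M = ⊥ := by
      refine (hV.eq_or inf_le_left ?_).resolve_right fun e => hVM (e.ge.trans inf_le_right)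
      rw [← hs]
      exact sup_le (hVa.norm le_rfl inf_le_left) (norm_inf (norm_of_normal M V) (norm_self M))
    have hsd : SD V M ⊤ := ⟨norm_of_normal M V, hi, hs⟩
    have hVp : IsPi {p} V := by
      have := hK.idx_of_ge hKM
      rwa [hsd.relIndex_right, compl_compl] at this
    have hCK : V ⊓ C[K] = ⊥ := by
      by_contra hne
      have := minNml_central_of_inf_C hp hV hVp hK hne
      apply hn
      exact normal_of_sup_eq_top hs (norm_of_cent (cents_symm (le_top.trans this))) (norm_self M)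
    intro g hg
    obtain ⟨v, hv, m, hm, rfl⟩ := hsd.isProd.mul g trivial
    have hvC : v ∈ C[K] := by
      rw [mem_C]
      intro k hk
      have h1 : v⁻¹ * k * v ∈ M := by
        have := M.mul_mem (M.mul_mem hm (hKM (conj_mem' hg hk))) (M.inv_mem hm)
        convert this using 1; group
      have h2 : k⁻¹ * (v⁻¹ * k * v) ∈ V ⊓ M := by
        refine mem_inf.2 ⟨?_, M.mul_mem (M.inv_mem (hKM hk)) h1⟩
        have := V.mul_mem (hVn.conj_mem' _ (V.inv_mem hv) k) hv
        simpa only [mul_assoc] using this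
      rw [hi, mem_bot] at h2
      calc k * v = v * (k * (k⁻¹ * (v⁻¹ * k * v))) := by group
        _ = v * k := by rw [h2, mul_one]
    have : v = 1 := by
      have : v ∈ V ⊓ C[K] := ⟨hv, hvC⟩
      rwa [hCK, mem_bot] at this
    rw [this, one_mul]; exact hm

theorem exists_cs_le_carter {G : Type u} [Group G] [Finite G] [Group.IsSolvable G]
    {C : Subgroup G} (hC : IsCarterSubgroup C) :
    ∃ K : Nat.Primes → Subgroup G, CS K ∧ systemNormalizer K ≤ C := by
  induction hc : Nat.card G using Nat.strong_induction_on generalizing G with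
  | _ n ih =>
    by_cases hCt : C = ⊤
    · obtain ⟨K, hK⟩ := exists_cs (G := G)
      exact ⟨K, hK, hCt ▸ le_top⟩
    obtain ⟨M, hM, hCM⟩ := exists_coatom hCt
    have hn : ¬ M.Normal := fun h =>
      hM.1 ((H2.IsCarterSubgroup.normalizer_eq_of_le hC hCM).symm.trans (normalizer_eq_top M))
    obtain ⟨L, hL, hLC⟩ := ih _ (hc ▸ H2.card_lt_of_ne_top hM.1)
      (H2.IsCarterSubgroup.subgroupOf hC hCM) rfl
    have hL' : ∀ p : Nat.Primes, Hall {(p : ℕ)}ᶜ M ((L p).map M.subtype) := fun p =>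
      (hall_map_subtype _).2 (hL p)
    choose K hK hLK using fun p : Nat.Primes =>
      Hall_superset (sol_top (G := G)) le_top (hL' p).pi
    have hinf : ∀ p, K p ⊓ M = (L p).map M.subtype := fun p =>
      (hL' p).eq_of_le ((hK p).pi.inf_left M) (le_inf (hLK p) (hL' p).le) inf_le_right
    obtain ⟨p, k, hp, -, hpk⟩ := (isPrimePow_nat_iff _).1 (H2.isPrimePow_index_of_isCoatom hM)
    have hH : Hall {p}ᶜ ⊤ ((L ⟨p, hp⟩).map M.subtype) := (hL' ⟨p, hp⟩).of_idx le_top (by
      rw [relIndex_top_right, ← hpk, compl_compl]; exact piNat_self_pow hp k)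
    have hKM : K ⟨p, hp⟩ ≤ M :=
      (hH.eq_of_le (hK ⟨p, hp⟩).pi (hLK _) le_top).le.trans (map_subtype_le _)
    refine ⟨K, hK, fun g hg => ?_⟩
    have hgM : g ∈ M := norm_hall_le_of_coatom hp hM hn (hK ⟨p, hp⟩) hKM (mem_sysNorm.1 hg _)
    have : (⟨g, hgM⟩ : M) ∈ systemNormalizer L := by
      refine mem_sysNorm.2 fun q => ?_
      have h1 : g ∈ N[(L q).map M.subtype] := by
        rw [← hinf]
        exact norm_inf (X := zpowers g) (zpowers_le.2 (mem_sysNorm.1 hg q))
          (zpowers_le.2 (norm_self M hgM)) (mem_zpowers g)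
      have := mem_N_comap M.subtype (g := ⟨g, hgM⟩) h1
      rwa [comap_map_eq_self_of_injective M.subtype_injective] at this
    exact hLC this

theorem CS.norm_le {G : Type u} [Group G] [Finite G] [Group.IsSolvable G]
    {K : Nat.Primes → Subgroup G} (hK : CS K) {F : Subgroup G} (hFn : F.Normal) (hF : Nil F)
    (h : F ⊔ systemNormalizer K = ⊤) : N[systemNormalizer K] ≤ systemNormalizer K := by
  induction hc : Nat.card G using Nat.strong_induction_on generalizing G with
  | _ n ih =>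
    by_cases h0 : F = ⊥
    · rw [h0, bot_sup_eq] at h
      exact le_top.trans h.ge
    obtain ⟨V, hV, hVF⟩ := exists_minNml h0 (norm_of_normal ⊤ F)
    have hVn : V.Normal := nml_top_iff.1 ⟨le_top, hV.norm⟩
    set D := systemNormalizer K with hD
    have hsurj := QuotientGroup.mk'_surjective V
    have ih' := ih _ (hc ▸ H2.card_quotient_lt hV.ne_bot) (hK.map hsurj) (hFn.map _ hsurj)
      (hF.map _) (by
        rw [hK.sysNorm_map, ← Subgroup.map_sup, h, map_top_of_surjective _ hsurj]) rfl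
    rw [hK.sysNorm_map] at ih'
    intro g hg
    have h1 : g ∈ (D.map (QuotientGroup.mk' V)).comap (QuotientGroup.mk' V) :=
      ih' (le_normalizer_map _ (mem_map_of_mem _ hg))
    rw [H2.comap_map_mk'] at h1
    by_cases hc : ⊤ ≤ C[V]
    · have : V ≤ D := fun v hv => mem_sysNorm.2 fun p =>
        norm_of_cent (cents_symm (le_top.trans hc)) hv
      rwa [sup_eq_left.2 this] at h1
    have hi := hK.inf_eq_bot hV hc
    obtain ⟨d, hd, v, hv, rfl⟩ := (mem_sup_of_norm' (norm_of_normal D V)).1 h1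
    have hvN : v ∈ N[D] := by
      have := mul_mem (inv_mem (norm_self D hd)) hg
      simpa using this
    have h2 : V ⊓ N[D] ≤ C[D] :=
      cents_of_inf_eq_bot inf_le_right (norm_inf (norm_of_normal D V) (norm_N (norm_self D)))
        (eq_bot_of_le hi (inf_le_inf_right _ inf_le_left))
    have h3 : V ≤ C[F] := hV.le_C_of_nil hF hVF (norm_of_normal F V) (norm_of_normal ⊤ F)
    have h4 : v ∈ V ⊓ C[(⊤ : Subgroup G)] := by
      refine ⟨hv, ?_⟩
      rw [← h, C_sup]
      exact ⟨h3 hv, h2 ⟨hv, hvN⟩⟩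
    have h5 := (hV.inf_eq_or (W := C[(⊤ : Subgroup G)]) (norm_C (norm_self ⊤))).resolve_right
      fun e => hc (cents_symm e)
    rw [h5, mem_bot] at h4
    rw [h4, mul_one]; exact hd

end H11
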