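import Mathlib
import Cfsg.Agent.H11.KW1
import Cfsg.Agent.H11.SysNorm

/-! The Kegel–Wielandt theorem and consequences. -/

set_option autoImplicit false

namespace H11

open Subgroup Cfsg H24 H26

universe u

variable {G : Type u} [Group G] [Finite G]

omit [Finite G] in
theorem syl_sup_of_isProd {K A X P Q : Subgroup G} {p : ℕ} (h : IsProd K A X) (hK : K ⊴ X)
    (hP : Syl p K P) (hPn : X ≤ N[P]) (hQ : Syl p A Q) : Syl p X (P ⊔ Q) := by
  have hQX : Q ≤ X := hQ.le.trans h.right_le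
  refine Hall.mk' (sup_le (hP.le.trans hK.le) hQX) (hP.pi.sup hQ.pi (hQX.trans hPn)) ?_
  have h1 : P ⊔ Q ≤ K ⊔ Q := sup_le_sup_right hP.le _
  have h2 : K ⊔ Q ≤ X := sup_le hK.le hQX
  rw [← relIndex_mul_relIndex _ _ _ h1 h2]
  refine PiNat.mul ?_ ?_
  · have : IsProd (P ⊔ Q) K (K ⊔ Q) :=
      (isProd_sup (hQX.trans hK.norm)).symm.mono_left le_sup_right h1
    rw [this.relIndex_eq]
    exact hP.idx_of_ge le_sup_left
  · rw [(h.mono_left le_sup_left h2).relIndex_eq]
    exact hQ.idx_of_ge le_sup_right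

theorem exists_syl_ge {A B X P Q : Subgroup G} {p : ℕ} (hp : p.Prime) (h : IsProd A B X)
    (hP : P ⊴ A) (hPp : IsPi {p} P) (hQ : Q ⊴ B) (hQp : IsPi {p} Q) :
    ∃ R, Syl p X R ∧ P ≤ R ∧ Q ≤ R := by
  obtain ⟨R, hR, hPR⟩ := Sylow_superset hp hPp (hP.le.trans h.left_le)
  obtain ⟨g, hg, hQR⟩ := Sylow_subJ hp hR hQp (hQ.le.trans h.right_le)
  obtain ⟨b, hb, a, ha, rfl⟩ := h.symm.mul g hg
  rw [cj_mul, le_cj_iff, cj_of_mem_N (hQ.norm (B.inv_mem hb))] at hQR
  exact ⟨cj a R, hR.cj_mem (h.left_le ha),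
    (cj_of_mem_N (hP.norm ha)).symm.le.trans (cj_mono a hPR), hQR⟩

/-- triple factorisation with a normal factor -/
theorem nil_of_triple {A B K X : Subgroup G} (hA : Nil A) (hB : Nil B) (hK : Nil K) (hn : K ⊴ X)
    (hAB : IsProd A B X) (hKA : IsProd K A X) (hKB : IsProd K B X) : Nil X := by
  refine nil_of_exists_syl_nml fun p hp _ => ?_
  obtain ⟨R, hR, hAR, hBR⟩ := exists_syl_ge hp hAB (pcore_nml _ A) (pcore_pi _ _) (pcore_nml _ B)
    (pcore_pi _ _)
  have hKn := hn.pcore {p}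
  have hKR : O[{p}, K] ≤ R := hR.nml_le (pcore_pi _ _) hKn
  have h1 := (syl_sup_of_isProd hKA hn (hK.pcore_hall _) hKn.norm (hA.pcore_hall _)).eq_of_le
    hR.pi (sup_le hKR hAR) hR.le
  have h2 := (syl_sup_of_isProd hKB hn (hK.pcore_hall _) hKn.norm (hB.pcore_hall _)).eq_of_le
    hR.pi (sup_le hKR hBR) hR.le
  refine ⟨R, hR, ?_⟩
  rw [← hAB.sup_eq]
  refine sup_le ?_ ?_
  · rw [h1]; exact norm_sup (hAB.left_le.trans hKn.norm) (pcore_nml _ A).norm
  · rw [h2]; exact norm_sup (hAB.right_le.trans hKn.norm) (pcore_nml _ B).norm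

theorem isProd_pcore {A B : Subgroup G} {p : ℕ} (hp : p.Prime) (h : IsProd A B ⊤) (hA : Nil A)
    (hB : Nil B) : ∃ R, IsPi {p} R ∧ IsProd O[{p}, A] O[{p}, B] R := by
  have := Fact.mk hp
  obtain ⟨P, Q, R, e⟩ := exists_sylow_mul (isProd_top_iff.1 h) p
  rw [hA.hall_eq_pcore (syl_of_sylow hp P), hB.hall_eq_pcore (syl_of_sylow hp Q)] at e
  exact ⟨R, isPi_of_isPGroup hp R.isPGroup', isProd_of_coe_eq e⟩

theorem kegel_wielandt_top {G : Type u} [Group G] [Finite G] {A B : Subgroup G} (hA : Nil A)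
    (hB : Nil B) (h : IsProd A B ⊤) : Group.IsSolvable G := by
  induction hn : Nat.card G using Nat.strong_induction_on generalizing G with
  | _ n ih =>
    have hsub : ∀ A' B' H : Subgroup G, H ≠ ⊤ → Nil A' → Nil B' → IsProd A' B' H → Sol H := by
      intro A' B' H hH hA' hB' hp
      have := IsProd.subgroupOf' hp le_rfl
      rw [subgroupOf_self] at this
      exact ih _ (hn ▸ H2.card_lt_of_ne_top hH) (hA'.subgroupOf H) (hB'.subgroupOf H) this rfl
    have hquo : ∀ (N : Subgroup G) [N.Normal], N ≠ ⊥ → Group.IsSolvable (G ⧸ N) := by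
      intro N _ hN
      have := IsProd.map' h (QuotientGroup.mk' N)
      rw [map_top_of_surjective _ (QuotientGroup.mk'_surjective N)] at this
      exact ih _ (hn ▸ H2.card_quotient_lt hN) (hA.map _) (hB.map _) this rfl
    by_contra hns
    have hnt : Nontrivial G := by
      by_contra hc
      rw [not_nontrivial_iff_subsingleton] at hc
      exact hns inferInstance
    have hnsol : ∀ (N : Subgroup G) [N.Normal], N ≠ ⊥ → ¬ Sol N := fun N _ hN hs =>
      hns (H2.isSolvable_of_normal_quotient N hs (hquo N hN))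
    by_cases hc : (♯A).Coprime ♯B
    · refine KW.false (A := A) (B := B) ⟨⟨fun N hN => ?_⟩, hns, hA, hB, hc, h, hsub⟩
      by_contra hcon
      push Not at hcon
      have h1 := (h.hall_left (isPi_primesOf A) (isPi_compl_of_coprime hc)).inf_nml (nml_top N)
      have h2 := (h.hall_right (π := (primesOf A)ᶜ) (by rw [compl_compl]; exact isPi_primesOf A)
        (isPi_compl_of_coprime hc)).inf_nml (nml_top N)
      exact hnsol N hcon.1 (hsub _ _ N hcon.2 (hA.of_le inf_le_left) (hB.of_le inf_le_left)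
        (h1.isProd h2))
    obtain ⟨p, hp, hpA, hpB⟩ := Nat.Prime.not_coprime_iff_dvd.1 hc
    obtain ⟨M, hM, -⟩ := exists_minNml (top_ne_bot (α := Subgroup G)) (norm_self ⊤)
    have hMn : M.Normal := nml_top_iff.1 ⟨le_top, hM.norm⟩
    have hMs := hnsol M hM.ne_bot
    have hC : C[M] = ⊥ := by
      by_contra h0
      have hi : C[M] ⊓ M = ⊥ := by
        rw [inf_comm]
        exact (hM.inf_eq_or (norm_C hM.norm)).resolve_right fun e => hMs (abl_iff.2 e).sol
      have := hquo _ h0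
      apply hMs
      refine Group.isSolvable_of_isSolvable_injective
        (f := (QuotientGroup.mk' C[M]).comp M.subtype) ?_
      rw [injective_iff_map_eq_one]
      intro x hx
      have : (x : G) ∈ C[M] ⊓ M := ⟨(QuotientGroup.eq_one_iff _).1 hx, x.2⟩
      rw [hi, mem_bot] at this
      exact Subtype.ext this
    have key : ∀ {A B : Subgroup G}, Nil A → Nil B → IsProd A B ⊤ → M ⊔ A = ⊤ := by
      intro A B hA hB h
      by_contra hne
      exact hMs ((hsub _ _ _ hne hA (hB.of_le inf_le_left)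
        (h.inf_left le_sup_right le_top)).of_le le_sup_left)
    have key2 : ∀ {A B : Subgroup G}, Nil A → Nil B → IsProd A B ⊤ →
        M ⊔ O[{p}, A] ⊴ ⊤ ∧ O[{p}, B] ≤ M ⊔ O[{p}, A] := by
      intro A B hA hB h
      have h1 : M ⊔ O[{p}, A] ⊴ ⊤ := by
        refine ⟨le_top, ?_⟩
        rw [← key hA hB h]
        exact sup_le (norm_of_le le_sup_left) (norm_sup (norm_of_normal A M) (pcore_nml _ A).norm)
      refine ⟨h1, le_of_idx_compl h1 ?_ (pcore_pi _ _) le_top⟩
      have h2 := isProd_sup (norm_of_normal A M)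
      rw [key hA hB h] at h2
      rw [(h2.mono_left le_sup_left le_top).relIndex_eq]
      exact (hA.pcore_hall _).idx_of_ge le_sup_right
    have key3 : ∀ {A B : Subgroup G}, Nil A → Nil B → IsProd A B ⊤ → p ∣ ♯A →
        ∀ N, N ⊴ M ⊔ O[{p}, A] → N ≠ M ⊔ O[{p}, A] → ¬ O[{p}, A] ≤ N := by
      intro A B hA hB h hd N hN hne hle
      have h1 : ⁅M, O[{p}, A]⁆ ≤ M ⊓ N := le_inf (comm_le_left (norm_of_normal _ M))
        ((comm_mono_right hle).trans (comm_le_right (le_sup_left.trans hN.norm)))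
      have h2 : ⊤ ≤ N[⁅M, O[{p}, A]⁆] := by
        rw [← key hA hB h]
        exact sup_le (norm_comm_left _ _) (norm_comm (norm_of_normal A M) (pcore_nml _ A).norm)
      rcases hM.eq_or (h1.trans inf_le_left) h2 with e | e
      · exact hA.pcore_ne_bot (π := {p}) hp rfl hd (eq_bot_of_le hC (comm_eq_bot'.1 e))
      · exact hne (le_antisymm hN.le (sup_le (e.ge.trans (h1.trans inf_le_right)) hle))
    have hX : M ⊔ O[{p}, B] = M ⊔ O[{p}, A] :=
      le_antisymm (sup_le le_sup_left (key2 hA hB h).2) (sup_le le_sup_left (key2 hB hA h.symm).2)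
    obtain ⟨N, hN, hne, hor⟩ := kegel_rel (A := O[{p}, A]) (B := O[{p}, B])
      (X := M ⊔ O[{p}, A]) (by
        intro x hx
        obtain ⟨a, ha, b, hb, rfl⟩ := h.mul x trivial
        obtain ⟨R, hR, hRp⟩ := isProd_pcore hp h hA hB
        have h1 := IsProd.cj' hRp a
        rw [cj_of_mem_N ((pcore_nml {p} A).norm ha), ← cj_of_mem_N ((pcore_nml {p} B).norm hb),
          ← cj_mul] at h1
        refine ⟨cj a R, lt_of_le_of_ne ?_ fun e => ?_, h1⟩
        · rw [← h1.sup_eq]
          exact sup_le le_sup_right (cj_le_of_mem (key2 hA hB h).2 hx)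
        · exact hMs (((hR.cj a).sol hp).of_le (le_sup_left.trans e.ge)))
    rcases hor with e | e
    · exact key3 hA hB h hpA N hN hne e
    · exact key3 hB hA h.symm hpB N (hX ▸ hN) (hX ▸ hne) e

theorem kegel_wielandt {A B M : Subgroup G} (hA : Nil A) (hB : Nil B) (h : IsProd A B M) :
    Sol M := by
  have := IsProd.subgroupOf' h le_rfl
  rw [subgroupOf_self] at this
  exact kegel_wielandt_top (hA.subgroupOf M) (hB.subgroupOf M) this

theorem exists_normal_ge {G : Type u} [Group G] [Finite G] {A B : Subgroup G} (hA : Nil A)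
    (hB : Nil B) (h : IsProd A B ⊤) (hne : A ≠ ⊤ ∨ B ≠ ⊤) :
    ∃ N : Subgroup G, N.Normal ∧ N ≠ ⊤ ∧ (A ≤ N ∨ B ≤ N) := by
  induction hn : Nat.card G using Nat.strong_induction_on generalizing G with
  | _ n ih =>
    by_cases hG : Nil (⊤ : Subgroup G)
    · rcases hne with e | e
      · obtain ⟨L, hL, hc⟩ := exists_covBy (lt_top_iff_ne_top.2 e)
        exact ⟨L, nml_top_iff.1 (hG.nml_of_covBy hc), hc.lt.ne, Or.inl hL⟩
      · obtain ⟨L, hL, hc⟩ := exists_covBy (lt_top_iff_ne_top.2 e)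
        exact ⟨L, nml_top_iff.1 (hG.nml_of_covBy hc), hc.lt.ne, Or.inr hL⟩
    have h0 : (⊤ : Subgroup G) ≠ ⊥ := fun e => hG (e ▸ nil_bot)
    obtain ⟨V, hV, -⟩ := exists_minNml h0 (norm_self ⊤)
    have hVn : V.Normal := nml_top_iff.1 ⟨le_top, hV.norm⟩
    have hVa : Abl V := hV.abl ((kegel_wielandt hA hB h).of_le le_top)
    have hsurj := QuotientGroup.mk'_surjective V
    have hp := IsProd.map' h (QuotientGroup.mk' V)
    rw [map_top_of_surjective _ hsurj] at hp
    have htop : ∀ X : Subgroup G, X.map (QuotientGroup.mk' V) = ⊤ → IsProd V X ⊤ := by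
      intro X hX
      have := isProd_sup (norm_of_normal X V)
      rwa [sup_comm, ← H2.comap_map_mk', hX, comap_top] at this
    obtain ⟨N, hN, hNt, hor⟩ := ih _ (hn ▸ H2.card_quotient_lt hV.ne_bot) (hA.map _) (hB.map _) hp
      (by
        by_contra hc
        push Not at hc
        exact hG (nil_of_triple hA hB hVa.nil (nml_top V) h (htop A hc.1) (htop B hc.2))) rfl
    refine ⟨N.comap (QuotientGroup.mk' V), hN.comap _, fun e => hNt ?_, ?_⟩
    · rw [← H2.map_comap_mk' V N, e, map_top_of_surjective _ hsurj]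
    · exact hor.imp map_le_iff_le_comap.1 map_le_iff_le_comap.1

theorem exists_normal_le [Nontrivial G] {A B : Subgroup G} (hA : Abl A) (hB : Abl B)
    (h : IsProd A B ⊤) : ∃ N : Subgroup G, N.Normal ∧ N ≠ ⊥ ∧ (N ≤ A ∨ N ≤ B) := by
  by_contra hc
  push Not at hc
  have hK : Abl ⁅(⊤ : Subgroup G), ⊤⁆ := der1_eq_bot.1 (ito (isProd_top_iff.1 h))
  set K : Subgroup G := ⁅(⊤ : Subgroup G), ⊤⁆ with hKd
  have hKn : K.Normal := inferInstance
  have hA1 : ∀ N : Subgroup G, N ⊴ ⊤ → N ≤ A → N = ⊥ := fun N hN hle => by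
    by_contra h0
    exact (hc N (nml_top_iff.1 hN) h0).1 hle
  have hB1 : ∀ N : Subgroup G, N ⊴ ⊤ → N ≤ B → N = ⊥ := fun N hN hle => by
    by_contra h0
    exact (hc N (nml_top_iff.1 hN) h0).2 hle
  have key : ∀ {A B : Subgroup G}, Abl A → Abl B → IsProd A B ⊤ →
      (∀ N : Subgroup G, N ⊴ ⊤ → N ≤ A → N = ⊥) → (∀ N : Subgroup G, N ⊴ ⊤ → N ≤ B → N = ⊥) →
      Z[K ⊔ A] = ⊥ := by
    intro A B hA hB h hA1 hB1
    refine hA1 _ (nml_of_der1_le le_sup_left le_top).center fun z hz => ?_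
    obtain ⟨a, ha, b, hb, rfl⟩ := h.mul z trivial
    have h1 : b ∈ C[(⊤ : Subgroup G)] := by
      rw [← h.sup_eq, C_sup]
      refine ⟨?_, hB.le_C hb⟩
      have := mul_mem (inv_mem (hA.le_C ha)) (C_anti le_sup_right hz.2)
      simpa using this
    have h2 := hB1 (zpowers b) (nml_of_le_center (zpowers_le.2 ⟨trivial, h1⟩)) (zpowers_le.2 hb)
    rw [zpowers_eq_bot] at h2
    rw [h2, mul_one]; exact ha
  have hZA := key hA hB h hA1 hB1
  have hZB := key hB hA h.symm hB1 hA1
  set X := (K ⊔ A) ⊓ (K ⊔ B) with hX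
  have hKX : K ≤ X := le_inf le_sup_left le_sup_left
  have hp1 : IsProd (A ⊓ X) (B ⊓ (K ⊔ A)) X := (h.inf_left le_sup_right le_top).inf_right
    (le_inf inf_le_right (inf_le_left.trans le_sup_right)) inf_le_left
  have hp : IsProd (A ⊓ X) (B ⊓ X) X :=
    hp1.mono_right (le_inf inf_le_left hp1.right_le) inf_le_right
  have hnil : Nil X := nil_of_triple (hA.of_le inf_le_left).nil (hB.of_le inf_le_left).nil hK.nil
    ⟨hKX, norm_of_normal X K⟩ hp ((isProd_sup (norm_of_normal A K)).inf_left hKX inf_le_left)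
    ((isProd_sup (norm_of_normal B K)).inf_left hKX inf_le_right)
  have hX0 : X ≠ ⊥ := by
    intro e
    have hG : Abl (⊤ : Subgroup G) := der1_eq_bot.1 (eq_bot_of_le e hKX)
    have := h.sup_eq
    rw [hA1 A (hG.nml le_top) le_rfl, hB1 B (hG.nml le_top) le_rfl, bot_sup_eq] at this
    exact bot_ne_top this
  obtain ⟨z, hz, hz1⟩ := exists_ne_one (hnil.center_ne_bot hX0)
  obtain ⟨a, ha, b, hb, rfl⟩ := hp.mul z hz.1
  have hbX : b ∈ C[X] := by
    rw [← hp.sup_eq, C_sup]
    refine ⟨?_, C_anti inf_le_left (hB.le_C hb.1)⟩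
    have := mul_mem (inv_mem (C_anti inf_le_left (hA.le_C ha.1) : a ∈ C[A ⊓ X]))
      (C_anti inf_le_right hz.2)
    simpa using this
  have haX : a ∈ C[X] := by
    have := mul_mem (mem_inf.1 hz).2 (inv_mem hbX)
    simpa using this
  have h1 : a ∈ Z[K ⊔ A] := ⟨mem_sup_right ha.1, by
    rw [C_sup]; exact ⟨C_anti hKX haX, hA.le_C ha.1⟩⟩
  have h2 : b ∈ Z[K ⊔ B] := ⟨mem_sup_right hb.1, by
    rw [C_sup]; exact ⟨C_anti hKX hbX, hB.le_C hb.1⟩⟩
  rw [hZA, mem_bot] at h1
  rw [hZB, mem_bot] at h2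
  exact hz1 (by rw [h1, h2, mul_one])

theorem eq_top_of_sup_der1 {G : Type u} [Group G] [Finite G] {A B : Subgroup G} (hA : Abl A)
    (hB : Nil B) (h : IsProd A B ⊤) (hs : A ⊔ ⁅B, B⁆ = ⊤) : A = ⊤ := by
  induction hn : Nat.card G using Nat.strong_induction_on generalizing G with
  | _ n ih =>
    by_contra hne
    have key : ∀ N : Subgroup G, N.Normal → N ≠ ⊥ → A ⊔ N = ⊤ := by
      intro N _ hN
      have hsurj := QuotientGroup.mk'_surjective N
      have hp := IsProd.map' h (QuotientGroup.mk' N)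
      rw [map_top_of_surjective _ hsurj] at hp
      have := ih _ (hn ▸ H2.card_quotient_lt hN) (hA.map _) (hB.map _) hp (by
        rw [← map_commutator, ← Subgroup.map_sup, hs, map_top_of_surjective _ hsurj]) rfl
      rw [← H2.comap_map_mk', this, comap_top]
    have h0 : (⊤ : Subgroup G) ≠ ⊥ := fun e => hne (eq_top_iff.2 (e.le.trans bot_le))
    obtain ⟨V, hV, -⟩ := exists_minNml h0 (norm_self ⊤)
    have hVn : V.Normal := nml_top_iff.1 ⟨le_top, hV.norm⟩
    have hVs : Sol V := (kegel_wielandt hA.nil hB h).of_le le_top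
    have hVa : Abl V := hV.abl hVs
    obtain ⟨p, hp, hVp⟩ := MinNml.exists_pi hV hVs
    have hAV := key V hVn hV.ne_bot
    have hAp : IsPi {p}ᶜ A := by
      rw [isPi_compl_iff hp]
      intro hd
      obtain ⟨a, ha, e⟩ := exists_orderOf_eq hp hd
      have h1 := (piElt_of_orderOf_prime hp e).isPi.inf_C_ne_bot hp hVp (norm_of_normal _ V)
        hV.ne_bot
      have hAC : A ≤ C[zpowers a] := hA.cents le_rfl (zpowers_le.2 ha)
      have h2 : V ≤ C[zpowers a] := by
        have := hV.eq_or (inf_le_left : V ⊓ C[zpowers a] ≤ V) (by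
          rw [← hAV]
          exact sup_le (norm_inf (norm_of_normal A V) (norm_of_le hAC))
            (hVa.norm le_rfl inf_le_left))
        exact (this.resolve_left h1).ge.trans inf_le_right
      have h3 := key (zpowers a) (normal_of_sup_eq_top hAV (norm_of_cent hAC) (norm_of_cent h2))
        (by simpa using ne_one_of_orderOf_prime (e ▸ hp))
      exact hne ((sup_eq_left.2 (zpowers_le.2 ha)).symm.trans h3)
    have hprod := isProd_sup (norm_of_normal A V)
    rw [sup_comm, hAV] at hprod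
    have hVS : Syl p ⊤ V := hprod.hall_left hVp hAp
    have hder : ⁅(⊤ : Subgroup G), ⊤⁆ ≤ V := by
      rw [← hprod.sup_eq, der1_sup (norm_of_normal A V), der1_eq_bot.2 hA, sup_bot_eq]
      exact sup_le (der1_le V) (comm_le_left (norm_of_normal A V))
    have hBa : Abl B := (hB.pcoreC {p}).cp.abl
      (hVa.of_le (hVS.le_of_nml hV.norm (pcore_pi _ _) le_top))
      (der1_eq_bot.1 (eq_bot_of_le (hVp.inf_eq_bot (pcore_pi _ B))
        (le_inf ((der1_mono le_top).trans hder) (der1_le _))))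
    rw [der1_eq_bot.2 hBa, sup_bot_eq] at hs
    exact hne hs

theorem eq_of_sup_der1 {A B M : Subgroup G} (hA : Abl A) (hB : Nil B) (h : IsProd A B M)
    (hs : A ⊔ ⁅B, B⁆ = M) : A = M := by
  have h1 := IsProd.subgroupOf' h le_rfl
  rw [subgroupOf_self] at h1
  have := eq_top_of_sup_der1 (hA.subgroupOf M) (hB.subgroupOf M) h1 (by
    rw [← subgroupOf_comm h.right_le h.right_le,
      ← subgroupOf_sup h.left_le ((der1_le B).trans h.right_le), hs, subgroupOf_self])
  exact le_antisymm h.left_le (subgroupOf_eq_top.1 this)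

omit [Finite G] in
theorem ito_rel {A B M : Subgroup G} (hA : Abl A) (hB : Abl B) (h : IsProd A B M) :
    der 2 M = ⊥ := by
  have h1 := IsProd.subgroupOf' h le_rfl
  rw [subgroupOf_self] at h1
  have := hA.subgroupOf M
  have := hB.subgroupOf M
  rw [der_eq_map, ito (isProd_top_iff.1 h1), Subgroup.map_bot]

theorem exists_metabelian_normal {A B : Subgroup G} (hA : Abl A) (hB : ⁅B, B⁆ ≤ C[B])
    (h : IsProd A B ⊤) (h0 : ⁅B, B⁆ ≠ ⊥) :
    ∃ N : Subgroup G, N.Normal ∧ N ⊓ ⁅B, B⁆ ≠ ⊥ ∧ der 2 N = ⊥ := by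
  obtain ⟨u, hu, hu1⟩ := exists_ne_one h0
  obtain ⟨J, -, ⟨u, hu, hu1, rfl⟩, hmin⟩ := exists_min
    (P := fun J => ∃ u ∈ ⁅B, B⁆, u ≠ 1 ∧ J = A ⊔ zpowers u) ⟨u, hu, hu1, rfl⟩
  set J := A ⊔ zpowers u with hJ
  have hp := h.inf_left (le_sup_left : A ≤ J) le_top
  have hab : Abl (B ⊓ J) := by
    by_contra hc
    rw [← der1_eq_bot] at hc
    obtain ⟨v, hv, hv1⟩ := exists_ne_one hc
    have h1 : A ⊔ ⁅B ⊓ J, B ⊓ J⁆ ≤ J := sup_le le_sup_left ((der1_le _).trans inf_le_right)
    have h2 : A ⊔ zpowers v ≤ A ⊔ ⁅B ⊓ J, B ⊓ J⁆ := sup_le_sup_left (zpowers_le.2 hv) _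
    have h3 := hmin _ ⟨v, der1_mono inf_le_left hv, hv1, rfl⟩ (h2.trans h1)
    have h4 := eq_of_sup_der1 hA ((nil_of_der1_le_C hB).of_le inf_le_left) hp
      (le_antisymm h1 (h3.ge.trans h2))
    exact hc (der1_eq_bot.2 (hA.of_le (inf_le_right.trans h4.ge)))
  refine ⟨J.normalCore, inferInstance, ne_bot_of_mem (x := u) ⟨fun g => ?_, hu⟩ hu1,
    eq_bot_of_le (ito_rel hA hab hp) (der_mono 2 (normalCore_le J))⟩
  obtain ⟨a, ha, b, hb, rfl⟩ := h.mul g trivial
  have h1 : b * u * b⁻¹ = u := conj_eq_of_mem_C (cents_symm hB hb) hu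
  have h2 := conj_mem (norm_self J (mem_sup_left ha)) (mem_sup_right (mem_zpowers u) : u ∈ J)
  rw [← h1] at h2
  simpa only [mul_inv_rev, mul_assoc] using h2

omit [Finite G] in
theorem der_add (m n : ℕ) (H : Subgroup G) : der (m + n) H = der n (der m H) := by
  induction n with
  | zero => rfl
  | succ n ih => rw [← add_assoc, der_succ, der_succ, ih]

theorem der_eq_bot_of_class_two (n : ℕ) : ∀ {G : Type u} [Group G] [Finite G] {A B : Subgroup G},
    Abl A → ⁅B, B⁆ ≤ C[B] → IsProd A B ⊤ → (♯⁅B, B⁆).primeFactorsList.length ≤ n →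
    der (2 * (1 + n)) (⊤ : Subgroup G) = ⊥ := by
  induction n with
  | zero =>
    intro G _ _ A B hA hB h hn
    rw [Nat.le_zero, List.length_eq_zero_iff, Nat.primeFactorsList_eq_nil] at hn
    exact ito_rel hA (der1_eq_bot.1 (card_eq_one'.1 (hn.resolve_left (card_ne_zero _)))) h
  | succ n ih =>
    intro G _ _ A B hA hB h hn
    have e : 2 * (1 + (n + 1)) = 2 * (1 + n) + 2 := by ring
    rw [e]
    by_cases h0 : ⁅B, B⁆ = ⊥
    · rw [add_comm, der_add, ito_rel hA (der1_eq_bot.1 h0) h]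
      exact eq_bot_of_le rfl (der_le _ _)
    obtain ⟨N, hN, hne, hN2⟩ := exists_metabelian_normal hA hB h h0
    have hsurj := QuotientGroup.mk'_surjective N
    have hp := IsProd.map' h (QuotientGroup.mk' N)
    rw [map_top_of_surjective _ hsurj] at hp
    have := ih (hA.map _) (by rw [← map_commutator]; exact cent_map hB _) hp (by
      rw [← map_commutator]
      have h1 := H2.card_map_mk'_mul N ⁅B, B⁆
      have h2 := (Nat.perm_primeFactorsList_mul (card_ne_zero (N ⊓ ⁅B, B⁆))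
        (card_ne_zero (⁅B, B⁆.map (QuotientGroup.mk' N)))).length_eq
      rw [h1, List.length_append] at h2
      have h3 : (♯(N ⊓ ⁅B, B⁆)).primeFactorsList.length ≠ 0 := by
        rw [Ne, List.length_eq_zero_iff, Nat.primeFactorsList_eq_nil]
        have := one_lt_card hne
        omega
      omega)
    rw [← map_top_of_surjective _ hsurj, der_map, H2.map_mk'_eq_bot_iff] at this
    rw [der_add]
    exact eq_bot_of_le hN2 (der_mono 2 this)

end H11
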