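import Mathlib
import Cfsg.Agent.H24.S14Defs
import Cfsg.Agent.H24.S09
import Cfsg.Agent.H25.S13

/-!
# Bender–Glauberman §14, first part: `κ(M)`, 14.1 – 14.3
-/

set_option autoImplicit false
set_option linter.unusedSectionVars false

namespace H11 end H11

namespace H24

open Cfsg Subgroup H25 H26 H11

universe u

variable {G : Type u} [Group G] [Finite G] [FT G]
variable {M Mst N L H K U E P Q R S X Y : Subgroup G} {x x' y g : G} {p q r : ℕ}

omit [FT G] in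
/-- subgroups of order `p` are conjugate in a group of odd order and `p`-rank at most one. -/
theorem _root_.H11.rank1_conj (hp : p.Prime) (hodd : Odd ♯M) (hr : prank p M ≤ 1)
    (hP : PnElem p 1 M P) (hQ : PnElem p 1 M Q) : ∃ g ∈ M, Q = cj g P := by
  obtain ⟨S, hS, hQS⟩ := Sylow_superset hp (hQ.isPi hp) hQ.le
  obtain ⟨g, hg, hle⟩ := Sylow_Jsub hp hS (hP.isPi hp) hP.le
  have hc : Cyc S := odd_pgroup_cyc hp hS.pi (odd_of_le hodd hS.le) (by rwa [prank_Syl hp hS])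
  exact ⟨g, hg, cyc_eq_of_card_eq hc hQS hle (by rw [card_cj, hP.card, hQ.card])⟩

theorem kappa_tau13 (h : p ∈ kappa M) : p ∈ tau1 M ∨ p ∈ tau3 M :=
  ((mem_kappa (mFT_odd M)).1 h).1

theorem rank_kappa (h : p ∈ kappa M) : prank p M = 1 :=
  (kappa_tau13 h).elim tau1_prank tau3_prank

theorem kappa_nonregular (h : p ∈ kappa M) (hP : PnElem p 1 M P) : sigmaCore M ⊓ C[P] ≠ ⊥ := by
  obtain ⟨-, Q, hQ, hne⟩ := (mem_kappa (mFT_odd M)).1 h
  obtain ⟨g, hg, rfl⟩ := rank1_conj (kappa_prime h) (mFT_odd M) (rank_kappa h).le hQ hP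
  rw [← cj_of_mem_N (sigmaCore_norm M hg), Ne, inf_C_cj_eq_bot]
  exact hne

theorem mem_kappa_of (h : p ∈ tau1 M ∨ p ∈ tau3 M) (hP : PnElem p 1 M P)
    (hne : sigmaCore M ⊓ C[P] ≠ ⊥) : p ∈ kappa M :=
  (mem_kappa (mFT_odd M)).2 ⟨h, P, hP, hne⟩

theorem _root_.H11.kappa_not_tau2 (h : p ∈ kappa M) : p ∉ tau2 M := fun h2 => by
  have := rank_kappa h
  have := tau2_prank h2
  omega

theorem _root_.H11.kappa_sub_tau2' (M : Subgroup G) : kappa M ⊆ (tau2 M)ᶜ :=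
  fun _ h => kappa_not_tau2 h

theorem _root_.H11.Hall.kappa_sigma' (hK : Hall (kappa M) M K) : IsPi (sigma M)ᶜ K :=
  hK.pi.mono (kappa_sub_sigma' M)

theorem ex_kappa_Hall (hM : IsCoatom M) : ∃ K, Hall (kappa M) M K :=
  Hall_exists _ (mmax_sol hM)

theorem ex_kappa_compl (hM : IsCoatom M) (hK : Hall (kappa M) M K) : ∃ U, KappaCompl M U K := by
  obtain ⟨E, hE, hKE⟩ := ex_sigma_compl hM hK.le (Hall.kappa_sigma' hK)
  obtain ⟨U, hU⟩ := Hall_exists (kappa M)ᶜ (sigma_compl_sol hM hE)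
  have hp := hU.isProd (by rw [compl_compl]; exact hK.of_le hKE hE.le)
  refine ⟨U, ?_, hK, hp.sup_eq ▸ hp⟩
  rw [Set.compl_union]
  exact hE.trans_inter hU

theorem kappa_witness (hM : IsCoatom M) : ∃ U K, KappaCompl M U K := by
  obtain ⟨K, hK⟩ := ex_kappa_Hall hM
  obtain ⟨U, hU⟩ := ex_kappa_compl hM hK
  exact ⟨U, K, hU⟩

theorem _root_.H11.mmax_not_sigma (hM : IsCoatom M) : ¬ IsPi (sigma M) M := fun h =>
  (mmax_der1_lt hM).not_ge ((sub_Msigma hM h le_rfl).trans (Msigma_der1 hM))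

theorem _root_.H11.sigma_compl_ne_bot (hM : IsCoatom M) (hE : Hall (sigma M)ᶜ M E) : E ≠ ⊥ :=
  fun e => mmax_not_sigma hM (compl_compl (sigma M) ▸ hE.isPi_compl_of_eq_bot e)

/-- `K = 1` forces `U ≠ 1`. -/
theorem Fmax.compl_ne_bot (hM : Fmax M) (h : KappaCompl M U K) : U ≠ ⊥ :=
  sigma_compl_ne_bot hM.coatom (hM.hall_sigma' h)

/-- MathComp `trivg_kappa_compl`. -/
theorem trivg_kappa_compl (hM : IsCoatom M) (h : KappaCompl M U K) : U = ⊥ ↔ P1max M :=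
  ⟨fun e => ⟨pmax_of_not_fmax hM fun hF => hF.compl_ne_bot h e, h.eq_bot_iff.1 e⟩,
    fun h1 => h1.eq_bot h⟩

theorem sigma_mmax_exists (hp : p.Prime) (hd : p ∣ Nat.card G) :
    ∃ M : Subgroup G, IsCoatom M ∧ p ∈ sigma M := by
  obtain ⟨P, hP⟩ := Sylow_exists hp (⊤ : Subgroup G)
  obtain ⟨M, hM, -, -, hs⟩ := exists_mmax_sigma_Sylow hp hP
    (hP.ne_bot hp rfl (by rwa [card_top]))
  exact ⟨M, hM, hs⟩

/-- a `σ(M)`-element lies in the `σ`-core of a conjugate of `M`. -/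
theorem _root_.H11.exists_cj_mem_sigmaCore (hM : IsCoatom M) (hx : PiElt (sigma M) x)
    (h1 : x ≠ 1) : ∃ g, x ∈ sigmaCore (cj g M) := by
  obtain ⟨g, hg⟩ := sigma_Jsub hM hx.isPi (by rwa [Ne, zpowers_eq_bot])
  refine ⟨g⁻¹, ?_⟩
  rw [sigmaCore_cj]
  exact cj_le_iff.1 hg (mem_zpowers x)

/-- a `σ(M)`-element has `σ`-length one. -/
theorem sigmaElt_of_piElt (hM : IsCoatom M) (hx : PiElt (sigma M) x) (h1 : x ≠ 1) :
    SigmaElt x := by
  obtain ⟨g, hg⟩ := exists_cj_mem_sigmaCore hM hx h1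
  exact ⟨h1, _, isCoatom_cj hM g, hg⟩

theorem sigmaElt_of_pElt (hp : p.Prime) (hx : PiElt {p} x) (h1 : x ≠ 1) : SigmaElt x := by
  obtain ⟨M, hM, hs⟩ := sigma_mmax_exists (G := G) hp
    ((hx.dvd_orderOf h1).trans (orderOf_dvd_natCard x))
  exact sigmaElt_of_piElt hM (hx.of_mem hs) h1

theorem _root_.H11.conj_of_sigma (hM : IsCoatom M) (hL : IsCoatom L) (h1 : p ∈ sigma M)
    (h2 : p ∈ sigma L) : ∃ g, L = cj g M :=
  not_nconj.1 fun hnc => Set.disjoint_left.1 (sigma_partition hM hL hnc) h1 h2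

theorem _root_.H11.sigma_eq_of_mem (hM : IsCoatom M) (hL : IsCoatom L) (h1 : p ∈ sigma M)
    (h2 : p ∈ sigma L) : sigma L = sigma M := by
  obtain ⟨g, rfl⟩ := conj_of_sigma hM hL h1 h2
  exact sigma_cj g M

theorem _root_.H11.nconj_sigma' (hM : IsCoatom M) (hL : IsCoatom L) (hnc : NConj M L) :
    sigma M ⊆ (sigma L)ᶜ := fun _ h h' => Set.disjoint_left.1 (sigma_partition hM hL hnc) h h'

omit [Finite G] [FT G] in
theorem _root_.H11.exists_prime_dvd_orderOf (h1 : x ≠ 1) : ∃ p, p.Prime ∧ p ∣ orderOf x :=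
  Nat.exists_prime_and_dvd (by rwa [Ne, orderOf_eq_one_iff])

theorem _root_.H11.conj_of_piElt (hM : IsCoatom M) (hL : IsCoatom L) (hxM : PiElt (sigma M) x)
    (hxL : PiElt (sigma L) x) (h1 : x ≠ 1) : ∃ g, L = cj g M := by
  obtain ⟨p, hp, hd⟩ := exists_prime_dvd_orderOf h1
  exact conj_of_sigma hM hL (hxM p hp hd) (hxL p hp hd)

/-- two maximal subgroups whose `σ`-cores share a non-identity element are conjugate. -/
theorem sigma_mmax_conj (hM : IsCoatom M) (hL : IsCoatom L) (hxM : x ∈ sigmaCore M)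
    (hxL : x ∈ sigmaCore L) (h1 : x ≠ 1) : ∃ g, L = cj g M :=
  conj_of_piElt hM hL ((sigmaCore_pi M).piElt hxM) ((sigmaCore_pi L).piElt hxL) h1

theorem _root_.H11.tau13_of (hM : IsCoatom M) (hp : p.Prime) (hd : p ∣ ♯M) (hs : p ∉ sigma M)
    (ht : p ∉ tau2 M) : p ∈ tau1 M ∨ p ∈ tau3 M := by
  rcases (partition_pi_mmax hM).1 (mem_primesOf.2 ⟨hp, hd⟩) with h | h | h | h
  exacts [Or.inl h, absurd h ht, Or.inr h, absurd h hs]

/-- 14.1 -/
theorem sigma'_kappa'_facts (hM : IsCoatom M) (hp : p.Prime) (hS : Syl p M S) (hd : p ∣ ♯M)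
    (hs : p ∉ sigma M) (hk : p ∉ kappa M) :
    (Fmax M ∨ P2max M) ∧ ♯(omegaOne p S) ∣ p ^ 2 ∧ sigmaCore M ⊓ C[omegaOne p S] = ⊥ ∧
      Nil (sigmaCore M) := by
  refine ⟨(not_p1_iff hM).1 fun h => (h.pi.mem hp hd).elim hs hk, ?_⟩
  by_cases ht : p ∈ tau2 M
  · obtain ⟨B, hB⟩ := (prank_geP (n := 2) hp).1
      (by rw [prank_Syl hp hS, tau2_prank ht] : 2 ≤ prank p S)
    obtain ⟨h1, -, h2, -⟩ := tau2_context hM ht (hB.mono hS.le)
    rw [((h1 S hS).2 hB.le).1]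
    exact ⟨hB.card.dvd, h2, tau2_Msigma_nil hM ht⟩
  · have h13 := tau13_of hM hp hd hs ht
    have hr : prank p M = 1 := h13.elim tau1_prank tau3_prank
    have hc : Cyc S := odd_pgroup_cyc hp hS.pi (mFT_odd S) (by rw [prank_Syl hp hS, hr])
    have hA := (cyc_omegaOne_pnElem hp hc (hS.prime_dvd hp rfl hd)).mono hS.le
    have hreg : sigmaCore M ⊓ C[omegaOne p S] = ⊥ := by
      by_contra hne
      exact hk (mem_kappa_of h13 hA hne)
    refine ⟨by rw [hA.card]; exact pow_dvd_pow p (by norm_num), hreg, ?_⟩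
    exact prime_Frobenius_sol_kernel_nil (hA.le.trans (sigmaCore_norm M)) (Msigma_sol hM)
      (by rwa [hA.card_one]) hreg

omit [Finite G] [FT G] in
theorem _root_.H11.exists_not_mem_of_not_isPi {π : Set ℕ} (h : ¬ IsPi π H) :
    ∃ p, p.Prime ∧ p ∣ ♯H ∧ p ∉ π := by
  by_contra hc
  exact h fun p hp hd => by_contra fun h' => hc ⟨p, hp, hd, h'⟩

theorem notP1type_Msigma_nil (h : Fmax M ∨ P2max M) : Nil (sigmaCore M) := by
  have hM : IsCoatom M := h.elim Fmax.coatom P2max.coatom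
  have hn : ¬ IsPi (sigma M ∪ kappa M) M := by
    rcases h with h | h
    · rw [h.kappa, Set.union_empty]
      exact mmax_not_sigma hM
    · exact h.not_pi
  obtain ⟨p, hp, hd, hs⟩ := exists_not_mem_of_not_isPi hn
  obtain ⟨S, hS⟩ := Sylow_exists hp M
  exact (sigma'_kappa'_facts hM hp hS hd (fun h => hs (Or.inl h)) fun h => hs (Or.inr h)).2.2.2

/-- a non-trivial `(σ ∪ κ)'`-Hall subgroup acts without fixed points on `M_σ`. -/
theorem _root_.H11.cent_kappa_compl (hM : IsCoatom M) (hU : Hall (sigma M ∪ kappa M)ᶜ M U)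
    (h1 : U ≠ ⊥) : sigmaCore M ⊓ C[U] = ⊥ := by
  obtain ⟨p, hp, hd⟩ := exists_prime_dvd_card h1
  obtain ⟨S, hS⟩ := Sylow_exists hp U
  have hπ := hU.pi.mem hp hd
  have h := (sigma'_kappa'_facts hM hp (hU.trans_syl hS hπ) (hd.trans (card_dvd hU.le))
    (fun h => hπ (Or.inl h)) fun h => hπ (Or.inr h)).2.2.1
  exact eq_bot_of_le h (inf_le_inf_left _ (C_anti ((omegaOne_le p S).trans hS.le)))

/-- the structure of a `σ`-complement containing a non-trivial Hall `κ`-subgroup. -/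
theorem _root_.H11.kappa_core (hM : IsCoatom M) (hE : Hall (sigma M)ᶜ M E)
    (hK : Hall (kappa M) M K) (hKE : K ≤ E) (h1 : K ≠ ⊥) :
    ∃ U, IsPi (kappa M)ᶜ U ∧ SD U K E ∧ Semiprime (sigmaCore M) K ∧ Semireg U K ∧ Abl U ∧
      (∀ X ≤ K, (♯X).Prime → K ≤ N[X]) ∧
      (∃ E₁, Hall (tau1 M) E E₁ ∧ E₁ ≤ K ∧ E₁ ≠ ⊥) ∧
      ((Cyc K ∧ kappa M = tau1 M) ∨ (K = E ∧ ¬ Abl K)) := by
  have hKE' : Hall (kappa M) E K := hK.of_le hKE hE.le
  have hsE := sigma_compl_sol hM hE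
  by_cases h3 : ∃ p ∈ kappa M, p ∈ tau3 M
  · obtain ⟨p, hpk, hp3⟩ := h3
    have hp := kappa_prime hpk
    obtain ⟨E₁, E₂, E₃, hc⟩ := ex_sigmaCompl hM hE
    have hd3 : p ∣ ♯E₃ := hc.hall3.prime_dvd hp hp3 (hE.prime_dvd hp (kappa_not_sigma hpk)
      (kappa_dvd hpk))
    obtain ⟨X, hX⟩ := exists_pnElem_one hp hd3
    have hXE : X ≤ E := hX.le.trans hc.hall3.le
    have hne := kappa_nonregular hpk (hX.of_le (hXE.trans hE.le))
    obtain ⟨hE1, hsd, hpr, hn⟩ := tau13_nonregular hM hc fun hr =>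
      hne (hr.inf_C hX.le (hX.ne_bot hp one_pos))
    have hCE : sigmaCore M ⊓ C[E] ≠ ⊥ := by
      rwa [← hpr.inf_C hXE (hX.ne_bot hp one_pos)]
    have hEk : IsPi (kappa M) E := by
      intro q hq hd
      obtain ⟨Y, hY⟩ := exists_pnElem_one hq hd
      refine mem_kappa_of ?_ (hY.mono hE.le) (ne_bot_of_le hCE (inf_le_inf_left _ (C_anti hY.le)))
      rw [hsd.card] at hd
      exact ((Nat.Prime.dvd_mul hq).1 hd).symm.imp (hc.hall1.pi.mem hq) (hc.hall3.pi.mem hq)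
    obtain rfl : K = E := hKE'.eq_self hEk
    refine ⟨⊥, isPi_bot _, SD.bot_left K, hpr, semireg_bot_left K, abl_bot,
      fun X hX hp => (hn X hX hp).norm, ⟨E₁, hc.hall1, hc.hall1.le, hE1⟩, Or.inr ⟨rfl, fun ha => ?_⟩⟩
    have := (sigma_compl_context hM hc).2.2.2.2
    rw [inf_eq_left.2 (hc.hall3.le.trans ha.le_C)] at this
    exact ne_bot_of_prime_dvd hp hd3 this
  · have hk1 : kappa M ⊆ tau1 M := fun p hp =>
      (kappa_tau13 hp).resolve_right fun h => h3 ⟨p, hp, h⟩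
    obtain ⟨E₁, hE₁, hK1⟩ := Hall_superset hsE hKE (hK.pi.mono hk1)
    obtain ⟨E₃, hE₃⟩ := Hall_exists (tau3 M) hsE
    obtain ⟨E₂, hc⟩ := ex_tau2_compl hM hE hE₁ hE₃
    obtain ⟨⟨-, hn3⟩, -, ⟨hc1, -⟩, ⟨hsd21, -, hsd32, hsd⟩, -⟩ := sigma_compl_context hM hc
    have hpr := tau1_primact_Msigma hM hE hE₁
    obtain ⟨p, hp, hd⟩ := exists_prime_dvd_card h1
    obtain ⟨X, hX⟩ := exists_pnElem_one hp hd
    have hC1 : sigmaCore M ⊓ C[E₁] ≠ ⊥ := by
      rw [← hpr.inf_C (hX.le.trans hK1) (hX.ne_bot hp one_pos)]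
      exact kappa_nonregular (hK.pi.mem hp hd) (hX.mono hK.le)
    have h1k : tau1 M ⊆ kappa M := by
      intro q hq
      obtain ⟨Y, hY⟩ := exists_pnElem_one (tau1_prime hq) (hE₁.prime_dvd (tau1_prime hq) hq
        (hE.prime_dvd (tau1_prime hq) (tau1_not_sigma hq) (tau1_dvd hq)))
      exact mem_kappa_of (Or.inl hq) (hY.mono (hE₁.le.trans hE.le))
        (ne_bot_of_le hC1 (inf_le_inf_left _ (C_anti hY.le)))
    have hke : kappa M = tau1 M := Set.Subset.antisymm hk1 h1k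
    obtain rfl : E₁ = K := hKE'.eq_of_le (hE₁.pi.mono h1k) hK1 hE₁.le
    -- `K` acts regularly on `E₃`
    have hr3 : Semireg E₃ E₁ := by
      by_contra hr
      have hpr13 := tau13_primact_Msigma hM hc hr
      have h31 : E₃ ≠ ⊥ := fun e => hr (e ▸ semireg_bot_left E₁)
      obtain ⟨q, hq, hqd⟩ := exists_prime_dvd_card h31
      obtain ⟨Y, hY⟩ := exists_pnElem_one hq hqd
      have hq3 := hE₃.pi.mem hq hqd
      refine h3 ⟨q, mem_kappa_of (Or.inr hq3) (hY.mono (hE₃.le.trans hE.le)) ?_, hq3⟩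
      rwa [hpr13.inf_C (hY.le.trans le_sup_left) (hY.ne_bot hq one_pos),
        ← hpr13.inf_C le_sup_right h1]
    -- and on `E₂`
    have hr2 : Semireg E₂ E₁ := by
      refine semireg_of_forall_prime fun P hP hPp => ?_
      by_contra hne
      obtain ⟨q, hq, hqd⟩ := exists_prime_dvd_card hne
      obtain ⟨Y, hY⟩ := exists_pnElem_one hq hqd
      have hq2 := hc.hall2.pi.mem hq (hqd.trans (card_dvd inf_le_left))
      obtain ⟨A, hA⟩ := ex_tau2Elem hE hq2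
      have hYA := (tau2_compl_context hM hE hq2 hA).1.2 Y
        (hY.mono (inf_le_left.trans hc.hall2.le))
      have hPE := pnElem_one_of_card hPp (hP.trans hE₁.le) rfl
      have hpk := hK.pi.mem hPp (card_dvd hP)
      exact kappa_nonregular hpk (hPE.mono hE.le) (tau12_regular hM hE (hk1 hpk) hq2 hPE hA
        (ne_bot_of_le (hY.ne_bot hq one_pos) (le_inf hYA (hY.le.trans inf_le_right))))
    have hreg : Semireg (E₃ ⊔ E₂) E₁ := by
      refine semireg_of_forall_prime fun P hP hPp => ?_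
      exact cent_sup_eq_bot hsd32.norm ((hP.trans hE₁.le).trans hn3.norm) (hP.trans hsd21.norm)
        hsd32.inf (hr3.inf_C hP (ne_bot_of_prime hPp)) (hr2.inf_C hP (ne_bot_of_prime hPp))
    have hUE := hsd.left_le
    refine ⟨E₃ ⊔ E₂, hsd.isPi_left hKE', hsd, hpr, hreg, ?_, fun X hX _ => hc1.abl.norm le_rfl hX,
      ⟨E₁, hE₁, le_rfl, h1⟩, Or.inl ⟨hc1, hke⟩⟩
    exact sigma'_nil_abelian hM (hUE.trans hE.le) (hE.pi.of_le hUE)
      (H1.semiregular_sol_nil (hsE.of_le hUE) hsd.norm h1 hreg)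

theorem _root_.H11.KappaCompl.hallE (h : KappaCompl M U K) : Hall (sigma M)ᶜ M (U ⊔ K) := by
  have h1 := h.hallU.union h.hallK h.prod (sup_le h.hallU.le h.hallK.le)
  refine h1.congr fun p _ _ => ⟨fun h2 h3 => ?_, fun h2 => ?_⟩
  · exact h2.elim (fun h4 => h4 (Or.inl h3)) fun h4 => kappa_not_sigma h4 h3
  · by_cases h3 : p ∈ kappa M
    exacts [Or.inr h3, Or.inl fun h4 => h4.elim h2 h3]

theorem _root_.H11.KappaCompl.pi_kappa' (h : KappaCompl M U K) : IsPi (kappa M)ᶜ U :=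
  h.hallU.pi.mono fun _ h1 h2 => h1 (Or.inr h2)

theorem _root_.H11.KappaCompl.pi_sigma' (h : KappaCompl M U K) : IsPi (sigma M)ᶜ U :=
  h.hallU.pi.mono fun _ h1 h2 => h1 (Or.inl h2)

/-- 14.2(a) -/
theorem kappa_compl_context (hM : IsCoatom M) (h : KappaCompl M U K) :
    Hall (sigma M)ᶜ M (U ⊔ K) ∧ SD U K (U ⊔ K) ∧ SD (sigmaCore M) (U ⊔ K) M ∧
      Semiprime (sigmaCore M) K ∧ Semireg U K ∧ (K ≠ ⊥ → Abl U) := by
  have hE := KappaCompl.hallE h
  refine ⟨hE, ?_⟩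
  by_cases h1 : K = ⊥
  · subst h1
    refine ⟨by simpa using SD.bot_right U, sdprod_sigma hM hE,
      (semireg_bot_right _).semiprime, semireg_bot_right _, fun h => absurd rfl h⟩
  · obtain ⟨V, hV, hsd, hpr, hreg, ha, -⟩ := kappa_core hM hE h.hallK le_sup_right h1
    have hKE : Hall (kappa M) (U ⊔ K) K := h.hallK.of_le le_sup_right hE.le
    obtain rfl : U = V := (hsd.hall_compl_left hKE).eq_of_nml hsd.nml.norm
      (h.prod.hall_left (KappaCompl.pi_kappa' h) (by rw [compl_compl]; exact h.hallK.pi))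
    exact ⟨hsd, sdprod_sigma hM hE, hpr, hreg, fun _ => ha⟩

theorem kappa_primact (hM : IsCoatom M) (hK : Hall (kappa M) M K) :
    Semiprime (sigmaCore M) K := by
  obtain ⟨U, hU⟩ := ex_kappa_compl hM hK
  exact (kappa_compl_context hM hU).2.2.2.1

theorem _root_.H11.kappa_norm_prime (hM : IsCoatom M) (hK : Hall (kappa M) M K) (hX : X ≤ K)
    (hp : (♯X).Prime) : K ≤ N[X] := by
  obtain ⟨E, hE, hKE⟩ := ex_sigma_compl hM hK.le (Hall.kappa_sigma' hK)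
  obtain ⟨-, -, -, -, -, -, h, -⟩ := kappa_core hM hE hK hKE
    (ne_bot_of_le (ne_bot_of_prime hp) hX)
  exact h X hX hp

theorem _root_.H11.Ptype_norm_aux (hM : IsCoatom M) (hK : Hall (kappa M) M K) (hX : X ≤ K)
    (h1 : X ≠ ⊥) (hn : K ≤ N[X]) : DP K (sigmaCore M ⊓ C[K]) (M ⊓ N[X]) := by
  obtain ⟨U, hU⟩ := ex_kappa_compl hM hK
  obtain ⟨-, hsd, hsdM, hpr, hreg, -⟩ := kappa_compl_context hM hU
  have h2 := hsd.inf_N hX
  rw [hreg.inf_C hX h1, inf_eq_left.2 hn] at h2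
  have h3 := hsdM.inf_N (hX.trans le_sup_right)
  rw [hpr.inf_C hX h1, ← h2.eq_of_left_bot] at h3
  exact (h3.dp (cents_symm inf_le_right)).symm

/-- 14.2(b) -/
theorem Ptype_norm (hM : Pmax M) (hK : Hall (kappa M) M K) :
    DP K (sigmaCore M ⊓ C[K]) (M ⊓ N[K]) :=
  Ptype_norm_aux hM.coatom hK le_rfl (hM.ne_bot hK) (norm_self K)

theorem _root_.H11.pmax_of_le_kappa (hM : IsCoatom M) (hK : Hall (kappa M) M K) (hX : X ≤ K)
    (h1 : X ≠ ⊥) : Pmax M :=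
  (kappa_ne_bot_iff hM hK).1 (ne_bot_of_le h1 hX)

theorem Ptype_norm_prime (hM : Pmax M) (hK : Hall (kappa M) M K) (hX : X ≤ K)
    (hp : (♯X).Prime) :
    M ⊓ N[X] = M ⊓ N[K] ∧ ∀ Mst, IsCoatom Mst → N[X] ≤ Mst → X ≤ sigmaCore Mst := by
  refine ⟨(Ptype_norm_aux hM.coatom hK hX (ne_bot_of_prime hp)
    (kappa_norm_prime hM.coatom hK hX hp)).sup.symm.trans (Ptype_norm hM hK).sup,
    fun Mst hMst hN => ?_⟩
  have hX1 := pnElem_one_of_card hp (hX.trans hK.le) rfl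
  have hk := hK.pi.mem hp (card_dvd hX)
  exact sub_Msigma hMst ((hX1.isPi hp).of_mem (tau13_nonregular_sigma hM.coatom hX1
    (kappa_tau13 hk) (kappa_nonregular hk hX1) hMst hN)) ((norm_self X).trans hN)

/-- 14.2(c) -/
theorem Ptype_Kstar_ne_bot (hM : Pmax M) (hK : Hall (kappa M) M K) :
    sigmaCore M ⊓ C[K] ≠ ⊥ := by
  obtain ⟨X, hX, hp⟩ := exists_card_isPrime (hM.ne_bot hK)
  rw [← (kappa_primact hM.coatom hK).inf_C hX (ne_bot_of_prime hp)]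
  exact kappa_nonregular (hK.pi.mem hp (card_dvd hX)) (pnElem_one_of_card hp (hX.trans hK.le) rfl)

theorem _root_.H11.Kstar_uniq_aux (hM : Pmax M) (hK : Hall (kappa M) M K)
    (hX : X ≤ sigmaCore M ⊓ C[K]) (hp : (♯X).Prime) :
    UniqMax C[X] M ∧ ∀ S, Syl (♯X) (sigmaCore M) S → UniqMax S M := by
  obtain ⟨E, hE, hKE⟩ := ex_sigma_compl hM.coatom hK.le (Hall.kappa_sigma' hK)
  obtain ⟨-, -, -, -, -, -, -, ⟨E₁, hE₁, h1K, h1⟩, -⟩ := kappa_core hM.coatom hE hK hKE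
    (hM.ne_bot hK)
  exact cent_cent_Msigma_tau1_uniq hM.coatom hE hE₁ le_rfl h1 hp
    (pnElem_one_of_card hp (hX.trans (inf_le_inf_left _ (C_anti h1K))) rfl)

theorem Ptype_Kstar_uniq (hM : Pmax M) (hK : Hall (kappa M) M K) (hX : X ≤ sigmaCore M ⊓ C[K])
    (hp : (♯X).Prime) : UniqMax C[X] M :=
  (Kstar_uniq_aux hM hK hX hp).1

/-- 14.2(d) -/
theorem Ptype_Kstar_TI (hM : Pmax M) (hK : Hall (kappa M) M K) (hg : g ∉ M) :
    sigmaCore M ⊓ C[K] ⊓ cj g M = ⊥ := by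
  by_contra hne
  obtain ⟨X, hX, hp⟩ := exists_card_isPrime hne
  have hX1 : X ≤ sigmaCore M := hX.trans (inf_le_left.trans inf_le_left)
  refine hg ((inv_mem_iff).1 (sigma_group_trans_e hM.coatom
    ((sigmaCore_pi M).mem hp (card_dvd hX1)) (isPi_of_card_prime hp rfl)
    (hX1.trans (sigmaCore_le M)) (Ptype_Kstar_uniq hM hK (hX.trans inf_le_left) hp).le
    (le_cj_iff.1 (hX.trans inf_le_right))))

/-- `K` is the normal Hall `σ(M)'`-subgroup of `N_M(K)`. -/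
theorem _root_.H11.Ptype_hall_K (hM : Pmax M) (hK : Hall (kappa M) M K) :
    Hall (sigma M)ᶜ (M ⊓ N[K]) K :=
  (Ptype_norm hM hK).isProd.hall_left (Hall.kappa_sigma' hK)
    (by rw [compl_compl]; exact (sigmaCore_pi M).inf_left _)

theorem _root_.H11.Ptype_hall_Kstar (hM : Pmax M) (hK : Hall (kappa M) M K) :
    Hall (sigma M) (M ⊓ N[K]) (sigmaCore M ⊓ C[K]) :=
  (Ptype_norm hM hK).isProd.hall_right (Hall.kappa_sigma' hK) ((sigmaCore_pi M).inf_left _)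

theorem _root_.H11.Ptype_le_K (hM : Pmax M) (hK : Hall (kappa M) M K) (hY : IsPi (sigma M)ᶜ Y)
    (h : Y ≤ M ⊓ N[K]) : Y ≤ K :=
  (Ptype_hall_K hM hK).le_of_nml inf_le_right hY h

theorem _root_.H11.Ptype_le_Kstar (hM : Pmax M) (hK : Hall (kappa M) M K) (hY : IsPi (sigma M) Y)
    (h : Y ≤ M ⊓ N[K]) : Y ≤ sigmaCore M ⊓ C[K] :=
  (Ptype_hall_Kstar hM hK).le_of_nml (Ptype_norm hM hK).nml_right.norm hY h

theorem _root_.H11.kappa_Hall_eq (hM : IsCoatom M) (hK : Hall (kappa M) M K)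
    (hL : Hall (kappa M) M L) (h : K ⊓ L ≠ ⊥) : K = L := by
  obtain ⟨X, hX, hp⟩ := exists_card_isPrime h
  have hP := pmax_of_le_kappa hM hK (hX.trans inf_le_left) (ne_bot_of_prime hp)
  have h1 := (Ptype_norm_prime hP hK (hX.trans inf_le_left) hp).1
  have h2 := (Ptype_norm_prime hP hL (hX.trans inf_le_right) hp).1
  exact eq_of_card_eq (Ptype_le_K hP hL (Hall.kappa_sigma' hK)
    (by rw [← h2, h1]; exact le_inf hK.le (norm_self K))) (hK.card_eq hL)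

theorem Ptype_K_TI (hM : Pmax M) (hK : Hall (kappa M) M K) (hg : g ∈ M) (hn : g ∉ N[K]) :
    K ⊓ cj g K = ⊥ := by
  by_contra hne
  exact hn (mem_N_iff_cj.2 (kappa_Hall_eq hM.coatom hK (hK.cj_mem hg) hne).symm)

/-- 14.2(e) -/
theorem Ptype_Kstar_Sylow (hM : Pmax M) (hK : Hall (kappa M) M K) (hp : p.Prime)
    (hd : p ∣ ♯(sigmaCore M ⊓ C[K])) (hS : Syl p (sigmaCore M) S) :
    UniqMax S M ∧ ¬ S ≤ sigmaCore M ⊓ C[K] := by
  obtain ⟨X, hX, rfl⟩ := exists_card_prime hp hd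
  have hU := (Kstar_uniq_aux hM hK hX hp).2 S hS
  refine ⟨hU, fun hle => ?_⟩
  obtain ⟨Y, hY, hq⟩ := exists_card_isPrime (hM.ne_bot hK)
  obtain ⟨L, hL, hN⟩ := exists_mmax_norm (ne_bot_of_prime hq)
    (sub_mmax_proper hM.coatom (hY.trans hK.le))
  have h1 := (Ptype_norm_prime hM hK hY hq).2 L hL hN
  rw [hU.uniq L hL (((hle.trans inf_le_right).trans ((C_anti hY).trans (C_le_N Y))).trans hN)]
    at h1
  exact ne_bot_of_prime hq
    (((sigmaCore_pi M).of_le h1).eq_bot ((Hall.kappa_sigma' hK).of_le hY))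

/-- 14.2(f) -/
theorem Ptype_sigma_sub (hM : Pmax M) (hK : Hall (kappa M) M K) (hY : IsPi (sigma M) Y)
    (hne : Y ⊓ (sigmaCore M ⊓ C[K]) ≠ ⊥) : Y ≤ sigmaCore M := by
  obtain ⟨g, hg⟩ := sigma_Jsub hM.coatom hY (ne_bot_of_le hne inf_le_left)
  have h1 : Y ≤ cj g⁻¹ M := cj_le_iff.1 (hg.trans (sigmaCore_le M))
  have h2 : g⁻¹ ∈ M := by
    by_contra h3
    exact hne (eq_bot_of_le (Ptype_Kstar_TI hM hK h3)
      (le_inf inf_le_right (inf_le_left.trans h1)))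
  rw [cj_of_mem h2] at h1
  exact sub_Msigma hM.coatom hY h1

/-- 14.2(g) -/
theorem P2type_structure (hM : P2max M) (hK : Hall (kappa M) M K) :
    sigma M = beta M ∧ (♯K).Prime ∧ Nil (sigmaCore M) ∧
      NormedTI ((sigmaCore M : Set G) \ {1}) M := by
  have hc := hM.coatom
  obtain ⟨U, hU⟩ := ex_kappa_compl hc hK
  obtain ⟨hE, hsd, hsdM, hpr, hreg, -⟩ := kappa_compl_context hc hU
  have hU1 := hM.ne_bot hU
  have hF : Frob (U ⊔ K) U K := ⟨hsd, hU1, hM.pmax.ne_bot hK, hreg⟩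
  have hCU := cent_kappa_compl hc hU.hallU hU1
  obtain ⟨H, hH, hHc⟩ := der_compl_cent_beta' hc hE
  have hH1 : H = ⊥ := eq_bot_of_le hCU
    (le_inf hH.le (cents_symm (hF.ker_le_der1.trans hHc)))
  have hb : IsPi (beta M) (sigmaCore M) := compl_compl (beta M) ▸ hH.isPi_compl_of_eq_bot hH1
  refine ⟨Set.Subset.antisymm (fun p hp => hb.mem (sigma_prime hp) (sigma_dvd_Msigma hc hp))
    (beta_sub_sigma hc), (H1.Frobenius_primact hF (sigma_compl_sol hc hE) (mFT_odd _) hsdM.norm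
      (Msigma_sol hc) (Msigma_neq1 hc) (coprime_sigma_compl hc hE) hpr hCU).1,
    notP1type_Msigma_nil (Or.inr hM),
    normedTI_subgroup (Msigma_neq1 hc) (sigmaCore_norm M) fun g hg => ?_⟩
  by_contra hgM
  exact hg (eq_bot_of_le ((hb.inf_left _).eq_bot (sigma_compl_embedding_cj hc hgM).2.1)
    (inf_le_inf_left _ (cj_mono g (sigmaCore_le M))))

omit [FT G] in
theorem _root_.H11.exists_prime_zpowers (hp : p.Prime) (hd : p ∣ orderOf x) :
    ∃ X, PnElem p 1 (zpowers x) X :=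
  exists_pnElem_one hp (by rwa [card_zpowers'])

omit [Finite G] [FT G] in
theorem _root_.H11.C1_le_C_of_le_zpowers (h : X ≤ zpowers x) : C{x} ≤ C[X] :=
  (C_zpowers x).symm.le.trans (C_anti h)

/-- an element of `K*#` has its centraliser in `M`. -/
theorem _root_.H11.Kstar_cent1 (hM : Pmax M) (hK : Hall (kappa M) M K)
    (hx : x ∈ sigmaCore M ⊓ C[K]) (h1 : x ≠ 1) : C{x} ≤ M := by
  obtain ⟨p, hp, hd⟩ := exists_prime_dvd_orderOf h1
  obtain ⟨X, hX⟩ := exists_prime_zpowers hp hd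
  exact (C1_le_C_of_le_zpowers hX.le).trans (Ptype_Kstar_uniq hM hK
    (hX.le.trans ((zpowers_le (G := G)).2 hx)) (by rwa [hX.card_one])).le

/-- 14.3 -/
theorem pi_of_cent_sigma (hM : IsCoatom M) (hx : x ∈ sigmaCore M) (hx1 : x ≠ 1)
    (hx' : x' ∈ M ⊓ C{x}) (hx'1 : x' ≠ 1) (hs : PiElt (sigma M)ᶜ x') :
    (PiElt (kappa M) x' ∧ C{x} ≤ M) ∨
      (PiElt (tau2 M) x' ∧ SigmaElt x' ∧ UniqMax C{x'} M) := by
  have hxc : x ∈ C{x'} := mem_C1_comm.1 (mem_inf.1 hx').2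
  have hzM : zpowers x' ≤ M := (zpowers_le (G := G)).2 (mem_inf.1 hx').1
  by_cases ht : PiElt (tau2 M) x'
  · refine Or.inr ⟨ht, ?_, cent1_nreg_sigma_uniq hM (mem_inf.1 hx').1 hx'1 ht
      (ne_bot_of_mem (mem_inf.2 ⟨hx, hxc⟩) hx1)⟩
    obtain ⟨p, hp, hd⟩ := exists_prime_dvd_orderOf hx'1
    have hp2 := ht p hp hd
    obtain ⟨E, hE, -⟩ := ex_sigma_compl hM hzM hs.isPi
    obtain ⟨A, hA⟩ := ex_tau2Elem hE hp2
    obtain ⟨H, hH, hN⟩ := exists_mmax_norm (hA.ne_bot hp two_pos) (mFT_pgroup_proper (hA.isPi hp))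
    exact sigmaElt_of_piElt hH (ht.mono fun q hq =>
      ((primes_norm_tau2Elem hM hE hp2 hA hH hN).1 q hq).1) hx'1
  · left
    obtain ⟨p, hp, hd, hp2⟩ := exists_not_mem_of_not_isPi fun h => ht (piElt_iff.2 h)
    obtain ⟨X, hX⟩ := exists_pnElem_one hp hd
    have hxX : x ∈ sigmaCore M ⊓ C[X] := mem_inf.2 ⟨hx, C1_le_C_of_le_zpowers hX.le hxc⟩
    have hk : p ∈ kappa M := mem_kappa_of (tau13_of hM hp (hd.trans (card_dvd hzM))
      (hs.isPi.mem hp hd) hp2) (hX.mono hzM) (ne_bot_of_mem hxX hx1)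
    obtain ⟨K, hK, hXK⟩ := Hall_superset (mmax_sol hM) (hX.le.trans hzM) ((hX.isPi hp).of_mem hk)
    have hX1 := hX.ne_bot hp one_pos
    have hP := pmax_of_le_kappa hM hK hXK hX1
    rw [(kappa_primact hM hK).inf_C hXK hX1] at hxX
    refine ⟨hK.pi.piElt (Ptype_le_K hP hK hs.isPi ?_ (mem_zpowers x')), Kstar_cent1 hP hK hxX hx1⟩
    rw [← (Ptype_norm_prime hP hK hXK (by rwa [hX.card_one])).1]
    exact le_inf hzM ((abl_zpowers x').norm le_rfl hX.le)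

end H24
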