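import Mathlib
import Cfsg.Agent.H11.S14a

/-!
# Bender–Glauberman §14, second part: the signalizer `R(x)`, 14.4 – 14.6
-/

set_option autoImplicit false
set_option linter.unusedSectionVars false

namespace H24

open Cfsg Subgroup H25 H26 H11

universe u

variable {G : Type u} [Group G] [Finite G] [FT G]
variable {M Mst N L H K U E P Q R S X Y A : Subgroup G} {x x' y g : G} {p q r : ℕ}

/-- the local configuration of Theorem 14.4. -/
theorem _root_.H11.signalizer_aux (hM : IsCoatom M) (hx : x ∈ sigmaCore M) (hq : q.Prime)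
    (hX : PnElem q 1 (zpowers x) X) (hN : IsCoatom N) (hXN : N[X] ≤ N) (hne : N ≠ M) :
    NConj M N ∧ q ∈ tau2 N ∧ primesOf M ∩ sigma N ⊆ beta N ∧ Hall (sigma N)ᶜ N (M ⊓ N) := by
  have hXs : X ≤ sigmaCore M := hX.le.trans ((zpowers_le (G := G)).2 hx)
  have hqs : q ∈ sigma M := (sigmaCore_pi M).mem hq ((hX.prime_dvd_self one_pos).trans
    (card_dvd hXs))
  obtain ⟨hnc, -, -, h⟩ := sigma_subgroup_embedding hM hqs (hXs.trans (sigmaCore_le M))
    (hX.isPi hq) (hX.ne_bot hq one_pos) hN hXN hne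
  exact ⟨hnc, h (nconj_sigma' hM hN hnc hqs)⟩

/-- a maximal subgroup is determined in its class by a non-cyclic `p`-subgroup, `p ∈ σ(M)`. -/
theorem _root_.H11.mem_of_noncyclic_sigma (hM : IsCoatom M) (hp : p ∈ sigma M)
    (hA : PnElem p 2 M A) (h : A ≤ cj g M) : g ∈ M :=
  have hp' := sigma_prime hp
  (inv_mem_iff).1 (sigma_group_trans_e hM hp (hA.isPi hp') hA.le
    ((C_le_N A).trans (norm_noncyclic_sigma hM hp (hA.isPi hp') hA.le (hA.not_cyc hp' le_rfl)))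
    (le_cj_iff.1 h))

theorem _root_.H11.tau2_sub_sigma_of_compl (hM : IsCoatom M) (hN : IsCoatom N) (hp : p ∈ sigma M)
    (hp2 : p ∈ tau2 N) (hE : Hall (sigma N)ᶜ N (M ⊓ N)) : tau2 N ⊆ sigma M := by
  obtain ⟨A, hA⟩ := ex_tau2Elem hE hp2
  have hp' := sigma_prime hp
  exact fun q hq => ((primes_norm_tau2Elem hN hE hp2 hA hM (norm_noncyclic_sigma hM hp
    (hA.isPi hp') (hA.le.trans inf_le_left) (hA.not_cyc hp' le_rfl))).1 q hq).1

theorem _root_.H11.ne_of_sigma_ne (hM : IsCoatom M) (hL : IsCoatom L) (hx : x ∈ sigmaCore M)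
    (hxL : x ∈ sigmaCore L) (hne : L ≠ M) (hq : q.Prime) (hX : PnElem q 1 (zpowers x) X)
    (hXN : N[X] ≤ N) : N ≠ M := by
  rintro rfl
  have hx1 : x ≠ 1 := fun e => hX.ne_bot hq one_pos
    (eq_bot_of_le (zpowers_eq_bot.2 e) hX.le)
  obtain ⟨g, rfl⟩ := sigma_mmax_conj hM hL hx hxL hx1
  have hXs : X ≤ sigmaCore N := hX.le.trans ((zpowers_le (G := G)).2 hx)
  have hqs : q ∈ sigma N := (sigmaCore_pi N).mem hq ((hX.prime_dvd_self one_pos).trans
    (card_dvd hXs))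
  have : g⁻¹ ∈ N := sigma_group_trans_e hM hqs (hX.isPi hq) (hXs.trans (sigmaCore_le N))
    ((C_le_N X).trans hXN) (le_cj_iff.1 (hX.le.trans ((zpowers_le (G := G)).2
      (sigmaCore_le _ hxL))))
  exact hne (cj_of_mem (inv_mem_iff.1 this))

theorem _root_.H11.signalizer_trans_aux (hM : IsCoatom M) (hL : IsCoatom L)
    (hx : x ∈ sigmaCore M) (hxL : x ∈ sigmaCore L) (hne : L ≠ M) (hq : q.Prime)
    (hX : PnElem q 1 (zpowers x) X) (hN : IsCoatom N) (hXN : N[X] ≤ N) :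
    ∃ u ∈ sigmaCore N ⊓ C{x}, L = cj u M := by
  have hx1 : x ≠ 1 := fun e => hX.ne_bot hq one_pos
    (eq_bot_of_le (zpowers_eq_bot.2 e) hX.le)
  obtain ⟨-, hq2, -, hE⟩ := signalizer_aux hM hx hq hX hN hXN
    (ne_of_sigma_ne hM hL hx hxL hne hq hX hXN)
  obtain ⟨-, -, -, hE'⟩ := signalizer_aux hL hxL hq hX hN hXN
    (ne_of_sigma_ne hL hM hxL hx hne.symm hq hX hXN)
  have hxN : x ∈ N := hXN (C_le_N X (C1_le_C_of_le_zpowers hX.le (self_mem_C1 x)))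
  have hsd := sdprod_sigma hN hE
  obtain ⟨k, hk, e⟩ := SchurZassenhaus_trans hsd (sdprod_sigma hN hE')
    (coprime_sigma_compl hN hE) (Or.inl (Msigma_sol hN))
  have hx1' : x ∈ M ⊓ N := mem_inf.2 ⟨sigmaCore_le M hx, hxN⟩
  have hx2 : k⁻¹ * x * k ∈ M ⊓ N := mem_cj.1 (e ▸ mem_inf.2 ⟨sigmaCore_le L hxL, hxN⟩)
  have hc : k⁻¹ * x * k * x⁻¹ ∈ sigmaCore N ⊓ (M ⊓ N) := by
    refine mem_inf.2 ⟨?_, mul_mem hx2 (inv_mem hx1')⟩
    have := mul_mem (inv_mem hk) ((sigmaCore_nml N).conj_mem hxN hk)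
    simpa only [mul_assoc] using this
  rw [hsd.inf, mem_bot] at hc
  refine ⟨k, mem_inf.2 ⟨hk, mem_C1.2 ?_⟩, ?_⟩
  · calc k * x = k * (k⁻¹ * x * k * x⁻¹ * x) := by rw [hc, one_mul]
      _ = x * k := by group
  · obtain ⟨A, hA⟩ := ex_tau2Elem hE' hq2
    have hXs : X ≤ sigmaCore L := hX.le.trans ((zpowers_le (G := G)).2 hxL)
    have hqs : q ∈ sigma L := (sigmaCore_pi L).mem hq ((hX.prime_dvd_self one_pos).trans
      (card_dvd hXs))
    obtain ⟨g, hg⟩ := sigma_mmax_conj hL hM hxL hx hx1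
    have h1 : A ≤ cj (k * g) L := by
      rw [cj_mul, ← hg]
      exact (hA.le.trans e.le).trans (cj_mono k inf_le_left)
    rw [hg, ← cj_mul, cj_of_mem (mem_of_noncyclic_sigma hL hqs (hA.mono inf_le_left) h1)]

theorem _root_.H11.exists_sigma_ne (hM : IsCoatom M) (hx : x ∈ sigmaCore M) (hC : ¬ C{x} ≤ M) :
    ∃ L, IsCoatom L ∧ x ∈ sigmaCore L ∧ L ≠ M := by
  obtain ⟨c, hc, hcM⟩ := SetLike.not_le_iff_exists.1 hC
  refine ⟨cj c M, isCoatom_cj hM c, ?_, cj_mmax_ne hM hcM⟩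
  rw [sigmaCore_cj, ← mem_C1_iff_conj.1 hc]
  exact conj_mem_cj c hx

theorem _root_.H11.signalizer_main (hM : IsCoatom M) (hx : x ∈ sigmaCore M) (hx1 : x ≠ 1)
    (hC : ¬ C{x} ≤ M) :
    UniqMax C{x} (sigN x) ∧ NConj M (sigN x) ∧ PiElt (tau2 (sigN x)) x ∧
      primesOf M ∩ sigma (sigN x) ⊆ beta (sigN x) ∧
      Hall (sigma (sigN x))ᶜ (sigN x) (M ⊓ sigN x) ∧
      ∀ L, IsCoatom L → x ∈ sigmaCore L → ∃ u ∈ sigmaCore (sigN x) ⊓ C{x}, L = cj u M := by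
  obtain ⟨q, hq, hd⟩ := exists_prime_dvd_orderOf hx1
  obtain ⟨X, hX⟩ := exists_prime_zpowers hq hd
  obtain ⟨N, hN, hXN⟩ := exists_mmax_norm (hX.ne_bot hq one_pos) (mFT_pgroup_proper (hX.isPi hq))
  obtain ⟨L, hL, hxL, hne⟩ := exists_sigma_ne hM hx hC
  obtain ⟨hnc, hq2, hb, hE⟩ := signalizer_aux hM hx hq hX hN hXN
    (ne_of_sigma_ne hM hL hx hxL hne hq hX hXN)
  obtain ⟨u, hu, e⟩ := signalizer_trans_aux hM hL hx hxL hne hq hX hN hXN
  have hu1 : u ≠ 1 := fun h => hne (by rw [e, h, cj_one])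
  have hxN : x ∈ N := hXN (C_le_N X (C1_le_C_of_le_zpowers hX.le (self_mem_C1 x)))
  rcases pi_of_cent_sigma hN (mem_inf.1 hu).1 hu1
    (mem_inf.2 ⟨hxN, mem_C1_comm.1 (mem_inf.1 hu).2⟩) hx1
    (((sigmaCore_pi M).piElt hx).mono (nconj_sigma' hM hN hnc)) with ⟨h, -⟩ | ⟨h2, -, hU⟩
  · exact absurd hq2 (kappa_not_tau2 (h q hq hd))
  · rw [hU.sigN_eq]
    refine ⟨hU, hnc, h2, hb, hE, fun L' hL' hxL' => ?_⟩
    by_cases e' : L' = M
    · exact ⟨1, one_mem _, by rw [e', cj_one]⟩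
    · exact signalizer_trans_aux hM hL' hx hxL' e' hq hX hN hXN

theorem _root_.H11.sigR_of_le (hM : IsCoatom M) (hx : x ∈ sigmaCore M) (hx1 : x ≠ 1)
    (hC : C{x} ≤ M) : sigR x = ⊥ := by
  rw [sigR, if_neg]
  rintro ⟨L, hL, hxL, hCL⟩
  obtain ⟨u, hu, e⟩ := (signalizer_main hL hxL hx1 hCL).2.2.2.2.2 M hM hx
  have : L = M := by rw [cj_eq_iff.1 e.symm, cj_of_mem (inv_mem (hC (mem_inf.1 hu).2))]
  exact hCL (this ▸ hC)

/-- 14.4, for every `x` of `σ`-length one: `R(x)` is a normal Hall complement to `C_M(x)` in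
`C(x)`, transitive on `𝓜_σ(x)`. -/
theorem FT_signalizer_sd (hM : IsCoatom M) (hx : x ∈ sigmaCore M) (hx1 : x ≠ 1) :
    SD (sigR x) (M ⊓ C{x}) C{x} ∧ (♯(sigR x)).Coprime ♯(M ⊓ C{x}) := by
  by_cases hC : C{x} ≤ M
  · rw [sigR_of_le hM hx hx1 hC, inf_eq_right.2 hC]
    exact ⟨SD.bot_left _, by simp⟩
  · obtain ⟨hU, -, -, -, hE, -⟩ := signalizer_main hM hx hx1 hC
    have hxN : zpowers x ≤ sigN x := (zpowers_le_C1 x).trans hU.le
    have h := (sdprod_sigma hU.coatom hE).inf_C (hxN.trans (sigmaCore_norm _))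
      (norm_of_le (le_inf ((zpowers_le (G := G)).2 (sigmaCore_le M hx)) hxN))
    have e : M ⊓ sigN x ⊓ C{x} = M ⊓ C{x} := by rw [inf_assoc, inf_eq_right.2 hU.le]
    rw [C_zpowers, e, inf_eq_right.2 hU.le, ← sigR_of_not_le hM hx hC] at h
    refine ⟨h, ?_⟩
    rw [sigR_of_not_le hM hx hC, ← e]
    exact ((sigmaCore_pi _).inf_left _).coprime (hE.pi.inf_left _)

theorem FT_signalizer_trans (hM : IsCoatom M) (hx : x ∈ sigmaCore M) (hx1 : x ≠ 1)
    (hL : IsCoatom L) (hxL : x ∈ sigmaCore L) : ∃ r ∈ sigR x, L = cj r M := by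
  by_cases hC : C{x} ≤ M
  · refine ⟨1, one_mem _, ?_⟩
    by_contra hne
    rw [cj_one] at hne
    obtain ⟨q, hq, hd⟩ := exists_prime_dvd_orderOf hx1
    obtain ⟨X, hX⟩ := exists_prime_zpowers hq hd
    obtain ⟨N, hN, hXN⟩ := exists_mmax_norm (hX.ne_bot hq one_pos)
      (mFT_pgroup_proper (hX.isPi hq))
    obtain ⟨u, hu, e⟩ := signalizer_trans_aux hM hL hx hxL hne hq hX hN hXN
    exact hne (by rw [e, cj_of_mem (hC (mem_inf.1 hu).2)])
  · rw [sigR_of_not_le hM hx hC]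
    exact (signalizer_main hM hx hx1 hC).2.2.2.2.2 L hL hxL

theorem sigR_eq_bot_iff (hM : IsCoatom M) (hx : x ∈ sigmaCore M) (hx1 : x ≠ 1) :
    sigR x = ⊥ ↔ C{x} ≤ M := by
  refine ⟨fun h => ?_, sigR_of_le hM hx hx1⟩
  have h1 := (FT_signalizer_sd hM hx hx1).1
  rw [h] at h1
  exact h1.eq_of_left_bot.ge.trans inf_le_left

/-- 14.4 when `C(x)` is not contained in `M`. -/
theorem FT_signalizer_context (hM : IsCoatom M) (hx : x ∈ sigmaCore M) (hx1 : x ≠ 1)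
    (hC : ¬ C{x} ≤ M) :
    UniqMax C{x} (sigN x) ∧ PiElt (tau2 (sigN x)) x ∧ (Fmax (sigN x) ∨ P2max (sigN x)) ∧
      tau2 (sigN x) ⊆ sigma M ∧ primesOf M ∩ sigma (sigN x) ⊆ beta (sigN x) ∧
      Hall (sigma (sigN x))ᶜ (sigN x) (M ⊓ sigN x) := by
  obtain ⟨hU, -, h2, hb, hE, -⟩ := signalizer_main hM hx hx1 hC
  obtain ⟨q, hq, hd⟩ := exists_prime_dvd_orderOf hx1
  have hq2 := h2 q hq hd
  refine ⟨hU, h2, (not_p1_iff hU.coatom).1 fun h => ?_, tau2_sub_sigma_of_compl hM hU.coatom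
    ((sigmaCore_pi M).piElt hx q hq hd) hq2 hE, hb, hE⟩
  exact (h.pi.mem hq (tau2_dvd hq2)).elim (tau2_not_sigma hq2) fun h' => kappa_not_tau2 h' hq2

/-- a non-identity element of `R(x)`. -/
theorem _root_.H11.sigR_ne_one (hM : IsCoatom M) (hx : x ∈ sigmaCore M) (hx1 : x ≠ 1) {a : G}
    (ha : a ∈ sigR x) (h1 : a ≠ 1) : ¬ C{x} ≤ M ∧ a ∈ sigmaCore (sigN x) := by
  have hC : ¬ C{x} ≤ M := fun h => h1 (by rwa [sigR_of_le hM hx hx1 h, mem_bot] at ha)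
  rw [sigR_of_not_le hM hx hC] at ha
  exact ⟨hC, (mem_inf.1 ha).1⟩

theorem _root_.H11.sigR_piElt (hM : IsCoatom M) (hx : x ∈ sigmaCore M) (hx1 : x ≠ 1) {a : G}
    (ha : a ∈ sigR x) : PiElt (sigma M)ᶜ a := by
  by_cases h1 : a = 1
  · rw [h1]; exact piElt_one _
  · obtain ⟨hC, h⟩ := sigR_ne_one hM hx hx1 ha h1
    obtain ⟨hU, hnc, -⟩ := signalizer_main hM hx hx1 hC
    exact ((sigmaCore_pi _).piElt h).mono (nconj_sigma' hU.coatom hM hnc.symm)

omit [Finite G] [FT G] in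
theorem _root_.H11.sigR_comm {a : G} (ha : a ∈ sigR x) : x * a = a * x :=
  (mem_C1.1 (sigR_le_C1 x ha)).symm

/-- comparison of a decomposition `x a`, `a ∈ R(x)`, with a `σ(L)`-decomposition `y b`. -/
theorem _root_.H11.sigma_decomp_cases (hM : IsCoatom M) (hx : x ∈ sigmaCore M) (hx1 : x ≠ 1)
    {a b : G} (ha : a ∈ sigR x) (hL : IsCoatom L) (hy : PiElt (sigma L) y) (hy1 : y ≠ 1)
    (hb : PiElt (sigma L)ᶜ b) (hc : y * b = b * y) (e : x * a = y * b) :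
    (x = y ∧ a = b) ∨ (a = y ∧ x = b ∧ ¬ C{x} ≤ M ∧ y ∈ sigmaCore (sigN x)) := by
  have hxs := (sigmaCore_pi M).piElt hx
  by_cases hnc : NConj M L
  · right
    have hx' : PiElt (sigma L)ᶜ x := hxs.mono (nconj_sigma' hM hL hnc)
    have h1 : constt (sigma L) a = y := by
      rw [← constt_mul_of hy hb hc, ← e, constt_mul _ (sigR_comm ha), constt_eq_one hx', one_mul]
    have ha1 : a ≠ 1 := fun h => hy1 (by rw [← h1, h, constt_eq_one (piElt_one _)])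
    obtain ⟨hC, haN⟩ := sigR_ne_one hM hx hx1 ha ha1
    have hN := (signalizer_main hM hx hx1 hC).1.coatom
    have hyN : y ∈ sigmaCore (sigN x) := h1 ▸ constt_mem _ haN
    obtain ⟨g, hg⟩ := conj_of_piElt hN hL ((sigmaCore_pi _).piElt hyN) hy hy1
    have has : PiElt (sigma L) a := by
      rw [hg, sigma_cj]; exact (sigmaCore_pi _).piElt haN
    have h2 : a = y := by rw [← h1, constt_eq_self has]
    refine ⟨h2, ?_, hC, hyN⟩
    rw [h2, hc] at e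
    exact mul_right_cancel e
  · left
    obtain ⟨g, rfl⟩ := not_nconj.1 hnc
    rw [sigma_cj] at hy hb
    exact piElt_decomp_unique hxs (sigR_piElt hM hx hx1 ha) hy hb (sigR_comm ha) hc e

/-- 14.5(a) -/
theorem sigma_cover_disjoint (hx : SigmaElt x) (hy : SigmaElt y) {a b : G} (ha : a ∈ sigR x)
    (hb : b ∈ sigR y) (e : x * a = y * b) : x = y := by
  obtain ⟨hx1, M, hM, hxM⟩ := hx
  obtain ⟨hy1, L, hL, hyL⟩ := hy
  rcases sigma_decomp_cases hM hxM hx1 ha hL ((sigmaCore_pi L).piElt hyL) hy1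
    (sigR_piElt hL hyL hy1 hb) (sigR_comm hb) e with h | ⟨-, rfl, -, hyN⟩
  · exact h.1
  · exfalso
    obtain ⟨hCy, hxN⟩ := sigR_ne_one hL hyL hy1 hb hx1
    have hUy := (signalizer_main hL hyL hy1 hCy).1
    by_cases hC : C{x} ≤ sigN y
    · have h := sigR_of_le hUy.coatom hxN hx1 hC
      have h2 := (sigR_eq_bot_iff hM hxM hx1).1 h
      rcases sigma_decomp_cases hM hxM hx1 ha hL ((sigmaCore_pi L).piElt hyL) hy1
        (sigR_piElt hL hyL hy1 hb) (sigR_comm hb) e with h3 | ⟨-, -, h3, -⟩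
      · exact hx1 (((sigmaCore_pi L).piElt (h3.1 ▸ hyL)).eq_one (sigR_piElt hL hyL hy1 hb))
      · exact h3 h2
    · obtain ⟨hU, -, -, -, hE, -⟩ := signalizer_main hUy.coatom hxN hx1 hC
      exact hy1 (((sigmaCore_pi _).piElt hyN).eq_one (hE.pi.piElt
        (mem_inf.2 ⟨hUy.le (self_mem_C1 y), sigmaCore_le _ hyN⟩)))

theorem _root_.H11.mem_classSupp_sigmaCover :
    g ∈ classSupp (sigmaCover M) ⊤ ↔ ∃ h, g ∈ sigmaCover (cj h M) := by
  constructor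
  · rintro ⟨a, ha, h, -, rfl⟩
    exact ⟨h, conj_mem_sigmaCover h ha⟩
  · rintro ⟨h, hg⟩
    have := conj_mem_sigmaCover h⁻¹ hg
    rw [cj_inv_cj] at this
    exact ⟨_, this, h, mem_top h, by group⟩

/-- 14.5(b) -/
theorem sigma_support_disjoint (hM : IsCoatom M) (hL : IsCoatom L) (hnc : NConj M L) :
    Disjoint (classSupp (sigmaCover M) ⊤) (classSupp (sigmaCover L) ⊤) := by
  refine Set.disjoint_left.2 fun g h1 h2 => ?_
  obtain ⟨h, x, hx, hx1, a, ha, e1⟩ := mem_classSupp_sigmaCover.1 h1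
  obtain ⟨k, y, hy, hy1, b, hb, e2⟩ := mem_classSupp_sigmaCover.1 h2
  obtain rfl := sigma_cover_disjoint (sigmaElt_of_mem (isCoatom_cj hM h) hx hx1)
    (sigmaElt_of_mem (isCoatom_cj hL k) hy hy1) ha hb (e1.symm.trans e2)
  exact not_nconj.2 (sigma_mmax_conj (isCoatom_cj hM h) (isCoatom_cj hL k) hx hy hx1)
    ((hnc.cj_left h).cj_right k)

theorem one_not_mem_sigmaCover (hM : IsCoatom M) : (1 : G) ∉ sigmaCover M := by
  rintro ⟨x, hx, hx1, a, ha, e⟩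
  have h := sigR_piElt hM hx hx1 ha
  rw [eq_inv_of_mul_eq_one_right e.symm] at h
  exact hx1 (((sigmaCore_pi M).piElt hx).eq_one (by simpa using h.inv))

omit [Finite G] [FT G] in
theorem _root_.H11.ncard_coe_subgroup (H : Subgroup G) : (H : Set G).ncard = ♯H :=
  (Nat.card_coe_set_eq (H : Set G)).symm

omit [FT G] in
theorem _root_.H11.ncard_sigma_fib {α β : Type*} [Finite α] [Finite β] (D : Set α) (T : Set β)
    (f : β → α) (hf : ∀ b ∈ T, f b ∈ D) :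
    T.ncard = ∑ a ∈ D.toFinite.toFinset, {b | b ∈ T ∧ f b = a}.ncard := by
  classical
  rw [Set.ncard_eq_toFinset_card T T.toFinite,
    Finset.card_eq_sum_card_fiberwise (f := f) (t := D.toFinite.toFinset)
      (fun b hb => by simpa using hf b (by simpa using hb))]
  refine Finset.sum_congr rfl fun a _ => ?_
  rw [Set.ncard_eq_toFinset_card _ (Set.toFinite _)]
  congr 1
  ext b
  simp

/-- the number of `g` with `x ∈ (M^g)_σ`. -/
theorem _root_.H11.ncard_conj_mem_sigma (hM : IsCoatom M) (hx : x ∈ sigmaCore (cj g M))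
    (hx1 : x ≠ 1) : {h : G | x ∈ sigmaCore (cj h M)}.ncard = ♯(sigR x) * ♯M := by
  have hM' := isCoatom_cj hM g
  have hi : sigR x ⊓ cj g M = ⊥ := eq_bot_of_le (FT_signalizer_sd hM' hx hx1).1.inf
    (le_inf inf_le_left (le_inf inf_le_right (inf_le_left.trans (sigR_le_C1 x))))
  rw [← Nat.card_prod, ← Set.ncard_univ]
  symm
  refine Set.ncard_congr (fun a _ => (a.1 : G) * g * a.2) ?_ ?_ ?_
  · rintro ⟨r, m⟩ -
    show x ∈ sigmaCore (cj (r * g * m) M)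
    rw [cj_mul, cj_mul, cj_of_mem m.2, sigmaCore_cj]
    have := conj_mem_cj (r : G) hx
    rwa [mem_C1_iff_conj.1 (sigR_le_C1 x r.2)] at this
  · rintro ⟨r, m⟩ ⟨r', m'⟩ - - e
    have e' : (r : G) * (g * m * g⁻¹) = r' * (g * m' * g⁻¹) := by
      have e2 : (r : G) * g * m = r' * g * m' := e
      calc (r : G) * (g * m * g⁻¹) = r * g * m * g⁻¹ := by group
        _ = r' * (g * m' * g⁻¹) := by rw [e2]; group
    obtain ⟨h1, h2⟩ := mul_eq_mul_of_inf hi r.2 r'.2 (conj_mem_cj g m.2) (conj_mem_cj g m'.2) e'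
    exact Prod.ext (Subtype.ext h1) (Subtype.ext (by simpa using h2))
  · intro h hh
    obtain ⟨r, hr, e⟩ := FT_signalizer_trans hM' hx hx1 (isCoatom_cj hM h) hh
    rw [← cj_mul, cj_eq_cj_iff, norm_mmax hM] at e
    exact ⟨(⟨r, hr⟩, ⟨_, e⟩), Set.mem_univ _, by simp only []; group⟩

/-- 14.5(c) -/
theorem card_class_support_sigma (hM : IsCoatom M) :
    (classSupp (sigmaCover M) ⊤).ncard = (♯(sigmaCore M) - 1) * M.index := by
  classical
  set D : Set G := {x | x ≠ 1 ∧ ∃ h, x ∈ sigmaCore (cj h M)} with hD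
  -- the class support is in bijection with the pairs `(x, r)`, `r ∈ R(x)`
  have h1 : (classSupp (sigmaCover M) ⊤).ncard = ∑ x ∈ D.toFinite.toFinset, ♯(sigR x) := by
    have e1 : {z : G × G | z.1 ∈ D ∧ z.2 ∈ sigR z.1}.ncard =
        (classSupp (sigmaCover M) ⊤).ncard := by
      refine Set.ncard_congr (fun z _ => z.1 * z.2) ?_ ?_ ?_
      · rintro ⟨x, r⟩ ⟨⟨hx1, h, hx⟩, hr⟩
        exact mem_classSupp_sigmaCover.2 ⟨h, x, hx, hx1, r, hr, rfl⟩
      · rintro ⟨x, r⟩ ⟨y, s⟩ ⟨⟨hx1, h, hx⟩, hr⟩ ⟨⟨hy1, k, hy⟩, hs⟩ e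
        obtain rfl : x = y := sigma_cover_disjoint (sigmaElt_of_mem (isCoatom_cj hM h) hx hx1)
          (sigmaElt_of_mem (isCoatom_cj hM k) hy hy1) hr hs e
        exact Prod.ext rfl (mul_left_cancel e)
      · intro g hg
        obtain ⟨h, x, hx, hx1, r, hr, e⟩ := mem_classSupp_sigmaCover.1 hg
        exact ⟨(x, r), ⟨⟨hx1, h, hx⟩, hr⟩, e.symm⟩
    rw [← e1, ncard_sigma_fib D _ Prod.fst fun b hb => hb.1]
    refine Finset.sum_congr rfl fun x hx => ?_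
    have hx' : x ∈ D := by simpa using hx
    rw [← ncard_coe_subgroup]
    symm
    refine Set.ncard_congr (fun r _ => (x, r)) (fun r hr => ⟨⟨hx', hr⟩, rfl⟩)
      (fun r s _ _ e => (Prod.ext_iff.1 e).2) ?_
    rintro ⟨y, r⟩ ⟨⟨-, hr⟩, rfl⟩
    exact ⟨r, hr, rfl⟩
  -- counting the pairs `(h, y)`, `y ∈ M_σ#`
  have h2 : Nat.card G * (♯(sigmaCore M) - 1) = ∑ x ∈ D.toFinite.toFinset, ♯(sigR x) * ♯M := by
    have e1 : (Set.univ ×ˢ ((sigmaCore M : Set G) \ {1}) : Set (G × G)).ncard =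
        Nat.card G * (♯(sigmaCore M) - 1) := by
      rw [Set.ncard_prod, Set.ncard_univ, Set.ncard_sdiff_singleton_of_mem (one_mem _),
        ncard_coe_subgroup]
    rw [← e1, ncard_sigma_fib D _ (fun z => z.1 * z.2 * z.1⁻¹)]
    · refine Finset.sum_congr rfl fun x hx => ?_
      obtain ⟨hx1, g, hg⟩ : x ∈ D := by simpa using hx
      rw [← ncard_conj_mem_sigma hM hg hx1]
      symm
      refine Set.ncard_congr (fun h _ => (h, h⁻¹ * x * h)) (fun h hh => ⟨⟨Set.mem_univ _, ?_, ?_⟩,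
        by simp only []; group⟩) (fun r s _ _ e => (Prod.ext_iff.1 e).1) ?_
      · have : x ∈ cj h (sigmaCore M) := sigmaCore_cj h M ▸ hh
        exact mem_cj.1 this
      · intro e
        have e' : h⁻¹ * x * h⁻¹⁻¹ = 1 := by simpa using e
        exact hx1 (conj_eq_one_iff'.1 e')
      · rintro ⟨h, y⟩ ⟨⟨-, hy, -⟩, rfl⟩
        refine ⟨h, ?_, Prod.ext rfl (by simp only []; group)⟩
        show _ ∈ sigmaCore (cj h M)
        rw [sigmaCore_cj]
        exact conj_mem_cj h hy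
    · rintro ⟨h, y⟩ ⟨-, hy, hy1⟩
      refine ⟨by rwa [Ne, conj_eq_one_iff'], h, ?_⟩
      rw [sigmaCore_cj]
      exact conj_mem_cj h hy
  rw [← Finset.sum_mul, ← h1, ← M.index_mul_card] at h2
  apply Nat.eq_of_mul_eq_mul_right (card_pos M)
  rw [← h2]
  ring

/-- the two alternatives of 14.6 exclude each other. -/
theorem _root_.H11.sigma_dichotomy_excl (hx : SigmaElt x) {a b : G} (ha : a ∈ sigR x)
    (hM : IsCoatom M) (hy : y ∈ sigmaCore M) (hy1 : y ≠ 1) (hb : b ∈ M ⊓ C{y}) (hb1 : b ≠ 1)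
    (hk : PiElt (kappa M) b) (e : x * a = y * b) : False := by
  obtain ⟨hx1, L, hL, hxL⟩ := hx
  have hs : PiElt (sigma M)ᶜ b := hk.mono (kappa_sub_sigma' M)
  rcases sigma_decomp_cases hL hxL hx1 ha hM ((sigmaCore_pi M).piElt hy) hy1 hs
    (mem_C1.1 (mem_inf.1 hb).2).symm e with ⟨rfl, rfl⟩ | ⟨-, rfl, hC, hyN⟩
  · rcases pi_of_cent_sigma hM hy hy1 hb hb1 hs with ⟨-, h⟩ | ⟨h, -⟩
    · exact (sigR_ne_one hM hy hy1 ha hb1).1 h
    · exact hb1 (h.eq_one (hk.mono (kappa_sub_tau2' M)))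
  · obtain ⟨hU, -, h2, -⟩ := signalizer_main hL hxL hx1 hC
    obtain ⟨g, hg⟩ := sigma_mmax_conj hM hU.coatom hy hyN hy1
    rw [hg, tau2_cj] at h2
    exact hx1 (h2.eq_one (hk.mono (kappa_sub_tau2' M)))

/-- 14.6 -/
theorem sigma_decomposition_dichotomy (hg : g ≠ 1) :
    Xor' (∃ x, SigmaElt x ∧ x⁻¹ * g ∈ sigR x)
      (∃ y M, IsCoatom M ∧ y ∈ sigmaCore M ∧ y ≠ 1 ∧ y⁻¹ * g ∈ M ⊓ C{y} ∧ y⁻¹ * g ≠ 1 ∧
        PiElt (kappa M) (y⁻¹ * g)) := by
  by_cases h1 : ∃ x, SigmaElt x ∧ x⁻¹ * g ∈ sigR x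
  · refine Or.inl ⟨h1, ?_⟩
    rintro ⟨y, M, hM, hy, hy1, hb, hb1, hk⟩
    obtain ⟨x, hx, ha⟩ := h1
    exact sigma_dichotomy_excl hx ha hM hy hy1 hb hb1 hk (by group)
  refine Or.inr ⟨?_, h1⟩
  by_contra h2
  -- no maximal subgroup containing `g` has a non-trivial `σ`-part of `g`
  have key : ∀ M : Subgroup G, IsCoatom M → g ∈ M → constt (sigma M) g = 1 := by
    intro M hM hgM
    by_contra hx1
    have hx : constt (sigma M) g ∈ sigmaCore M :=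
      (Msigma_Hall hM).mem_pcore (piElt_constt _ g) (constt_mem _ hgM)
    have e : (constt (sigma M) g)⁻¹ * g = constt (sigma M)ᶜ g := by
      rw [inv_mul_eq_iff_eq_mul, constt_mul_constt]
    have hx'1 : constt (sigma M)ᶜ g ≠ 1 := fun h =>
      h1 ⟨_, sigmaElt_of_mem hM hx hx1, by rw [e, h]; exact one_mem _⟩
    have hx' : constt (sigma M)ᶜ g ∈ M ⊓ C{constt (sigma M) g} :=
      mem_inf.2 ⟨constt_mem _ hgM, mem_C1.2 (constt_comm _ _ g)⟩
    rcases pi_of_cent_sigma hM hx hx1 hx' hx'1 (piElt_constt _ g) with ⟨h, -⟩ | ⟨-, h, hU⟩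
    · exact h2 ⟨_, M, hM, hx, hx1, e ▸ hx', e ▸ hx'1, e ▸ h⟩
    · refine h1 ⟨_, h, ?_⟩
      obtain ⟨-, L, hL, hxL⟩ := h
      have hC : ¬ C{constt (sigma M)ᶜ g} ≤ L := fun h => by
        rw [hU.uniq L hL h] at hxL
        exact hx'1 (((sigmaCore_pi M).piElt hxL).eq_one (piElt_constt _ g))
      have e' : (constt (sigma M)ᶜ g)⁻¹ * g = constt (sigma M) g := by
        rw [inv_mul_eq_iff_eq_mul, constt_comm, constt_mul_constt]
      rw [sigR_of_not_le hL hxL hC, hU.sigN_eq, e']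
      exact mem_inf.2 ⟨hx, mem_C1.2 (constt_comm _ _ g)⟩
  obtain ⟨p, hp, hd⟩ := exists_prime_dvd_orderOf hg
  obtain ⟨M₀, hM₀, hp₀⟩ := sigma_mmax_exists (G := G) hp (hd.trans (orderOf_dvd_natCard g))
  have hx1 : constt (sigma M₀) g ≠ 1 := fun h => (constt_eq_one_iff.1 h) p hp hd hp₀
  obtain ⟨h, hx⟩ := exists_cj_mem_sigmaCore hM₀ (piElt_constt _ g) hx1
  have hM := isCoatom_cj hM₀ h
  have hgx : g ∈ C{constt (sigma M₀) g} := C1_le_C1_constt _ g (self_mem_C1 g)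
  have hC : ¬ C{constt (sigma M₀) g} ≤ cj h M₀ := fun hC => hx1 (by
    have := key _ hM (hC hgx)
    rwa [sigma_cj] at this)
  obtain ⟨hU, -, -, -, hE, -⟩ := signalizer_main hM hx hx1 hC
  have hg' := constt_eq_one_iff.1 (key _ hU.coatom (hU.le hgx))
  have hH : Hall (sigma (sigN (constt (sigma M₀) g)))ᶜ C{constt (sigma M₀) g}
      (cj h M₀ ⊓ C{constt (sigma M₀) g}) := by
    refine (FT_signalizer_sd hM hx hx1).1.hall_right ?_
      (hE.pi.of_le (inf_le_inf_left _ hU.le))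
    rw [compl_compl, sigR_of_not_le hM hx hC]
    exact (sigmaCore_pi _).inf_left _
  obtain ⟨c, -, hc⟩ := Hall_subJ (mFT_sol_cent1 hx1) hH ((zpowers_le (G := G)).2 hgx) hg'.isPi
  have := key _ (isCoatom_cj hM c) (cj_mono c inf_le_left (hc (mem_zpowers g)))
  rw [sigma_cj, sigma_cj] at this
  exact hx1 this

end H24
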