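import Mathlib
import Cfsg.Agent.H11.S14b

/-!
# Bender–Glauberman §14, third part: Theorem 14.7
-/

set_option autoImplicit false
set_option linter.unusedSectionVars false

namespace H11

open Cfsg Subgroup H24 H25 H26

universe u

variable {G : Type u} [Group G] [Finite G] [FT G]
variable {M Mst N L L' H K K' K'' U E P Q R S X Y A Z : Subgroup G} {x x' y g t : G} {p q r : ℕ}

section Count
omit [FT G] [Group G]

theorem ncard_add_sum_le {ι : Type*} (F : Finset ι) (B : ι → Set G) (S : Set G)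
    (hB : ∀ i ∈ F, B i ⊆ S) (hp : ∀ i ∈ F, ∀ j ∈ F, i ≠ j → Disjoint (B i) (B j)) :
    ∀ A : Set G, A ⊆ S → (∀ i ∈ F, Disjoint A (B i)) →
      A.ncard + ∑ i ∈ F, (B i).ncard ≤ S.ncard := by
  classical
  induction F using Finset.induction_on with
  | empty => exact fun A hA _ => by simpa using Set.ncard_le_ncard hA
  | insert a F ha ih =>
    intro A hA hd
    rw [Finset.sum_insert ha, ← add_assoc,
      ← Set.ncard_union_eq (hd a (Finset.mem_insert_self a F))]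
    refine ih (fun i hi => hB i (Finset.mem_insert_of_mem hi))
      (fun i hi j hj => hp i (Finset.mem_insert_of_mem hi) j (Finset.mem_insert_of_mem hj)) _
      (Set.union_subset hA (hB a (Finset.mem_insert_self a F))) fun i hi => ?_
    exact Set.disjoint_union_left.2 ⟨hd i (Finset.mem_insert_of_mem hi),
      hp a (Finset.mem_insert_self a F) i (Finset.mem_insert_of_mem hi) fun e => ha (e ▸ hi)⟩

theorem ncard_le_add_sum {ι : Type*} (F : Finset ι) (B : ι → Set G) :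
    ∀ S A : Set G, (∀ s ∈ S, s ∈ A ∨ ∃ i ∈ F, s ∈ B i) →
      S.ncard ≤ A.ncard + ∑ i ∈ F, (B i).ncard := by
  classical
  induction F using Finset.induction_on with
  | empty =>
    intro S A h
    simpa using Set.ncard_le_ncard fun s hs => (h s hs).resolve_right (by simp)
  | insert a F ha ih =>
    intro S A h
    rw [Finset.sum_insert ha, ← add_assoc]
    refine (ih S (A ∪ B a) fun s hs => ?_).trans
      (Nat.add_le_add_right (Set.ncard_union_le _ _) _)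
    rcases h s hs with h1 | ⟨i, hi, h1⟩
    · exact Or.inl (Or.inl h1)
    · rcases Finset.mem_insert.1 hi with rfl | hi
      exacts [Or.inl (Or.inr h1), Or.inr ⟨i, hi, h1⟩]

theorem inter_nonempty_of_half {A B : Set G} (hA : Nat.card G < 2 * A.ncard)
    (hB : Nat.card G < 2 * B.ncard) : ∃ x, x ∈ A ∧ x ∈ B := by
  by_contra h
  have hd : Disjoint A B := Set.disjoint_left.2 fun x h1 h2 => h ⟨x, h1, h2⟩
  have h1 := Set.ncard_le_ncard (Set.subset_univ (A ∪ B))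
  rw [Set.ncard_union_eq hd, Set.ncard_univ] at h1
  omega

end Count

omit [FT G] in
theorem cyc_of_dp (h : DP A Y Z) (hA : Cyc A) (hY : Cyc Y) (hc : (♯A).Coprime ♯Y) : Cyc Z := by
  obtain ⟨a, ha, rfl⟩ := hA.exists_gen
  obtain ⟨b, hb, rfl⟩ := hY.exists_gen
  have hab : a * b = b * a := (comm_of_cent h.cent hb ha).symm
  rw [card_zpowers', card_zpowers'] at hc
  refine (H24.cyc_zpowers (a * b)).of_le (h.sup.ge.trans (sup_le ?_ ?_))
  · exact (zpowers_le (G := G)).2 (mem_zpowers_mul_left hab hc)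
  · exact (zpowers_le (G := G)).2 (mem_zpowers_mul_right hab hc)

theorem dual_half (hM : Pmax M) (hK : Hall (kappa M) M K) (hX : X ≤ K) (hp : (♯X).Prime)
    (hL : IsCoatom L) (hN : N[X] ≤ L) :
    NConj M L ∧ IsPi (kappa L) (sigmaCore M ⊓ C[K]) ∧ M ⊓ N[K] ≤ L ∧
      ∀ K', Hall (kappa L) L K' → sigmaCore M ⊓ C[K] ≤ K' →
        M ⊓ N[K] ≤ L ⊓ N[K'] ∧ X ≤ sigmaCore L ⊓ C[K'] := by
  obtain ⟨hNX, hXL⟩ := Ptype_norm_prime hM hK hX hp
  have hXs := hXL L hL hN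
  have hnc : NConj M L := mmax_norm_notJ hM.coatom hL (isPi_of_card_prime hp rfl) (hX.trans hK.le)
    hN (Or.inr (kappa_tau13 (hK.pi.mem hp (card_dvd hX))))
  have hZL : M ⊓ N[K] ≤ L := hNX.ge.trans (inf_le_right.trans hN)
  have hdp := Ptype_norm hM hK
  have hk : IsPi (kappa L) (sigmaCore M ⊓ C[K]) := by
    intro q hq hd
    obtain ⟨y, hy, ho⟩ := exists_orderOf_eq hq hd
    have hy1 : y ≠ 1 := ne_one_of_orderOf_prime (by rwa [ho])
    obtain ⟨x, hx, hx1⟩ := exists_ne_one (ne_bot_of_prime hp)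
    rcases pi_of_cent_sigma hL (hXs hx) hx1
      (mem_inf.2 ⟨hZL (hdp.right_le hy), C_le_C1 (hX hx) (mem_inf.1 hy).2⟩) hy1
      (((sigmaCore_pi M).piElt (mem_inf.1 hy).1).mono (nconj_sigma' hM.coatom hL hnc)) with
      ⟨h, -⟩ | ⟨-, -, h⟩
    · exact h q hq ho.symm.dvd
    · exact absurd (h.uniq M hM.coatom (Kstar_cent1 hM hK hy hy1)) hnc.ne'
  refine ⟨hnc, hk, hZL, fun K' hK' hle => ?_⟩
  obtain ⟨Y, hY, hq⟩ := exists_card_isPrime (Ptype_Kstar_ne_bot hM hK)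
  have hP := pmax_of_le_kappa hL hK' (hY.trans hle) (ne_bot_of_prime hq)
  have hKY : K ≤ C[Y] := cents_symm (hY.trans inf_le_right)
  refine ⟨hdp.sup.ge.trans (sup_le ?_ (hle.trans (le_inf hK'.le (norm_self K')))), ?_⟩
  · rw [← (Ptype_norm_prime hP hK' (hY.trans hle) hq).1]
    exact le_inf (hdp.left_le.trans hZL) (hKY.trans (C_le_N Y))
  · rw [← (kappa_primact hL hK').inf_C (hY.trans hle) (ne_bot_of_prime hq)]
    exact le_inf hXs (hX.trans hKY)

/-- `L` is of type `P`, with Hall `κ`-subgroup `K` and `N_L(K) = Z`. -/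
structure ZDual (Z L K : Subgroup G) : Prop where
  pmax : Pmax L
  hall : Hall (kappa L) L K
  norm : L ⊓ N[K] = Z

theorem ZDual.coatom (h : ZDual Z L K) : IsCoatom L := h.pmax.coatom

theorem ZDual.dp (h : ZDual Z L K) : DP K (sigmaCore L ⊓ C[K]) Z :=
  h.norm ▸ Ptype_norm h.pmax h.hall

theorem ZDual.le (h : ZDual Z L K) : Z ≤ L := h.norm.ge.trans inf_le_left

theorem ZDual.le_K (h : ZDual Z L K) (hY : IsPi (sigma L)ᶜ Y) (hZ : Y ≤ Z) : Y ≤ K :=
  Ptype_le_K h.pmax h.hall hY (hZ.trans h.norm.ge)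

theorem ZDual.le_Kstar (h : ZDual Z L K) (hY : IsPi (sigma L) Y) (hZ : Y ≤ Z) :
    Y ≤ sigmaCore L ⊓ C[K] :=
  Ptype_le_Kstar h.pmax h.hall hY (hZ.trans h.norm.ge)

theorem ZDual.mem_K (h : ZDual Z L K) (hy : PiElt (sigma L)ᶜ y) (hZ : y ∈ Z) : y ∈ K :=
  h.le_K hy.isPi ((zpowers_le (G := G)).2 hZ) (mem_zpowers y)

theorem ZDual.mem_Kstar (h : ZDual Z L K) (hy : PiElt (sigma L) y) (hZ : y ∈ Z) :
    y ∈ sigmaCore L ⊓ C[K] :=
  h.le_Kstar hy.isPi ((zpowers_le (G := G)).2 hZ) (mem_zpowers y)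

theorem ZDual.Kstar_eq (h : ZDual Z L K) : sigmaCore L ⊓ Z = sigmaCore L ⊓ C[K] :=
  le_antisymm (h.le_Kstar ((sigmaCore_pi L).inf_left _) inf_le_right)
    (le_inf inf_le_left h.dp.right_le)

theorem ZDual.exists_dual (h : ZDual Z M K) (hX : X ≤ K) (hp : (♯X).Prime) :
    ∃ L K', ZDual Z L K' ∧ NConj M L ∧ X ≤ sigmaCore L ⊓ C[K'] := by
  have hM := h.pmax
  have hK := h.hall
  obtain ⟨L, hL, hN⟩ := exists_mmax_norm (ne_bot_of_prime hp)
    (sub_mmax_proper hM.coatom (hX.trans hK.le))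
  obtain ⟨hnc, hk, hZL, h1⟩ := dual_half hM hK hX hp hL hN
  obtain ⟨K', hK', hle⟩ := Hall_superset (mmax_sol hL) ((Ptype_norm hM hK).right_le.trans hZL) hk
  obtain ⟨h2, h3⟩ := h1 K' hK' hle
  obtain ⟨Y, hY, hq⟩ := exists_card_isPrime (Ptype_Kstar_ne_bot hM hK)
  have hP := pmax_of_le_kappa hL hK' (hY.trans hle) (ne_bot_of_prime hq)
  have hNY : N[Y] ≤ M := (N_le_NC Y).trans (uniqMax_norm_le (Ptype_Kstar_uniq hM hK hY hq))
  obtain ⟨-, hk', hZM, h4⟩ := dual_half hP hK' (hY.trans hle) hq hM.coatom hNY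
  obtain ⟨K'', hK'', hle'⟩ := Hall_superset (mmax_sol hM.coatom)
    ((Ptype_norm hP hK').right_le.trans hZM) hk'
  obtain rfl : K = K'' := kappa_Hall_eq hM.coatom hK hK''
    (ne_bot_of_le (ne_bot_of_prime hp) (le_inf hX (h3.trans hle')))
  exact ⟨L, K', ⟨hP, hK', (le_antisymm (h4 K hK hle').1 h2).trans h.norm⟩, hnc, h3⟩

theorem ZDual.eq_of_le (h : ZDual Z L K) (h' : ZDual Z L' K') (hX : X ≤ Z) (h1 : X ≠ ⊥)
    (hs : IsPi (sigma L) X) (hs' : IsPi (sigma L') X) : L' = L := by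
  obtain ⟨Y, hY, hq⟩ := exists_card_isPrime h1
  exact (Ptype_Kstar_uniq h.pmax h.hall (hY.trans (h.le_Kstar hs hX)) hq).eq
    (Ptype_Kstar_uniq h'.pmax h'.hall (hY.trans (h'.le_Kstar hs' hX)) hq)

theorem ZDual.eq_of_conj (h : ZDual Z L K) (h' : ZDual Z L' K') (hc : ¬ NConj L L') : L' = L := by
  obtain ⟨g, hg⟩ := not_nconj.1 hc
  exact h.eq_of_le h' h.dp.right_le (Ptype_Kstar_ne_bot h.pmax h.hall)
    ((sigmaCore_pi L).inf_left _) (by rw [hg, sigma_cj]; exact (sigmaCore_pi L).inf_left _)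

theorem ZDual.cover (h : ZDual Z M K) (hp : p.Prime) (hd : p ∣ ♯Z) :
    ∃ L K', ZDual Z L K' ∧ p ∈ sigma L := by
  by_cases hs : p ∈ sigma M
  · exact ⟨M, K, h, hs⟩
  · obtain ⟨X, hX, rfl⟩ := exists_card_prime hp hd
    obtain ⟨L, K', h1, -, h2⟩ := h.exists_dual
      (h.le_K ((isPi_of_card_prime hp rfl).of_mem hs) hX) hp
    exact ⟨L, K', h1, (sigmaCore_pi L).mem hp (card_dvd (h2.trans inf_le_left))⟩

theorem ZDual.ti (h : ZDual Z L K) (ht : t ∈ Z) (h1 : constt (sigma L) t ≠ 1)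
    (h2 : constt (sigma L)ᶜ t ≠ 1) (hg : g * t * g⁻¹ ∈ Z) : g ∈ Z := by
  have hgL : g ∈ L := by
    by_contra hn
    have h3 : g * constt (sigma L) t * g⁻¹ ∈ sigmaCore L ⊓ C[K] ⊓ cj g L := by
      refine mem_inf.2 ⟨?_, conj_mem_cj g (constt_mem _ (h.le ht))⟩
      rw [← constt_conj]
      exact h.mem_Kstar (piElt_constt _ _) (constt_mem _ hg)
    rw [Ptype_Kstar_TI h.pmax h.hall hn, mem_bot, conj_eq_one_iff'] at h3
    exact h1 h3
  rw [← h.norm]
  refine mem_inf.2 ⟨hgL, ?_⟩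
  by_contra hn
  have h3 : g * constt (sigma L)ᶜ t * g⁻¹ ∈ K ⊓ cj g K := by
    refine mem_inf.2 ⟨?_, conj_mem_cj g (h.mem_K (piElt_constt _ _) (constt_mem _ ht))⟩
    rw [← constt_conj]
    exact h.mem_K (piElt_constt _ _) (constt_mem _ hg)
  rw [Ptype_K_TI h.pmax h.hall hgL hn, mem_bot, conj_eq_one_iff'] at h3
  exact h2 h3

theorem ZDual.not_mem_cover (h : ZDual Z L K) (ht : t ∈ Z) (h1 : constt (sigma L) t ≠ 1)
    (h2 : constt (sigma L)ᶜ t ≠ 1) (hH : IsCoatom H) : t ∉ sigmaCover H := by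
  rintro ⟨x, hx, hx1, a, ha, e⟩
  have hy := h.mem_Kstar (piElt_constt (sigma L) t) (constt_mem _ ht)
  have hb := h.mem_K (piElt_constt (sigma L)ᶜ t) (constt_mem _ ht)
  exact sigma_dichotomy_excl (sigmaElt_of_mem hH hx hx1) ha h.coatom (mem_inf.1 hy).1 h1
    (mem_inf.2 ⟨h.hall.le hb, mem_C1.2 (constt_comm _ _ t)⟩) h2 (h.hall.pi.piElt hb)
    (by rw [constt_mul_constt, e])

theorem disjoint_classSupp_cover {T : Set G} (hH : IsCoatom H)
    (h : ∀ t ∈ T, ∀ H : Subgroup G, IsCoatom H → t ∉ sigmaCover H) :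
    Disjoint (classSupp T ⊤) (classSupp (sigmaCover H) ⊤) := by
  refine Set.disjoint_left.2 ?_
  rintro _ ⟨t, ht, g, -, rfl⟩ h2
  rw [conj_mem_classSupp_iff (mem_top g)] at h2
  obtain ⟨k, hk⟩ := mem_classSupp_sigmaCover.1 h2
  exact h t ht _ (isCoatom_cj hH k) hk

theorem ZDual.card_P1 (h : ZDual Z L K) (h1 : P1max L) :
    2 * (♯(sigmaCore L ⊓ Z) - 1) * Z.index + Z.index ≤ 2 * ((♯(sigmaCore L) - 1) * L.index) := by
  obtain ⟨U, hU⟩ := ex_kappa_compl h.coatom h.hall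
  have hsd := (kappa_compl_context h.coatom hU).2.2.1
  rw [h1.eq_bot hU, bot_sup_eq] at hsd
  have e1 : ♯(sigmaCore L) * L.index = ♯(sigmaCore L ⊓ Z) * Z.index := by
    apply Nat.eq_of_mul_eq_mul_right (card_pos K)
    have h2 := L.index_mul_card
    have h3 := Z.index_mul_card
    rw [hsd.card] at h2
    rw [h.dp.card, ← h.Kstar_eq] at h3
    calc ♯(sigmaCore L) * L.index * ♯K = L.index * (♯(sigmaCore L) * ♯K) := by ring
      _ = _ := by rw [h2, ← h3]; ring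
  have e2 : 2 * L.index ≤ Z.index := by
    obtain ⟨X, hX, hp⟩ := exists_card_isPrime (h.pmax.ne_bot h.hall)
    obtain ⟨L', K', h', hnc, -⟩ := h.exists_dual hX hp
    have hne : Z.relIndex L ≠ 1 := fun e =>
      hnc.ne' (eq_mmax h.coatom h'.coatom ((relIndex_eq_one.1 e).trans h'.le))
    have := relIndex_pos Z L
    rw [← relIndex_mul_index h.le]
    exact Nat.mul_le_mul_right _ (by omega)
  obtain ⟨a, ha⟩ := Nat.exists_eq_succ_of_ne_zero (card_ne_zero (sigmaCore L))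
  obtain ⟨b, hb⟩ := Nat.exists_eq_succ_of_ne_zero (card_ne_zero (sigmaCore L ⊓ Z))
  rw [ha, hb] at e1 ⊢
  simp only [Nat.succ_sub_one]
  rw [Nat.succ_mul, Nat.succ_mul] at e1
  nlinarith

/-- the counting argument of 14.7. -/
theorem ZDual.exists_P2 (h : ZDual Z M K) : ∃ L K', ZDual Z L K' ∧ P2max L := by
  classical
  by_contra hc
  have hP1 : ∀ L K', ZDual Z L K' → P1max L := fun L K' h' =>
    h'.pmax.p1_or_p2.resolve_right fun h2 => hc ⟨L, K', h', h2⟩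
  set F : Finset (Subgroup G) := (Set.toFinite {L | ∃ K', ZDual Z L K'}).toFinset with hF
  have mF : ∀ L, L ∈ F ↔ ∃ K', ZDual Z L K' := fun L => by simp [hF]
  set T : Set G := {t | t ∈ Z ∧ ∀ L ∈ F, t ∉ sigmaCore L} with hT
  have hTd : ∀ t ∈ T, ∃ L K', ZDual Z L K' ∧ constt (sigma L) t ≠ 1 ∧
      constt (sigma L)ᶜ t ≠ 1 := by
    rintro t ⟨ht, hn⟩
    have ht1 : t ≠ 1 := fun e => hn M ((mF M).2 ⟨K, h⟩) (e ▸ one_mem _)
    obtain ⟨p, hp, hd⟩ := exists_prime_dvd_orderOf ht1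
    obtain ⟨L, K', h', hs⟩ := h.cover hp (hd.trans (orderOf_dvd_card' ht))
    refine ⟨L, K', h', fun e => constt_eq_one_iff.1 e p hp hd hs, fun e => ?_⟩
    have := constt_eq_one_iff.1 e
    rw [compl_compl] at this
    exact hn L ((mF L).2 ⟨K', h'⟩) (mem_inf.1 (h'.mem_Kstar this ht)).1
  obtain ⟨X, hX, hp⟩ := exists_card_isPrime (h.pmax.ne_bot h.hall)
  obtain ⟨M', K₁, h', hnc, -⟩ := h.exists_dual hX hp
  have hF2 : 2 ≤ F.card := Finset.one_lt_card.2
    ⟨M, (mF M).2 ⟨K, h⟩, M', (mF M').2 ⟨K₁, h'⟩, hnc.ne'⟩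
  have hTI : NormedTI T Z := by
    refine ⟨?_, le_normalizer_set_iff.2 fun g hg t ht => ⟨mul_mem (mul_mem hg ht.1) (inv_mem hg),
      fun L hL hm => ?_⟩, fun t ht g hg => ?_⟩
    · obtain ⟨x, hx, hx1⟩ := exists_ne_one (h.pmax.ne_bot h.hall)
      obtain ⟨y, hy, hy1⟩ := exists_ne_one (Ptype_Kstar_ne_bot h.pmax h.hall)
      refine ⟨y * x, mul_mem (h.dp.right_le hy) (h.dp.left_le hx), fun L hL hm => ?_⟩
      obtain ⟨K', hL⟩ := (mF L).1 hL
      have hys := (sigmaCore_pi M).piElt (mem_inf.1 hy).1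
      have hxs := (Hall.kappa_sigma' h.hall).piElt hx
      have hc : y * x = x * y := comm_of_cent h.dp.cent hy hx
      have hs := (sigmaCore_pi L).piElt hm
      have hyL : PiElt (sigma L) y :=
        hs.of_mem_zpowers (mem_zpowers_mul_left hc (hys.coprime hxs))
      obtain rfl : L = M := h.eq_of_le hL ((zpowers_le (G := G)).2 (h.dp.right_le hy))
        (by rwa [Ne, zpowers_eq_bot]) hys.isPi hyL.isPi
      exact hx1 ((hs.of_mem_zpowers (mem_zpowers_mul_right hc (hys.coprime hxs))).eq_one hxs)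
    · obtain ⟨K', hL'⟩ := (mF L).1 hL
      exact ht.2 L hL ((conj_mem_iff (sigmaCore_norm L (hL'.le hg))).1 hm)
    · obtain ⟨L, K', hL, h1, h2⟩ := hTd t ht
      exact hL.ti ht.1 h1 h2 hg.1
  have c1 := ncard_add_sum_le F (fun L => classSupp (sigmaCover L) ⊤) (Set.univ \ {1})
    (fun L hL g hg => ⟨Set.mem_univ _, fun e => by
      obtain ⟨K', hL⟩ := (mF L).1 hL
      obtain ⟨k, hk⟩ := mem_classSupp_sigmaCover.1 hg
      exact one_not_mem_sigmaCover (isCoatom_cj hL.coatom k) (e ▸ hk)⟩)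
    (fun L hL L' hL' hne => by
      obtain ⟨K₁, hL⟩ := (mF L).1 hL
      obtain ⟨K₂, hL'⟩ := (mF L').1 hL'
      exact sigma_support_disjoint hL.coatom hL'.coatom
        (by_contra fun hc => hne (hL.eq_of_conj hL' hc).symm))
    (classSupp T ⊤)
    (by
      rintro _ ⟨t, ht, g, -, rfl⟩
      refine ⟨Set.mem_univ _, fun e => ?_⟩
      have e' : g * t * g⁻¹ = 1 := e
      exact ht.2 M ((mF M).2 ⟨K, h⟩) (conj_eq_one_iff'.1 e' ▸ one_mem _))
    (fun L hL => by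
      obtain ⟨K', hL⟩ := (mF L).1 hL
      refine disjoint_classSupp_cover hL.coatom fun t ht H hH => ?_
      obtain ⟨L', K'', hL', h1, h2⟩ := hTd t ht
      exact hL'.not_mem_cover ht.1 h1 h2 hH)
  have c2 := ncard_le_add_sum F (fun L => ((sigmaCore L ⊓ Z : Subgroup G) : Set G) \ {1})
    ((Z : Set G) \ {1}) T (fun s hs => by
      by_cases h1 : ∀ L ∈ F, s ∉ sigmaCore L
      · exact Or.inl ⟨hs.1, h1⟩
      · push Not at h1
        obtain ⟨L, hL, h1⟩ := h1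
        exact Or.inr ⟨L, hL, mem_inf.2 ⟨h1, hs.1⟩, hs.2⟩)
  have c3 : ∑ L ∈ F, (2 * (♯(sigmaCore L ⊓ Z) - 1) * Z.index + Z.index) ≤
      ∑ L ∈ F, 2 * ((♯(sigmaCore L) - 1) * L.index) := Finset.sum_le_sum fun L hL => by
    obtain ⟨K', hL⟩ := (mF L).1 hL
    exact hL.card_P1 (hP1 L K' hL)
  rw [Finset.sum_add_distrib, ← Finset.sum_mul, ← Finset.mul_sum, ← Finset.mul_sum,
    Finset.sum_const, smul_eq_mul] at c3
  rw [hTI.ncard_classSupp, Set.ncard_sdiff_singleton_of_mem (Set.mem_univ _), Set.ncard_univ,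
    Finset.sum_congr rfl fun L hL => card_class_support_sigma ((mF L).1 hL).choose_spec.coatom]
    at c1
  rw [Set.ncard_sdiff_singleton_of_mem (one_mem Z), ncard_coe_subgroup,
    Finset.sum_congr rfl fun L _ => (Set.ncard_sdiff_singleton_of_mem
      (one_mem (sigmaCore L ⊓ Z))).trans (by rw [ncard_coe_subgroup])] at c2
  have c4 := Z.index_mul_card
  have c5 := card_pos Z
  have c6 : 0 < Nat.card G := Nat.card_pos
  generalize ∑ L ∈ F, (♯(sigmaCore L ⊓ Z) - 1) = s at c2 c3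
  generalize ∑ L ∈ F, (♯(sigmaCore L) - 1) * L.index = b at c1 c3
  have c7 : Z.index * ♯Z ≤ Z.index * (T.ncard + s + 1) := Nat.mul_le_mul_left _ (by omega)
  have c8 : 2 * Z.index ≤ F.card * Z.index := Nat.mul_le_mul_right _ hF2
  have c9 : Z.index * T.ncard + b + 1 ≤ Nat.card G := by omega
  nlinarith

/-- a pair of dual maximal subgroups of type `P`. -/
structure DualPair (Z M K L K' : Subgroup G) : Prop where
  left : ZDual Z M K
  right : ZDual Z L K'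
  eql : sigmaCore M ⊓ C[K] = K'
  eqr : sigmaCore L ⊓ C[K'] = K
  p2 : P2max M ∨ P2max L

theorem DualPair.symm (h : DualPair Z M K L K') : DualPair Z L K' M K :=
  ⟨h.right, h.left, h.eqr, h.eql, h.p2.symm⟩

theorem ZDual.exists_pair (h : ZDual Z M K) : ∃ L K', DualPair Z M K L K' := by
  obtain ⟨L, K₁, hL, h2⟩ := h.exists_P2
  have hp := (P2type_structure h2 hL.hall).2.1
  obtain ⟨L', K₂, hL', hnc, hle⟩ := hL.exists_dual le_rfl hp
  have e1 : sigmaCore L' ⊓ C[K₂] = K₁ := le_antisymm (hL.le_K (((sigmaCore_pi L').inf_left _).mono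
    (nconj_sigma' hL'.coatom hL.coatom hnc.symm)) hL'.dp.right_le) hle
  have e2 : sigmaCore L ⊓ C[K₁] = K₂ := by
    refine eq_of_card_eq (hL'.le_K (((sigmaCore_pi L).inf_left _).mono
      (nconj_sigma' hL.coatom hL'.coatom hnc)) hL.dp.right_le) ?_
    have h3 := hL.dp.card
    rw [hL'.dp.card, e1, mul_comm] at h3
    exact (Nat.eq_of_mul_eq_mul_left (card_pos K₁) h3).symm
  have hD : DualPair Z L K₁ L' K₂ := ⟨hL, hL', e2, e1, Or.inl h2⟩
  have aux : ∀ {L K₁ L' K₂ : Subgroup G}, DualPair Z L K₁ L' K₂ → L = M →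
      ∃ L K', DualPair Z M K L K' := by
    rintro L K₁ L' K₂ hD rfl
    obtain rfl : K₁ = K := le_antisymm (h.le_K (Hall.kappa_sigma' hD.left.hall) hD.left.dp.left_le)
      (hD.left.le_K (Hall.kappa_sigma' h.hall) h.dp.left_le)
    exact ⟨_, _, hD⟩
  obtain ⟨Y, hY, hq⟩ := exists_card_isPrime (Ptype_Kstar_ne_bot h.pmax h.hall)
  have hYZ := hY.trans h.dp.right_le
  have hYs : IsPi (sigma M) Y := ((sigmaCore_pi M).inf_left _).of_le hY
  by_cases hs : ♯Y ∈ sigma L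
  · exact aux hD (h.eq_of_le hL hYZ (ne_bot_of_prime hq) hYs
      ((isPi_of_card_prime hq rfl).of_mem hs))
  · refine aux hD.symm (h.eq_of_le hL' hYZ (ne_bot_of_prime hq) hYs ?_)
    exact ((sigmaCore_pi L').inf_left _).of_le
      ((hL.le_K ((isPi_of_card_prime hq rfl).of_mem hs) hYZ).trans hle)

namespace DualPair

theorem dp (h : DualPair Z M K L K') : DP K K' Z := h.eql ▸ h.left.dp

theorem le_sigma (h : DualPair Z M K L K') : K' ≤ sigmaCore M := h.eql.ge.trans inf_le_left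

theorem pi (h : DualPair Z M K L K') : IsPi (sigma M) K' := (sigmaCore_pi M).of_le h.le_sigma

theorem ne_bot (h : DualPair Z M K L K') : K ≠ ⊥ := h.left.pmax.ne_bot h.left.hall

theorem nconj (h : DualPair Z M K L K') : NConj M L := fun g e => by
  have h1 := Hall.kappa_sigma' h.right.hall
  rw [e, sigma_cj] at h1
  exact h.symm.ne_bot (h.pi.eq_bot h1)

theorem coprime (h : DualPair Z M K L K') : (♯K).Coprime ♯K' :=
  (Hall.kappa_sigma' h.left.hall).coprime' h.pi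

theorem cyc_of_p2 (h : DualPair Z M K L K') (h2 : P2max M) : Cyc K ∧ Cyc K' := by
  obtain ⟨-, hp, hn, -⟩ := P2type_structure h2 h.left.hall
  refine ⟨cyc_of_prime hp, odd_nil_rank1_cyclic (hn.of_le h.le_sigma) (mFT_odd _)
    (rank_le_of_isPi h.right.hall.pi fun p hp hk => ?_)⟩
  exact (prank_mono hp h.right.hall.le).trans (rank_kappa hk).le

theorem cycK (h : DualPair Z M K L K') : Cyc K :=
  h.p2.elim (fun h2 => (h.cyc_of_p2 h2).1) fun h2 => (h.symm.cyc_of_p2 h2).2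

theorem cyc (h : DualPair Z M K L K') : Cyc Z := cyc_of_dp h.dp h.cycK h.symm.cycK h.coprime

theorem uniq (h : DualPair Z M K L K') (hX : X ≤ K) (hp : (♯X).Prime) : UniqMax C[X] L :=
  Ptype_Kstar_uniq h.right.pmax h.right.hall (hX.trans h.eqr.ge) hp

theorem hall_sigma (h : DualPair Z M K L K') : Hall (sigma M) L K' := by
  obtain ⟨H, hH, hle⟩ := Hall_superset (mmax_sol h.right.coatom) h.right.hall.le h.pi
  have h1 : H ≤ sigmaCore M := Ptype_sigma_sub h.left.pmax h.left.hall hH.pi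
    (by rw [h.eql, inf_eq_right.2 hle]; exact h.symm.ne_bot)
  have h2 : ⁅H, K⁆ ≤ sigmaCore M ⊓ sigmaCore L :=
    le_inf ((comm_mono_left h1).trans (comm_le_left (h.left.hall.le.trans (sigmaCore_norm M))))
      ((comm_mono_right h.symm.le_sigma).trans (comm_le_right (hH.le.trans (sigmaCore_norm L))))
  rw [(sigmaCore_pi M).inf_eq_bot ((sigmaCore_pi L).mono
    (nconj_sigma' h.right.coatom h.left.coatom h.nconj.symm)), le_bot_iff, comm_eq_bot] at h2
  rwa [le_antisymm hle ((le_inf h1 h2).trans h.eql.le)]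

theorem inf_eq (h : DualPair Z M K L K') : M ⊓ L = Z := by
  refine le_antisymm ?_ (le_inf h.left.le h.right.le)
  have e : sigmaCore M ⊓ L = K' := h.hall_sigma.eq_of_le ((sigmaCore_pi M).inf_left _)
    (le_inf h.le_sigma h.right.hall.le) inf_le_right
  rw [← h.right.norm, ← e]
  exact le_inf inf_le_right (norm_inf (inf_le_left.trans (sigmaCore_norm M))
    (norm_of_le inf_le_right))

theorem cent1 (h : DualPair Z M K L K') (hx : x ∈ K) (h1 : x ≠ 1) : M ⊓ C{x} = Z := by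
  refine le_antisymm ?_ (le_inf h.left.le (h.cyc.abl.le_C.trans (C_le_C1 (h.dp.left_le hx))))
  obtain ⟨p, hp, hd⟩ := exists_prime_dvd_orderOf h1
  obtain ⟨X, hX⟩ := exists_prime_zpowers hp hd
  rw [← h.left.norm, ← (Ptype_norm_prime h.left.pmax h.left.hall
    (hX.le.trans ((zpowers_le (G := G)).2 hx)) (by rwa [hX.card_one])).1]
  exact inf_le_inf_left _ ((C1_le_C_of_le_zpowers hX.le).trans (C_le_N X))

theorem constt_ne_one (h : DualPair Z M K L K') (ht : t ∈ Zhat K K') :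
    t ∈ Z ∧ constt (sigma M) t ≠ 1 ∧ constt (sigma M)ᶜ t ≠ 1 := by
  obtain ⟨h1, h2, h3⟩ := mem_Zhat.1 ht
  rw [h.dp.sup] at h1
  refine ⟨h1, fun e => h2 (h.left.mem_K (constt_eq_one_iff.1 e) h1), fun e => h3 ?_⟩
  have := constt_eq_one_iff.1 e
  rw [compl_compl] at this
  exact h.eql ▸ h.left.mem_Kstar this h1

theorem mul_mem_Zhat (h : DualPair Z M K L K') (hx : x ∈ K) (hx1 : x ≠ 1) (hy : y ∈ K')
    (hy1 : y ≠ 1) : x * y ∈ Zhat K K' := by
  refine mem_Zhat.2 ⟨mul_mem (mem_sup_left hx) (mem_sup_right hy), fun h1 => hy1 ?_,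
    fun h1 => hx1 ?_⟩
  · rw [← mem_bot, ← h.dp.inf]
    exact mem_inf.2 ⟨(mul_mem_cancel_left hx).1 h1, hy⟩
  · rw [← mem_bot, ← h.dp.inf]
    exact mem_inf.2 ⟨hx, (mul_mem_cancel_right hy).1 h1⟩

theorem ti (h : DualPair Z M K L K') : NormedTI (Zhat K K') Z := by
  refine ⟨?_, le_normalizer_set_iff.2 fun g hg t ht => ?_, fun t ht g hg => ?_⟩
  · obtain ⟨x, hx, hx1⟩ := exists_ne_one h.ne_bot
    obtain ⟨y, hy, hy1⟩ := exists_ne_one h.symm.ne_bot
    exact ⟨_, h.mul_mem_Zhat hx hx1 hy hy1⟩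
  · rwa [conj_eq_of_mem_C (h.cyc.abl.le_C hg) (h.constt_ne_one ht).1]
  · obtain ⟨h1, h2, h3⟩ := h.constt_ne_one ht
    exact h.left.ti h1 h2 h3 (h.constt_ne_one hg).1

theorem disj (h : DualPair Z M K L K') (hg : g ∉ M) (ht : t ∈ Zhat K K') : t ∉ cj g M := by
  intro hm
  obtain ⟨h1, h2, -⟩ := h.constt_ne_one ht
  refine h2 ?_
  rw [← mem_bot, ← Ptype_Kstar_TI h.left.pmax h.left.hall hg]
  exact mem_inf.2 ⟨h.left.mem_Kstar (piElt_constt _ _) (constt_mem _ h1), constt_mem _ hm⟩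

theorem big (h : DualPair Z M K L K') : Nat.card G < 2 * (classSupp (Zhat K K') ⊤).ncard := by
  have h1 : (Z : Set G).ncard ≤ (Zhat K K' ∪ K ∪ (K' \ {1}) : Set G).ncard := by
    refine Set.ncard_le_ncard fun z hz => ?_
    by_cases h2 : z ∈ K
    · exact Or.inl (Or.inr h2)
    by_cases h3 : z ∈ K'
    · exact Or.inr ⟨h3, fun e => h2 (e ▸ one_mem K)⟩
    · exact Or.inl (Or.inl (mem_Zhat.2 ⟨h.dp.sup ▸ hz, h2, h3⟩))
  have h2 := h1.trans ((Set.ncard_union_le _ _).trans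
    (Nat.add_le_add_right (Set.ncard_union_le _ _) _))
  rw [Set.ncard_sdiff_singleton_of_mem (one_mem K'), ncard_coe_subgroup, ncard_coe_subgroup,
    ncard_coe_subgroup, h.dp.card] at h2
  rw [h.ti.ncard_classSupp, ← Z.index_mul_card, h.dp.card, mul_left_comm 2]
  refine Nat.mul_lt_mul_of_pos_left ?_ (Nat.pos_of_ne_zero Z.index_ne_zero_of_finite)
  have a1 := one_lt_card h.ne_bot
  have a2 := one_lt_card h.symm.ne_bot
  have hne : ♯K ≠ ♯K' := fun e => by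
    have := h.coprime
    rw [← e, Nat.coprime_self] at this
    omega
  obtain ⟨a, ha⟩ := mFT_odd K
  obtain ⟨b, hb⟩ := mFT_odd K'
  rw [ha, hb] at h2 hne ⊢
  obtain ⟨a, rfl⟩ : ∃ c, a = c + 1 := ⟨a - 1, by omega⟩
  obtain ⟨b, rfl⟩ : ∃ c, b = c + 1 := ⟨b - 1, by omega⟩
  have h3 : 1 ≤ a + b := by omega
  have h4 : (2 * (a + 1) + 1) * (2 * (b + 1) + 1) = 4 * (a * b) + 6 * a + 6 * b + 9 := by ring
  rw [h4] at h2 ⊢
  omega

theorem kappa_eq (h : DualPair Z M K L K') : kappa M = tau1 M := by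
  obtain ⟨E, hE, hKE⟩ := ex_sigma_compl h.left.coatom h.left.hall.le
    (Hall.kappa_sigma' h.left.hall)
  obtain ⟨-, -, -, -, -, -, -, -, h1⟩ := kappa_core h.left.coatom hE h.left.hall hKE h.ne_bot
  exact h1.elim (fun h => h.2) fun h2 => absurd h.cycK.abl h2.2

theorem sd (h : DualPair Z M K L K') : SD ⁅M, M⁆ K M := by
  have hM := h.left.coatom
  have hK := h.left.hall
  obtain ⟨U, hU⟩ := ex_kappa_compl hM hK
  obtain ⟨-, hsd, hsdM, -, hreg, -⟩ := kappa_compl_context hM hU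
  refine ⟨hK.le.trans (der1_nml M).norm, IsPi.inf_eq_bot' (π := kappa M) ?_ hK.pi,
    le_antisymm (sup_le (der1_le M) hK.le) (hsdM.sup.ge.trans (sup_le
      ((Msigma_der1 hM).trans le_sup_left) (sup_le_sup_right ?_ K)))⟩
  · intro p _ hd hk
    exact tau1_not_dvd_der (h.kappa_eq ▸ hk) hd
  · obtain ⟨x, hx, hx1⟩ := exists_ne_one h.ne_bot
    rw [← comm_eq_of_fpf hx hsd.norm (hreg x hx hx1)]
    exact commutator_mono hU.hallU.le hK.le

theorem trans (h : DualPair Z M K L K') (hH : Pmax H) : (∃ g, H = cj g M) ∨ ∃ g, H = cj g L := by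
  obtain ⟨K₁, hK₁⟩ := ex_kappa_Hall hH.coatom
  obtain ⟨H', K₂, h'⟩ := ZDual.exists_pair ⟨hH, hK₁, rfl⟩
  obtain ⟨_, ⟨z, hz, a, -, rfl⟩, s, hs, b, -, e⟩ := inter_nonempty_of_half h.big h'.big
  obtain ⟨hs1, hs2, -⟩ := h'.constt_ne_one hs
  obtain ⟨p, hp, hd⟩ := exists_prime_dvd_orderOf hs2
  obtain ⟨X, hX⟩ := exists_prime_zpowers hp hd
  have hXp : (♯X).Prime := by rwa [hX.card_one]
  have hU := (Ptype_Kstar_uniq hH hK₁ (hX.le.trans ((zpowers_le (G := G)).2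
    (h'.left.mem_Kstar (piElt_constt _ _) (constt_mem _ hs1)))) hXp).cj (a⁻¹ * b)
  rw [cj_C] at hU
  have hXZ : cj (a⁻¹ * b) X ≤ Z := by
    refine (cj_mono _ (hX.le.trans ((zpowers_le (G := G)).2 (constt_mem_zpowers _ s)))).trans ?_
    rw [cj_zpowers, show a⁻¹ * b * s * (a⁻¹ * b)⁻¹ = z by
      calc _ = a⁻¹ * (b * s * b⁻¹) * a := by group
        _ = z := by rw [← e]; group]
    exact (zpowers_le (G := G)).2 (h.constt_ne_one hz).1
  have hXp' : (♯(cj (a⁻¹ * b) X)).Prime := by rwa [card_cj]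
  by_cases hsM : ♯(cj (a⁻¹ * b) X) ∈ sigma M
  · exact Or.inl ⟨_, cj_eq_iff.1 ((h.symm.uniq (h.eql ▸ h.left.le_Kstar
      ((isPi_of_card_prime hXp' rfl).of_mem hsM) hXZ) hXp').eq hU)⟩
  · exact Or.inr ⟨_, cj_eq_iff.1 ((h.uniq (h.left.le_K
      ((isPi_of_card_prime hXp' rfl).of_mem hsM) hXZ) hXp').eq hU)⟩

end DualPair

theorem exists_dualPair (hM : Pmax M) (hK : Hall (kappa M) M K) :
    ∃ L, DualPair (K ⊔ sigmaCore M ⊓ C[K]) M K L (sigmaCore M ⊓ C[K]) := by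
  obtain ⟨L, K', h⟩ := ZDual.exists_pair ⟨hM, hK, (Ptype_norm hM hK).sup.symm⟩
  obtain rfl := h.eql
  exact ⟨L, h⟩

end H11

namespace H24

open Cfsg Subgroup H25 H26 H11

universe u

variable {G : Type u} [Group G] [Finite G] [FT G]
variable {M Mst N L H K U E P Q R S X Y : Subgroup G} {x x' y g : G} {p q r : ℕ}

/-- the conclusions of Theorem 14.7 for the dual maximal subgroup `Mst`. -/
structure PtypeEmbedding (M K Mst : Subgroup G) : Prop where
  pmax : Pmax Mst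
  nconj : NConj M Mst
  uniqK : ∀ X ≤ K, (♯X).Prime → UniqMax C[X] Mst
  hall_kappa : Hall (kappa Mst) Mst (sigmaCore M ⊓ C[K])
  hall_sigma : Hall (sigma M) Mst (sigmaCore M ⊓ C[K])
  dual : sigmaCore Mst ⊓ C[sigmaCore M ⊓ C[K]] = K
  kappa_eq : kappa M = tau1 M
  cyc : Cyc (K ⊔ sigmaCore M ⊓ C[K])
  inf_eq : M ⊓ Mst = K ⊔ sigmaCore M ⊓ C[K]
  centK : ∀ x ∈ K, x ≠ 1 → M ⊓ C{x} = K ⊔ sigmaCore M ⊓ C[K]
  centKs : ∀ y ∈ sigmaCore M ⊓ C[K], y ≠ 1 → Mst ⊓ C{y} = K ⊔ sigmaCore M ⊓ C[K]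
  centZ : ∀ x ∈ K, x ≠ 1 → ∀ y ∈ sigmaCore M ⊓ C[K], y ≠ 1 → C{x * y} = K ⊔ sigmaCore M ⊓ C[K]
  ti : NormedTI (Zhat K (sigmaCore M ⊓ C[K])) (K ⊔ sigmaCore M ⊓ C[K])
  disj : ∀ g ∉ M, ∀ z ∈ Zhat K (sigmaCore M ⊓ C[K]), z ∉ cj g M
  big : Nat.card G < 2 * (classSupp (Zhat K (sigmaCore M ⊓ C[K])) ⊤).ncard
  p2 : (P2max M ∧ (♯K).Prime) ∨ (P2max Mst ∧ (♯(sigmaCore M ⊓ C[K])).Prime)
  trans : ∀ H, Pmax H → (∃ g, H = cj g M) ∨ ∃ g, H = cj g Mst
  sd : SD ⁅M, M⁆ K M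

/-- 14.7 -/
theorem Ptype_embedding (hM : Pmax M) (hK : Hall (kappa M) M K) :
    ∃ Mst, PtypeEmbedding M K Mst := by
  obtain ⟨L, h⟩ := exists_dualPair hM hK
  refine ⟨L, h.right.pmax, h.nconj, fun X hX hp => h.uniq hX hp, h.right.hall, h.hall_sigma,
    h.eqr, h.kappa_eq, h.cyc, h.inf_eq, fun x hx h1 => h.cent1 hx h1,
    fun y hy h1 => h.symm.cent1 hy h1, fun x hx hx1 y hy hy1 => ?_, h.ti,
    fun g hg z hz => h.disj hg hz, h.big, h.p2.imp
      (fun h2 => ⟨h2, (P2type_structure h2 hK).2.1⟩)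
      fun h2 => ⟨h2, (P2type_structure h2 h.right.hall).2.1⟩, fun H hH => h.trans hH, h.sd⟩
  have hz := h.mul_mem_Zhat hx hx1 hy hy1
  exact le_antisymm (h.ti.cent1_le hz) (h.cyc.abl.le_C.trans (C_le_C1 (h.constt_ne_one hz).1))

theorem kappa_cyclic (hM : IsCoatom M) (hK : Hall (kappa M) M K) : Cyc K := by
  by_cases h1 : K = ⊥
  · rw [h1]; exact cyc_bot
  · obtain ⟨L, h⟩ := exists_dualPair ((kappa_ne_bot_iff hM hK).1 h1) hK
    exact h.cycK

theorem kappaCompl_iff (hM : IsCoatom M) : KappaCompl M U K ↔ IsSigmaDecomposition M K U := by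
  have aux : Hall (kappa M) M K → Hall (sigma M ∪ kappa M) M (K ⊔ sigmaCore M) := fun hK => by
    rw [Set.union_comm]
    exact hK.union (Msigma_Hall hM) (isProd_sup' (hK.le.trans (sigmaCore_norm M)))
      (sup_le hK.le (sigmaCore_le M))
  constructor
  · intro h
    have h1 := aux h.hallK
    exact ⟨kappa_cyclic hM h.hallK, h.hallK,
      (h1.isProd h.hallU).symm.isComplIn (h.hallU.pi.inf_eq_bot' h1.pi),
      (kappa_compl_context hM h).2.1.norm⟩
  · intro h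
    have h1 := aux h.hall
    have hp := isProd_of_isComplIn h.compl
    refine ⟨hp.hall_left ?_ (by rw [compl_compl]; exact h1.pi), h.hall, isProd_sup h.normal⟩
    have h2 := h1.idx
    rw [hp.symm.relIndex_eq] at h2
    have h3 := card_inf_mul_relIndex (K ⊔ sigmaCore M) U
    rw [inf_comm, h.compl.2.2.1, card_bot, one_mul] at h3
    rwa [h3] at h2

end H24
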