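import Mathlib
import Cfsg.Agent.H11.S14c

/-!
# Bender–Glauberman §14, last part: 14.8 – 14.13
-/

set_option autoImplicit false
set_option linter.unusedSectionVars false

namespace H24

open Cfsg Subgroup H25 H26 H11

universe u

variable {G : Type u} [Group G] [Finite G] [FT G]
variable {M Mst N L H K U E P Q R S X Y A : Subgroup G} {x x' y g : G} {p q r : ℕ}

omit [FT G] in
theorem _root_.H11.p2max_of_cj (h : P2max (cj g M)) : P2max M := by
  have := h.cj g⁻¹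
  rwa [cj_inv_cj] at this

omit [FT G] in
theorem _root_.H11.p1max_of_cj (h : P1max (cj g M)) : P1max M := by
  have := h.cj g⁻¹
  rwa [cj_inv_cj] at this

/-- 14.8 -/
theorem P1type_trans (hM : P1max M) (hH : P1max H) : ∃ g, H = cj g M := by
  obtain ⟨K, hK⟩ := ex_kappa_Hall hM.coatom
  obtain ⟨L, h⟩ := exists_dualPair hM.pmax hK
  refine (h.trans hH.pmax).resolve_right ?_
  rintro ⟨g, rfl⟩
  exact (p1max_of_cj hH).not_p2 (h.p2.resolve_left hM.not_p2)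

theorem _root_.H11.mem_cover_of {g : G} (h : ∃ x, SigmaElt x ∧ x⁻¹ * g ∈ sigR x) :
    ∃ M, IsCoatom M ∧ g ∈ sigmaCover M := by
  obtain ⟨x, ⟨hx1, M, hM, hx⟩, hr⟩ := h
  exact ⟨M, hM, x, hx, hx1, _, hr, by group⟩

/-- 14.9(a) -/
theorem mFT_partition_F (h : ∀ M : Subgroup G, IsCoatom M → Fmax M) (hg : g ≠ 1) :
    ∃ M, IsCoatom M ∧ g ∈ sigmaCover M := by
  rcases sigma_decomposition_dichotomy hg with ⟨h1, -⟩ | ⟨⟨y, M, hM, -, -, -, h1, hk⟩, -⟩
  · exact mem_cover_of h1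
  · rw [(h M hM).kappa] at hk
    exact absurd (hk.eq_one (by rw [Set.compl_empty]; exact piNat_univ _)) h1

omit [Finite G] [FT G] in
theorem _root_.H11.mem_classSupp_Zhat (h : g ∈ Zhat (cj x K) (cj x L)) :
    g ∈ classSupp (Zhat K L) ⊤ := by
  obtain ⟨h1, h2, h3⟩ := mem_Zhat.1 h
  rw [← cj_sup] at h1
  exact ⟨x⁻¹ * g * x, mem_Zhat.2 ⟨mem_cj.1 h1, fun h => h2 (mem_cj.2 h), fun h => h3 (mem_cj.2 h)⟩,
    x, mem_top x, by group⟩

theorem _root_.H11.kappa_Hall_cj (hM : IsCoatom M) (hK : Hall (kappa M) M K)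
    (hL : Hall (kappa (cj g M)) (cj g M) L) :
    ∃ x, L = cj x K ∧ sigmaCore (cj g M) ⊓ C[L] = cj x (sigmaCore M ⊓ C[K]) := by
  obtain ⟨m, hm, e⟩ := Hall_trans (mmax_sol (isCoatom_cj hM g))
    (by rw [kappa_cj]; exact hK.cj g) hL
  refine ⟨m * g, by rw [e, cj_mul], ?_⟩
  rw [e, cj_inf, cj_C, cj_mul, cj_mul, ← sigmaCore_cj, cj_of_mem_N (sigmaCore_norm _ hm)]

/-- 14.9(b) -/
theorem mFT_partition_P (hM : Pmax M) (hK : Hall (kappa M) M K) (hg : g ≠ 1) :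
    (∃ L, IsCoatom L ∧ g ∈ sigmaCover L) ∨ g ∈ classSupp (Zhat K (sigmaCore M ⊓ C[K])) ⊤ := by
  rcases sigma_decomposition_dichotomy hg with ⟨h1, -⟩ | ⟨⟨y, L, hL, hy, hy1, hb, hb1, hk⟩, -⟩
  · exact Or.inl (mem_cover_of h1)
  right
  obtain ⟨K₁, hK₁, hle⟩ := Hall_superset (mmax_sol hL)
    ((zpowers_le (G := G)).2 (mem_inf.1 hb).1) hk.isPi
  have hbK := hle (mem_zpowers _)
  have hP := pmax_of_le_kappa hL hK₁ hle (by rwa [Ne, zpowers_eq_bot])
  obtain ⟨L', h'⟩ := exists_dualPair hP hK₁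
  have hyK : y ∈ sigmaCore L ⊓ C[K₁] := by
    rw [← kappa_primact hL hK₁ _ hbK hb1]
    exact mem_inf.2 ⟨hy, mem_C1_comm.1 (mem_inf.1 hb).2⟩
  have hz := h'.symm.mul_mem_Zhat hyK hy1 hbK hb1
  rw [mul_inv_cancel_left, Zhat_comm] at hz
  obtain ⟨Mst, h⟩ := exists_dualPair hM hK
  rcases h.trans hP with ⟨a, rfl⟩ | ⟨a, rfl⟩
  · obtain ⟨x, e1, e2⟩ := kappa_Hall_cj hM.coatom hK hK₁
    rw [e2, e1] at hz
    exact mem_classSupp_Zhat hz
  · obtain ⟨x, e1, e2⟩ := kappa_Hall_cj h.right.coatom h.right.hall hK₁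
    rw [e2, e1, h.eqr, Zhat_comm] at hz
    exact mem_classSupp_Zhat hz

theorem mFT_partition_disjoint (hM : Pmax M) (hK : Hall (kappa M) M K) (hL : IsCoatom L) :
    Disjoint (classSupp (Zhat K (sigmaCore M ⊓ C[K])) ⊤) (classSupp (sigmaCover L) ⊤) := by
  obtain ⟨Mst, h⟩ := exists_dualPair hM hK
  refine disjoint_classSupp_cover hL fun t ht H hH => ?_
  obtain ⟨h1, h2, h3⟩ := h.constt_ne_one ht
  exact h.left.not_mem_cover h1 h2 h3 hH

theorem _root_.H11.Fmax.reg (hM : Fmax M) (h : p ∈ tau1 M ∨ p ∈ tau3 M) (hP : PnElem p 1 M P) :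
    sigmaCore M ⊓ C[P] = ⊥ := by
  by_contra hne
  exact (hM.kappa ▸ mem_kappa_of h hP hne : p ∈ (∅ : Set ℕ))

omit [FT G] in
theorem _root_.H11.dvd_relIndex_cent (hq : q.Prime) (hQ : IsPi {q} Q) (hQE : Q ≤ E) (hA : A ⊴ E)
    (h : ¬ Q ≤ C[A]) : q ∣ (E ⊓ C[A]).relIndex E := by
  by_contra hd
  exact h ((le_of_idx_compl hA.infC ((piNat_compl_singleton hq).2 hd) hQ hQE).trans inf_le_right)

/-- 14.11 -/
theorem primes_non_Fitting_Ftype (hM : Fmax M) (hE : Hall (sigma M)ᶜ M E) (hq : q.Prime)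
    (hQ : PnElem q 1 E Q) (hF : ¬ Q ≤ F[E]) :
    ∃ Mst, IsCoatom Mst ∧
      ((q ∈ tau2 Mst ∧ UniqMax C[Q] Mst) ∨ (q ∈ kappa Mst ∧ P1max Mst)) := by
  have hc := hM.coatom
  have hQp := hQ.isPi hq
  have hq1 : q ∈ tau1 M := by
    rcases (partition_pi_sigma_compl hc hE).1
      (mem_primesOf.2 ⟨hq, hQ.prime_dvd_card one_pos⟩) with h | h | h
    · exact h
    · obtain ⟨A, hA⟩ := ex_tau2Elem hE h
      obtain ⟨⟨hn, h1⟩, -⟩ := tau2_compl_context hc hE h hA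
      exact absurd ((h1 Q hQ).trans (Fitting_max hn hA.abl.nil)) hF
    · obtain ⟨E₃, hE₃⟩ := Hall_exists (tau3 M) (sigma_compl_sol hc hE)
      have hn := (tau3_der1 hc hE hE₃).2
      exact absurd ((hE₃.le_of_nml hn.norm (hQp.of_mem h) hQ.le).trans
        (Fitting_max hn (tau3_cyclic hc hE hE₃).nil)) hF
  have hreg := Fmax.reg hM (Or.inl hq1) (hQ.mono hE.le)
  have ha := der_mmax_compl_abelian hc hE
  have hq' : IsPi {q}ᶜ ⁅E, E⁆ := (isPi_compl_iff hq).2 ((tau1E hc hE).1 hq1).2.2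
  have hQn : Q ≤ N[⁅E, E⁆] := hQ.le.trans (der1_nml E).norm
  obtain ⟨-, hcyc, hn⟩ := commG_sigma'_1Elem_cyclic hc ((der1_le E).trans hE.le)
    (hE.pi.of_le (der1_le E)) hq (tau1_not_sigma hq1) (hQ.of_le (le_inf (hQ.le.trans hE.le) hQn))
    hreg hq' ha
  have hKE : ⁅⁅E, E⁆, Q⁆ ≤ E := (comm_le_left hQn).trans (der1_le E)
  have hK1 : ⁅⁅E, E⁆, Q⁆ ≠ ⊥ := fun e => hF (le_sup_right.trans (Fitting_max
    (nml_of_der1_le le_sup_left (sup_le (der1_le E) hQ.le))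
    (ha.sup hQ.abl (comm_eq_bot.1 e)).nil))
  have hTI := coprime_abel_cent_TI hQn (hq'.coprime' hQp) ha
  obtain ⟨X, hX, hp⟩ := exists_card_isPrime hK1
  have hX1 := pnElem_one_of_card hp (hX.trans hKE) rfl
  have hps : ♯X ∉ sigma M := hE.pi.mem hp (card_dvd hX1.le)
  have hp2 : ♯X ∈ tau2 M := mem_tau2.2 ⟨hp, hps, sigma'_norm_mmax_rank2 hc hp hps (hX1.isPi hp)
    (mmax_normal hc (hn.of_cyc hcyc hX) (ne_bot_of_prime hp)).le⟩
  obtain ⟨A, hA⟩ := ex_tau2Elem hE hp2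
  obtain ⟨⟨hAE, h1⟩, -⟩ := tau2_compl_context hc hE hp2 hA
  have hAQ : ¬ A ≤ C[Q] := fun h =>
    ne_bot_of_prime hp (eq_bot_of_le hTI (le_inf hX ((h1 X hX1).trans h)))
  obtain ⟨-, -, hA1, -⟩ := tau1_act_tau2 hc hE hp2 hA hq1 hQ hreg fun e => hAQ (comm_eq_bot.1 e)
  obtain ⟨L, hL, hN⟩ := exists_mmax_norm (hA.ne_bot hp two_pos) (mFT_pgroup_proper (hA.isPi hp))
  obtain ⟨h2, h3, -⟩ := primes_norm_tau2Elem hc hE hp2 hA hL hN
  obtain ⟨hpL, hpb⟩ := h2 _ hp2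
  have hQL : Q ≤ L := hQ.le.trans (hAE.norm.trans hN)
  have hne : sigmaCore L ⊓ C[Q] ≠ ⊥ := ne_bot_of_le (hA1.ne_bot hp one_pos) (inf_le_inf_right _
    (sub_Msigma hL ((hA.isPi hp).of_mem hpL) ((norm_self A).trans hN)))
  refine ⟨L, hL, ?_⟩
  rcases h3 q hq (dvd_relIndex_cent hq hQp hQ.le hAE fun h => hAQ (cents_symm h)) with h | h
  · have hk := mem_kappa_of (Or.inl h) (hQ.of_le hQL) hne
    refine Or.inr ⟨hk, (Pmax.p1_or_p2 ⟨hL, q, hk⟩).resolve_right fun h2 => ?_⟩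
    obtain ⟨K, hK⟩ := ex_kappa_Hall hL
    exact hpb ((P2type_structure h2 hK).1 ▸ hpL)
  · obtain ⟨z, hz, hz1, ho, e⟩ := hQ.exists_generator hq
    rw [← e, C_zpowers] at hne ⊢
    exact Or.inl ⟨h, cent1_nreg_sigma_uniq hL (hQL hz) hz1
      ((piElt_of_orderOf_prime hq ho).of_mem h) hne⟩

/-- 14.12 -/
theorem P2type_signalizer (hM : P2max M) (h : KappaCompl M U K) (hMst : IsCoatom Mst)
    (hC : C[K] ≤ Mst) (hr : r.Prime) (hd : r ∣ ♯U) (hR : Syl r U R) (hH : IsCoatom H)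
    (hN : N[R] ≤ H) :
    Fmax H ∧ U ≤ sigmaCore H ∧ M ⊓ H = U ⊔ K ∧ ¬ H ⊓ N[U] ≤ M ∧ K ≤ F[H ⊓ Mst] ∧
      Hall (sigma H)ᶜ H (H ⊓ Mst) := by
  have hc := hM.coatom
  have hK := h.hallK
  have hK1 := hM.pmax.ne_bot hK
  have hU1 := hM.ne_bot h
  obtain ⟨hE, hsd, hsdM, -, hreg, ha⟩ := kappa_compl_context hc h
  have ha := ha hK1
  have hq := (P2type_structure hM hK).2.1
  obtain ⟨L, hD⟩ := exists_dualPair hM.pmax hK
  have hU := hD.uniq le_rfl hq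
  obtain rfl : Mst = L := hU.uniq _ hMst hC
  have hKp : IsPi {♯K} K := isPi_of_card_prime hq rfl
  have hqs : ♯K ∈ sigma Mst := hD.symm.pi.mem hq dvd_rfl
  have hEH : U ⊔ K ≤ H := (ha.nil.norm_hall hR hsd.nml.norm).trans hN
  have hUH : U ≤ H := le_sup_left.trans hEH
  have hKH : K ≤ H := le_sup_right.trans hEH
  have hrπ := h.hallU.pi.mem hr hd
  have hnM : NConj M H := by
    rintro g rfl
    have hRM := h.hallU.trans_syl hR hrπ
    have hR' : Syl r (cj g M) R := (hRM.cj g).of_card ((norm_self R).trans hN) (card_cj g R).symm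
    have := mmax_sigma_Sylow hr hR' (hR.ne_bot hr rfl hd) hN
    rw [sigma_cj] at this
    exact hrπ (Or.inl this)
  have hnL : NConj Mst H := by
    rintro g rfl
    have hg : g ∈ Mst := by
      by_contra hg
      have := Ptype_Kstar_TI hD.right.pmax hD.right.hall hg
      rw [hD.eqr, inf_eq_left.2 hKH] at this
      exact hK1 this
    rw [cj_of_mem hg] at hUH
    exact hU1 ((KappaCompl.pi_kappa' h).eq_bot (by
      rw [compl_compl]
      exact hK.pi.of_le (hD.left.le_K (KappaCompl.pi_sigma' h)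
        ((le_inf h.hallU.le hUH).trans hD.inf_eq.le))))
  have hF : Fmax H := fmax_of_not_pmax hH fun hP =>
    (hD.trans hP).elim (not_nconj.2 · hnM) (not_nconj.2 · hnL)
  have hqH : ♯K ∉ sigma H := nconj_sigma' hMst hH hnL hqs
  obtain ⟨D, hD', hKD⟩ := ex_sigma_compl hH hKH (hKp.of_mem hqH)
  have hKF : K ≤ F[D] := by
    by_contra hn
    obtain ⟨L, hL, h1 | h1⟩ := primes_non_Fitting_Ftype hF hD' hq
      (pnElem_one_of_card hq hKD rfl) hn
    · exact tau2_not_sigma h1.1 (hU.eq h1.2 ▸ hqs)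
    · rcases hD.trans h1.2.pmax with ⟨g, rfl⟩ | ⟨g, rfl⟩
      · exact (p1max_of_cj h1.2).not_p2 hM
      · exact kappa_not_sigma h1.1 (by rwa [sigma_cj])
  have hKO : K ≤ O[{♯K}, D] := le_pcore_of_le_Fitting hKp hKF
  have hOp : IsPi {♯K} O[{♯K}, D] := pcore_pi _ _
  have hOD := pcore_nml {♯K} D
  have hsdH := sdprod_sigma hH hD'
  have hUs : U ≤ sigmaCore H := by
    have hW : H ≤ N[sigmaCore H ⊔ O[{♯K}, D]] := hsdH.sup.ge.trans (sup_le
      (norm_of_le le_sup_left) (norm_sup hsdH.norm hOD.norm))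
    obtain ⟨x, hx, hx1⟩ := exists_ne_one hK1
    have h1 : U ≤ sigmaCore H ⊔ O[{♯K}, D] := by
      rw [← comm_eq_of_fpf hx hsd.norm (hreg x hx hx1)]
      exact (comm_mono_right (hKO.trans le_sup_right)).trans (comm_le_right (hUH.trans hW))
    have hn := hOD.le.trans hsdH.norm
    exact ((isProd_sup hn).hall_left ((sigmaCore_pi H).compl_of_not_mem hqH)
      (by rw [compl_compl]; exact hOp)).le_of_nml (nml_sup_left hn).norm
      ((KappaCompl.pi_kappa' h).compl_of_mem (hK.pi.mem hq dvd_rfl)) h1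
  have hMH : M ⊓ H = U ⊔ K := by
    have h1 : ⁅sigmaCore M ⊓ H, U⁆ ≤ sigmaCore M ⊓ sigmaCore H :=
      le_inf ((comm_mono_left inf_le_left).trans
        (comm_le_left (h.hallU.le.trans (sigmaCore_norm M))))
        ((comm_mono_right hUs).trans (comm_le_right (inf_le_right.trans (sigmaCore_norm H))))
    rw [(sigmaCore_pi M).inf_eq_bot ((sigmaCore_pi H).mono (nconj_sigma' hH hc hnM.symm)),
      le_bot_iff, comm_eq_bot] at h1
    rw [← hsdM.isProd.modr hEH, eq_bot_of_le (cent_kappa_compl hc h.hallU hU1)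
      (le_inf inf_le_left h1), bot_sup_eq]
  have hKs : K ⊓ sigmaCore H = ⊥ := (hKp.of_mem hqH).inf_eq_bot' (sigmaCore_pi H)
  have hDL : D ≤ Mst := by
    have hOL : O[{♯K}, D] ≤ Mst := ((sigma'_nil_abelian hH (hOD.le.trans hD'.le)
      (hD'.pi.of_le hOD.le) (hOp.nil hq)).cents le_rfl hKO).trans hC
    by_cases hcy : Cyc O[{♯K}, D]
    · exact (cyc_norm hcy hKO hOD.norm).trans ((N_le_NC K).trans (uniqMax_norm_le hU))
    · exact hOD.norm.trans (norm_noncyclic_sigma hMst hqs hOp hOL hcy)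
  have hHL : H ⊓ Mst = D := by
    have h1 : ⁅sigmaCore H ⊓ Mst, K⁆ ≤ sigmaCore H ⊓ sigmaCore Mst :=
      le_inf ((comm_mono_left inf_le_left).trans (comm_le_left (hKH.trans (sigmaCore_norm H))))
        ((comm_mono_right hD.symm.le_sigma).trans
          (comm_le_right (inf_le_right.trans (sigmaCore_norm Mst))))
    rw [(sigmaCore_pi H).inf_eq_bot ((sigmaCore_pi Mst).mono (nconj_sigma' hMst hH hnL)),
      le_bot_iff, comm_eq_bot] at h1
    have h2 : sigmaCore H ⊓ Mst = ⊥ := by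
      by_contra hne
      obtain ⟨x, hx, hx1⟩ := exists_ne_one hne
      obtain ⟨y, hy, hy1⟩ := exists_ne_one hK1
      rcases pi_of_cent_sigma hH (mem_inf.1 hx).1 hx1
        (mem_inf.2 ⟨hKH hy, mem_C1_comm.1 (C_le_C1 hy (h1 hx))⟩) hy1
        ((hKp.of_mem hqH).piElt hy) with ⟨h3, -⟩ | ⟨-, -, h3⟩
      · rw [hF.kappa] at h3
        exact hy1 (h3.eq_one (by rw [Set.compl_empty]; exact piNat_univ _))
      · rw [← C_eq_C1_of_prime hq hy hy1] at h3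
        exact hnL.ne (hU.eq h3)
    rw [← hsdH.isProd.modr hDL, h2, bot_sup_eq]
  refine ⟨hF, hUs, hMH, fun hle => ?_, hHL ▸ hKF, hHL ▸ hD'⟩
  have e : U = sigmaCore H := by
    refine (notP1type_Msigma_nil (Or.inl hF)).eq_of_norm_le hUs ?_
    have h1 : (U ⊔ K) ⊓ sigmaCore H = U := by
      rw [← group_modl hsd.norm hUs, hKs, sup_bot_eq]
    refine (le_inf ?_ inf_le_left).trans h1.le
    rw [← hMH]
    exact le_inf ((inf_le_inf_right _ (sigmaCore_le H)).trans hle)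
      (inf_le_left.trans (sigmaCore_le H))
  rw [e, inf_eq_left.2 (sigmaCore_norm H)] at hle
  exact hnM.ne (eq_mmax hH hc hle)

/-- 14.13(a) -/
theorem non_disjoint_signalizer_Frobenius (hM : IsCoatom M) (hx : x ∈ sigmaCore M) (hx1 : x ≠ 1)
    (hC : ¬ C{x} ≤ M) (h : ¬ IsPi (sigma (sigN x))ᶜ M) :
    Fmax M ∧ tau2 M = ∅ ∧ ∀ E, Hall (sigma M)ᶜ M E → Frob M (sigmaCore M) E := by
  obtain ⟨hU, h2, -, h2s, hb, -⟩ := FT_signalizer_context hM hx hx1 hC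
  have hnc := (signalizer_main hM hx hx1 hC).2.1
  generalize sigN x = N at hU h2 h2s hb hnc h
  have hN := hU.coatom
  obtain ⟨q, hq, hd, hqs⟩ := exists_not_mem_of_not_isPi h
  rw [Set.notMem_compl_iff] at hqs
  have hqb : q ∈ beta N := hb ⟨mem_primesOf.2 ⟨hq, hd⟩, hqs⟩
  have hqM : q ∉ sigma M := nconj_sigma' hN hM hnc.symm hqs
  have huniq : ∀ Q, PnElem q 1 M Q → ∃ g, UniqMax C[Q] (cj g N) := fun Q hQ => by
    obtain ⟨g, hg⟩ := sigma_Jsub hN ((hQ.isPi hq).of_mem hqs) (hQ.ne_bot hq one_pos)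
    exact ⟨g⁻¹, (cent_der_sigma_uniq (isCoatom_cj hN _) hq
      (hQ.of_le (cj_le_iff.1 (hg.trans (sigmaCore_le N)))) (Or.inl (by rwa [beta_cj]))).1⟩
  obtain ⟨p, hp, hpd⟩ := exists_prime_dvd_orderOf hx1
  have hp2 := h2 p hp hpd
  have hps := h2s hp2
  have hF : Fmax M := by
    refine fmax_of_not_pmax hM fun hP => hP.p1_or_p2.elim (fun h1 => ?_) fun h1 => ?_
    · have hk : q ∈ kappa M := (h1.pi.mem hq hd).resolve_left hqM
      obtain ⟨Q, hQ⟩ := exists_pnElem_one hq hd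
      obtain ⟨g, hg⟩ := huniq Q hQ
      obtain ⟨K, hK, hQK⟩ := Hall_superset (mmax_sol hM) hQ.le ((hQ.isPi hq).of_mem hk)
      obtain ⟨L, hD⟩ := exists_dualPair hP hK
      obtain rfl : L = cj g N := hg.eq (hD.uniq hQK (by rwa [hQ.card_one]))
      have := hD.right.hall.pi.mem hp (hD.hall_sigma.prime_dvd hp hps
        (by rw [card_cj]; exact tau2_dvd hp2))
      rw [kappa_cj] at this
      exact kappa_not_tau2 this hp2
    · obtain ⟨K, hK⟩ := ex_kappa_Hall hM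
      exact (tau2_not_beta hN hp2).1 (beta_sub_betaG M ((P2type_structure h1 hK).1 ▸ hps))
  have ht2 : tau2 M = ∅ := by
    refine Set.eq_empty_of_forall_notMem fun r hr2 => ?_
    have hr := tau2_prime hr2
    have hrN : prank r N ≤ 1 := by
      by_contra hlt
      by_cases hs : r ∈ sigma N
      · exact (tau2_not_beta hM hr2).1 (beta_sub_betaG N
          (hb ⟨mem_primesOf.2 ⟨hr, tau2_dvd hr2⟩, hs⟩))
      · have := sigma'_prank_le hN hr hs
        exact tau2_not_sigma hr2 (h2s (mem_tau2.2 ⟨hr, hs, by omega⟩))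
    obtain ⟨Q, hQ⟩ := exists_pnElem_one hq hd
    obtain ⟨g, hg⟩ := huniq Q hQ
    obtain ⟨E, hE, hQE⟩ := ex_sigma_compl hM hQ.le ((hQ.isPi hq).of_mem hqM)
    obtain ⟨A, hA⟩ := ex_tau2Elem hE hr2
    have hAE := (tau2_compl_context hM hE hr2 hA).1.1
    have hAQ : ¬ A ≤ C[Q] := fun h => by
      have := (hA.of_le (h.trans hg.le)).le_prank hr
      rw [prank_cj hr] at this
      omega
    have hq1 : q ∈ tau1 M := tau1_cent_tau2Elem_factor hM hE hr2 hA q hq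
      (dvd_relIndex_cent hq (hQ.isPi hq) hQE hAE fun h => hAQ (cents_symm h))
    obtain ⟨⟨h0, e0, -⟩, hnc', h1, -⟩ := tau1_act_tau2 hM hE hr2 hA hq1 (hQ.of_le hQE)
      (Fmax.reg hF (Or.inl hq1) hQ) fun e => hAQ (comm_eq_bot.1 e)
    obtain ⟨n, -, e⟩ := rank1_conj hr (mFT_odd N) hrN
      ((h1.cj g⁻¹).of_le (le_cj_iff.1 (inf_le_right.trans hg.le)))
      (h0.of_le (e0.ge.trans (inf_le_right.trans ((C_le_C1 hx).trans hU.le))))
    exact hnc' (n * g⁻¹) (by rw [e, cj_mul])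
  refine ⟨hF, ht2, fun E hE => ⟨sdprod_sigma hM hE, Msigma_neq1 hM, sigma_compl_ne_bot hM hE,
    semireg_of_forall_prime fun X hX hs => ?_⟩⟩
  refine Fmax.reg hF ?_ (pnElem_one_of_card hs (hX.trans hE.le) rfl)
  exact tau13_of hM hs (card_dvd (hX.trans hE.le)) (hE.pi.mem hs (card_dvd hX))
    (by rw [ht2]; exact Set.notMem_empty _)

/-- 14.13(b) -/
theorem signalizer_base_conj (hM : IsCoatom M) (hx : x ∈ sigmaCore M) (hx1 : x ≠ 1)
    (hC : ¬ C{x} ≤ M) (hy : y ∈ sigmaCore M) (hy1 : y ≠ 1) (hC' : ¬ C{y} ≤ M)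
    (h : cj g (sigN y) = sigN x) : ∃ m ∈ M, cj m (sigN y) = sigN x := by
  obtain ⟨hU, h2, -, h2s, -, hE⟩ := FT_signalizer_context hM hx hx1 hC
  have hE' := ((FT_signalizer_context hM hy hy1 hC').2.2.2.2.2).cj g
  rw [← sigma_cj g (sigN y), h] at hE'
  obtain ⟨n, hn, e⟩ := Hall_trans (mmax_sol hU.coatom) hE' hE
  obtain ⟨p, hp, hpd⟩ := exists_prime_dvd_orderOf hx1
  have hp2 := h2 p hp hpd
  obtain ⟨A, hA⟩ := ex_tau2Elem hE hp2
  refine ⟨n * g, mem_of_noncyclic_sigma hM (h2s hp2) (hA.mono inf_le_left) ?_,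
    by rw [cj_mul, h, cj_of_mem hn]⟩
  rw [cj_mul]
  exact (hA.le.trans e.le).trans (cj_mono n (cj_mono g inf_le_left))

end H24
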