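import Mathlib
import Cfsg.Agent.H24.Base5
import Cfsg.Agent.H26.Coprime
import Cfsg.Agent.H2.Schmidt

/-! Minimal non-nilpotent groups and Wielandt's theorem on nilpotent Hall subgroups. -/

set_option autoImplicit false

namespace H11

open Subgroup Cfsg H24 H26

universe u

variable {G : Type u} [Group G] [Finite G]

theorem sol_of_forall_lt_nil {M : Subgroup G} (h : ∀ K < M, Nil K) : Sol M := by
  apply H2.isSolvable_of_forall_coatom_isNilpotent
  intro K hK
  have : K.map M.subtype < M := by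
    refine lt_of_le_of_ne (map_subtype_le K) fun e => hK.1 ?_
    rw [← subgroupOf_map_subtype' K, e, subgroupOf_self]
  exact H2.isNilpotent_of_map_subtype (h _ this)

theorem schmidt {M : Subgroup G} (hM : ¬ Nil M) (h : ∀ K < M, Nil K) :
    ∃ (p q : ℕ) (x : G) (Q : Subgroup G), p.Prime ∧ q.Prime ∧ p ≠ q ∧ Syl q M Q ∧
      Syl p M (zpowers x) ∧ SD Q (zpowers x) M ∧ x ∉ C[Q] := by
  have hs := sol_of_forall_lt_nil h
  have hM0 : M ≠ ⊥ := by rintro rfl; exact hM nil_bot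
  obtain ⟨L, hL, hLM⟩ := exists_covBy (hs.der1_lt hM0)
  have hLn : L ⊴ M := nml_of_der1_le hL hLM.le
  have hp := relIndex_prime_of_covBy hLM hLn.norm
  set p := L.relIndex M with hpdef
  have hLnil := h L hLM.lt
  have hsyl : ∀ q, q ≠ p → Syl q M O[{q}, L] := fun q hq =>
    (hLnil.pcore_hall {q}).of_idx hLM.le ((piNat_self hp).compl_of_ne hq.symm)
  obtain ⟨P, hP⟩ := Sylow_exists hp M
  have hex : ∃ q, q.Prime ∧ q ≠ p ∧ ¬ P ≤ C[O[{q}, L]] := by
    by_contra hc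
    push Not at hc
    have hPn : M ≤ N[P] := by
      apply le_of_syl_le
      intro q hq _
      by_cases hqp : q = p
      · exact ⟨P, hqp ▸ hP, norm_self P⟩
      · exact ⟨_, hsyl q hqp, norm_of_cent (cents_symm (hc q hq hqp))⟩
    apply hM
    apply nil_of_exists_syl_nml
    intro q hq _
    by_cases hqp : q = p
    · exact ⟨P, hqp ▸ hP, hPn⟩
    · exact ⟨_, hsyl q hqp, (hLn.pcore _).norm⟩
  obtain ⟨q, hq, hqp, hPQ⟩ := hex
  obtain ⟨x, hxP, hx⟩ := SetLike.not_le_iff_exists.1 hPQ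
  set Q := O[{q}, L] with hQ
  have hQn : Q ⊴ M := hLn.pcore _
  have hxM : zpowers x ≤ M := zpowers_le.2 (hP.le hxP)
  have hxp : IsPi {p} (zpowers x) := hP.pi.of_le (zpowers_le.2 hxP)
  have hQq : IsPi {q} Q := pcore_pi _ _
  have hsup : Q ⊔ zpowers x = M := by
    by_contra hne
    have hlt : Q ⊔ zpowers x < M := lt_of_le_of_ne (sup_le hQn.le hxM) hne
    exact hx ((h _ hlt).cents_of_coprime le_sup_right le_sup_left
      (hxp.coprime_of_ne hQq hqp.symm) (mem_zpowers x))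
  have hsd : SD Q (zpowers x) M :=
    ⟨hxM.trans hQn.norm, inf_eq_bot_of_cop (hQq.coprime_of_ne hxp hqp), hsup⟩
  exact ⟨p, q, x, Q, hp, hq, hqp.symm, hsyl q hqp,
    hsd.hall_right (hQq.compl_of_ne hqp) hxp, hsd, hx⟩

theorem exists_nml_syl_of_forall_lt_nil {M : Subgroup G} (hM : M ≠ ⊥) (h : ∀ K < M, Nil K) :
    ∃ (q : ℕ) (Q : Subgroup G), q.Prime ∧ Syl q M Q ∧ M ≤ N[Q] ∧ Q ≠ ⊥ := by
  by_cases hn : Nil M
  · obtain ⟨q, hq, hd⟩ := exists_prime_dvd_card hM
    exact ⟨q, _, hq, hn.pcore_hall {q}, (pcore_nml _ _).norm, hn.pcore_ne_bot hq rfl hd⟩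
  · obtain ⟨p, q, x, Q, -, hq, -, hQ, -, hsd, hx⟩ := schmidt hn h
    refine ⟨q, Q, hq, hQ, hsd.nml.norm, ?_⟩
    rintro rfl
    exact hx (by rw [C_bot]; trivial)

/-- Wielandt: nilpotent Hall subgroups satisfy `D_π`. -/
theorem nil_Hall_subJ (K : Subgroup G) : ∀ {H M : Subgroup G}, Nil H → IsHall M H → K ≤ M →
    IsPi (primesOf H) K → ∃ g ∈ M, K ≤ cj g H := by
  induction K using subgroup_ind with
  | h K ih =>
    intro H M hH hHall hKM hK
    by_cases hK0 : K = ⊥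
    · exact ⟨1, M.one_mem, hK0 ▸ bot_le⟩
    have hnil : ∀ L < K, Nil L := by
      intro L hL
      obtain ⟨g, -, hg⟩ := ih L hL hH hHall (hL.le.trans hKM) (hK.of_le hL.le)
      exact (hH.cj g).of_le hg
    obtain ⟨q, Q, hq, hQ, hQn, hQ0⟩ := exists_nml_syl_of_forall_lt_nil hK0 hnil
    obtain ⟨L, hL⟩ := Hall.exists_sd hQ hQn
    have hLK : L < K := by
      refine lt_of_le_of_ne hL.right_le fun e => hQ0 ?_
      rw [← hL.inf, e, inf_eq_left.2 hQ.le]
    have hqH : q ∣ ♯H := (hK.mem hq ((hQ.pi.dvd_card hQ0).trans (card_dvd hQ.le))).2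
    obtain ⟨g, hgM, hg⟩ := Sylow_subJ hq (hHall.syl (hH.pcore_hall {q}) hq hqH) hQ.pi
      (hQ.le.trans hKM)
    rw [← pcore_cj] at hg
    set H₁ := cj g H with hH₁
    have hH1 : Nil H₁ := hH.cj g
    have hHall1 : IsHall M H₁ := by
      have := hHall.cj g
      rwa [cj_of_mem hgM] at this
    have hh := hH1.pcore_hall {q}ᶜ
    have hle : O[{q}ᶜ, H₁] ≤ M ⊓ N[Q] := le_inf (hh.le.trans hHall1.le)
      (norm_of_cent (cents_of_le (pcore_compl_cent_pcore _ _) hg))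
    obtain ⟨c, hc, hLc⟩ := ih L hLK (hH1.of_le hh.le)
      ((hHall1.trans hh.isHall).of_le hle inf_le_left)
      (le_inf (hLK.le.trans hKM) (hLK.le.trans hQn)) (by
        intro r hr hd
        refine ⟨hr, hh.prime_dvd hr ((hL.isPi_right hQ).mem hr hd) ?_⟩
        rw [hH₁, card_cj]
        exact (hK.mem hr (hd.trans (card_dvd hLK.le))).2)
    refine ⟨c * g, M.mul_mem hc.1 hgM, ?_⟩
    rw [cj_mul, ← hL.sup]
    refine sup_le ?_ (hLc.trans (cj_mono c hh.le))
    exact (cj_of_mem_N hc.2).symm.le.trans (cj_mono c (hg.trans (pcore_le _ _)))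

omit [Finite G] in
theorem abl_of_covBy_of_cent {L M : Subgroup G} (h : L ⋖ M) (hL : M ≤ C[L]) : Abl M := by
  obtain ⟨x, hxM, hx⟩ := SetLike.exists_of_lt h.lt
  have hsup : L ⊔ zpowers x = M := by
    rcases covBy_eq_or h le_sup_left (sup_le h.le (zpowers_le.2 hxM)) with e | e
    · exact absurd (e.le (mem_sup_right (mem_zpowers x))) hx
    · exact e
  rw [← hsup]
  exact Abl.sup (abl_iff.2 (h.le.trans hL)) (abl_zpowers x)
    (cents_symm ((zpowers_le.2 hxM).trans hL))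

end H11
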