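import Mathlib
import Cfsg.Agent.H26.Coprime
import Cfsg.Agent.H24.Base5

/-!
# TI-subgroups which are maximal abelian normal in their normalizer (Timmesfeld), part 1
-/

set_option autoImplicit false
set_option linter.unusedSectionVars false
set_option linter.style.haveILetI false

namespace H11.TI

open Subgroup Cfsg H24 H26
open scoped commutatorElement

universe u

variable {G : Type u} [Group G] [Finite G] {V U U₂ : Subgroup G}

/-- the hypothesis on `V` -/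
structure Hyp (V : Subgroup G) : Prop where
  sq : ∀ x ∈ V, x * x = 1
  abl : Abl V
  cent : N[V] ⊓ C[O[{2}, N[V]]] ≤ O[{2}, N[V]]
  max : ∀ A, V ≤ A → A ⊴ N[V] → Abl A → A = V
  ti : ∀ x, cj x V = V ∨ cj x V ⊓ V = ⊥

/-- `O₂(N(V))` -/
def QQ (V : Subgroup G) : Subgroup G := O[{2}, N[V]]

/-- `C_Q(V)` -/
def PP (V : Subgroup G) : Subgroup G := QQ V ⊓ C[V]

theorem QQ_cj (g : G) (V : Subgroup G) : QQ (cj g V) = cj g (QQ V) := by
  rw [QQ, QQ, ← cj_N, pcore_cj]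

theorem PP_cj (g : G) (V : Subgroup G) : PP (cj g V) = cj g (PP V) := by
  rw [PP, PP, QQ_cj, cj_inf, cj_C]

theorem QQ_nml (V : Subgroup G) : QQ V ⊴ N[V] := pcore_nml _ _
theorem QQ_pi (V : Subgroup G) : IsPi {2} (QQ V) := pcore_pi _ _
theorem PP_nml (V : Subgroup G) : PP V ⊴ N[V] := (QQ_nml V).inf (C_nml_N V)
theorem PP_le_QQ (V : Subgroup G) : PP V ≤ QQ V := inf_le_left
theorem PP_le_C (V : Subgroup G) : PP V ≤ C[V] := inf_le_right
theorem PP_pi (V : Subgroup G) : IsPi {2} (PP V) := (QQ_pi V).of_le inf_le_left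

theorem Hyp.cj (h : Hyp V) (g : G) : Hyp (cj g V) where
  sq x hx := by
    obtain ⟨y, hy, rfl⟩ := mem_cj'.1 hx
    have := h.sq y hy
    calc g * y * g⁻¹ * (g * y * g⁻¹) = g * (y * y) * g⁻¹ := by group
      _ = 1 := by rw [this]; group
  abl := h.abl.cj g
  cent := by
    rw [← cj_N, pcore_cj, ← cj_C, ← cj_inf, cj_le_cj]; exact h.cent
  max A h1 h2 h3 := by
    rw [← cj_cj_inv g A, cj_inj]
    refine h.max _ (by rwa [← cj_le_iff]) ?_ (h3.cj _)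
    have := h2.cj g⁻¹
    rwa [cj_N, cj_inv_cj] at this
  ti x := by
    rcases h.ti (g⁻¹ * x * g) with e | e
    · left
      rw [← cj_mul, show x * g = g * (g⁻¹ * x * g) by group, cj_mul, e]
    · right
      rw [← cj_mul, show x * g = g * (g⁻¹ * x * g) by group, cj_mul, ← cj_inf, e, cj_bot]

theorem Hyp.inv_eq (h : Hyp V) {x : G} (hx : x ∈ V) : x⁻¹ = x :=
  inv_eq_of_mul_eq_one_right (h.sq x hx)

theorem Hyp.pi (h : Hyp V) : IsPi {2} V := by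
  refine isPi_of_isPGroup Nat.prime_two fun x => ⟨1, Subtype.ext ?_⟩
  simpa [pow_two] using h.sq x x.2

theorem Hyp.le_PP (h : Hyp V) : V ≤ PP V :=
  le_inf (pcore_max h.pi (nml_N V)) h.abl.le_C

/-- conjugacy of subgroups -/
def Con (V U : Subgroup G) : Prop := ∃ g, U = cj g V

theorem Con.refl (V : Subgroup G) : Con V V := ⟨1, (cj_one V).symm⟩
theorem Con.symm (h : Con V U) : Con U V := by
  obtain ⟨g, rfl⟩ := h; exact ⟨g⁻¹, (cj_inv_cj g V).symm⟩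
theorem Con.trans (h : Con V U) (h' : Con U U₂) : Con V U₂ := by
  obtain ⟨g, rfl⟩ := h; obtain ⟨k, rfl⟩ := h'; exact ⟨k * g, (cj_mul _ _ _).symm⟩
theorem Con.cj (h : Con V U) (g : G) : Con V (cj g U) := h.trans ⟨g, rfl⟩
theorem Con.card (h : Con V U) : ♯U = ♯V := by obtain ⟨g, rfl⟩ := h; exact card_cj g V
theorem Con.hyp (h : Con V U) (hV : Hyp V) : Hyp U := by obtain ⟨g, rfl⟩ := h; exact hV.cj g

theorem Hyp.eq_of_mem (h : Hyp V) (hU : Con V U) {x : G} (h1 : x ≠ 1) (hx : x ∈ V) (hx' : x ∈ U) :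
    U = V := by
  obtain ⟨g, rfl⟩ := hU
  rcases h.ti g with e | e
  · exact e
  · exact absurd (mem_bot.1 (e ▸ mem_inf.2 ⟨hx', hx⟩)) h1

theorem Hyp.eq_one (h : Hyp V) (hU : Con V U) (hne : U ≠ V) {x : G} (hx : x ∈ V) (hx' : x ∈ U) :
    x = 1 := by
  by_contra h1; exact hne (h.eq_of_mem hU h1 hx hx')

theorem Hyp.inf_eq_bot (h : Hyp V) (hU : Con V U) (hne : U ≠ V) : V ⊓ U = ⊥ :=
  eq_bot_iff.2 fun _ hx => mem_bot.2 (h.eq_one hU hne hx.1 hx.2)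

theorem Hyp.mem_N_of_conj (h : Hyp V) {v g : G} (hv : v ∈ V) (h1 : v ≠ 1) (hg : g * v * g⁻¹ ∈ V) :
    g ∈ N[V] :=
  mem_N_iff_cj.2 (h.eq_of_mem ⟨g, rfl⟩ (by rwa [Ne, conj_eq_one_iff']) hg (conj_mem_cj g hv))

theorem Hyp.mem_N_of_comm (h : Hyp V) {v g : G} (hv : v ∈ V) (h1 : v ≠ 1) (hg : g * v = v * g) :
    g ∈ N[V] :=
  h.mem_N_of_conj hv h1 (by rw [hg, mul_inv_cancel_right]; exact hv)

theorem ne_bot_of_con (hU : Con V U) (hne : U ≠ V) : V ≠ ⊥ := by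
  rintro rfl
  obtain ⟨g, rfl⟩ := hU
  exact hne (cj_bot g)

/-- a conjugate normalizing `V` centralizes it -/
theorem Hyp.cent_of_norm (h : Hyp V) (hU : Con V U) (hne : U ≠ V) (hn : U ≤ N[V]) : U ≤ C[V] := by
  have hU' := hU.hyp h
  -- an element of `V` commuting with a nontrivial element of `U` centralizes `U`
  have key : ∀ v ∈ V, ∀ x ∈ U, x ≠ 1 → v * x = x * v → v ∈ C[U] := by
    intro v hv x hx h1 hc
    have hvN := hU'.mem_N_of_comm hx h1 hc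
    refine mem_C'.2 fun y hy => ?_
    have e : v * y * v⁻¹ * y⁻¹ = 1 := by
      refine h.eq_one hU hne ?_ (U.mul_mem (conj_mem hvN hy) (U.inv_mem hy))
      have := V.mul_mem hv (conj_mem (hn hy) (V.inv_mem hv))
      simpa [mul_assoc] using this
    rw [mul_inv_eq_one, mul_inv_eq_iff_eq_mul] at e
    exact e
  rw [centsC]
  intro v hv
  by_contra hvc
  have hlt : V ⊓ C[U] < V := lt_of_le_of_ne inf_le_left fun e => hvc (e.ge hv).2
  have hm : ∀ x ∈ U, v * (x * v * x⁻¹) ∈ V ⊓ C[U] := by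
    intro x hx
    have h1 : v * (x * v * x⁻¹) ∈ V := V.mul_mem hv (conj_mem (hn hx) hv)
    refine ⟨h1, ?_⟩
    by_cases hx1 : x = 1
    · rw [hx1]; simp [h.sq v hv]
    refine key _ h1 x hx hx1 ?_
    have hc := h.abl.comm hv (conj_mem (hn hx) hv)
    have hxx := hU'.sq x hx
    conv_rhs => rw [hc]
    calc v * (x * v * x⁻¹) * x = (x * x) * v * x * v := by rw [hxx]; group
      _ = x * (x * v * x⁻¹ * v) := by rw [hU'.inv_eq hx]; group
  let f : U → (V ⊓ C[U] : Subgroup G) := fun x => ⟨_, hm x x.2⟩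
  have hf : Function.Injective f := by
    rintro ⟨x, hx⟩ ⟨y, hy⟩ hxy
    have e : v * (x * v * x⁻¹) = v * (y * v * y⁻¹) := congrArg Subtype.val hxy
    by_contra hne'
    apply hvc
    refine key v hv (y⁻¹ * x) (U.mul_mem (U.inv_mem hy) hx)
      (fun e' => hne' (Subtype.ext (inv_mul_eq_one.1 e').symm)) ?_
    have e2 := mul_left_cancel e
    calc v * (y⁻¹ * x) = y⁻¹ * (y * v * y⁻¹) * x := by group
      _ = y⁻¹ * x * v := by rw [← e2]; group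
  have := Nat.card_le_card_of_injective f hf
  have h2 := card_lt hlt
  rw [hU.card] at this
  omega

theorem Hyp.center_PP (h : Hyp V) : PP V ⊓ C[PP V] = V :=
  h.max _ (le_inf h.le_PP (cents_symm (PP_le_C V))) (PP_nml V).center (abl_center _)

theorem Hyp.mem_of_cent (h : Hyp V) {x : G} (hx : x ∈ PP V) (hc : x ∈ C[PP V]) : x ∈ V :=
  h.center_PP.le ⟨hx, hc⟩

/-- `C(V) ∩ C(P/V) ≤ P` -/
theorem Hyp.le_PP_of_comm (h : Hyp V) {A : Subgroup G} (hA : A ≤ C[V]) (hc : ⁅A, PP V⁆ ≤ V) :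
    A ≤ PP V := by
  set K := C[V] ⊓ centQ (PP V) V with hK
  have hPN : PP V ≤ N[V] := (PP_nml V).le
  have hAK : A ≤ K := le_inf hA ((le_centQ hPN).2 ⟨hA.trans (C_le_N V), hc⟩)
  have hKn : K ⊴ N[V] := ⟨inf_le_left.trans (C_le_N V),
    norm_inf (N_le_NC V) (norm_centQ (PP_nml V).norm le_rfl)⟩
  have hKc : ⁅K, PP V⁆ ≤ V := ((le_centQ hPN).1 inf_le_right).2
  have hK2 : IsPi {2} K := by
    intro p hp hd
    by_contra hp2
    obtain ⟨x, hx, hox⟩ := exists_orderOf_eq hp hd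
    have hX : IsPi {p} (zpowers x) := isPi_of_card_prime hp (by rw [card_zpowers', hox])
    have hXK : zpowers x ≤ K := (zpowers_le (G := G)).2 hx
    have hne : (2 : ℕ) ≠ p := fun e => hp2 e.symm
    have h1 : zpowers x ≤ C[PP V] :=
      stable_factor_cent (hXK.trans inf_le_left) (by rw [commC]; exact (comm_mono_left hXK).trans hKc)
        h.le_PP (h.pi.coprime_of_ne hX hne) (Or.inl (h.pi.sol Nat.prime_two))
    have h2 : zpowers x ≤ C[QQ V] := by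
      refine stable_factor_cent h1 ?_ (PP_le_QQ V) ((PP_pi V).coprime_of_ne hX hne)
        (Or.inl ((PP_pi V).sol Nat.prime_two))
      refine le_inf (comm_le_left (hXK.trans (hKn.le.trans (QQ_nml V).norm))) ?_
      exact ((comm_mono_right hXK).trans (comm_le_right ((QQ_nml V).le.trans hKn.norm))).trans
        inf_le_left
    have h3 : zpowers x ≤ QQ V := (le_inf (hXK.trans hKn.le) h2).trans h.cent
    have h4 := ((QQ_pi V).of_le h3).eq_bot (hX.compl_of_ne hne.symm)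
    exact ne_one_of_orderOf_prime (hox ▸ hp) (mem_bot.1 (h4 ▸ mem_zpowers x))
  exact le_inf (hAK.trans (pcore_max hK2 hKn)) hA

/-- `P/V` is elementary abelian -/
theorem Hyp.PP_struct (h : Hyp V) : ⁅PP V, PP V⁆ ≤ V ∧ ∀ x ∈ PP V, x * x ∈ V := by
  have hPN : PP V ≤ N[V] := (PP_nml V).le
  have hQN : QQ V ≤ N[V] := (QQ_nml V).le
  set Z := PP V ⊓ centQ (QQ V) V with hZ
  have hZn : Z ⊴ N[V] := ⟨inf_le_left.trans hPN,
    norm_inf (PP_nml V).norm (norm_centQ (QQ_nml V).norm le_rfl)⟩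
  have hVZ : V ≤ Z := le_inf h.le_PP ((le_centQ hQN).2 ⟨norm_self V, comm_le_left hQN⟩)
  have hZc : ⁅Z, QQ V⁆ ≤ V := ((le_centQ hQN).1 inf_le_right).2
  set C := PP V ⊓ C[Z] with hC
  have hCn : C ⊴ N[V] := ⟨inf_le_left.trans hPN, norm_inf (PP_nml V).norm (norm_C hZn.norm)⟩
  have hVC : V ≤ C := le_inf h.le_PP (cents_symm (inf_le_left.trans (PP_le_C V)))
  have hCZ : C ⊓ Z = V := h.max _ (le_inf hVC hVZ) (hCn.inf hZn)
    (abl_iff.2 (cents_of_le (inf_le_left.trans inf_le_right) inf_le_right))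
  have hCV : C ≤ V := by
    by_contra hne
    have hq : quo C V ≠ ⊥ := fun e => hne ((quo_eq_bot hCn.le).1 e)
    have hCQ : C ⊴ QQ V := hCn.of_le (inf_le_left.trans (PP_le_QQ V)) hQN
    have h1 := meet_center_nil (((QQ_pi V).nil Nat.prime_two).quo V) (hCQ.quo V) hq
    obtain ⟨z, hz, hz1⟩ := exists_ne_one h1
    obtain ⟨c, hc, hcN, rfl⟩ := mem_quo.1 hz.1
    apply hz1
    rw [cs_eq_one hcN, ← hCZ]
    refine ⟨hc, hc.1, ?_⟩
    have h2 : quo (zpowers c) V ≤ C[quo (QQ V) V] := by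
      rw [quo_zpowers hcN]; exact (zpowers_le (G := QN V)).2 hz.2.2
    have hcz : zpowers c ≤ N[V] := (zpowers_le (G := G)).2 hcN
    exact (le_centQ hQN).2 ⟨hcz, (quo_cents hcz hQN).1 h2⟩ (mem_zpowers c)
  have act : ∀ x ∈ PP V, ∀ z ∈ Z, ∃ v ∈ V, x * z * x⁻¹ = v * z := by
    intro x hx z hz
    refine ⟨⁅x, z⁆, ?_, by rw [commutatorElement_def]; group⟩
    apply hZc
    rw [commC]
    exact commutator_mem_commutator (PP_le_QQ V hx) hz
  have cv : ∀ x ∈ PP V, ∀ v ∈ V, x * v * x⁻¹ = v := fun x hx v hv =>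
    conj_eq_of_mem_C (PP_le_C V hx) hv
  have act2 : ∀ x ∈ PP V, ∀ y, ∀ z, ∀ a, ∀ b ∈ V, x * z * x⁻¹ = a * z → y * z * y⁻¹ = b * z →
      x * y * z * (x * y)⁻¹ = b * a * z := by
    intro x hx y z a b hb e1 e2
    calc x * y * z * (x * y)⁻¹ = x * (y * z * y⁻¹) * x⁻¹ := by group
      _ = (x * b * x⁻¹) * (x * z * x⁻¹) := by rw [e2]; group
      _ = b * a * z := by rw [cv x hx b hb, e1, mul_assoc]
  refine ⟨commutator_le.2 fun x hx y hy => hCV ⟨?_, mem_C'.2 fun z hz => ?_⟩,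
    fun x hx => hCV ⟨(PP V).mul_mem hx hx, mem_C'.2 fun z hz => ?_⟩⟩
  · exact der1_le _ (commutator_mem_commutator hx hy)
  · have hz' : (y * x)⁻¹ * z * (y * x) ∈ Z := conj_mem' (hZn.norm (hPN ((PP V).mul_mem hy hx))) hz
    obtain ⟨a, ha, e1⟩ := act x hx _ hz'
    obtain ⟨b, hb, e2⟩ := act y hy _ hz'
    have e3 := act2 x hx y _ a b hb e1 e2
    have e4 := act2 y hy x _ b a ha e2 e1
    rw [h.abl.comm ha hb, ← e3] at e4
    rw [commutatorElement_def]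
    calc x * y * x⁻¹ * y⁻¹ * z
        = (x * y * ((y * x)⁻¹ * z * (y * x)) * (x * y)⁻¹) * (x * y * x⁻¹ * y⁻¹) := by group
      _ = z * (x * y * x⁻¹ * y⁻¹) := by rw [← e4]; group
  · obtain ⟨a, ha, e1⟩ := act x hx z hz
    have e3 := act2 x hx x _ a a ha e1 e1
    rw [h.sq a ha, one_mul] at e3
    rw [← mul_inv_eq_iff_eq_mul, e3]

theorem Hyp.der_PP (h : Hyp V) : ⁅PP V, PP V⁆ ≤ V := h.PP_struct.1
theorem Hyp.sq_PP (h : Hyp V) {x : G} (hx : x ∈ PP V) : x * x ∈ V := h.PP_struct.2 x hx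

theorem Hyp.comm_mem (h : Hyp V) {x y : G} (hx : x ∈ PP V) (hy : y ∈ PP V) :
    x * y * x⁻¹ * y⁻¹ ∈ V := h.der_PP (commutator_mem_commutator hx hy)

/-- `U` is a conjugate of `V` inside `P` -/
structure Adj (V U : Subgroup G) : Prop where
  hyp : Hyp V
  con : Con V U
  ne : U ≠ V
  le : U ≤ PP V

theorem Adj.hyp' (h : Adj V U) : Hyp U := h.con.hyp h.hyp

theorem Adj.cj (h : Adj V U) (g : G) : Adj (cj g V) (cj g U) where
  hyp := h.hyp.cj g
  con := (Con.symm ⟨g, rfl⟩).trans (h.con.cj g)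
  ne e := h.ne (cj_inj.1 e)
  le := by rw [PP_cj]; exact cj_mono g h.le

theorem Adj.cj_right (h : Adj V U) {g : G} (hg : g ∈ N[V]) : Adj V (H24.cj g U) := by
  have := h.cj g
  rwa [cj_of_mem_N hg] at this

theorem Adj.eq_one (h : Adj V U) {x : G} (hx : x ∈ V) (hx' : x ∈ U) : x = 1 :=
  h.hyp.eq_one h.con h.ne hx hx'

theorem Adj.cent (h : Adj V U) : U ≤ C[V] := h.le.trans (PP_le_C V)

theorem Adj.comm (h : Adj V U) {v x : G} (hv : v ∈ V) (hx : x ∈ U) : v * x = x * v :=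
  (comm_of_cent h.cent hx hv).symm

theorem Adj.cent_of_comm (h : Adj V U) {a x : G} (ha : a ∈ PP V) (hx : x ∈ U) (h1 : x ≠ 1)
    (hc : a * x = x * a) : a ∈ C[U] := by
  have haN := h.hyp'.mem_N_of_comm hx h1 hc
  refine mem_C'.2 fun y hy => ?_
  have e : a * y * a⁻¹ * y⁻¹ = 1 :=
    h.eq_one (h.hyp.comm_mem ha (h.le hy)) (U.mul_mem (conj_mem haN hy) (U.inv_mem hy))
  rw [mul_inv_eq_one, mul_inv_eq_iff_eq_mul] at e
  exact e

theorem Adj.exists_noncomm (h : Adj V U) : ∃ m ∈ N[V], ¬ U ≤ C[H24.cj m U] := by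
  by_contra hn
  push Not at hn
  set B := PP V ⊓ ⨅ m : N[V], C[H24.cj (m : G) U] with hB
  have hBn : B ⊴ N[V] := by
    refine ⟨inf_le_left.trans (PP_nml V).le, norm_inf (PP_nml V).norm (le_N_iff.2 ?_)⟩
    intro a ha x hx
    rw [mem_iInf] at hx ⊢
    intro m
    have := conj_mem_cj a (hx ⟨a⁻¹ * m, N[V].mul_mem (N[V].inv_mem ha) m.2⟩)
    rwa [cj_C, ← cj_mul, mul_inv_cancel_left] at this
  have hVB : V ≤ B := le_inf h.hyp.le_PP (le_iInf fun m => cents_symm (h.cj_right m.2).cent)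
  have hUB : U ≤ B := le_inf h.le (le_iInf fun m => hn m m.2)
  have hUC : U ≤ C[B] := by
    refine cents_symm (inf_le_right.trans ((iInf_le _ 1).trans ?_))
    simp [cj_one]
  have e := h.hyp.max _ (le_inf hVB (cents_symm (inf_le_left.trans (PP_le_C V)))) hBn.center
    (abl_center B)
  have hUV : U ≤ V := e ▸ le_inf hUB hUC
  exact h.ne (eq_of_card_eq hUV h.con.card)

theorem Adj.eq_one_of_comm (h : Adj V U) (h₂ : Adj V U₂) (hn : ¬ U ≤ C[U₂]) {x y : G}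
    (hx : x ∈ U) (hy : y ∈ U₂) (h1 : x ≠ 1) (hc : y * x = x * y) : y = 1 := by
  by_contra hy1
  have := h.cent_of_comm (h₂.le hy) hx h1 hc
  exact hn fun u hu => h₂.cent_of_comm (h.le hu) hy hy1 (mem_C.1 this u hu)

theorem Adj.full_aux (h : Adj V U) (h₂ : Adj V U₂) (hn : ¬ U ≤ C[U₂]) {x v : G}
    (hx : x ∈ U) (h1 : x ≠ 1) (hv : v ∈ V) : ∃ y ∈ U₂, y * x * y⁻¹ = v * x := by
  let f : U₂ → V := fun y => ⟨y * x * (y : G)⁻¹ * x⁻¹, h.hyp.comm_mem (h₂.le y.2) (h.le hx)⟩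
  have hf : Function.Injective f := by
    rintro ⟨y, hy⟩ ⟨z, hz⟩ hyz
    have e : y * x * y⁻¹ * x⁻¹ = z * x * z⁻¹ * x⁻¹ := congrArg Subtype.val hyz
    have e2 := mul_right_cancel e
    have := h.eq_one_of_comm h₂ hn hx (U₂.mul_mem (U₂.inv_mem hz) hy) h1 (by
      calc z⁻¹ * y * x = z⁻¹ * (y * x * y⁻¹) * y := by group
        _ = x * (z⁻¹ * y) := by rw [e2]; group)
    exact Subtype.ext (inv_mul_eq_one.1 this).symm
  obtain ⟨⟨y, hy⟩, e⟩ := (hf.bijective_of_nat_card_le h₂.con.card.ge).2 ⟨v, hv⟩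
  refine ⟨y, hy, ?_⟩
  have e' : y * x * y⁻¹ * x⁻¹ = v := congrArg Subtype.val e
  rw [← e']; group

theorem Adj.full (h : Adj V U) {x v : G} (hx : x ∈ U) (h1 : x ≠ 1) (hv : v ∈ V) :
    ∃ a ∈ PP V, a * x * a⁻¹ = v * x := by
  obtain ⟨m, hm, hn⟩ := h.exists_noncomm
  obtain ⟨y, hy, e⟩ := h.full_aux (h.cj_right hm) hn hx h1 hv
  exact ⟨y, (h.cj_right hm).le hy, e⟩

theorem Adj.exists_ne_one (h : Adj V U) : ∃ x ∈ U, x ≠ 1 :=
  H24.exists_ne_one (ne_bot_of_con h.con.symm h.ne.symm)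

theorem Adj.exists_ne_one' (h : Adj V U) : ∃ x ∈ V, x ≠ 1 :=
  H24.exists_ne_one (ne_bot_of_con h.con h.ne)

/-- `Z(C_P(U)) ≤ V U` -/
theorem Adj.center_Y (h : Adj V U) {e : G} (he : e ∈ PP V) (hc : e ∈ C[PP V ⊓ C[U]]) :
    ∃ v ∈ V, ∃ x ∈ U, e = v * x := by
  obtain ⟨m, hm, hn⟩ := h.exists_noncomm
  have h₂ := h.cj_right hm
  have hn' : ¬ H24.cj m U ≤ C[U] := fun e => hn (cents_symm e)
  obtain ⟨y, hy, hy1⟩ := h₂.exists_ne_one
  obtain ⟨x, hx, e1⟩ := h₂.full_aux h hn' hy hy1 (h.hyp.comm_mem he (h₂.le hy))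
  have hxe : x⁻¹ * e ∈ PP V := (PP V).mul_mem ((PP V).inv_mem (h.le hx)) he
  have c1 : x⁻¹ * e ∈ C[H24.cj m U] := by
    refine h₂.cent_of_comm hxe hy hy1 ?_
    calc x⁻¹ * e * y = x⁻¹ * (e * y * e⁻¹ * y⁻¹ * y) * e := by group
      _ = y * (x⁻¹ * e) := by rw [← e1]; group
  have c2 : x⁻¹ * e ∈ C[PP V ⊓ C[U]] :=
    (C[PP V ⊓ C[U]]).mul_mem ((C[PP V ⊓ C[U]]).inv_mem (cents_symm inf_le_right hx)) hc
  have c3 : x⁻¹ * e ∈ C[PP V] := by
    refine mem_C'.2 fun a ha => ?_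
    obtain ⟨x₀, hx₀, hx₀1⟩ := h.exists_ne_one
    obtain ⟨z, hz, e2⟩ := h.full_aux h₂ hn hx₀ hx₀1 (h.hyp.comm_mem ha (h.le hx₀))
    have hza : z⁻¹ * a ∈ PP V := (PP V).mul_mem ((PP V).inv_mem (h₂.le hz)) ha
    have d1 : z⁻¹ * a ∈ C[U] := by
      refine h.cent_of_comm hza hx₀ hx₀1 ?_
      calc z⁻¹ * a * x₀ = z⁻¹ * (a * x₀ * a⁻¹ * x₀⁻¹ * x₀) * a := by group
        _ = x₀ * (z⁻¹ * a) := by rw [← e2]; group
    have d2 := mem_C'.1 c1 z hz
    have d3 := mem_C'.1 c2 _ ⟨hza, d1⟩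
    calc x⁻¹ * e * a = (x⁻¹ * e * z) * (z⁻¹ * a) := by group
      _ = z * (x⁻¹ * e * (z⁻¹ * a)) := by rw [d2]; group
      _ = a * (x⁻¹ * e) := by rw [d3]; group
  refine ⟨x⁻¹ * e, h.hyp.mem_of_cent hxe c3, x, hx, ?_⟩
  rw [h.comm (h.hyp.mem_of_cent hxe c3) hx]; group

end H11.TI
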