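import Mathlib
import Cfsg.Agent.H11.TI1

/-!
# TI-subgroups (Timmesfeld), part 2: symmetry of adjacency and `P = Q`
-/

set_option autoImplicit false
set_option linter.unusedSectionVars false
set_option linter.style.haveILetI false

namespace H11.TI

open Subgroup Cfsg H24 H26
open scoped commutatorElement

universe u

variable {G : Type u} [Group G] [Finite G] {V U U₂ : Subgroup G}

theorem Adj.le_N (h : Adj V U) : U ≤ N[V] := h.cent.trans (C_le_N V)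
theorem Adj.le_N' (h : Adj V U) : V ≤ N[U] := (cents_symm h.cent).trans (C_le_N U)

theorem Adj.mem_sup (h : Adj V U) {w : G} : w ∈ V ⊔ U ↔ ∃ v ∈ V, ∃ x ∈ U, w = v * x :=
  mem_sup_of_norm h.le_N

theorem Adj.abl_sup (h : Adj V U) : Abl (V ⊔ U) := h.hyp.abl.sup h.hyp'.abl (cents_symm h.cent)

theorem Adj.sup_le (h : Adj V U) : V ⊔ U ≤ PP V := _root_.sup_le h.hyp.le_PP h.le

theorem Adj.PP_norm (h : Adj V U) : PP V ≤ N[V ⊔ U] :=
  norm_of_der1_le (h.hyp.der_PP.trans le_sup_left) h.sup_le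

/-- step A -/
theorem Adj.symm_of_move (h : Adj V U) {y v x : G} (hy : y ∈ N[U]) (hv : v ∈ V) (hv1 : v ≠ 1)
    (hx : x ∈ U) (hx1 : x ≠ 1) (e : y * v * y⁻¹ = x * v) : V ≤ PP U := by
  obtain ⟨a, ha, e1⟩ := h.full hx hx1 hv
  have e2 : H24.cj a U = H24.cj y V := by
    refine (h.hyp.cj y).eq_of_mem ((Con.symm ⟨y, rfl⟩).trans (h.con.cj a))
      (x := y * v * y⁻¹) (by rwa [Ne, conj_eq_one_iff']) (conj_mem_cj y hv) ?_
    rw [e, ← h.comm hv hx, ← e1]; exact conj_mem_cj a hx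
  have e3 : H24.cj (a⁻¹ * y) V = U := by rw [cj_mul, ← e2, cj_inv_cj]
  have e4 : H24.cj (a⁻¹ * y) (V ⊔ U) ≤ V ⊔ U := by
    rw [cj_sup, e3, cj_mul, cj_of_mem_N hy]
    exact _root_.sup_le le_sup_right
      (cj_le_of_mem_N le_sup_right (N[V ⊔ U].inv_mem (h.PP_norm ha)))
  have e5 := eq_of_card_eq e4 (card_cj _ _)
  calc V ≤ V ⊔ U := le_sup_left
    _ = H24.cj (a⁻¹ * y) (V ⊔ U) := e5.symm
    _ ≤ H24.cj (a⁻¹ * y) (PP V) := cj_mono _ h.sup_le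
    _ = PP U := by rw [← PP_cj, e3]

theorem Adj.le_PP_symm (h : Adj V U) : V ≤ PP U := by
  by_contra hn
  have hU := h.hyp'
  have hVN : V ≤ N[PP U] := h.le_N'.trans (PP_nml U).norm
  -- (*)
  have star : ∀ y ∈ PP U, ∀ v ∈ V, y * v * y⁻¹ * v⁻¹ ∈ U → y * v = v * y := by
    intro y hy v hv hc
    by_cases hv1 : v = 1
    · simp [hv1]
    by_contra hne
    refine hn (h.symm_of_move ((PP_nml U).le hy) hv hv1 hc (fun e => hne ?_) (by group))
    rwa [mul_inv_eq_one, mul_inv_eq_iff_eq_mul] at e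
  -- step B
  have stepB : ∀ v ∈ V, v ∈ PP U → v = 1 := by
    intro v hv hvP
    refine h.eq_one hv (hU.mem_of_cent hvP (mem_C.2 fun y hy => star y hy v hv ?_))
    exact hU.comm_mem hy hvP
  set X := PP U ⊓ C[V] with hX
  have hUX : U ≤ X := le_inf hU.le_PP h.cent
  -- step C
  have stepC : ∀ y ∈ PP U, ∀ v ∈ V, v ≠ 1 → y * v = v * y → y ∈ X := by
    intro y hy v hv hv1 hc
    have hyN := h.hyp.mem_N_of_comm hv hv1 hc
    refine ⟨hy, mem_C'.2 fun w hw => ?_⟩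
    have e : y * w * y⁻¹ * w⁻¹ = 1 := by
      refine stepB _ (V.mul_mem (conj_mem hyN hw) (V.inv_mem hw)) ?_
      have := (PP U).mul_mem hy (conj_mem (hVN hw) ((PP U).inv_mem hy))
      simpa [mul_assoc] using this
    rwa [mul_inv_eq_one, mul_inv_eq_iff_eq_mul] at e
  -- step D
  have stepD : ∀ y ∈ PP U, ∀ v ∈ V, y * v * y⁻¹ * v⁻¹ ∈ X ∧
      (y * v * y⁻¹ * v⁻¹) * (y * v * y⁻¹ * v⁻¹) = 1 := by
    intro y hy v hv
    by_cases hv1 : v = 1
    · simp [hv1]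
    have hc : y * v * y⁻¹ * v⁻¹ ∈ PP U := by
      have := (PP U).mul_mem hy (conj_mem (hVN hv) ((PP U).inv_mem hy))
      simpa [mul_assoc] using this
    have hvv := h.hyp.sq v hv
    have e1 : (y * v * y⁻¹ * v⁻¹) * v * (y * v * y⁻¹ * v⁻¹)⁻¹ * v⁻¹ =
        (y * v * y⁻¹ * v⁻¹) * (y * v * y⁻¹ * v⁻¹) := by
      calc (y * v * y⁻¹ * v⁻¹) * v * (y * v * y⁻¹ * v⁻¹)⁻¹ * v⁻¹
          = (y * v * y⁻¹ * v⁻¹) * ((v * v) * y * v⁻¹ * y⁻¹ * v⁻¹) := by group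
        _ = _ := by rw [hvv, h.hyp.inv_eq hv, one_mul]
    have e2 := star _ hc v hv (by rw [e1]; exact hU.sq_PP hc)
    refine ⟨stepC _ hc v hv hv1 e2, ?_⟩
    rw [← e1, e2]; group
  have hDX : ⁅PP U, V⁆ ≤ X := commutator_le.2 fun y hy v hv => (stepD y hy v hv).1
  set Y := PP V ⊓ C[U] with hY
  have hVY : V ≤ Y := le_inf h.hyp.le_PP (cents_symm h.cent)
  have hYN : Y ≤ N[PP U] := inf_le_right.trans ((C_le_N U).trans (PP_nml U).norm)
  have hXN : X ≤ N[PP V] := inf_le_right.trans ((C_le_N V).trans (PP_nml V).norm)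
  -- step E
  have stepE : ∀ e ∈ PP U, e ∈ PP V → e ∈ U := by
    intro e heU heV
    have hc : e ∈ C[Y] := mem_C'.2 fun y hy => by
      have e1 : e * y * e⁻¹ * y⁻¹ = 1 := by
        refine stepB _ (h.hyp.comm_mem heV hy.1) ?_
        have := (PP U).mul_mem heU (conj_mem (hYN hy) ((PP U).inv_mem heU))
        simpa [mul_assoc] using this
      rwa [mul_inv_eq_one, mul_inv_eq_iff_eq_mul] at e1
    obtain ⟨v, hv, x, hx, rfl⟩ := h.center_Y heV hc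
    have : v = 1 := stepB v hv (by
      have := (PP U).mul_mem heU ((PP U).inv_mem (hU.le_PP hx))
      simpa using this)
    rw [this, one_mul]; exact hx
  -- step F
  have stepF : ⁅X, Y⁆ ≤ U := fun e he => stepE e
    (((comm_mono_left inf_le_left).trans (comm_le_left hYN)) he)
    (((comm_mono_right inf_le_left).trans (comm_le_right hXN)) he)
  -- step G
  have stepG : ⁅Y, PP U⁆ ≤ C[X] := by
    rw [← comm_eq_bot]
    refine three_subgroup (A := PP U) (B := X) (K := Y) ?_ ?_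
    · rw [comm_eq_bot']
      exact cents_of_le inf_le_right ((comm_mono_right inf_le_left).trans hU.der_PP)
    · rw [comm_eq_bot']
      exact cents_of_le (PP_le_C U) stepF
  -- step H
  obtain ⟨v₀, hv₀, hv₀1⟩ := h.exists_ne_one'
  have stepH : PP U ⊓ C[X] ≤ X := by
    have h3 : ⁅⁅PP U ⊓ C[X], V⁆, PP U⁆ = ⊥ := by
      refine three_subgroup (A := V) (B := PP U) ?_ ?_
      · rw [comm_eq_bot']
        exact cents_of_le inf_le_right (by rw [commC]; exact hDX)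
      · rw [comm_eq_bot']
        exact cents_of_le (cents_symm h.cent) ((comm_mono_right inf_le_left).trans hU.der_PP)
    intro c hc
    refine stepC c hc.1 v₀ hv₀ hv₀1 (star c hc.1 v₀ hv₀ (hU.mem_of_cent (stepD c hc.1 v₀ hv₀).1.1 ?_))
    exact comm_eq_bot.1 h3 (commutator_mem_commutator hc hv₀)
  have hYP : ⁅Y, PP U⁆ ≤ PP U ⊓ C[X] := le_inf (comm_le_right hYN) stepG
  -- step I
  have stepI : Abl Y := by
    have hYU : Y ≤ N[U] := inf_le_right.trans (C_le_N U)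
    have h3 : ⁅⁅Y, Y⁆, PP U⁆ ≤ U := by
      refine three_subgroup_mod (A := Y) (B := PP U) hYU (PP_nml U).le hYU ?_ ?_
      · exact (comm_mono_left (hYP.trans stepH)).trans stepF
      · rw [commC (PP U) Y]; exact (comm_mono_left (hYP.trans stepH)).trans stepF
    have h4 := hU.le_PP_of_comm ((der1_le Y).trans inf_le_right) h3
    rw [← der1_eq_bot, eq_bot_iff]
    intro e he
    exact stepB e (h.hyp.der_PP (der1_mono inf_le_left he)) (h4 he)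
  have small : PP V ⊓ C[U] ≤ V ⊔ U := fun e he =>
    h.mem_sup.2 (h.center_Y he.1 (stepI.le_C he))
  -- step J
  obtain ⟨m, hm, hnc⟩ := h.exists_noncomm
  obtain ⟨g, hg⟩ := h.con
  have a₁ : Adj U (H24.cj g U) := by have := h.cj g; rwa [← hg] at this
  have a₂ : Adj U (H24.cj g (H24.cj m U)) := by have := (h.cj_right hm).cj g; rwa [← hg] at this
  have s₁ : PP U ⊓ C[H24.cj g U] ≤ U ⊔ H24.cj g U := by
    have := cj_mono g small
    rwa [cj_inf, cj_sup, cj_C, ← PP_cj, ← hg] at this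
  have s₂ : PP U ⊓ C[H24.cj g (H24.cj m U)] ≤ U ⊔ H24.cj g (H24.cj m U) := by
    have := cj_mono (g * m) small
    rwa [cj_inf, cj_sup, cj_C, ← PP_cj, cj_mul, cj_mul, cj_of_mem_N hm, ← hg] at this
  have hnc' : ¬ H24.cj g U ≤ C[H24.cj g (H24.cj m U)] := by rwa [← cj_C, cj_le_cj]
  have meet : ∀ U', Adj U U' → PP U ⊓ C[U'] ≤ U ⊔ U' → ∃ u ∈ U', u ≠ 1 ∧ u ∈ X := by
    intro U' a s
    obtain ⟨u, hu, hu1⟩ := a.exists_ne_one
    by_cases hc : u * v₀ = v₀ * u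
    · exact ⟨u, hu, hu1, stepC u (a.le hu) v₀ hv₀ hv₀1 hc⟩
    obtain ⟨d1, d2⟩ := stepD u (a.le hu) v₀ hv₀
    have huu := a.hyp'.sq u hu
    have hcu : (u * v₀ * u⁻¹ * v₀⁻¹) * u = u * (u * v₀ * u⁻¹ * v₀⁻¹) := by
      have hi := a.hyp'.inv_eq hu
      have hi' := h.hyp.inv_eq hv₀
      have hvv := h.hyp.sq v₀ hv₀
      rw [hi, hi'] at d2 ⊢
      calc u * v₀ * u * v₀ * u = (u * v₀ * u * v₀ * (u * v₀ * u * v₀)) * (v₀⁻¹ * u⁻¹ * v₀⁻¹) := by
            group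
        _ = u * (u * v₀ * u * v₀) := by
            rw [d2, hi, hi', ← mul_assoc, ← mul_assoc, ← mul_assoc, ← mul_assoc, ← mul_assoc, huu]
    obtain ⟨x, hx, w, hw, e⟩ := a.mem_sup.1 (s ⟨d1.1, a.cent_of_comm d1.1 hu hu1 hcu⟩)
    refine ⟨w, hw, fun hw1 => hc (star u (a.le hu) v₀ hv₀ ?_), ?_⟩
    · rw [e, hw1, mul_one]; exact hx
    · have := X.mul_mem (X.inv_mem (hUX hx)) d1
      rwa [e, inv_mul_cancel_left] at this
  obtain ⟨u₁, hu₁, hu₁1, hu₁X⟩ := meet _ a₁ s₁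
  obtain ⟨u₂, hu₂, hu₂1, hu₂X⟩ := meet _ a₂ s₂
  have fin : PP U ⊓ C[X] ≤ U := by
    intro c hc
    obtain ⟨x, hx, w, hw, rfl⟩ := a₁.mem_sup.1
      (s₁ ⟨hc.1, a₁.cent_of_comm hc.1 hu₁ hu₁1 (mem_C'.1 hc.2 u₁ hu₁X)⟩)
    have c1 := mem_C'.1 hc.2 u₂ hu₂X
    have c2 := a₂.comm hx hu₂
    have : w = 1 := a₂.eq_one_of_comm a₁ (fun e => hnc' (cents_symm e)) hu₂ hw hu₂1 (by
      calc w * u₂ = x⁻¹ * (x * w * u₂) := by group
        _ = x⁻¹ * (u₂ * x) * w := by rw [c1]; group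
        _ = u₂ * w := by rw [← c2]; group)
    rw [this, mul_one]; exact hx
  exact hn (hU.le_PP_of_comm (cents_symm h.cent) (((comm_mono_left hVY).trans hYP).trans fin))

theorem Adj.symm (h : Adj V U) : Adj U V := ⟨h.hyp', h.con.symm, h.ne.symm, h.le_PP_symm⟩

theorem Adj.exists_conj (h : Adj V U) {v w : G} (hv : v ∈ V) (hv1 : v ≠ 1) (hw : w ∈ V)
    (hw1 : w ≠ 1) : ∃ m ∈ N[V], m * v * m⁻¹ = w := by
  obtain ⟨x, hx, hx1⟩ := h.exists_ne_one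
  obtain ⟨a, -, e1⟩ := h.full hx hx1 hv
  obtain ⟨b, -, e2⟩ := h.symm.full hv hv1 hx
  obtain ⟨c, -, e3⟩ := h.full hx hx1 hw
  obtain ⟨d, -, e4⟩ := h.symm.full hw hw1 hx
  have e : (d⁻¹ * c * a⁻¹ * b) * v * (d⁻¹ * c * a⁻¹ * b)⁻¹ = w := by
    calc (d⁻¹ * c * a⁻¹ * b) * v * (d⁻¹ * c * a⁻¹ * b)⁻¹
        = d⁻¹ * c * a⁻¹ * (b * v * b⁻¹) * a * c⁻¹ * d := by group
      _ = d⁻¹ * (c * x * c⁻¹) * d := by rw [e2, ← h.comm hv hx, ← e1]; group
      _ = w := by rw [e3, h.comm hw hx, ← e4]; group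
  exact ⟨_, h.hyp.mem_N_of_conj hv hv1 (e ▸ hw), e⟩

theorem Adj.PP_eq (h : Adj V U) : PP V = QQ V := by
  refine le_antisymm (PP_le_QQ V) (le_inf le_rfl (cents_symm fun w hw => ?_))
  obtain ⟨v, hv, hv1⟩ := H24.exists_ne_one ((QQ_pi V).inf_C_ne_bot Nat.prime_two h.hyp.pi
    (QQ_nml V).le (ne_bot_of_con h.con h.ne))
  by_cases hw1 : w = 1
  · rw [hw1]; exact one_mem _
  obtain ⟨m, hm, rfl⟩ := h.exists_conj hv.1 hv1 hw hw1
  exact conj_mem (norm_C (QQ_nml V).norm hm) hv.2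

theorem Adj.der_eq (h : Adj V U) : ⁅PP V, PP V⁆ = V := by
  refine le_antisymm h.hyp.der_PP fun v hv => ?_
  obtain ⟨x, hx, hx1⟩ := h.exists_ne_one
  obtain ⟨a, ha, e⟩ := h.full hx hx1 hv
  have := commutator_mem_commutator ha (h.le hx)
  rwa [commutatorElement_def, e, mul_inv_cancel_right] at this

theorem Adj.Phi_eq (h : Adj V U) : Phi (PP V) = V := by
  refine le_antisymm (Phi_le_of_pow Nat.prime_two h.hyp.der_PP fun x hx => ?_) ?_
  · rw [pow_two]; exact h.hyp.sq_PP hx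
  · exact h.der_eq.ge.trans ((PP_pi V).der1_le_Phi Nat.prime_two)

theorem Adj.spread (h : Adj V U) {w : G} (hw : w ∈ V ⊔ U) (h1 : w ≠ 1) :
    ∃! U' : Subgroup G, Con V U' ∧ U' ≤ V ⊔ U ∧ w ∈ U' := by
  have hex : ∃ U' : Subgroup G, Con V U' ∧ U' ≤ V ⊔ U ∧ w ∈ U' := by
    obtain ⟨v, hv, x, hx, rfl⟩ := h.mem_sup.1 hw
    by_cases hx1 : x = 1
    · exact ⟨V, Con.refl V, le_sup_left, by rw [hx1, mul_one]; exact hv⟩
    obtain ⟨a, ha, e⟩ := h.full hx hx1 hv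
    exact ⟨H24.cj a U, h.con.cj a, cj_le_of_mem_N le_sup_right (h.PP_norm ha),
      e ▸ conj_mem_cj a hx⟩
  obtain ⟨U', h1', h2, h3⟩ := hex
  exact ⟨U', ⟨h1', h2, h3⟩, fun U'' ⟨k1, _, k3⟩ =>
    (h1'.hyp h.hyp).eq_of_mem (h1'.symm.trans k1) h1 h3 k3⟩

theorem Adj.sup_norm (h : Adj V U) : PP V ⊔ PP U ≤ N[V ⊔ U] :=
  _root_.sup_le h.PP_norm (by rw [sup_comm]; exact h.symm.PP_norm)

end H11.TI
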