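import Mathlib
import Cfsg.Agent.H11.TI2
import Cfsg.Agent.H11.JordanField

/-!
# TI-subgroups (Timmesfeld), part 3: the action on `W = V U` is that of `SL₂(q)`
-/

set_option autoImplicit false
set_option linter.unusedSectionVars false
set_option linter.style.haveILetI false

namespace H11.TI

open Subgroup Cfsg H24 H26
open scoped commutatorElement MatrixGroups Matrix

universe u

section SL2

variable {F : Type*} [Field F]

/-- upper transvection -/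
def upT (s : F) : SL(2, F) := ⟨!![1, s; 0, 1], by simp [Matrix.det_fin_two]⟩
/-- lower transvection -/
def loT (s : F) : SL(2, F) := ⟨!![1, 0; s, 1], by simp [Matrix.det_fin_two]⟩

theorem upT_mulVec (s : F) (u : Fin 2 → F) : (upT s).1 *ᵥ u = ![u 0 + s * u 1, u 1] := by
  ext i; fin_cases i <;> simp [upT, Matrix.mulVec, dotProduct, Fin.sum_univ_two]

theorem loT_mulVec (s : F) (u : Fin 2 → F) : (loT s).1 *ᵥ u = ![u 0, u 1 + s * u 0] := by
  ext i; fin_cases i <;> simp [loT, Matrix.mulVec, dotProduct, Fin.sum_univ_two, add_comm]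

theorem eq_top_of_transv (K : Subgroup SL(2, F)) (h1 : ∀ s, upT s ∈ K) (h2 : ∀ s, loT s ∈ K) :
    K = ⊤ := by
  have key : ∀ M : SL(2, F), M.1 1 0 ≠ 0 → M ∈ K := by
    intro M hc
    have hd := M.2
    rw [Matrix.det_fin_two] at hd
    have : M = upT ((M.1 0 0 - 1) / M.1 1 0) * loT (M.1 1 0) * upT ((M.1 1 1 - 1) / M.1 1 0) := by
      apply Subtype.ext
      rw [Matrix.SpecialLinearGroup.coe_mul, Matrix.SpecialLinearGroup.coe_mul]
      ext i j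
      fin_cases i <;> fin_cases j <;>
        simp [upT, loT, Matrix.mul_apply, Fin.sum_univ_two] <;> field_simp
      · ring
      · linear_combination -hd
      · ring
    rw [this]; exact K.mul_mem (K.mul_mem (h1 _) (h2 _)) (h1 _)
  rw [eq_top_iff]
  intro M _
  by_cases hc : M.1 1 0 = 0
  · have hd := M.2
    rw [Matrix.det_fin_two, hc, mul_zero, sub_zero] at hd
    have := key (loT 1 * M) (by
      rw [Matrix.SpecialLinearGroup.coe_mul]
      simp [loT, Matrix.mul_apply, Fin.sum_univ_two, hc, left_ne_zero_of_mul_eq_one hd])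
    simpa using K.mul_mem (K.inv_mem (h2 1)) this
  · exact key M hc

theorem sl2_of_coord {G : Type*} [Group G] {P P' W : Subgroup G} (θ : (Fin 2 → F) → G)
    (hinj : Function.Injective θ) (hW : ∀ w, w ∈ W ↔ ∃ u, θ u = w)
    (h1 : ∀ a ∈ P, ∃ s, ∀ u, a * θ u * a⁻¹ = θ ![u 0 + s * u 1, u 1])
    (h2 : ∀ s, ∃ a ∈ P, ∀ u, a * θ u * a⁻¹ = θ ![u 0 + s * u 1, u 1])
    (h3 : ∀ a ∈ P', ∃ s, ∀ u, a * θ u * a⁻¹ = θ ![u 0, u 1 + s * u 0])
    (h4 : ∀ s, ∃ a ∈ P', ∀ u, a * θ u * a⁻¹ = θ ![u 0, u 1 + s * u 0])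
    (hN : (C[W].subgroupOf (P ⊔ P')).Normal) :
    Nonempty (↥(P ⊔ P') ⧸ C[W].subgroupOf (P ⊔ P') ≃* SL(2, F)) := by
  let rel : G → SL(2, F) → Prop := fun h M => ∀ u, h * θ u * h⁻¹ = θ (M.1 *ᵥ u)
  have rmul : ∀ {g h M N}, rel g M → rel h N → rel (g * h) (M * N) := by
    intro g h M N a b u
    calc g * h * θ u * (g * h)⁻¹ = g * (h * θ u * h⁻¹) * g⁻¹ := by group
      _ = _ := by rw [b, a, Matrix.mulVec_mulVec]; rfl
  have rone : rel 1 1 := fun u => by simp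
  have rinv : ∀ {g M}, rel g M → rel g⁻¹ M⁻¹ := by
    intro g M a u
    have := a ((M⁻¹).1 *ᵥ u)
    rw [Matrix.mulVec_mulVec, ← Matrix.SpecialLinearGroup.coe_mul, mul_inv_cancel] at this
    simp only [Matrix.SpecialLinearGroup.coe_one, Matrix.one_mulVec] at this
    rw [← this]; group
  have runiq : ∀ {g M N}, rel g M → rel g N → M = N := by
    intro g M N a b
    apply Subtype.ext
    apply Matrix.toLin'.injective
    refine LinearMap.ext fun u => ?_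
    exact hinj ((a u).symm.trans (b u))
  let K : Subgroup G :=
    { carrier := {g | ∃ M, rel g M}
      mul_mem' := fun ⟨_, a⟩ ⟨_, b⟩ => ⟨_, rmul a b⟩
      one_mem' := ⟨1, rone⟩
      inv_mem' := fun ⟨_, a⟩ => ⟨_, rinv a⟩ }
  have hK : P ⊔ P' ≤ K := by
    refine sup_le (fun a ha => ?_) (fun a ha => ?_)
    · obtain ⟨s, hs⟩ := h1 a ha
      exact ⟨upT s, fun u => by rw [hs, upT_mulVec]⟩
    · obtain ⟨s, hs⟩ := h3 a ha
      exact ⟨loT s, fun u => by rw [hs, loT_mulVec]⟩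
  choose f hf using fun g : ↥(P ⊔ P') => hK g.2
  let φ : ↥(P ⊔ P') →* SL(2, F) := MonoidHom.mk' f fun a b => runiq (hf (a * b)) (rmul (hf a) (hf b))
  have hφ : ∀ g M, rel (g : ↥(P ⊔ P')) M → φ g = M := fun g M a => runiq (hf g) a
  have hsurj : Function.Surjective φ := by
    rw [← MonoidHom.range_eq_top]
    refine eq_top_of_transv _ (fun s => ?_) (fun s => ?_)
    · obtain ⟨a, ha, hs⟩ := h2 s
      exact ⟨⟨a, mem_sup_left ha⟩, hφ _ _ fun u => by rw [upT_mulVec]; exact hs u⟩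
    · obtain ⟨a, ha, hs⟩ := h4 s
      exact ⟨⟨a, mem_sup_right ha⟩, hφ _ _ fun u => by rw [loT_mulVec]; exact hs u⟩
  have hker : C[W].subgroupOf (P ⊔ P') = φ.ker := by
    ext g
    rw [mem_subgroupOf, MonoidHom.mem_ker]
    constructor
    · intro hg
      refine hφ g 1 fun u => ?_
      rw [conj_eq_of_mem_C hg ((hW _).2 ⟨u, rfl⟩)]; simp
    · intro hg
      refine mem_C'.2 fun w hw => ?_
      obtain ⟨u, rfl⟩ := (hW w).1 hw
      have := hf g u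
      change _ = θ ((φ g).1 *ᵥ u) at this
      rw [hg] at this
      simp only [Matrix.SpecialLinearGroup.coe_one, Matrix.one_mulVec] at this
      rwa [mul_inv_eq_iff_eq_mul] at this
  exact ⟨(QuotientGroup.quotientMulEquivOfEq hker).trans
    (QuotientGroup.quotientKerEquivOfSurjective φ hsurj)⟩

end SL2

variable {G : Type u} [Group G] [Finite G] {V U : Subgroup G}

/-- the commutator map `U → V` of an element of `P` -/
def Adj.br (h : Adj V U) (a : G) (ha : a ∈ PP V) : U →* V :=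
  MonoidHom.mk' (fun x => ⟨a * x * a⁻¹ * (x : G)⁻¹, h.hyp.comm_mem ha (h.le x.2)⟩) (by
    rintro ⟨x, hx⟩ ⟨y, hy⟩
    apply Subtype.ext
    have := h.comm (h.hyp.comm_mem ha (h.le hy)) hx
    change a * (x * y) * a⁻¹ * (x * y)⁻¹ = (a * x * a⁻¹ * x⁻¹) * (a * y * a⁻¹ * y⁻¹)
    calc a * (x * y) * a⁻¹ * (x * y)⁻¹
        = (a * x * a⁻¹ * x⁻¹) * (x * (a * y * a⁻¹ * y⁻¹)) * x⁻¹ := by group
      _ = _ := by rw [← this]; group)

theorem Adj.br_val (h : Adj V U) (a : G) (ha : a ∈ PP V) (x : U) :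
    (h.br a ha x : G) = a * x * a⁻¹ * (x : G)⁻¹ := rfl

theorem Adj.conj_eq (h : Adj V U) (a : G) (ha : a ∈ PP V) (x : U) :
    a * x * a⁻¹ = h.br a ha x * x := by rw [h.br_val]; group

theorem Adj.br_mul (h : Adj V U) {a b : G} (ha : a ∈ PP V) (hb : b ∈ PP V) (x : U) :
    h.br (a * b) ((PP V).mul_mem ha hb) x = h.br a ha x * h.br b hb x := by
  apply Subtype.ext
  have e1 := conj_eq_of_mem_C (PP_le_C V ha) (h.br b hb x).2
  have e2 := h.hyp.abl.comm (h.br a ha x).2 (h.br b hb x).2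
  rw [coe_mul, e2, ← e1, h.br_val, h.br_val, h.br_val]
  group

theorem Adj.br_one (h : Adj V U) (x : U) : h.br 1 (one_mem _) x = 1 :=
  Subtype.ext (by rw [h.br_val]; simp)

theorem Adj.exists_inv (h : Adj V U) {a : G} (ha : a ∈ PP V) (hc : a ∉ C[U]) :
    ∃ b, ∃ hb : b ∈ PP U, (∀ x, h.symm.br b hb (h.br a ha x) = x) ∧
      ∀ v, h.br a ha (h.symm.br b hb v) = v := by
  obtain ⟨x₀, hx₀, hx₀1⟩ := h.exists_ne_one
  have hv₀1 : (h.br a ha ⟨x₀, hx₀⟩ : G) ≠ 1 := by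
    intro e
    rw [h.br_val, mul_inv_eq_one, mul_inv_eq_iff_eq_mul] at e
    exact hc (h.cent_of_comm ha hx₀ hx₀1 e)
  obtain ⟨b, hb, e1⟩ := h.symm.full (h.br a ha ⟨x₀, hx₀⟩).2 hv₀1 hx₀
  have e2 : H24.cj a U = H24.cj b V := by
    refine (h.hyp.cj b).eq_of_mem ((Con.symm ⟨b, rfl⟩).trans (h.con.cj a))
      (x := a * x₀ * a⁻¹) (by rwa [Ne, conj_eq_one_iff']) ?_ (conj_mem_cj a hx₀)
    have := h.conj_eq a ha ⟨x₀, hx₀⟩
    rw [this, h.comm (h.br a ha ⟨x₀, hx₀⟩).2 hx₀, ← e1]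
    exact conj_mem_cj b (h.br a ha ⟨x₀, hx₀⟩).2
  have hi := h.hyp.inf_eq_bot h.con h.ne
  have key : ∀ (x : U) (v : V), a * x * a⁻¹ = b * v * b⁻¹ →
      h.br a ha x = v ∧ h.symm.br b hb v = x := by
    intro x v e
    rw [h.conj_eq a ha, h.symm.conj_eq b hb, ← h.comm v.2 (h.symm.br b hb v).2] at e
    obtain ⟨k1, k2⟩ := mul_eq_mul_of_inf hi (h.br a ha x).2 v.2 x.2 (h.symm.br b hb v).2 e
    exact ⟨Subtype.ext k1, Subtype.ext k2.symm⟩
  refine ⟨b, hb, fun x => ?_, fun v => ?_⟩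
  · obtain ⟨v, hv, e⟩ := mem_cj'.1 (e2 ▸ conj_mem_cj a x.2)
    obtain ⟨k1, k2⟩ := key x ⟨v, hv⟩ e
    rw [k1, k2]
  · obtain ⟨x, hx, e⟩ := mem_cj'.1 (e2.symm ▸ conj_mem_cj b v.2)
    obtain ⟨k1, k2⟩ := key ⟨x, hx⟩ v e.symm
    rw [k2, k1]

theorem Adj.exists_swap (h : Adj V U) :
    ∃ (ι : U ≃* V) (a₀ : G) (ha₀ : a₀ ∈ PP V), (∀ x, h.br a₀ ha₀ x = ι x) ∧
      (∀ b (hb : b ∈ PP U), ∃ a, ∃ ha : a ∈ PP V, ∀ x, h.br a ha x = ι (h.symm.br b hb (ι x))) ∧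
      (∀ a (ha : a ∈ PP V), ∃ b, ∃ hb : b ∈ PP U, ∀ x, h.br a ha x = ι (h.symm.br b hb (ι x))) := by
  obtain ⟨x₀, hx₀, hx₀1⟩ := h.exists_ne_one
  obtain ⟨v₀, hv₀, hv₀1⟩ := h.exists_ne_one'
  obtain ⟨a₀, ha₀, e₀⟩ := h.full hx₀ hx₀1 hv₀
  have hc : a₀ ∉ C[U] := fun hc => hv₀1 (by
    rw [conj_eq_of_mem_C hc hx₀] at e₀
    exact (mul_eq_right.1 e₀.symm))
  obtain ⟨b₀, hb₀, i1, i2⟩ := h.exists_inv ha₀ hc
  let ι : U ≃* V := { toFun := h.br a₀ ha₀, invFun := h.symm.br b₀ hb₀, left_inv := i1,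
                      right_inv := i2, map_mul' := map_mul _ }
  have hι : ∀ x, h.br a₀ ha₀ x = ι x := fun _ => rfl
  set w := a₀ * b₀ * a₀ with hw
  have wU : ∀ x : U, w * x * w⁻¹ = ι x := by
    intro x
    have c1 := h.conj_eq a₀ ha₀ x
    have c2 := h.symm.conj_eq b₀ hb₀ (h.br a₀ ha₀ x)
    rw [i1] at c2
    have c3 := conj_eq_of_mem_C (PP_le_C U hb₀) x.2
    have c4 := conj_eq_of_mem_C (PP_le_C V ha₀) (h.br a₀ ha₀ x).2
    have c5 := h.comm (h.br a₀ ha₀ x).2 x.2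
    have c6 := h.hyp'.sq x x.2
    calc w * x * w⁻¹ = a₀ * b₀ * (a₀ * x * a₀⁻¹) * b₀⁻¹ * a₀⁻¹ := by rw [hw]; group
      _ = a₀ * ((b₀ * h.br a₀ ha₀ x * b₀⁻¹) * (b₀ * x * b₀⁻¹)) * a₀⁻¹ := by rw [c1]; group
      _ = a₀ * (h.br a₀ ha₀ x * (x * x)) * a₀⁻¹ := by rw [c2, c3, ← c5, mul_assoc _ (x : G)]
      _ = ι x := by rw [c6, mul_one, c4, hι]
  have wV : ∀ x : U, w * ι x * w⁻¹ = x := by
    intro x
    have c1 := h.conj_eq a₀ ha₀ x
    have c2 := h.symm.conj_eq b₀ hb₀ (h.br a₀ ha₀ x)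
    rw [i1] at c2
    have c4 := conj_eq_of_mem_C (PP_le_C V ha₀) (h.br a₀ ha₀ x).2
    have c5 := h.comm (h.br a₀ ha₀ x).2 x.2
    have c6 := h.hyp.sq _ (h.br a₀ ha₀ x).2
    calc w * ι x * w⁻¹ = a₀ * b₀ * (a₀ * h.br a₀ ha₀ x * a₀⁻¹) * b₀⁻¹ * a₀⁻¹ := by
          rw [hw, hι]; group
      _ = (a₀ * x * a₀⁻¹) * (a₀ * h.br a₀ ha₀ x * a₀⁻¹) := by
          conv_lhs => rw [c4, mul_assoc a₀ b₀, mul_assoc a₀, c2]
          group
      _ = x := by rw [c1, c4, c5, mul_assoc, c6, mul_one]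
  have hwU : H24.cj w U = V := by
    refine eq_of_card_eq (fun y hy => ?_) (by rw [card_cj, h.con.card])
    obtain ⟨x, hx, rfl⟩ := mem_cj'.1 hy
    rw [wU ⟨x, hx⟩]; exact (ι _).2
  have hwP : H24.cj w (PP U) = PP V := by rw [← PP_cj, hwU]
  have rel : ∀ b (hb : b ∈ PP U) (ha : w * b * w⁻¹ ∈ PP V) x,
      h.br _ ha x = ι (h.symm.br b hb (ι x)) := by
    intro b hb ha x
    apply Subtype.ext
    rw [← wU, h.br_val, h.symm.br_val]
    conv_lhs => rw [← wV x]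
    group
  refine ⟨ι, a₀, ha₀, hι, fun b hb => ⟨_, hwP ▸ conj_mem_cj w hb, rel b hb _⟩, fun a ha => ?_⟩
  obtain ⟨b, hb, rfl⟩ := mem_cj'.1 (hwP.symm ▸ ha)
  exact ⟨b, hb, rel b hb _⟩

theorem Adj.sl2 (h : Adj V U) (hN : (C[V ⊔ U].subgroupOf (PP V ⊔ PP U)).Normal) :
    ∃ (F : Type) (_ : Field F) (_ : Fintype F), Fintype.card F = ♯V ∧
      Nonempty (↥(PP V ⊔ PP U) ⧸ C[V ⊔ U].subgroupOf (PP V ⊔ PP U) ≃* SL(2, F)) := by
  obtain ⟨ι, a₀, ha₀, hι, sw1, sw2⟩ := h.exists_swap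
  letI : CommGroup V := { (inferInstance : Group V) with
    mul_comm := fun a b => Subtype.ext (h.hyp.abl.comm a.2 b.2) }
  let R := AddMonoid.End (Additive V)
  haveI : Finite R := DFunLike.finite _
  let σ : ∀ a ∈ PP V, R := fun a ha =>
    MonoidHom.toAdditive ((h.br a ha).comp ι.symm.toMonoidHom)
  have hσ : ∀ a ha x, σ a ha (Additive.ofMul (ι x)) = Additive.ofMul (h.br a ha x) := by
    intro a ha x
    change Additive.ofMul (h.br a ha (ι.symm (ι x))) = _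
    rw [ι.symm_apply_apply]
  have Rext : ∀ s t : R, (∀ x, s (Additive.ofMul (ι x)) = t (Additive.ofMul (ι x))) → s = t := by
    intro s t e
    refine AddMonoidHom.ext fun v => ?_
    have := e (ι.symm v.toMul)
    rwa [ι.apply_symm_apply] at this
  have htwo : ∀ v : Additive V, v + v = 0 := fun v =>
    Subtype.ext (h.hyp.sq _ v.toMul.2)
  let S : AddSubgroup R :=
    { carrier := {s | ∃ a ha, s = σ a ha}
      add_mem' := by
        rintro _ _ ⟨a, ha, rfl⟩ ⟨b, hb, rfl⟩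
        refine ⟨a * b, (PP V).mul_mem ha hb, Rext _ _ fun x => ?_⟩
        rw [hσ, h.br_mul ha hb, ofMul_mul, ← hσ, ← hσ]; rfl
      zero_mem' := ⟨1, one_mem _, Rext _ _ fun x => by rw [hσ, h.br_one]; rfl⟩
      neg_mem' := by
        rintro _ ⟨a, ha, rfl⟩
        exact ⟨a, ha, Rext _ _ fun x => neg_eq_of_add_eq_zero_left (htwo _)⟩ }
  have hJ : JF.JD S := by
    refine ⟨?_, ⟨a₀, ha₀, Rext _ _ fun x => by rw [hσ, hι]; rfl⟩, ?_⟩
    · rw [← one_add_one_eq_two]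
      exact AddMonoidHom.ext fun v => htwo v
    · rintro _ ⟨a, ha, rfl⟩ h0
      have hc : a ∉ C[U] := fun hc => h0 (Rext _ _ fun x => by
        rw [hσ]
        refine Subtype.ext ?_
        change (h.br a ha x : G) = 1
        rw [h.br_val, conj_eq_of_mem_C hc x.2, mul_inv_cancel])
      obtain ⟨b, hb, i1, i2⟩ := h.exists_inv ha hc
      obtain ⟨a', ha', e⟩ := sw1 b hb
      refine ⟨σ a' ha', ⟨a', ha', rfl⟩, Rext _ _ fun x => ?_, Rext _ _ fun x => ?_⟩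
      · change σ a ha (σ a' ha' _) = _
        rw [hσ, e, hσ, i2]; rfl
      · change σ a' ha' (σ a ha _) = _
        rw [hσ, ← ι.apply_symm_apply (h.br a ha x), hσ, e, ι.apply_symm_apply, i1]; rfl
  obtain ⟨x₀, hx₀, hx₀1⟩ := h.exists_ne_one
  have hv₀ : Additive.ofMul (ι ⟨x₀, hx₀⟩) ≠ 0 := fun e =>
    hx₀1 (congrArg Subtype.val ((map_eq_one_iff ι ι.injective).1 e))
  haveI : Nontrivial R := ⟨⟨1, 0, fun e => hv₀ (congrArg (fun s : R => s _) e)⟩⟩
  obtain ⟨F, _, _, φ, hφ, hS⟩ := hJ.exists_field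
  let e : F → V := fun t => (φ t (Additive.ofMul (ι ⟨x₀, hx₀⟩))).toMul
  have e_add : ∀ s t, e (s + t) = e s * e t := fun s t => by
    simp only [e, map_add]; rfl
  have e_mul : ∀ s t, e (s * t) = (φ s (Additive.ofMul (e t))).toMul := fun s t => by
    simp only [e, map_mul]; rfl
  have e_inj : Function.Injective e := by
    intro s t hst
    by_contra hne
    have h1 : φ (s - t) (Additive.ofMul (ι ⟨x₀, hx₀⟩)) = 0 := by
      rw [map_sub]
      exact sub_eq_zero.2 (congrArg Additive.ofMul hst)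
    apply hv₀
    have h2 := congrArg (φ (s - t)⁻¹) h1
    rw [map_zero] at h2
    rw [← h2]
    change _ = (φ (s - t)⁻¹ * φ (s - t)) _
    rw [← map_mul, inv_mul_cancel₀ (sub_ne_zero.2 hne), map_one]; rfl
  have e_surj : Function.Surjective e := by
    intro v
    obtain ⟨a, ha, e1⟩ := h.full hx₀ hx₀1 v.2
    obtain ⟨t, ht⟩ := (hS _).1 ⟨a, ha, rfl⟩
    refine ⟨t, Subtype.ext ?_⟩
    simp only [e, ht, hσ, toMul_ofMul, h.br_val, e1, mul_inv_cancel_right]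
  refine ⟨F, inferInstance, inferInstance, ?_, ?_⟩
  · rw [← Nat.card_eq_fintype_card]
    exact Nat.card_eq_of_bijective e ⟨e_inj, e_surj⟩
  have hi := h.hyp.inf_eq_bot h.con h.ne
  have actP : ∀ a ha s, φ s = σ a ha → ∀ u : Fin 2 → F,
      a * ((e (u 0) : G) * ι.symm (e (u 1))) * a⁻¹ = e (u 0 + s * u 1) * ι.symm (e (u 1)) := by
    intro a ha s hs u
    have c1 := conj_eq_of_mem_C (PP_le_C V ha) (e (u 0)).2
    have c2 := h.conj_eq a ha (ι.symm (e (u 1)))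
    have c3 : e (s * u 1) = h.br a ha (ι.symm (e (u 1))) := by
      rw [e_mul, hs]; rfl
    rw [e_add, c3, coe_mul, mul_assoc (e (u 0) : G), ← c2]
    conv_rhs => enter [1]; rw [← c1]
    group
  have actP' : ∀ b hb a ha s, (∀ x, h.br a ha x = ι (h.symm.br b hb (ι x))) → φ s = σ a ha →
      ∀ u : Fin 2 → F, b * ((e (u 0) : G) * ι.symm (e (u 1))) * b⁻¹ =
        e (u 0) * ι.symm (e (u 1 + s * u 0)) := by
    intro b hb a ha s hab hs u
    have c1 := conj_eq_of_mem_C (PP_le_C U hb) (ι.symm (e (u 1))).2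
    have c2 := h.symm.conj_eq b hb (e (u 0))
    have c3 : ι.symm (e (s * u 0)) = h.symm.br b hb (e (u 0)) := by
      rw [e_mul, hs, ← ι.apply_symm_apply (e (u 0)), hσ, hab, toMul_ofMul, ι.symm_apply_apply]
    have c4 := h.comm (e (u 0)).2 (h.symm.br b hb (e (u 0))).2
    have c5 := h.hyp'.abl.comm (ι.symm (e (u 1))).2 (h.symm.br b hb (e (u 0))).2
    rw [e_add, map_mul, c3, coe_mul, c5, ← mul_assoc (e (u 0) : G), c4, ← c2]
    conv_rhs => enter [2]; rw [← c1]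
    group
  refine sl2_of_coord (fun u => (e (u 0) : G) * ι.symm (e (u 1))) ?_ ?_ ?_ ?_ ?_ ?_ hN
  · intro u u' huu
    obtain ⟨k1, k2⟩ := mul_eq_mul_of_inf hi (e _).2 (e _).2 (ι.symm _).2 (ι.symm _).2 huu
    have k1' := e_inj (Subtype.ext k1)
    have k2' := e_inj (ι.symm.injective (Subtype.ext k2))
    ext i; fin_cases i
    · exact k1'
    · exact k2'
  · intro w
    rw [h.mem_sup]
    constructor
    · rintro ⟨v, hv, x, hx, rfl⟩
      obtain ⟨s, hs⟩ := e_surj ⟨v, hv⟩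
      obtain ⟨t, ht⟩ := e_surj (ι ⟨x, hx⟩)
      exact ⟨![s, t], by simp [hs, ht]⟩
    · rintro ⟨u, rfl⟩
      exact ⟨_, (e _).2, _, (ι.symm _).2, rfl⟩
  · intro a ha
    obtain ⟨s, hs⟩ := (hS _).1 ⟨a, ha, rfl⟩
    exact ⟨s, fun u => by simpa using actP a ha s hs u⟩
  · intro s
    obtain ⟨a, ha, hs⟩ := (hS _).2 ⟨s, rfl⟩
    exact ⟨a, ha, fun u => by simpa using actP a ha s hs u⟩
  · intro b hb
    obtain ⟨a, ha, hab⟩ := sw1 b hb
    obtain ⟨s, hs⟩ := (hS _).1 ⟨a, ha, rfl⟩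
    exact ⟨s, fun u => by simpa using actP' b hb a ha s hab hs u⟩
  · intro s
    obtain ⟨a, ha, hs⟩ := (hS _).2 ⟨s, rfl⟩
    obtain ⟨b, hb, hab⟩ := sw2 a ha
    exact ⟨b, hb, fun u => by simpa using actP' b hb a ha s hab hs u⟩

end H11.TI
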