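import Mathlib
import Cfsg.Agent.H11.Par
import Cfsg.Agent.H12.FF5

/-!
# Solvable groups of characteristic two with `C(Ω₁ Z(T)) ≤ N(T)`: the `J(T)`-components
-/

set_option autoImplicit false
set_option linter.unusedSectionVars false

namespace H11.ZN

open Subgroup Cfsg H24
open scoped commutatorElement

universe u v

section ff

variable {Γ : Type v} [Group Γ] [Finite Γ] {V H A B : Subgroup Γ}

local instance : Fact (Nat.Prime 2) := ⟨Nat.prime_two⟩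

/-- `[O(H), A]` -/
abbrev DD (H A : Subgroup Γ) : Subgroup Γ := ⁅H12.OP 2 H, A⁆

theorem OP_pi (H : Subgroup Γ) : IsPi {2}ᶜ (H12.OP 2 H) :=
  (isPi_compl_iff two_prime).2 ((Nat.Prime.coprime_iff_not_dvd two_prime).1 (H12.OP_coprime H).symm)

theorem off_pi (hA : H12.Off 2 V H A) : IsPi {2} A := isPi_of_isPGroup two_prime hA.isPGroup

theorem card_DD (h : H12.FF 2 V H) (hA : H12.Off 2 V H A) : ♯(DD H A) = 3 := by
  have h1 := h.card_EE hA
  rw [H12.card_sl_two_zmod, card_sup_of_inf (norm_comm_right _ _)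
    (((OP_pi H).of_le (H12.commutator_OP_le hA.1)).inf_eq_bot' (off_pi hA)), hA.2.2] at h1
  unfold DD
  omega

theorem EE_inf_OP (hA : H12.Off 2 V H A) : H12.EE 2 H A ⊓ H12.OP 2 H = DD H A := by
  refine le_antisymm (fun x hx => ?_) (le_inf le_sup_left (H12.commutator_OP_le hA.1))
  refine H12.mem_of_coprime_of_mem_sup (norm_comm_right _ _) hA.isPGroup
    (by rw [sup_comm]; exact hx.1) ?_
  exact Nat.Coprime.coprime_dvd_left (orderOf_dvd_card' hx.2) (H12.OP_coprime H)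

theorem norm_DD (hA : H12.Off 2 V H A) {x : Γ} (h1 : x ∈ N[H12.EE 2 H A]) (h2 : x ∈ N[H]) :
    x ∈ N[DD H A] := by
  rw [← EE_inf_OP hA]
  exact norm_inf (X := zpowers x) ((zpowers_le (G := Γ)).2 h1)
    ((zpowers_le (G := Γ)).2 (H12.normalizer_le_normalizer_OP H h2)) (mem_zpowers x)

theorem DD_eq (hA : H12.Off 2 V H A) (hB : H12.Off 2 V H B)
    (e : H12.EE 2 H A = H12.EE 2 H B) : DD H A = DD H B := by
  rw [← EE_inf_OP hA, ← EE_inf_OP hB, e]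

theorem mem_OP_of_three (h : H12.FF 2 V H) (hg : H12.Gen 2 V H) {d : Γ} (hd : d ∈ H)
    (h3 : d ^ 3 = 1) : d ∈ H12.OP 2 H := by
  have hn : H ≤ N[H12.OP 2 H] := H12.le_normalizer_OP H
  have h1 : ∀ A B, H12.Off 2 V H A → H12.Off 2 V H B → ⁅A, B⁆ ≤ H12.OP 2 H := by
    intro A B hA hB
    by_cases e : H12.EE 2 H A = H12.EE 2 H B
    · have h2 : (DD H A).relIndex (H12.EE 2 H A) = 2 := by
        have := card_mul_relIndex (le_sup_left : DD H A ≤ H12.EE 2 H A)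
        rw [card_DD h hA, h.card_EE hA, H12.card_sl_two_zmod] at this
        change 3 * (DD H A).relIndex (H12.EE 2 H A) = 6 at this
        omega
      refine le_trans ?_ ((der1_le_of_relIndex_prime (nml_sup_left (norm_comm_right _ _))
        (by rw [h2]; exact two_prime)).trans (H12.commutator_OP_le hA.1))
      exact commutator_mono le_sup_right (le_sup_right.trans e.ge)
    · exact ((commutator_mono le_sup_right le_sup_right).trans
        (h.commutator_EE_EE hA hB e).le).trans bot_le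
  have h2 : ∀ B, H12.Off 2 V H B → ⁅B, H⁆ ≤ H12.OP 2 H := fun B hB => by
    rw [commC]
    exact ((le_centQ (hB.1.trans hn)).1 (h.le_of_gen hg fun A hA =>
      (le_centQ (hB.1.trans hn)).2 ⟨hA.1.trans hn, h1 A B hA hB⟩)).2
  have h4 : ⁅H, H⁆ ≤ H12.OP 2 H :=
    ((le_centQ hn).1 (h.le_of_gen hg fun A hA => (le_centQ hn).2 ⟨hA.1.trans hn, h2 A hA⟩)).2
  have h5 := ((abl_quo hn).2 h4).le_C
  have h6 : H ≤ coq _ (omegaOne 2 (quo H (H12.OP 2 H))) := h.le_of_gen hg fun A hA x hx =>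
    mem_coq.2 ⟨hn (hA.1 hx), H12.mem_omega (cs_mem_quo (hA.1 hx) (hn (hA.1 hx))) (by
      rw [← ap_pow _ (hn (hA.1 hx)), (h.ea_of_bestOffender hA.1 hA.2.1).2 x hx, ap_one])⟩
  have h7 := ((H12.mem_omega_iff h5).1 (mem_coq.1 (h6 hd)).2).2
  rw [← cs_eq_one (hn hd)]
  have h8 : cs (H12.OP 2 H) d ^ 3 = 1 := by rw [← ap_pow _ (hn hd), h3, ap_one]
  rwa [pow_succ, h7, one_mul] at h8

theorem conj_gen_three {D : Subgroup Γ} (hD : ♯D = 3) {d x : Γ} (hd : zpowers d = D)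
    (hx : x ∈ D) : x = 1 ∨ x = d ∨ x = d⁻¹ := by
  classical
  have ho : orderOf d = 3 := by rw [← card_zpowers', hd, hD]
  rw [← hd, mem_zpowers_iff_mem_range_orderOf, ho] at hx
  obtain ⟨i, hi, rfl⟩ := Finset.mem_image.1 hx
  have h3 : d ^ 3 = 1 := ho ▸ pow_orderOf_eq_one d
  rw [Finset.mem_range] at hi
  interval_cases i
  · simp
  · simp
  · right; right
    exact eq_inv_of_mul_eq_one_left (by rw [← pow_succ, h3])

end ff

section aux

variable {X : Type u} [Group X]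

theorem conj_pow_aux {t c g : X} (h : t * c * t⁻¹ = g * c) (hc : Commute t g) (n : ℕ) :
    t ^ n * c * (t ^ n)⁻¹ = g ^ n * c := by
  induction n with
  | zero => simp
  | succ n ih =>
    calc t ^ (n + 1) * c * (t ^ (n + 1))⁻¹ = t * (t ^ n * c * (t ^ n)⁻¹) * t⁻¹ := by group
      _ = (t * g ^ n) * t⁻¹ * (t * c * t⁻¹) := by rw [ih]; group
      _ = g ^ (n + 1) * c := by rw [(hc.pow_right n).eq, h]; group

end aux

variable {G : Type u} [Group G] [Finite G] {Γ : Type v} [Group Γ] [Finite Γ]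

/-- the subgroup generated by the elements of order three -/
def KP (P : Subgroup G) : Subgroup G := closure {g | g ∈ P ∧ g ^ 3 = 1}

omit [Finite G] in
theorem KP_le (P : Subgroup G) : KP P ≤ P := (closure_le _).2 fun _ h => h.1

omit [Finite G] in
theorem N_le_N_KP (P : Subgroup G) : N[P] ≤ N[KP P] :=
  norm_closure fun a ha s hs => subset_closure ⟨conj_mem ha hs.1, by rw [conj_pow, hs.2]; group⟩

omit [Finite G] in
theorem KP_map {G' : Type v} [Group G'] {f : G →* G'} (hf : Function.Injective f)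
    (P : Subgroup G) : KP (P.map f) = (KP P).map f := by
  unfold KP
  rw [MonoidHom.map_closure]
  congr 1
  ext y
  constructor
  · rintro ⟨⟨x, hx, rfl⟩, h3⟩
    exact ⟨x, ⟨hx, hf (by rw [map_pow, h3, map_one])⟩, rfl⟩
  · rintro ⟨x, ⟨hx, h3⟩, rfl⟩
    exact ⟨⟨x, hx, rfl⟩, by rw [← map_pow, h3, map_one]⟩

theorem mem_of_three {N P T : Subgroup G} (hN : N ⊴ P) (hT : IsPi {2} T) (hTP : T ≤ P)
    (h : P ≤ N ⊔ T) {g : G} (hg : g ∈ P) (h3 : g ^ 3 = 1) : g ∈ N := by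
  refine le_of_idx_compl' (π := {2}) hN ?_ (PiElt.isPi (piElt_of_pow_eq_one
    ((piNat_compl_singleton two_prime).2 (by norm_num)) h3)) ((zpowers_le (G := G)).2 hg)
    (mem_zpowers g)
  have := (hN.isProd_sup hTP).relIndex_dvd
  rw [le_antisymm (sup_le hN.le hTP) h] at this
  exact hT.piNat.dvd this

theorem KP_eq {N P T : Subgroup G} (hN : N ⊴ P) (hT : IsPi {2} T) (hTP : T ≤ P)
    (h : P ≤ N ⊔ T) : KP N = KP P :=
  le_antisymm (closure_mono fun _ hg => ⟨hN.le hg.1, hg.2⟩)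
    (closure_mono fun _ hg => ⟨mem_of_three hN hT hTP h hg.1 hg.2, hg.2⟩)

theorem Par.mk' {T P : Subgroup G} (le : T ≤ P) (two : IsPi {2} T) (idx : T.relIndex P = 3)
    (nn : ¬ P ≤ N[T]) (hc : P ⊓ C[Q2 P] ≤ Q2 P) (hz : ¬ P ≤ C[OZ T]) : Par T P := by
  refine ⟨le, two, idx, nn, ?_⟩
  have hQ : Q2 P ≤ T := pcore_le_Hall (Syl.mk' two_prime le two (by rw [idx]; norm_num))
  have hn : P ⊓ C[OZ (Q2 P)] ⊴ P :=
    ⟨inf_le_left, norm_inf (norm_self P) (norm_C (norm_OZ (pcore_nml _ P).norm))⟩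
  have e : OZ T ≤ OZ (Q2 P) := fun z hz => mem_OZ.2
    ⟨hc ⟨le (OZ_le _ hz), C_anti hQ (OZ_le_C _ hz)⟩, C_anti hQ (OZ_le_C _ hz), (mem_OZ.1 hz).2.2⟩
  rcases covBy_eq_or (covBy_of_relIndex_prime le (by rw [idx]; norm_num))
    (le_sup_right : T ≤ P ⊓ C[OZ (Q2 P)] ⊔ T) (sup_le inf_le_left le) with e' | e'
  · exact pcore_max (two.of_le (le_sup_left.trans e'.le)) hn
  · exact absurd (e'.ge.trans (sup_le (inf_le_right.trans (C_anti e)) (le_C_OZ T))) hz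

local instance : Fact (Nat.Prime 2) := ⟨Nat.prime_two⟩

/-- image of the Thompson subgroup -/
abbrev HH (ρ : G →* Γ) : Subgroup Γ := (thompsonSubgroup 2 G).map ρ

/-- the quotient map modulo `O₂(G)` -/
abbrev pr (G : Type u) [Group G] : G →* G ⧸ pCore 2 G := QuotientGroup.mk' (pCore 2 G)

/-- the local hypothesis together with the action on `⟨Ω₁ Z(T)^G⟩` -/
structure Ctx (T : Subgroup G) (ι : H12.ZV 2 G →* Γ) (ρ : G →* Γ) : Prop where
  syl : Syl 2 ⊤ T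
  chr : C[pCore 2 G] ≤ pCore 2 G
  cz : C[OZ T] ≤ N[T]
  hol : H12.Hol (H12.ZV 2 G) ι ρ
  ff : H12.FF 2 ι.range (HH ρ)
  gen : H12.Gen 2 ι.range (HH ρ)

variable {T : Subgroup G} {ι : H12.ZV 2 G →* Γ} {ρ : G →* Γ}

omit [Finite G] in
theorem pr_eq_one {x : G} : pr G x = 1 ↔ x ∈ pCore 2 G := QuotientGroup.eq_one_iff x

theorem R_pi : IsPi {2} (pCore 2 G) := isPi_of_isPGroup two_prime (H2.pCore_isPGroup 2 G)

omit [Finite Γ] in
theorem Ctx.R_le (h : Ctx T ι ρ) : pCore 2 G ≤ T := h.syl.nml_le R_pi (nml_top _)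

omit [Finite G] [Finite Γ] in
theorem Ctx.V_le (h : Ctx T ι ρ) : H12.ZV 2 G ≤ Z[pCore 2 G] := H12.ZV_le_of_centralizer_le h.chr

omit [Finite G] [Finite Γ] in
theorem Ctx.rho_R (h : Ctx T ι ρ) {x : G} (hx : x ∈ pCore 2 G) : ρ x = 1 := by
  rw [← MonoidHom.mem_ker, h.hol.ker]
  exact cents_symm (h.V_le.trans inf_le_right) hx

omit [Finite Γ] in
theorem Ctx.ker_le (h : Ctx T ι ρ) : ρ.ker ≤ N[T] := by
  obtain ⟨S, rfl⟩ := h.syl.exists_sylow_top two_prime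
  rw [h.hol.ker]
  exact (C_anti (H12.omega_center_le_ZV S)).trans h.cz

omit [Finite Γ] in
theorem Ctx.mem_T (h : Ctx T ι ρ) {x : G} (hx : x ∈ N[T]) (h2 : PiElt {2} x) : x ∈ T :=
  h.syl.le_of_norm h2.isPi le_top ((zpowers_le (G := G)).2 hx) (mem_zpowers x)

omit [Finite Γ] in
theorem Ctx.mem_R (h : Ctx T ι ρ) {x : G} (hx : ρ x = 1) (hT : x ∈ T) : x ∈ pCore 2 G := by
  have h1 : Syl 2 ρ.ker (T ⊓ ρ.ker) := h.syl.inf_nml (nml_top _)
  have h2 := h1.pcore_eq (norm_inf h.ker_le (norm_self _))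
  rw [← pcore_singleton_top two_prime]
  exact (nml_top ρ.ker).pcore_le _ (h2 ▸ (mem_inf.2 ⟨hT, hx⟩ : x ∈ T ⊓ ρ.ker))

omit [Finite Γ] in
theorem Ctx.pr_eq_one (h : Ctx T ι ρ) {x : G} (hx : ρ x = 1) {k : ℕ} (hk : pr G x ^ 2 ^ k = 1) :
    pr G x = 1 := by
  rw [← map_pow, ZN.pr_eq_one] at hk
  obtain ⟨j, hj⟩ := (R_pi.piElt hk).exists_pow two_prime
  have h2 : PiElt {2} x := piElt_of_pow_eq_one (piNat_self_pow two_prime (k + j))
    (by rw [pow_add, pow_mul, ← hj, pow_orderOf_eq_one])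
  exact ZN.pr_eq_one.2 (h.mem_R hx (h.mem_T (h.ker_le hx) h2))

omit [Finite Γ] in
theorem Ctx.pr_eq_one' (h : Ctx T ι ρ) {x : G} (hx : ρ x = 1) (hk : pr G x * pr G x = 1) :
    pr G x = 1 := h.pr_eq_one hx (k := 1) (by rw [pow_one, sq, hk])

omit [Finite Γ] in
theorem Ctx.comm (h : Ctx T ι ρ) {x t : G} (hx : ρ x = 1) (ht : t ∈ T) (g : G) :
    Commute (pr G x) (pr G (g * t * g⁻¹)) := by
  have key : ∀ x, ρ x = 1 → Commute (pr G x) (pr G t) := fun x hx => by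
    have : pr G (x * t * x⁻¹ * t⁻¹) = 1 := ZN.pr_eq_one.2 (h.mem_R (by simp [hx])
      (mul_mem (conj_mem (h.ker_le hx) ht) (inv_mem ht)))
    rw [map_mul, map_mul, map_mul, map_inv, map_inv] at this
    exact commutatorElement_eq_one_iff_commute.1 this
  have := (key (g⁻¹ * x * g) (by simp [hx])).eq
  simp only [map_mul, map_inv] at this ⊢
  rw [commute_iff_eq]
  calc pr G x * (pr G g * pr G t * (pr G g)⁻¹)
      = pr G g * ((pr G g)⁻¹ * pr G x * pr G g * pr G t) * (pr G g)⁻¹ := by group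
    _ = _ := by rw [this]; group

omit [Finite Γ] in
theorem Ctx.comm' (h : Ctx T ι ρ) {x t : G} (hx : ρ x = 1) (ht : t ∈ T) :
    Commute (pr G x) (pr G t) := by simpa using h.comm hx ht 1

omit [Finite Γ] in
theorem Ctx.act_cent (h : Ctx T ι ρ) {c t : G} (ht : t ∈ T) (hc : Commute (ρ t) (ρ c)) :
    Commute (pr G t) (pr G c) := by
  have h1 : ρ (t * c * t⁻¹ * c⁻¹) = 1 := by
    rw [map_mul, map_mul, map_mul, map_inv, map_inv]
    exact commutatorElement_eq_one_iff_commute.2 hc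
  obtain ⟨k, hk⟩ := (h.syl.pi.piElt ht).exists_pow two_prime
  have h2 := conj_pow_aux (t := pr G t) (c := pr G c) (g := pr G (t * c * t⁻¹ * c⁻¹))
    (by simp) (h.comm' h1 ht).symm (2 ^ k)
  rw [← map_pow, ← hk, pow_orderOf_eq_one, map_one, one_mul, inv_one, mul_one, hk,
    right_eq_mul] at h2
  have h3 := h.pr_eq_one h1 h2
  rw [map_mul, map_mul, map_mul, map_inv, map_inv] at h3
  exact commutatorElement_eq_one_iff_commute.1 h3

/-- data of a component -/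
structure Cp (T : Subgroup G) (ι : H12.ZV 2 G →* Γ) (ρ : G →* Γ) (B : Subgroup Γ) (c t : G) :
    Prop where
  off : H12.Off 2 ι.range (HH ρ) B
  gen : zpowers (ρ c) = DD (HH ρ) B
  tJ : t ∈ JJ T
  tB : ρ t ∈ B
  inv : t * c * t⁻¹ = c⁻¹
  cC : ∀ x, ρ x = 1 → Commute (pr G x) (pr G c)

variable {B B' : Subgroup Γ} {c t c' t' : G}

theorem Cp.ord (h : Ctx T ι ρ) (hc : Cp T ι ρ B c t) : orderOf (ρ c) = 3 := by
  rw [← card_zpowers', hc.gen, card_DD h.ff hc.off]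

theorem Cp.rho_three (h : Ctx T ι ρ) (hc : Cp T ι ρ B c t) : ρ c ^ 3 = 1 :=
  hc.ord h ▸ pow_orderOf_eq_one _

theorem Cp.rho_ne (h : Ctx T ι ρ) (hc : Cp T ι ρ B c t) : ρ c ≠ 1 := fun e => by
  have := hc.ord h
  rw [e, orderOf_one] at this
  exact absurd this (by norm_num)

theorem Cp.rho_sq_ne (h : Ctx T ι ρ) (hc : Cp T ι ρ B c t) : ρ c * ρ c ≠ 1 := fun e => by
  have := hc.rho_three h
  rw [pow_succ, sq, e, one_mul] at this
  exact hc.rho_ne h this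

theorem Cp.not_pi (h : Ctx T ι ρ) (hc : Cp T ι ρ B c t) : ¬ PiElt {2} c := fun e =>
  hc.rho_ne h (pow_three_eq_one_of_pi (e.map ρ) (hc.rho_three h))

theorem Cp.not_pi_sq (h : Ctx T ι ρ) (hc : Cp T ι ρ B c t) : ¬ PiElt {2} (c * c) := fun e =>
  hc.rho_sq_ne h (pow_three_eq_one_of_pi (by simpa using e.map ρ)
    (by rw [← sq, ← pow_mul, mul_comm, pow_mul, hc.rho_three h, one_pow]))

omit [Finite G] [Finite Γ] in
theorem Cp.tT (hc : Cp T ι ρ B c t) : t ∈ T := JJ_le T hc.tJ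

omit [Finite G] [Finite Γ] in
theorem Cp.pr_inv (hc : Cp T ι ρ B c t) : pr G t * pr G c * (pr G t)⁻¹ = (pr G c)⁻¹ := by
  rw [← map_inv, ← map_mul, ← map_mul, hc.inv, map_inv]

omit [Finite G] [Finite Γ] in
theorem Cp.rho_inv (hc : Cp T ι ρ B c t) : ρ t * ρ c * (ρ t)⁻¹ = (ρ c)⁻¹ := by
  rw [← map_inv, ← map_mul, ← map_mul, hc.inv, map_inv]

theorem Cp.pr_three (h : Ctx T ι ρ) (hc : Cp T ι ρ B c t) : pr G c ^ 3 = 1 := by
  have h1 : ρ (c ^ 3) = 1 := by rw [map_pow, hc.rho_three h]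
  rw [← map_pow]
  refine h.pr_eq_one' h1 ?_
  have h2 := (h.comm' h1 hc.tT).eq
  have h3 : pr G t * pr G (c ^ 3) * (pr G t)⁻¹ = (pr G (c ^ 3))⁻¹ := by
    rw [map_pow, ← conj_pow, hc.pr_inv, inv_pow]
  rw [← h2, mul_inv_cancel_right] at h3
  exact mul_eq_one_iff_eq_inv.2 h3

theorem Cp.act (h : Ctx T ι ρ) (hc : Cp T ι ρ B c t) {s : G} (hs : s ∈ T)
    (hn : ρ s ∈ N[DD (HH ρ) B]) :
    (Commute (ρ s) (ρ c) ∧ Commute (pr G s) (pr G c)) ∨
      pr G s * pr G c * (pr G s)⁻¹ = (pr G c)⁻¹ := by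
  rcases conj_gen_three (card_DD h.ff hc.off) hc.gen
    (conj_mem hn (hc.gen ▸ mem_zpowers (ρ c))) with e | e | e
  · exact absurd (conj_eq_one_iff'.1 e) (hc.rho_ne h)
  · have : Commute (ρ s) (ρ c) := mul_inv_eq_iff_eq_mul.1 e
    exact Or.inl ⟨this, h.act_cent hs this⟩
  · right
    have h1 : Commute (ρ (t⁻¹ * s)) (ρ c) := by
      rw [commute_iff_eq, ← mul_inv_eq_iff_eq_mul, map_mul, map_inv]
      calc (ρ t)⁻¹ * ρ s * ρ c * ((ρ t)⁻¹ * ρ s)⁻¹ = (ρ t)⁻¹ * (ρ s * ρ c * (ρ s)⁻¹) * ρ t := by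
            group
        _ = ρ c := by rw [e, ← hc.rho_inv]; group
    have h2 := (h.act_cent (mul_mem (inv_mem hc.tT) hs) h1).eq
    rw [map_mul, map_inv] at h2
    rw [← hc.pr_inv]
    calc pr G s * pr G c * (pr G s)⁻¹
        = pr G t * ((pr G t)⁻¹ * pr G s * pr G c) * (pr G s)⁻¹ := by group
      _ = _ := by rw [h2]; group

/-- `⟨c⟩ O₂(G)` -/
def Fc (c : G) : Subgroup G := (zpowers (pr G c)).comap (pr G)

/-- the stabilizer in `T` of the component -/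
def T1 (T : Subgroup G) (ρ : G →* Γ) (B : Subgroup Γ) : Subgroup G :=
  T ⊓ N[DD (HH ρ) B].comap ρ

omit [Finite G] in
theorem mem_Fc (c : G) : c ∈ Fc c := mem_zpowers (pr G c)

omit [Finite G] in
theorem R_le_Fc (c : G) : pCore 2 G ≤ Fc c := fun x hx => by
  rw [Fc, mem_comap, pr_eq_one.2 hx]; exact one_mem _

theorem mem_N_Fc {g : G} (h : pr G g * pr G c * (pr G g)⁻¹ ∈ zpowers (pr G c)) : g ∈ N[Fc c] := by
  refine mem_N_of_finite fun x hx => ?_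
  obtain ⟨k, hk⟩ := mem_zpowers_iff.1 (mem_comap.1 hx)
  rw [Fc, mem_comap, map_mul, map_mul, map_inv, ← hk, ← conj_zpow]
  exact zpow_mem h k

omit [Finite G] in
theorem Fc_le {X : Subgroup G} (h1 : pCore 2 G ≤ X) (h2 : c ∈ X) : Fc c ≤ X := fun x hx => by
  obtain ⟨k, hk⟩ := mem_zpowers_iff.1 (mem_comap.1 hx)
  have : (c ^ k)⁻¹ * x ∈ pCore 2 G := pr_eq_one.1 (by rw [map_mul, map_inv, map_zpow, hk]; simp)
  simpa using X.mul_mem (X.zpow_mem h2 k) (h1 this)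

theorem Cp.T1_norm (h : Ctx T ι ρ) (hc : Cp T ι ρ B c t) : T1 T ρ B ≤ N[Fc c] := fun s hs => by
  refine mem_N_Fc ?_
  rcases hc.act h hs.1 hs.2 with e | e
  · rw [e.2.eq, mul_inv_cancel_right]; exact mem_zpowers _
  · rw [e]; exact inv_mem (mem_zpowers _)

omit [Finite Γ] in
theorem Ctx.R_le_T1 (h : Ctx T ι ρ) : pCore 2 G ≤ T1 T ρ B := fun x hx =>
  mem_inf.2 ⟨h.R_le hx, by rw [mem_comap, h.rho_R hx]; exact one_mem _⟩

omit [Finite Γ] in
theorem Ctx.J_le (h : Ctx T ι ρ) : JJ T ≤ thompsonSubgroup 2 G := by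
  obtain ⟨S, rfl⟩ := h.syl.exists_sylow_top two_prime
  exact H12.J_sylow_le S

theorem Ctx.J_le_T1 (h : Ctx T ι ρ) (hB : H12.Off 2 ι.range (HH ρ) B) : JJ T ≤ T1 T ρ B :=
  fun x hx => ⟨JJ_le T hx, norm_DD hB (h.ff.le_normalizer_EE h.gen hB ⟨x, h.J_le hx, rfl⟩)
    (norm_self (HH ρ) ⟨x, h.J_le hx, rfl⟩)⟩

omit [Finite G] [Finite Γ] in
theorem rho_mem_N (x : G) : ρ x ∈ N[HH ρ] :=
  norm_map (norm_of_normal ⊤ (thompsonSubgroup 2 G)) ρ ⟨x, trivial, rfl⟩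

theorem Ctx.exists_v (h : Ctx T ι ρ) (hB : H12.Off 2 ι.range (HH ρ) B) :
    ∃ v : H12.ZV 2 G, ι v ≠ 1 ∧ ι v ∈ ⁅ι.range, DD (HH ρ) B⁆ ∧ (v : G) ∈ OZ (T1 T ρ B) := by
  have h1 : ♯⁅ι.range, DD (HH ρ) B⁆ = 2 ^ 2 := by
    rw [h.ff.commutator_commutator_OP hB, h.ff.card_commutator_EE hB]
  have h2 := IsPi.inf_C_ne_bot two_prime ((h.syl.pi.of_le (inf_le_left : T1 T ρ B ≤ T)).map ρ)
    (isPi_of_card two_prime h1) (norm_comm (h.hol.map_le_normalizer _)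
      (map_le_iff_le_comap.2 inf_le_right)) (by rw [Ne, ← card_eq_one', h1]; norm_num)
  obtain ⟨w, hw, hw1⟩ := exists_ne_one h2
  obtain ⟨v, rfl⟩ := comm_le_left (((H12.commutator_OP_le hB.1).trans (H12.OP_le _)).trans
    h.ff.norm) hw.1
  exact ⟨v, hw1, hw.1, mem_OZ.2 ⟨h.R_le_T1 (h.V_le v.2).1,
    (h.hol.map_mem_centralizer_iff v).1 hw.2, (H12.ea_ZV h.chr).2 _ v.2⟩⟩

theorem Ctx.Bm_le_T1 (h : Ctx T ι ρ) (hB : H12.Off 2 ι.range (HH ρ) B) : Bm T ≤ T1 T ρ B := by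
  obtain ⟨v, hv1, hv2, hv3⟩ := h.exists_v hB
  have hv4 : (v : G) ∈ OZ (JJ T) := by
    rw [← JJ_eq (h.J_le_T1 hB) inf_le_left]
    exact H12.omega_center_le_omega_center_J _ hv3
  intro b hb
  refine ⟨hb.1, norm_DD hB ?_ (rho_mem_N b)⟩
  have hB' := hB.conj (h.hol.mem_normalizer b) (rho_mem_N b)
  have e := H12.conj_EE (p := 2) (rho_mem_N (ρ := ρ) b) B
  rw [← cj_eq_smul] at e
  rw [mem_N_iff_cj, e]
  by_contra hne
  rw [h.ff.commutator_commutator_OP hB] at hv2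
  have h1 := h.ff.EE_le_centralizer_of_ne hB' hB hne
  have h2 : ι v ∈ C{ρ b} := by
    rw [← C_zpowers, ← MonoidHom.map_zpowers, h.hol.map_mem_centralizer_iff, C_zpowers,
      mem_C1_comm]
    exact C_le_C1 hv4 hb.2
  rw [← e, ← cj_of_mem_N (h.hol.mem_normalizer b), ← cj_comm] at h1
  have h3 := conj_mem_cj (ρ b) hv2
  rw [mem_C1_iff_conj.1 (mem_C1_comm.1 h2)] at h3
  exact hv1 (mem_bot.1 (h.ff.commutator_EE_inf hB ▸
    (mem_inf.2 ⟨hv2, mem_inf.2 ⟨⟨v, rfl⟩, cents_symm h1 h3⟩⟩)))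

theorem Cp.not_norm (h : Ctx T ι ρ) (hc : Cp T ι ρ B c t) {X : Subgroup G} (hX : IsPi {2} X)
    (ht : t ∈ X) : c ∉ N[X] := fun e => by
  have h1 := mul_mem (conj_mem e ht) (inv_mem ht)
  have h2 : c * t * c⁻¹ * t⁻¹ = c * c := by
    calc c * t * c⁻¹ * t⁻¹ = c * (t * c * t⁻¹)⁻¹ := by group
      _ = c * c := by rw [hc.inv, inv_inv]
  exact hc.not_pi_sq h (h2 ▸ hX.piElt h1)

theorem Cp.par (h : Ctx T ι ρ) (hc : Cp T ι ρ B c t) : Par (T1 T ρ B) (Fc c ⊔ T1 T ρ B) := by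
  have hT : IsPi {2} (T1 T ρ B) := h.syl.pi.of_le inf_le_left
  have hR : pCore 2 G ≤ Q2 (Fc c ⊔ T1 T ρ B) :=
    pcore_max' R_pi (h.R_le_T1.trans le_sup_right) (norm_of_normal _ _)
  refine Par.mk' le_sup_right hT ?_
    (fun e => hc.not_norm h hT (h.J_le_T1 hc.off hc.tJ) (e (mem_sup_left (mem_Fc c))))
    (inf_le_right.trans ((C_anti hR).trans (h.chr.trans hR))) fun e => ?_
  · rw [sup_comm, relIndex_sup_of_norm' (hc.T1_norm h), ← inf_relIndex_right]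
    have e1 : T1 T ρ B ⊓ Fc c = (pr G).ker := by
      rw [QuotientGroup.ker_mk']
      refine le_antisymm (fun x hx => ?_) (le_inf h.R_le_T1 (R_le_Fc c))
      obtain ⟨k, hk⟩ := mem_zpowers_iff.1 (mem_comap.1 hx.2)
      refine pr_eq_one.1 (pow_three_eq_one_of_pi ((hT.piElt hx.1).map _) ?_)
      rw [← hk, ← zpow_natCast, ← zpow_mul, mul_comm, zpow_mul, zpow_natCast, hc.pr_three h,
        one_zpow]
    rw [e1, relIndex_ker, Fc, map_comap_eq_self_of_surjective (QuotientGroup.mk'_surjective _),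
      card_zpowers']
    refine orderOf_eq_prime (hc.pr_three h) fun e => hc.rho_ne h (h.rho_R (pr_eq_one.1 e))
  · obtain ⟨v, hv1, hv2, hv3⟩ := h.exists_v hc.off
    have h1 : ι v ∈ C[DD (HH ρ) B] := by
      rw [← hc.gen, ← MonoidHom.map_zpowers, h.hol.map_mem_centralizer_iff, C_zpowers,
        mem_C1_comm]
      exact C_le_C1 hv3 (e (mem_sup_left (mem_Fc c)))
    exact hv1 (mem_bot.1 (h.ff.centralizer_inf_commutator (H12.commutator_OP_le hc.off.1) ▸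
      (mem_inf.2 ⟨mem_inf.2 ⟨⟨v, rfl⟩, h1⟩, hv2⟩)))

theorem Cp.exists_N (h : Ctx T ι ρ) (hc : Cp T ι ρ B c t) :
    ∃ N, N ⊴ Fc c ⊔ T1 T ρ B ∧ Fc c ⊔ T1 T ρ B ≤ N ⊔ T1 T ρ B ∧ Par (Bm T) N ∧
      ¬ N ≤ N[JJ T] ∧ ∀ P, Par (Bm T) P → P ≤ Fc c ⊔ T1 T ρ B → P = N := by
  have hp := hc.par h
  have eJ := JJ_eq (h.J_le_T1 hc.off) (inf_le_left : T1 T ρ B ≤ T)
  have eB := Bm_eq (h.Bm_le_T1 hc.off) (inf_le_left : T1 T ρ B ≤ T)
  have hJ : ¬ Fc c ⊔ T1 T ρ B ≤ N[JJ T] := fun e =>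
    hc.not_norm h (h.syl.pi.of_le (JJ_le T)) hc.tJ (e (mem_sup_left (mem_Fc c)))
  obtain ⟨N, h1, h2, h3⟩ := hp.baumann (by rwa [eJ])
  rw [eB] at h2 h3
  obtain ⟨n, hn, hn'⟩ := h3.exists_not_mem
  have h4 : Fc c ⊔ T1 T ρ B ≤ N ⊔ T1 T ρ B :=
    hp.gen (h1.le hn) (fun e => hn' (h2 ▸ mem_inf.2 ⟨hn, e⟩)) le_sup_right (mem_sup_left hn)
  refine ⟨N, h1, h4, h3, fun e => hJ (h4.trans (sup_le e
    (inf_le_left.trans ((norm_self T).trans (N_le_N_JJ T))))), fun P hP hle => ?_⟩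
  obtain ⟨d, hd, ho, hd'⟩ := hP.exists_three
  have h5 : P ≤ N := hP.gen hd hd' h3.le
    (mem_of_three h1 hp.two hp.le h4 (hle hd) (ho ▸ pow_orderOf_eq_one d))
  exact (h3.eq_or hP.le h5).resolve_left fun e => hP.not_le e.le

end H11.ZN
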