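import Mathlib
import Cfsg.Agent.H11.ZNLocal

/-!
# The `J(T)`-components, continued
-/

set_option autoImplicit false
set_option linter.unusedSectionVars false

namespace H11.ZN

open Subgroup Cfsg H24
open scoped commutatorElement

universe u v

local instance : Fact (Nat.Prime 2) := ⟨Nat.prime_two⟩

variable {G : Type u} [Group G] [Finite G] {Γ : Type v} [Group Γ] [Finite Γ]
variable {T : Subgroup G} {ι : H12.ZV 2 G →* Γ} {ρ : G →* Γ} {B B' : Subgroup Γ} {c t c' t' : G}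

theorem Ctx.mk_cp (h : Ctx T ι ρ) (hB : H12.Off 2 ι.range (HH ρ) B) {A : Subgroup G}
    (hA : H12.MaxEA 2 T A) (hBA : B ≤ A.map ρ) {y : G} (hy : ρ y ∈ H12.OP 2 (HH ρ))
    (hy' : ρ y ∉ C[B]) : ∃ t ∈ A, Cp T ι ρ B (y * t * y⁻¹ * t⁻¹) t := by
  obtain ⟨b, hb, hb1, e⟩ := H12.exists_eq_zpowers_of_card_prime hB.prime
  obtain ⟨t, ht, rfl⟩ := hBA hb
  have h2 : t * t = 1 := by rw [← sq]; exact hA.ea.2 t ht
  have h3 : t⁻¹ = t := inv_eq_of_mul_eq_one_right h2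
  refine ⟨t, ht, hB, ?_, hA.le_J ht, hb, ?_, fun x hx => ?_⟩
  · refine zpowers_eq_of_prime (by rw [card_DD h.ff hB]; norm_num) ?_ ?_
    · simp only [map_mul, map_inv]
      exact commutator_mem_commutator hy hb
    · simp only [map_mul, map_inv]
      exact hB.comm_ne_one hy' hb hb1
  · rw [h3]
    calc t * (y * t * y⁻¹ * t) * t = t * y * t * y⁻¹ * (t * t) := by group
      _ = (y * t⁻¹ * y⁻¹ * t⁻¹)⁻¹ := by rw [h2]; group
      _ = _ := by rw [h3]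
  · rw [map_mul]
    exact (h.comm hx (hA.le ht) y).mul_right (h.comm' hx (inv_mem (hA.le ht)))

theorem Ctx.maxEA_off (h : Ctx T ι ρ) {A : Subgroup G} (hA : H12.MaxEA 2 T A) :
    A.map ρ ≤ sSup {B | B ≤ A.map ρ ∧ H12.Off 2 ι.range (HH ρ) B} :=
  (h.ff.eq_sSup (map_mono (hA.le_J.trans h.J_le)) (h.hol.bestOffender
    (hA.bestOffender (h.V_le.trans (inf_le_left.trans h.R_le)) (H12.ea_ZV h.chr)))).ge

theorem Ctx.cp_of_par (h : Ctx T ι ρ) {P : Subgroup G} (hP : Par (Bm T) P) (hJ : ¬ P ≤ N[JJ T]) :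
    ∃ B c t, Cp T ι ρ B c t ∧ c ∈ P := by
  obtain ⟨A, hA, hAQ⟩ := hP.exists_maxEA (by rwa [JJ_Bm])
  have hA' := (H12.maxEA_iff_of_J_le (JJ_le_Bm T) (Bm_le T)).1 hA
  obtain ⟨a, ha, haQ⟩ := SetLike.not_le_iff_exists.1 hAQ
  obtain ⟨d, hd, ho, hdB⟩ := hP.exists_three
  have h3 : d ^ 3 = 1 := ho ▸ pow_orderOf_eq_one d
  have hn : P ⊓ thompsonSubgroup 2 G ⊴ P := nml_inf_of_norm (norm_of_normal _ _)
  have haP := hP.le (hA.le ha)
  obtain ⟨g, hg, hgP, hgB⟩ := hP.not_le_T hn.norm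
    fun e => haQ (e ⟨⟨haP, h.J_le (hA'.le_J ha)⟩, haP⟩)
  have hd' := mem_of_three hn hP.two hP.le
    (hP.gen hgP hgB le_sup_right (mem_sup_left hg)) hd h3
  have hO := mem_OP_of_three h.ff h.gen (d := ρ d) ⟨d, hd'.2, rfl⟩ (by rw [← map_pow, h3, map_one])
  by_cases e : ∃ B, B ≤ A.map ρ ∧ H12.Off 2 ι.range (HH ρ) B ∧ ρ d ∉ C[B]
  · obtain ⟨B, h1, h2, h4⟩ := e
    obtain ⟨t, ht, hc⟩ := h.mk_cp h2 hA' h1 hO h4
    have := hP.le (hA.le ht)
    exact ⟨B, _, t, hc, mul_mem (conj_mem (norm_self P hd) this) (inv_mem this)⟩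
  · push Not at e
    have h1 : ρ a ∈ C{ρ d} := (h.maxEA_off hA').trans
      (sSup_le fun B hB => mem_C_iff_le_C1.1 (e B hB.1 hB.2)) ⟨a, ha, rfl⟩
    have h2 : ρ (d * a * d⁻¹ * a⁻¹) = 1 := by
      simp only [map_mul, map_inv]; rw [← mem_C1.1 h1]; group
    have a2 : a * a = 1 := by rw [← sq]; exact hA.ea.2 a ha
    have h4 := h.pr_eq_one' h2 (by
      have := (h.comm' h2 (hA'.le ha)).eq
      have a3 : pr G a * pr G a = 1 := by rw [← map_mul, a2, map_one]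
      have a4 : pr G (d * a * d⁻¹ * a⁻¹) * pr G a * (pr G (d * a * d⁻¹ * a⁻¹) * pr G a) = 1 := by
        rw [← map_mul, ← map_mul]
        have : d * a * d⁻¹ * a⁻¹ * a * (d * a * d⁻¹ * a⁻¹ * a) = d * (a * a) * d⁻¹ := by group
        rw [this, a2]; simp
      generalize pr G (d * a * d⁻¹ * a⁻¹) = x at this a4
      calc x * x = x * x * (pr G a * pr G a) := by rw [a3, mul_one]
        _ = x * (x * pr G a) * pr G a := by group
        _ = 1 := by rw [this, ← a4]; group)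
    have h5 : d * a * d⁻¹ ∈ T := by
      simpa using T.mul_mem (h.R_le (ZN.pr_eq_one.1 h4)) (hA'.le ha)
    have h6 : d * a * d⁻¹ ∈ Bm T := by
      rw [← hP.syl.eq_of_le (h.syl.pi.of_le inf_le_left) (le_inf (Bm_le T) hP.le) inf_le_right]
      exact ⟨h5, conj_mem (norm_self P hd) haP⟩
    exact absurd ((conj_mem_iff (hP.normQ hd)).1
      (hP.mem_Q_of_cj hd hdB h6 (conj_mem_cj d (hA.le ha)))) haQ

theorem Cp.mem_Fc (h : Ctx T ι ρ) (hc : Cp T ι ρ B c t) (hc' : Cp T ι ρ B' c' t')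
    (e : DD (HH ρ) B = DD (HH ρ) B') : c' ∈ Fc c := by
  have h1 : pr G t' * pr G c * (pr G t')⁻¹ = (pr G c)⁻¹ := by
    refine (hc.act h hc'.tT (h.J_le_T1 hc.off hc'.tJ).2).resolve_left fun e' => hc'.rho_sq_ne h ?_
    have : ρ t' ∈ C{ρ c'} := by
      rw [← C_zpowers, hc'.gen, ← e, ← hc.gen, C_zpowers]; exact mem_C1.2 e'.1.eq
    have h2 := hc'.rho_inv
    rw [mem_C1_iff_conj.1 this] at h2
    exact mul_eq_one_iff_eq_inv.2 h2
  have key : ∀ x, pr G x ∈ zpowers (pr G c) → pr G t' * pr G x * (pr G t')⁻¹ = (pr G x)⁻¹ →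
      ρ c' = ρ x → c' ∈ Fc c := by
    intro x hx h2 h3
    have h4 : ρ (c' * x⁻¹) = 1 := by simp [h3]
    have h5 := h.pr_eq_one' h4 (by
      have a1 := (h.comm' h4 hc'.tT).eq
      have a2 := (hc'.cC _ h4).eq
      have a3 := hc'.pr_inv
      rw [map_mul, map_inv] at a1 a2 ⊢
      generalize pr G c' = u at *
      generalize pr G x = w at *
      generalize pr G t' = s at *
      have a4 : s * (u * w⁻¹) * s⁻¹ = u⁻¹ * w := by
        calc s * (u * w⁻¹) * s⁻¹ = (s * u * s⁻¹) * (s * w * s⁻¹)⁻¹ := by group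
          _ = _ := by rw [a3, h2, inv_inv]
      rw [← a1, mul_inv_cancel_right] at a4
      have a5 : w⁻¹ * u = u * w⁻¹ := mul_left_cancel (a := u) (by rw [← mul_assoc, a2])
      calc u * w⁻¹ * (u * w⁻¹) = w⁻¹ * u * (u⁻¹ * w) := by rw [a5, ← a4]
        _ = 1 := by group)
    rw [map_mul, map_inv, mul_inv_eq_one] at h5
    rw [Fc, mem_comap, h5]; exact hx
  rcases conj_gen_three (card_DD h.ff hc.off) hc.gen (e ▸ hc'.gen ▸ mem_zpowers (ρ c')) with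
    e' | e' | e'
  · exact absurd e' (hc'.rho_ne h)
  · exact key c (mem_zpowers _) h1 e'
  · exact key c⁻¹ (by rw [map_inv]; exact inv_mem (mem_zpowers _))
      (by rw [map_inv, ← conj_inv, h1]) (by rw [e', map_inv])

theorem Cp.Fc_eq (h : Ctx T ι ρ) (hc : Cp T ι ρ B c t) (hc' : Cp T ι ρ B' c' t')
    (e : DD (HH ρ) B = DD (HH ρ) B') : Fc c = Fc c' :=
  le_antisymm (Fc_le (R_le_Fc _) (hc'.mem_Fc h hc e.symm)) (Fc_le (R_le_Fc _) (hc.mem_Fc h hc' e))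

theorem Cp.rho_mem (hc : Cp T ι ρ B c t) : ρ c ∈ H12.EE 2 (HH ρ) B :=
  mem_sup_left (hc.gen.le (mem_zpowers _))

theorem Cp.cross (h : Ctx T ι ρ) (hc : Cp T ι ρ B c t) (hc' : Cp T ι ρ B' c' t')
    (e : H12.EE 2 (HH ρ) B ≠ H12.EE 2 (HH ρ) B') :
    Commute (pr G t) (pr G c') ∧ Commute (pr G c') (pr G c) := by
  have h1 := comm_eq_bot.1 (h.ff.commutator_EE_EE hc.off hc'.off e)
  have h2 : Commute (pr G t) (pr G c') :=
    h.act_cent hc.tT (comm_of_cent h1 (mem_sup_right hc.tB) hc'.rho_mem)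
  refine ⟨h2, ?_⟩
  have h3 : ρ (c' * c * c'⁻¹ * c⁻¹) = 1 := by
    simp only [map_mul, map_inv]; rw [← comm_of_cent h1 hc.rho_mem hc'.rho_mem]; group
  have h5 := h.pr_eq_one' h3 (by
    have a1 := (h.comm' h3 hc.tT).eq
    have a2 := (hc.cC _ h3).eq
    have a3 := hc.pr_inv
    have a4 := h2.eq
    have a5 : pr G (c' * c * c'⁻¹ * c⁻¹) * pr G c = pr G c' * pr G c * (pr G c')⁻¹ := by simp
    generalize pr G (c' * c * c'⁻¹ * c⁻¹) = g at *
    generalize pr G c' = u at *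
    generalize pr G c = w at *
    generalize pr G t = s at *
    have a6 : g * w⁻¹ = (g * w)⁻¹ := by
      calc g * w⁻¹ = g * (s * w * s⁻¹) := by rw [a3]
        _ = (g * s) * w * s⁻¹ := by group
        _ = s * (g * w) * s⁻¹ := by rw [a1]; group
        _ = (s * u) * w * (s * u)⁻¹ := by rw [a5]; group
        _ = u * (s * w * s⁻¹) * u⁻¹ := by rw [a4]; group
        _ = _ := by rw [a3, a5]; group
    calc g * g = (g * w⁻¹) * (w * g) := by group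
      _ = 1 := by rw [a6, a2]; group)
  rw [map_mul, map_mul, map_mul, map_inv, map_inv] at h5
  exact commutatorElement_eq_one_iff_commute.1 h5

theorem Cp.mem_N_Fc (h : Ctx T ι ρ) (hc : Cp T ι ρ B c t) (hc' : Cp T ι ρ B' c' t') :
    c' ∈ N[Fc c] := by
  by_cases e : H12.EE 2 (HH ρ) B = H12.EE 2 (HH ρ) B'
  · exact norm_self _ (hc.mem_Fc h hc' (DD_eq hc.off hc'.off e))
  · refine ZN.mem_N_Fc ?_
    rw [(hc.cross h hc' e).2.eq, mul_inv_cancel_right]; exact mem_zpowers _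

theorem Cp.le_P1 (h : Ctx T ι ρ) (hc : Cp T ι ρ B c t) {P : Subgroup G} (hP : Par (Bm T) P)
    (hcP : c ∈ P) {X : Subgroup G} (h1 : Bm T ≤ X) (h2 : c ∈ X) : P ≤ X :=
  hP.gen hcP (fun e => hc.not_pi h (hP.two.piElt e)) h1 h2

theorem Cp.nml (h : Ctx T ι ρ) (hc : Cp T ι ρ B c t) {P : Subgroup G} (hP : Par (Bm T) P)
    (hcP : c ∈ P) : P ⊴ Fc c ⊔ T1 T ρ B ∧ KP P = KP (Fc c) := by
  obtain ⟨N, h1, h2, -, -, h5⟩ := hc.exists_N h
  obtain rfl := h5 P hP (hc.le_P1 h hP hcP ((h.Bm_le_T1 hc.off).trans le_sup_right)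
    (mem_sup_left (ZN.mem_Fc c)))
  have hp := hc.par h
  exact ⟨h1, (KP_eq h1 hp.two hp.le h2).trans
    (KP_eq (nml_sup_left (hc.T1_norm h)) hp.two hp.le le_rfl).symm⟩

theorem Ctx.norm_KP (h : Ctx T ι ρ) {P P' : Subgroup G} (hP : Par (Bm T) P) (hJ : ¬ P ≤ N[JJ T])
    (hP' : Par (Bm T) P') (hJ' : ¬ P' ≤ N[JJ T]) : P' ≤ N[KP P] := by
  obtain ⟨B, c, t, hc, hcP⟩ := h.cp_of_par hP hJ
  obtain ⟨B', c', t', hc', hcP'⟩ := h.cp_of_par hP' hJ'
  rw [(hc.nml h hP hcP).2]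
  exact (hc'.le_P1 h hP' hcP' ((h.Bm_le_T1 hc.off).trans (hc.T1_norm h))
    (hc.mem_N_Fc h hc')).trans (N_le_N_KP _)

theorem Ctx.R_norm (h : Ctx T ι ρ) {P : Subgroup G} (hP : Par (Bm T) P) (hJ : ¬ P ≤ N[JJ T]) :
    pCore 2 G ≤ N[P] := by
  obtain ⟨B, c, t, hc, hcP⟩ := h.cp_of_par hP hJ
  exact (h.R_le_T1.trans le_sup_right).trans (hc.nml h hP hcP).1.norm

theorem Ctx.eq_of_Q (h : Ctx T ι ρ) {P P' : Subgroup G} (hP : Par (Bm T) P) (hJ : ¬ P ≤ N[JJ T])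
    (hP' : Par (Bm T) P') (hJ' : ¬ P' ≤ N[JJ T]) (hQ : Q2 P' ≤ Q2 P) : P = P' := by
  obtain ⟨B, c, t, hc, hcP⟩ := h.cp_of_par hP hJ
  obtain ⟨B', c', t', hc', hcP'⟩ := h.cp_of_par hP' hJ'
  by_cases e : H12.EE 2 (HH ρ) B = H12.EE 2 (HH ρ) B'
  · obtain ⟨N, -, -, -, -, h5⟩ := hc.exists_N h
    have hB := (h.Bm_le_T1 hc.off).trans (le_sup_right : _ ≤ Fc c ⊔ T1 T ρ B)
    rw [h5 P hP (hc.le_P1 h hP hcP hB (mem_sup_left (ZN.mem_Fc c))),
      h5 P' hP' (hc'.le_P1 h hP' hcP' hB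
        (mem_sup_left (hc.mem_Fc h hc' (DD_eq hc.off hc'.off e))))]
  · exfalso
    have h1 := (hc.cross h hc' e).1
    have htB := JJ_le_Bm T hc.tJ
    have h2 : c' * t * c'⁻¹ * t⁻¹ ∈ pCore 2 G := ZN.pr_eq_one.1 (by
      simp only [map_mul, map_inv]; rw [← h1.eq]; group)
    have h5 : c' * t * c'⁻¹ ∈ T := by simpa using T.mul_mem (h.R_le h2) hc.tT
    have h6 : c' * t * c'⁻¹ ∈ Bm T := by
      rw [← hP'.syl.eq_of_le (h.syl.pi.of_le inf_le_left) (le_inf (Bm_le T) hP'.le) inf_le_right]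
      exact ⟨h5, conj_mem (norm_self P' hcP') (hP'.le htB)⟩
    have h7 := (conj_mem_iff (hP'.normQ hcP')).1 (hP'.mem_Q_of_cj hcP'
      (fun e => hc'.not_pi h (hP'.two.piElt e)) h6 (conj_mem_cj c' htB))
    exact hc.not_norm h (pcore_pi _ _) (hQ h7) (hP.normQ hcP)

theorem Ctx.generate (h : Ctx T ι ρ) {X : Subgroup G} (h1 : N[JJ T] ≤ X)
    (h2 : ∀ P, Par (Bm T) P → ¬ P ≤ N[JJ T] → P ≤ X) : X = ⊤ := by
  have hT : N[T] ≤ X := (N_le_N_JJ T).trans h1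
  have key : HH ρ ≤ X.map ρ := h.ff.le_of_gen h.gen fun A' hA' => by
    by_cases e : ∃ A B, H12.MaxEA 2 T A ∧ B ≤ A.map ρ ∧ H12.Off 2 ι.range (HH ρ) B ∧
        H12.EE 2 (HH ρ) B = H12.EE 2 (HH ρ) A'
    · obtain ⟨A, B, hA, hBA, hB, e⟩ := e
      obtain ⟨x, hx, hx'⟩ := h.ff.exists_not_mem_centralizer hB
      obtain ⟨y, -, rfl⟩ := H12.OP_le _ hx
      obtain ⟨t, ht, hc⟩ := h.mk_cp hB hA hBA hx hx'
      obtain ⟨N, -, h3, h4, h5, -⟩ := hc.exists_N h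
      have h6 := h3.trans (sup_le (h2 N h4 h5) (inf_le_left.trans ((norm_self T).trans hT)))
      refine (le_sup_right.trans e.ge).trans (sup_le ?_
        (hBA.trans (map_mono (hA.le.trans ((norm_self T).trans hT)))))
      rw [← DD, ← hc.gen, ← MonoidHom.map_zpowers]
      exact map_mono ((zpowers_le (G := G)).2 (h6 (mem_sup_left (ZN.mem_Fc _))))
    · push Not at e
      have h3 : JJ T ≤ C[H12.EE 2 (HH ρ) A'].comap ρ := H12.J_le_iff.2 fun A hA =>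
        map_le_iff_le_comap.1 ((h.maxEA_off hA).trans (sSup_le fun B hB => le_sup_right.trans
          (comm_eq_bot.1 (h.ff.commutator_EE_EE hB.2 hA' (e A B hA hB.1 hB.2)))))
      intro x hx
      obtain ⟨y, -, rfl⟩ := hA'.1 hx
      refine ⟨y, h1 (mem_N_of_cj_le ?_), rfl⟩
      have h4 : cj y (JJ T) ≤ T := by
        intro z hz
        obtain ⟨j, hj, rfl⟩ := mem_cj'.1 hz
        have a1 : ρ (y * j * y⁻¹ * j⁻¹) = 1 := by
          simp only [map_mul, map_inv]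
          rw [mem_C.1 (h3 hj) _ (mem_sup_right hx)]; group
        refine h.mem_T ?_ (((h.syl.pi.of_le (JJ_le T)).piElt hj).conj y)
        simpa using mul_mem (h.ker_le a1) (norm_self T (JJ_le T hj))
      rw [cj_le_iff]
      refine H12.J_le_iff.2 fun A hA => cj_le_iff.1 (H12.MaxEA.le_J (hA.of_card_le
        ((cj_mono y hA.le_J).trans h4) (H12.ea_map hA.ea _) (card_cj y A).ge))
  obtain ⟨S, rfl⟩ := h.syl.exists_sylow_top two_prime
  rw [eq_top_iff, ← H12.sup_normalizer_J_eq_top S h.J_le]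
  refine sup_le ?_ h1
  have := map_le_iff_le_comap.1 key
  rwa [comap_map_eq, sup_eq_left.2 (h.ker_le.trans hT)] at this

theorem exists_ctx [Group.IsSolvable G] (h1 : Syl 2 ⊤ T) (h2 : C[pCore 2 G] ≤ pCore 2 G)
    (h3 : C[OZ T] ≤ N[T]) : ∃ (Γ : Type u) (_ : Group Γ) (_ : Finite Γ) (ι : H12.ZV 2 G →* Γ)
      (ρ : G →* Γ), Ctx T ι ρ := by
  have h := H12.hol_semidirect (H12.ZV 2 G)
  obtain ⟨a, b⟩ := h.ff (H12.ea_ZV h2) (H12.pSep_of_isSolvable 2) H12.pCore_quotient_ZV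
  exact ⟨_, inferInstance, inferInstance, _, _, h1, h2, h3, h, a, b⟩

/-- the local hypothesis, relative version -/
structure Loc (L T : Subgroup G) : Prop where
  sol : Sol L
  syl : Syl 2 L T
  chr : L ⊓ C[Q2 L] ≤ Q2 L
  cz : L ⊓ C[OZ T] ≤ N[T]

variable {L P P' : Subgroup G}

theorem Loc.ctx (h : Loc L T) : ∃ (Γ : Type u) (_ : Group Γ) (_ : Finite Γ)
    (ι : H12.ZV 2 L →* Γ) (ρ : L →* Γ), Ctx (T.subgroupOf L) ι ρ := by
  have := h.sol
  have hi := L.subtype_injective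
  refine exists_ctx ((hall_subgroupOf_top h.syl.le).2 h.syl) ?_ ?_
  · have := h.chr
    unfold Q2 at this
    rw [pcore_singleton two_prime] at this
    rw [← map_le_map_iff_of_injective hi, ← top_inf_eq C[pCore 2 L], map_inf_C hi,
      map_subtype_top]
    exact this
  · refine norm_of_map hi ?_
    rw [← top_inf_eq C[OZ (T.subgroupOf L)], map_inf_C hi, map_subtype_top, ← OZ_map hi,
      map_subgroupOf' h.syl.le]
    exact h.cz

theorem Loc.par (h : Loc L T) (hL : P ≤ L) (hP : Par (Bm T) P) (hJ : ¬ P ≤ N[JJ T]) :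
    Par (Bm (T.subgroupOf L)) (P.subgroupOf L) ∧ ¬ P.subgroupOf L ≤ N[JJ (T.subgroupOf L)] := by
  have hi := L.subtype_injective
  refine ⟨Par.of_map hi ?_, fun e => hJ ?_⟩
  · rwa [← Bm_map hi, map_subgroupOf' h.syl.le, map_subgroupOf' hL]
  · have := norm_map e L.subtype
    rwa [← JJ_map hi, map_subgroupOf' h.syl.le, map_subgroupOf' hL] at this

theorem Loc.norm_KP (h : Loc L T) (hL : P ≤ L) (hP : Par (Bm T) P) (hJ : ¬ P ≤ N[JJ T])
    (hL' : P' ≤ L) (hP' : Par (Bm T) P') (hJ' : ¬ P' ≤ N[JJ T]) : P' ≤ N[KP P] := by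
  obtain ⟨Γ, _, _, ι, ρ, hc⟩ := h.ctx
  obtain ⟨a, b⟩ := h.par hL hP hJ
  obtain ⟨a', b'⟩ := h.par hL' hP' hJ'
  have := norm_map (hc.norm_KP a b a' b') L.subtype
  rwa [← KP_map L.subtype_injective, map_subgroupOf' hL, map_subgroupOf' hL'] at this

theorem Loc.R_norm (h : Loc L T) (hL : P ≤ L) (hP : Par (Bm T) P) (hJ : ¬ P ≤ N[JJ T]) :
    Q2 L ≤ N[P] := by
  obtain ⟨Γ, _, _, ι, ρ, hc⟩ := h.ctx
  obtain ⟨a, b⟩ := h.par hL hP hJ
  have := norm_map (hc.R_norm a b) L.subtype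
  rwa [map_subgroupOf' hL, ← pcore_singleton two_prime] at this

theorem Loc.eq_of_Q (h : Loc L T) (hL : P ≤ L) (hP : Par (Bm T) P) (hJ : ¬ P ≤ N[JJ T])
    (hL' : P' ≤ L) (hP' : Par (Bm T) P') (hJ' : ¬ P' ≤ N[JJ T]) (hQ : Q2 P' ≤ Q2 P) :
    P = P' := by
  obtain ⟨Γ, _, _, ι, ρ, hc⟩ := h.ctx
  obtain ⟨a, b⟩ := h.par hL hP hJ
  obtain ⟨a', b'⟩ := h.par hL' hP' hJ'
  have := hc.eq_of_Q a b a' b' (by
    unfold Q2; rw [pcore_subgroupOf _ hL, pcore_subgroupOf _ hL']; exact subgroupOf_mono L hQ)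
  rw [← map_subgroupOf' hL, this, map_subgroupOf' hL']

theorem Loc.generate (h : Loc L T) {X : Subgroup G} (h1 : L ⊓ N[JJ T] ≤ X)
    (h2 : ∀ P ≤ L, Par (Bm T) P → ¬ P ≤ N[JJ T] → P ≤ X) : L ≤ X := by
  obtain ⟨Γ, _, _, ι, ρ, hc⟩ := h.ctx
  have hi := L.subtype_injective
  refine subgroupOf_eq_top.1 (hc.generate ?_ fun P hP hJ => ?_)
  · have := norm_map (le_refl N[JJ (T.subgroupOf L)]) L.subtype
    rw [← JJ_map hi, map_subgroupOf' h.syl.le] at this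
    exact map_le_iff_le_comap.1 ((le_inf (map_subtype_le _) this).trans h1)
  · refine map_le_iff_le_comap.1 (h2 _ (map_subtype_le _) ?_ fun e => hJ (norm_of_map hi ?_))
    · have := hP.map hi
      rwa [← Bm_map hi, map_subgroupOf' h.syl.le] at this
    · rwa [← JJ_map hi, map_subgroupOf' h.syl.le]

end H11.ZN
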