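import Mathlib
import Cfsg.Agent.H11.ZNLocal2
import Cfsg.Agent.H11.Amalgam2
import Cfsg.Agent.H26.Coprime
import Cfsg.Agent.H26.Abelem

/-!
# The endgame: `S₄` and `C₂ × S₄`
-/

set_option autoImplicit false
set_option linter.unusedSectionVars false

namespace H11.ZN

open Subgroup Cfsg H24 H26
open scoped commutatorElement

universe u v

variable {G : Type u} [Group G] [Finite G] {T P D : Subgroup G}

/-- `[O₂(P), O²(P)]` -/
def WW (P : Subgroup G) : Subgroup G := ⁅Q2 P, KP P⁆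

/-- `C_{O₂(P)}(P)` -/
def CC (P : Subgroup G) : Subgroup G := Q2 P ⊓ C[P]

theorem N_le_N_WW (P : Subgroup G) : N[P] ≤ N[WW P] :=
  norm_comm (N_le_N_pcore _ P) (N_le_N_KP P)

theorem N_le_N_CC (P : Subgroup G) : N[P] ≤ N[CC P] := norm_inf (N_le_N_pcore _ P) (N_le_NC P)

theorem WW_cj (g : G) (P : Subgroup G) : WW (cj g P) = cj g (WW P) := by
  unfold WW Q2
  rw [cj_comm, pcore_cj]
  congr 1
  exact KP_map (conj_injective' g) P

theorem CC_cj (g : G) (P : Subgroup G) : CC (cj g P) = cj g (CC P) := by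
  unfold CC Q2; rw [cj_inf, pcore_cj, cj_C]

theorem WW_le_Q (P : Subgroup G) : WW P ≤ Q2 P :=
  comm_le_left ((KP_le P).trans (pcore_nml _ P).norm)

theorem WW_le_KP (P : Subgroup G) : WW P ≤ KP P :=
  comm_le_right ((pcore_le _ P).trans ((norm_self P).trans (N_le_N_KP P)))

theorem CC_le_Q (P : Subgroup G) : CC P ≤ Q2 P := inf_le_left

theorem cent_of_card_le_two {X Y : Subgroup G} (hY : ♯Y ≤ 2) (h : X ≤ N[Y]) : X ≤ C[Y] := by
  have := card_pos Y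
  rcases (by omega : ♯Y = 1 ∨ ♯Y = 2) with e | e
  · rw [card_eq_one'.1 e, C_bot]; exact le_top
  · exact relIndex_eq_one.1 (Nat.dvd_one.1 (relIndex_C_dvd_pred two_prime h e))

theorem comm_mem_of_idx {W Q : Subgroup G} (h : W.relIndex Q ≤ 2) {x q : G} (h1 : x ∈ N[Q])
    (h2 : x ∈ N[W]) (hq : q ∈ Q) : x * q * x⁻¹ * q⁻¹ ∈ W := by
  have := relIndex_pos W Q
  rcases (by omega : W.relIndex Q = 1 ∨ W.relIndex Q = 2) with e | e
  · exact relIndex_eq_one.1 e (mul_mem (conj_mem h1 hq) (inv_mem hq))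
  · rw [mul_mem_idx2 e (conj_mem h1 hq) (inv_mem hq), conj_mem_iff h2, inv_mem_iff]

theorem three_cop {Q : Subgroup G} (hQ : IsPi {2} Q) {d : G} (hd : orderOf d = 3) :
    (♯Q).Coprime ♯(zpowers d) :=
  hQ.coprime_of_ne (isPi_of_card_prime Nat.prime_three (by rw [card_zpowers', hd])) (by norm_num)

/-- the parabolic with elementary abelian `O₂` on which `T` induces a transvection -/
structure ParE (T P D : Subgroup G) : Prop where
  par : Par T P
  ea : IsElementaryAbelian 2 (Q2 P)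
  le : D ≤ Q2 P
  idx : D.relIndex (Q2 P) = 2
  cent : T ≤ C[D]

theorem ParE.abl (h : ParE T P D) : Q2 P ≤ C[Q2 P] := H12.ea_le_centralizer h.ea

theorem ParE.sq (h : ParE T P D) {x : G} (hx : x ∈ Q2 P) : x * x = 1 := by
  rw [← pow_two]; exact h.ea.2 x hx

theorem ParE.WW_eq (h : ParE T P D) {d : G} (hd : d ∈ P) (ho : orderOf d = 3) :
    WW P = ⁅Q2 P, zpowers d⁆ := by
  have hn : zpowers d ≤ N[Q2 P] := (zpowers_le (G := G)).2 (h.par.normQ hd)
  have h3 : d ^ 3 = 1 := ho ▸ pow_orderOf_eq_one d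
  refine le_antisymm ?_ (comm_mono_right ((zpowers_le (G := G)).2 (subset_closure ⟨hd, h3⟩)))
  rw [← (isProd_sup' hn).comm_right_of_cent h.abl]
  refine comm_mono_right ((closure_le _).2 fun g hg => ?_)
  obtain ⟨φ, hφ⟩ := h.par.exists_perm
  have key : ∀ σ τ : Equiv.Perm (Fin 3), σ ^ 3 = 1 → τ ^ 3 = 1 → τ ≠ 1 →
      σ = 1 ∨ τ⁻¹ * σ = 1 ∨ τ * σ = 1 := by decide
  have hdQ : d ∉ Q2 P := fun e => by
    rw [pow_three_eq_one_of_pi ((pcore_pi _ _).piElt e) h3, orderOf_one] at ho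
    exact absurd ho (by norm_num)
  rcases key (φ ⟨g, hg.1⟩) (φ ⟨d, hd⟩)
    (by rw [← map_pow]; exact (hφ _).2 (by simp [hg.2])) (by rw [← map_pow]; exact (hφ _).2 (by simp [h3]))
    (fun e => hdQ ((hφ _).1 e)) with e | e | e
  · exact mem_sup_right ((hφ _).1 e)
  · rw [← map_inv, ← map_mul, hφ] at e
    simpa using mul_mem (mem_sup_left (mem_zpowers d)) (mem_sup_right (S := zpowers d) e)
  · rw [← map_mul, hφ] at e
    simpa using mul_mem (mem_sup_left (inv_mem (mem_zpowers d))) (mem_sup_right (S := zpowers d) e)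

theorem ParE.dp (h : ParE T P D) {d : G} (hd : d ∈ P) (ho : orderOf d = 3) :
    DP (WW P) (Q2 P ⊓ C[zpowers d]) (Q2 P) := by
  rw [h.WW_eq hd ho]
  exact coprime_abelian_cent_dprod ((zpowers_le (G := G)).2 (h.par.normQ hd))
    (three_cop (pcore_pi _ _) ho) h.ea.1

theorem ParE.inf_C1 (h : ParE T P D) {d : G} (hd : d ∈ P) (ho : orderOf d = 3) :
    WW P ⊓ C{d} = ⊥ := by
  rw [h.WW_eq hd ho, ← C_zpowers]
  exact coprime_abel_cent_TI ((zpowers_le (G := G)).2 (h.par.normQ hd))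
    (three_cop (pcore_pi _ _) ho) h.ea.1

theorem ParE.eq_bot (h : ParE T P D) {d : G} (hd : d ∈ P) (ho : orderOf d = 3) {U : Subgroup G}
    (hU : U ≤ WW P) (hn : d ∈ N[U]) (hc : ♯U ≤ 2) : U = ⊥ :=
  eq_bot_of_le (h.inf_C1 hd ho) (le_inf hU (mem_C_iff_le_C1.1
    (cent_of_card_le_two hc ((zpowers_le (G := G)).2 hn) (mem_zpowers d))))

theorem ParE.mem_Q (h : ParE T P D) {x : G} (hx : x ∈ P) (hc : x ∈ C[Q2 P]) : x ∈ Q2 P :=
  h.par.cent_le ⟨hx, hc⟩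

theorem ParE.main (h : ParE T P D) :
    ♯(WW P) = 4 ∧ DP (WW P) (CC P) (Q2 P) ∧ CC P ≤ D ∧ (CC P).relIndex D = 2 := by
  obtain ⟨d, hd, ho, hdT⟩ := h.par.exists_three
  have h1 := h.dp hd ho
  have hQ := cj_of_mem_N (h.par.normQ hd)
  have h2 : D ⊓ cj d D ≤ CC P := by
    refine le_inf (inf_le_left.trans h.le) (cents_symm ?_)
    obtain ⟨t, ht, ht'⟩ := h.par.exists_T
    refine h.par.gen (conj_mem (norm_self P hd) (h.par.le ht)) (fun e => ht' ?_)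
      (h.cent.trans (C_anti inf_le_left))
      (C_anti inf_le_right (cent_cj h.cent d (conj_mem_cj d ht)))
    exact (conj_mem_iff (h.par.normQ hd)).1 (h.par.mem_Q_of_cj hd hdT e (conj_mem_cj d ht))
  have h3 : CC P ≤ Q2 P ⊓ C[zpowers d] :=
    inf_le_inf_left _ (C_anti ((zpowers_le (G := G)).2 hd))
  have h4 : (D ⊓ cj d D).relIndex (Q2 P) ≤ 4 := by
    refine relIndex_inf_le.trans ?_
    rw [h.idx]; nth_rw 1 [← hQ]; rw [relIndex_cj, h.idx]
  have h5 := h1.sd.relIndex_right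
  obtain ⟨k, hk⟩ := ((pcore_pi _ _).of_le (WW_le_Q P)).card_eq_pow two_prime
  have h6 : ¬ ♯(WW P) ≤ 2 := fun e => by
    have e1 := h.eq_bot hd ho le_rfl (N_le_N_WW P (norm_self P hd)) e
    rw [h.WW_eq hd ho, comm_eq_bot'] at e1
    exact hdT (h.par.Qle (h.mem_Q hd (e1 (mem_zpowers d))))
  have h7 : 4 ≤ ♯(WW P) := by
    rw [hk] at h6 ⊢
    rcases k with _ | _ | k
    · simp at h6
    · simp at h6
    · rw [pow_add, pow_add]; have := Nat.one_le_two_pow (n := k); omega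
  have h8 := relIndex_le_of_le_left (h2.trans h3) (relIndex_ne_zero' (D ⊓ cj d D) (Q2 P))
  have c1 := card_mul_relIndex (inf_le_left.trans h.le : D ⊓ cj d D ≤ Q2 P)
  have c2 := card_mul_relIndex (inf_le_left : Q2 P ⊓ C[zpowers d] ≤ Q2 P)
  have e1 : (D ⊓ cj d D).relIndex (Q2 P) = 4 := by omega
  have e2 : D ⊓ cj d D = Q2 P ⊓ C[zpowers d] := eq_of_card_eq (h2.trans h3) (by
    rw [e1] at c1; rw [show (Q2 P ⊓ C[zpowers d]).relIndex (Q2 P) = 4 by omega] at c2; omega)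
  have e3 : CC P = Q2 P ⊓ C[zpowers d] := le_antisymm h3 (e2 ▸ h2)
  refine ⟨by omega, e3 ▸ h1, by rw [e3, ← e2]; exact inf_le_left, ?_⟩
  have := relIndex_mul_relIndex _ _ _ (inf_le_left : D ⊓ cj d D ≤ D) h.le
  rw [e1, h.idx, e2, ← e3] at this
  omega

theorem ParE.card_W (h : ParE T P D) : ♯(WW P) = 4 := h.main.1

theorem ParE.decomp (h : ParE T P D) {q : G} (hq : q ∈ Q2 P) :
    ∃ w ∈ WW P, ∃ c ∈ CC P, q = w * c := h.main.2.1.isProd.3 q hq

theorem ParE.W_inf_C (h : ParE T P D) : WW P ⊓ CC P = ⊥ := h.main.2.1.inf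

theorem ParE.cent_Q (h : ParE T P D) {x : G} (h1 : x ∈ C[WW P]) (h2 : x ∈ C[CC P]) :
    x ∈ C[Q2 P] := by
  rw [← h.main.2.1.isProd.sup_eq, C_sup]; exact ⟨h1, h2⟩

theorem ParE.cent_W (h : ParE T P D) {x : G} (hx : x ∈ P) (h1 : x ∈ C[WW P]) : x ∈ Q2 P :=
  h.mem_Q hx (h.cent_Q h1 (cents_symm inf_le_right hx))

theorem ParE.irr (h : ParE T P D) {d : G} (hd : d ∈ P) (ho : orderOf d = 3) {U : Subgroup G}
    (hU : U ≤ WW P) (hn : d ∈ N[U]) (h1 : U ≠ ⊥) : U = WW P := by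
  by_contra e
  have := H12.mul_card_le_of_lt (p := 2) (hp := ⟨two_prime⟩)
    (((pcore_pi _ _).of_le (WW_le_Q P)).isPGroup two_prime) (lt_of_le_of_ne hU e)
  rw [h.card_W] at this
  exact h1 (h.eq_bot hd ho hU hn (by omega))

theorem ParE.comm_mem (h : ParE T P D) {q g : G} (hq : q ∈ Q2 P) (hg : g ∈ P) :
    g * q * g⁻¹ * q⁻¹ ∈ WW P := by
  obtain ⟨w, hw, c, hc, rfl⟩ := h.decomp hq
  have e : g * c = c * g := (mem_C.1 hc.2 g hg)
  have : g * (w * c) * g⁻¹ * (w * c)⁻¹ = g * w * g⁻¹ * w⁻¹ := by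
    calc g * (w * c) * g⁻¹ * (w * c)⁻¹ = g * w * g⁻¹ * (g * c) * g⁻¹ * c⁻¹ * w⁻¹ := by group
      _ = _ := by rw [e]; group
  rw [this]
  exact mul_mem (conj_mem (N_le_N_WW P (norm_self P hg)) hw) (inv_mem hw)

theorem ParE.trans (h : ParE T P D) {z y : G} (hz : z ∈ WW P) (hz1 : z ≠ 1) (hy : y ∈ WW P)
    (hy1 : y ≠ 1) : ∃ g ∈ P, y = g * z * g⁻¹ := by
  classical
  obtain ⟨d, hd, ho, -⟩ := h.par.exists_three
  have h3 : d ^ 3 = 1 := ho ▸ pow_orderOf_eq_one d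
  have hn := N_le_N_WW P (norm_self P hd)
  have key : ∀ x ∈ WW P, x ≠ 1 → d * x * d⁻¹ ≠ x := fun x hx hx1 e =>
    hx1 (mem_bot.1 (h.inf_C1 hd ho ▸ mem_inf.2 ⟨hx, mem_C1_comm.1 (mem_C1_iff_conj.2 e)⟩))
  have k1 := key z hz hz1
  have k2 : d⁻¹ * z * d ≠ z := fun e => k1 (by nth_rw 1 [← e]; group)
  have k3 : d * z * d⁻¹ ≠ d⁻¹ * z * d := fun e => k2 (by
    have : d⁻¹ = d * d := by rw [inv_eq_iff_mul_eq_one, ← h3, pow_succ', pow_two]
    calc d⁻¹ * z * d = d⁻¹ * z * (d⁻¹)⁻¹ := by rw [inv_inv]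
      _ = (d * d) * z * (d * d)⁻¹ := by rw [this]
      _ = d * (d * z * d⁻¹) * d⁻¹ := by group
      _ = z := by rw [e]; group)
  have hs : ({1, z, d * z * d⁻¹, d⁻¹ * z * d} : Set G) = WW P := by
    refine Set.eq_of_subset_of_ncard_le ?_ ?_ (Set.toFinite _)
    · rintro x (rfl | rfl | rfl | rfl)
      · exact one_mem _
      · exact hz
      · exact conj_mem hn hz
      · exact conj_mem' hn hz
    · rw [← Nat.card_coe_set_eq, SetLike.coe_sort_coe, h.card_W, Set.ncard_insert_of_notMem,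
        Set.ncard_insert_of_notMem, Set.ncard_pair k3]
      · simp [k1.symm, k2.symm]
      · simp only [Set.mem_insert_iff, Set.mem_singleton_iff, not_or]
        exact ⟨hz1.symm, fun e => hz1 (conj_eq_one_iff'.1 e.symm),
          fun e => hz1 ((conj_eq_one_iff' (g := d⁻¹)).1 (by rw [inv_inv]; exact e.symm))⟩
  have : y ∈ ({1, z, d * z * d⁻¹, d⁻¹ * z * d} : Set G) := hs ▸ hy
  rcases this with e | e | e | e
  · exact absurd e hy1
  · exact ⟨1, one_mem _, by simpa using e⟩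
  · exact ⟨d, hd, e⟩
  · exact ⟨d⁻¹, inv_mem hd, by simpa using e⟩

end H11.ZN
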