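import Mathlib
import Cfsg.Agent.H11.ZNEnd
import Cfsg.Agent.H3.PNil

/-!
# The endgame, continued: local structure and transfer
-/

set_option autoImplicit false
set_option linter.unusedSectionVars false

namespace H11.ZN

open Subgroup Cfsg H24 H26
open scoped commutatorElement

universe u v

variable {G : Type u} [Group G] [Finite G] {B P₁ P₂ : Subgroup G}

/-- the final configuration -/
structure End (B P₁ P₂ : Subgroup G) : Prop where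
  par1 : Par B P₁
  par2 : Par B P₂
  free : Free B P₁ P₂
  nJ1 : ¬ P₁ ≤ N[JJ B]
  nJ2 : ¬ P₂ ≤ N[JJ B]
  loc : ∀ Y, IsPi {2} Y → Y ≠ ⊥ → P₁ ≤ N[Y] ∨ P₂ ≤ N[Y] → ∃ T, Loc N[Y] T ∧ Bm T = B

theorem End.symm (h : End B P₁ P₂) : End B P₂ P₁ :=
  ⟨h.par2, h.par1, h.free.symm, h.nJ2, h.nJ1, fun Y a b c => h.loc Y a b c.symm⟩

theorem End.ea (h : End B P₁ P₂) : IsElementaryAbelian 2 (Q2 P₁) :=
  amalgam_ea h.par1 h.par2 h.free

theorem End.nle (h : End B P₁ P₂) : ¬ Q2 P₁ ≤ Q2 P₂ := fun e =>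
  amalgam_edge h.par1 h.par2 h.free ((OZ_le _).trans e)

theorem End.exists_Q (h : End B P₁ P₂) : ∃ x ∈ Q2 P₁, x ∉ Q2 P₂ :=
  SetLike.not_le_iff_exists.1 h.nle

theorem End.parE (h : End B P₁ P₂) : ParE B P₁ (Q2 P₁ ⊓ Q2 P₂) := by
  refine ⟨h.par1, h.ea, inf_le_left, ?_, ?_⟩
  · rw [inf_relIndex_left]; exact h.par2.idx_of_not_le h.par1.Qle h.nle
  · obtain ⟨y, hy, hy'⟩ := h.symm.exists_Q
    exact h.par1.genT (h.par2.Qle hy) hy'
      ((H12.ea_le_centralizer h.ea).trans (C_anti inf_le_left))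
      (C_anti inf_le_right (H12.ea_le_centralizer h.symm.ea hy))

theorem End.not_comm (h : End B P₁ P₂) {x y : G} (hx : x ∈ Q2 P₁) (hx' : x ∉ Q2 P₂)
    (hy : y ∈ Q2 P₂) (hy' : y ∉ Q2 P₁) : x * y ≠ y * x := fun e => by
  refine hy' (h.parE.mem_Q (h.par1.le (h.par2.Qle hy)) (mem_C_iff_le_C1.2 fun q hq => ?_))
  rcases h.par2.decomp (h.par1.Qle hx) hx' (h.par1.Qle hq) with e' | e'
  · exact mem_C1.2 (comm_of_cent h.symm.parE.abl e' hy)
  · have := mul_mem (mem_C1.2 e) (mem_C1.2 (comm_of_cent h.symm.parE.abl e' hy))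
    simpa using this

theorem End.invol (h : End B P₁ P₂) {x : G} (hx : x ∈ B) (h2 : x * x = 1) :
    x ∈ Q2 P₁ ∨ x ∈ Q2 P₂ := by
  by_contra e
  push Not at e
  obtain ⟨y, hy, hy'⟩ := h.symm.exists_Q
  have h1 := (h.par1.decomp (h.par2.Qle hy) hy' hx).resolve_left e.1
  refine h.not_comm h1 (fun e' => e.2 (by simpa using mul_mem hy e')) hy hy' ?_
  have a1 := h.parE.sq h1
  have a2 := h.symm.parE.sq hy
  have i2 : y⁻¹ = y := inv_eq_of_mul_eq_one_right a2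
  have ix : x⁻¹ = x := inv_eq_of_mul_eq_one_right h2
  rw [i2] at a1 ⊢
  rw [← mul_assoc, a2, one_mul, ← mul_inv_eq_one, ix, ← a1]; group

theorem End.card_Q (h : End B P₁ P₂) : ♯(Q2 P₁) = ♯(Q2 P₂) := by
  have c1 := card_mul_relIndex h.par1.Qle
  have c2 := card_mul_relIndex h.par2.Qle
  rw [h.par1.idxQ] at c1
  rw [h.par2.idxQ] at c2
  omega

theorem End.ea_le (h : End B P₁ P₂) {A : Subgroup G} (hA : IsElementaryAbelian 2 A) (hB : A ≤ B) :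
    A ≤ Q2 P₁ ∨ A ≤ Q2 P₂ := by
  by_contra e
  push Not at e
  obtain ⟨a, ha, h1, h2⟩ := exists_not_mem_two e.1 e.2
  exact (h.invol (hB ha) (by rw [← pow_two]; exact hA.2 a ha)).elim h1 h2

theorem End.maxEA (h : End B P₁ P₂) : H12.MaxEA 2 B (Q2 P₁) := by
  obtain ⟨A, hA⟩ := H12.exists_maxEA 2 B
  refine hA.of_card_le h.par1.Qle h.ea ?_
  rcases h.ea_le hA.ea hA.le with e | e
  · exact card_le e
  · exact h.card_Q ▸ card_le e

theorem End.JJ_eq (h : End B P₁ P₂) : JJ B = B := by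
  obtain ⟨y, hy, hy'⟩ := h.symm.exists_Q
  exact le_antisymm (JJ_le B)
    (h.par1.genT (h.par2.Qle hy) hy' h.maxEA.le_J (h.symm.maxEA.le_J hy))

theorem End.cj_Q (h : End B P₁ P₂) {s : G} (hs : s ∈ N[B]) :
    cj s (Q2 P₁) = Q2 P₁ ∨ cj s (Q2 P₁) = Q2 P₂ := by
  rcases h.ea_le (A := cj s (Q2 P₁)) (H12.ea_map h.ea _) (cj_le_of_mem_N h.par1.Qle hs) with e | e
  · exact Or.inl (eq_of_card_eq e (card_cj _ _))
  · exact Or.inr (eq_of_card_eq e ((card_cj _ _).trans h.card_Q))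

theorem End.C_inf (h : End B P₁ P₂) : CC P₁ ⊓ CC P₂ = ⊥ :=
  h.free _ (inf_le_left.trans ((CC_le_Q _).trans h.par1.Qle))
    (norm_of_cent (cents_symm (inf_le_left.trans inf_le_right)))
    (norm_of_cent (cents_symm (inf_le_right.trans inf_le_right)))

theorem End.card_C (h : End B P₁ P₂) : ♯(CC P₁) ≤ 2 := by
  have h1 := card_inf_mul_relIndex (CC P₂) (CC P₁)
  rw [inf_comm, h.C_inf, card_bot, one_mul] at h1
  have h2 := h.symm.parE.main.2.2.2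
  rw [inf_comm] at h2
  rw [← h1, ← h2]
  exact relIndex_le_of_le_right h.parE.main.2.2.1 (relIndex_ne_zero' _ _)

theorem End.OZ_le (h : End B P₁ P₂) : OZ B ≤ Q2 P₁ := fun _ hx =>
  h.parE.mem_Q (h.par1.le (ZN.OZ_le _ hx)) (C_anti h.par1.Qle (OZ_le_C _ hx))

theorem End.Q_eq (h : End B P₁ P₂) {L T : Subgroup G} (hL : Loc L T) (hT : Bm T = B)
    (hP : P₁ ≤ L) : Q2 L = Q2 P₁ := by
  have eJ : JJ T = B := by rw [← JJ_Bm, hT, h.JJ_eq]
  have h1 : Q2 L ≤ N[P₁] := hL.R_norm hP (hT ▸ h.par1) (by rw [eJ, ← h.JJ_eq]; exact h.nJ1)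
  obtain ⟨d, hd, ho, -⟩ := h.par1.exists_three
  have hW : IsPi {2} (WW P₁) := (pcore_pi _ _).of_le (WW_le_Q _)
  have h2 : WW P₁ ⊓ C[Q2 L] = WW P₁ := h.parE.irr hd ho inf_le_left
    (norm_inf ((norm_self _).trans (N_le_N_WW P₁)) (norm_C (hP.trans (pcore_nml _ L).norm)) hd)
    (IsPi.inf_C_ne_bot two_prime (pcore_pi _ _) hW (h1.trans (N_le_N_WW _))
      (by rw [Ne, ← card_eq_one', h.parE.card_W]; norm_num))
  have h3 : Q2 L ≤ C[Q2 P₁] := fun x hx => h.parE.cent_Q (cents_symm (h2.ge.trans inf_le_right) hx)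
    (cent_of_card_le_two h.card_C (h1.trans (N_le_N_CC _)) hx)
  have h4 : Q2 L ≤ B := by
    rw [← hT, Bm, eJ]
    exact le_inf (pcore_le_Hall hL.syl) (h3.trans (C_anti h.OZ_le))
  exact le_antisymm (fun x hx => h.parE.mem_Q (h.par1.le (h4 hx)) (h3 hx))
    ((le_inf ((pcore_le _ _).trans hP) (cents_symm h3)).trans hL.chr)

theorem End.W_ne (h : End B P₁ P₂) : WW P₁ ≠ ⊥ := by
  rw [Ne, ← card_eq_one', h.parE.card_W]; norm_num

theorem End.N_W (h : End B P₁ P₂) : N[WW P₁] = P₁ := by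
  have hP : P₁ ≤ N[WW P₁] := (norm_self _).trans (N_le_N_WW P₁)
  obtain ⟨T, hL, hT⟩ := h.loc _ ((pcore_pi _ _).of_le (WW_le_Q P₁)) h.W_ne (Or.inl hP)
  have e := h.Q_eq hL hT hP
  have hn : N[WW P₁] ≤ N[Q2 P₁] := e ▸ (pcore_nml _ _).norm
  have hi : (WW P₁).relIndex (Q2 P₁) ≤ 2 := h.parE.main.2.1.sd.relIndex_left ▸ h.card_C
  have h1 : IsPi {2} C[WW P₁] := by
    intro p hp hd
    by_contra h2
    obtain ⟨x, hx, ho⟩ := exists_orderOf_eq hp hd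
    have hX : IsPi {2}ᶜ (zpowers x) :=
      (isPi_of_card_prime hp (by rw [card_zpowers', ho])).compl_of_ne h2
    have h3 : zpowers x ≤ C[Q2 P₁] := by
      refine coprime_commGG1P ((zpowers_le (G := G)).2 (hn (C_le_N _ hx)))
        ((pcore_pi _ _).coprime hX) ((pcore_pi _ _).sol two_prime) (comm_eq_bot'.2 ?_)
      refine ((zpowers_le (G := G)).2 hx).trans (C_anti ?_)
      rw [commC]
      exact commutator_le.2 fun y hy q hq => comm_mem_of_idx hi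
        (hn (C_le_N _ ((zpowers_le (G := G)).2 hx hy))) (C_le_N _ ((zpowers_le (G := G)).2 hx hy)) hq
    have h4 : x ∈ Q2 N[WW P₁] := hL.chr ⟨C_le_N _ hx, e ▸ h3 (mem_zpowers x)⟩
    exact ne_one_of_orderOf_prime (ho ▸ hp)
      (((pcore_pi _ _).piElt h4).eq_one (hX.piElt (mem_zpowers x)))
  have h2 : C[WW P₁] ≤ Q2 P₁ := e ▸ pcore_max h1 (C_nml_N _)
  have h3 : C[WW P₁].relIndex N[WW P₁] ∣ 6 := by
    have : Fact (Nat.Prime 2) := ⟨two_prime⟩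
    have hea := H12.ea_of_le h.ea (WW_le_Q P₁)
    have := hea.1
    refine (relIndex_C_dvd_card_mulAut le_rfl).trans ((card_mulAut_abelem_dvd 2 2 (WW P₁)
      (fun v => Subtype.ext (hea.2 v v.2)) h.parE.card_W).trans ?_)
    simp [Fin.prod_univ_two]
  refine (eq_of_card_ge hP ?_).symm
  rw [← card_mul_relIndex (C_le_N (WW P₁)), ← card_mul_relIndex (pcore_le {2} P₁), h.par1.idxQP]
  exact Nat.mul_le_mul (card_le h2) (Nat.le_of_dvd (by norm_num) h3)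

theorem End.cj_eq (h : End B P₁ P₂) {P : Subgroup G} (hP : Par B P) (hJ : ¬ P ≤ N[JJ B]) {s : G}
    (hs : s ∈ N[B]) (e : cj s (Q2 P) = Q2 P₁) : cj s P = P₁ := by
  obtain ⟨T, hL, hT⟩ := h.loc _ (pcore_pi _ _) h.par1.Q_ne_bot (Or.inl h.par1.normQ)
  have eJ : JJ T = JJ B := by rw [← JJ_Bm, hT]
  have h1 := hP.cj s
  rw [cj_of_mem_N hs] at h1
  have e' : Q2 (cj s P) = Q2 P₁ := by unfold Q2; rw [pcore_cj, e]
  refine hL.eq_of_Q (h1.normQ.trans (by rw [e'])) (hT ▸ h1) (fun e'' => hJ ?_) h.par1.normQ (hT ▸ h.par1)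
    (eJ ▸ h.nJ1) e'.ge
  rwa [eJ, ← cj_of_mem_N (N_le_N_JJ B hs), ← cj_N, cj_le_cj] at e''

theorem End.mem_B (h : End B P₁ P₂) {s : G} (hs : s ∈ N[B]) (hs' : s ∈ N[Q2 P₁]) : s ∈ B :=
  h.par1.mem_of_norm (h.N_W ▸ N_le_N_WW P₁
    (mem_N_iff_cj.2 (h.cj_eq h.par1 h.nJ1 hs (cj_of_mem_N hs')))) hs

theorem End.swap (h : End B P₁ P₂) {s : G} (hs : s ∈ N[B]) (hs' : s ∉ B) : cj s P₁ = P₂ :=
  h.symm.cj_eq h.par1 h.nJ1 hs
    ((h.cj_Q hs).resolve_left fun e => hs' (h.mem_B hs (mem_N_iff_cj.2 e)))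

theorem End.mul_mem (h : End B P₁ P₂) {s t : G} (hs : s ∈ N[B]) (hs' : s ∉ B) (ht : t ∈ N[B])
    (ht' : t ∉ B) : s * t ∈ B := by
  refine h.mem_B (Subgroup.mul_mem _ hs ht) (N_le_N_pcore _ _ (mem_N_iff_cj.2 ?_))
  rw [cj_mul, h.swap ht ht', h.symm.swap hs hs']

theorem End.N_le (h : End B P₁ P₂) {Y : Subgroup G} (hY : IsPi {2} Y) (h1 : Y ≠ ⊥)
    (hP : P₁ ≤ N[Y]) : N[Y] ≤ P₁ := by
  obtain ⟨T, hL, hT⟩ := h.loc _ hY h1 (Or.inl hP)
  have e := h.Q_eq hL hT hP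
  have eJ : JJ T = B := by rw [← JJ_Bm, hT, h.JJ_eq]
  refine hL.generate (fun x hx => h.par1.le (h.mem_B (eJ ▸ hx.2) (e ▸ (pcore_nml _ _).norm hx.1)))
    fun P hPL hP' hJ => ?_
  refine (hL.eq_of_Q hPL hP' hJ hP (hT ▸ h.par1) (by rw [eJ, ← h.JJ_eq]; exact h.nJ1) ?_).le
  exact hP'.le_Q (hT ▸ h.par1.Qle) (e ▸ hPL.trans (pcore_nml _ _).norm)

theorem End.W_not_le (h : End B P₁ P₂) : ¬ WW P₂ ≤ Q2 P₁ := fun e =>
  h.par2.not_le_Q fun _ hx => h.symm.parE.cent_W (h.par2.le hx)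
    (C_anti (le_inf e (WW_le_Q _)) (h.parE.cent hx))

theorem End.card_WW (h : End B P₁ P₂) : ♯(WW P₁ ⊓ WW P₂) = 2 := by
  obtain ⟨x, hx, hx'⟩ := h.exists_Q
  obtain ⟨y, hy, hy'⟩ := h.symm.exists_Q
  have h1 : WW P₁ ⊓ WW P₂ ≠ ⊥ := by
    refine ne_bot_of_mem (x := y * x * y⁻¹ * x⁻¹) ⟨h.parE.comm_mem hx (h.par1.le (h.par2.Qle hy)), ?_⟩
      fun e => h.not_comm hx hx' hy hy' (commutatorElement_eq_one_iff_mul_comm.1 e).symm
    have := inv_mem (h.symm.parE.comm_mem hy (h.par2.le (h.par1.Qle hx)))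
    simpa [mul_assoc] using this
  have h2 : WW P₁ ⊓ WW P₂ < WW P₂ :=
    lt_of_le_of_ne inf_le_right fun e => h.W_not_le (e.ge.trans (inf_le_left.trans (WW_le_Q _)))
  have := H12.mul_card_le_of_lt (p := 2) (hp := ⟨two_prime⟩)
    (((pcore_pi _ _).of_le (WW_le_Q P₂)).isPGroup two_prime) h2
  rw [h.symm.parE.card_W] at this
  have := one_lt_card h1
  omega

theorem End.B_norm_W (h : End B P₁ P₂) : B ≤ N[WW P₁] := h.par1.le.trans h.N_W.ge

theorem End.W_le_B (h : End B P₁ P₂) : WW P₁ ≤ B := (WW_le_Q _).trans h.par1.Qle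

theorem End.card_D8 (h : End B P₁ P₂) : ♯(WW P₁ ⊔ WW P₂) = 8 := by
  have := card_sup (h.symm.W_le_B.trans h.B_norm_W)
  rw [h.card_WW, h.parE.card_W, h.symm.parE.card_W] at this
  omega

theorem End.card_B (h : End B P₁ P₂) : ♯B = 8 * ♯(CC P₁) := by
  have c1 := card_mul_relIndex h.par1.Qle
  rw [h.par1.idxQ, h.parE.main.2.1.card, h.parE.card_W] at c1
  omega

theorem End.D8_inf_C (h : End B P₁ P₂) : (WW P₁ ⊔ WW P₂) ⊓ CC P₁ = ⊥ := by
  have hc : CC P₁ ≤ N[WW P₁ ⊔ WW P₂] := norm_of_cent (inf_le_right.trans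
    (C_anti ((sup_le h.W_le_B h.symm.W_le_B).trans h.par1.le)))
  have h1 : WW P₁ ⊔ WW P₂ ⊔ CC P₁ = B := by
    obtain ⟨y, hy, hy'⟩ := SetLike.not_le_iff_exists.1 h.W_not_le
    refine le_antisymm (sup_le (sup_le h.W_le_B h.symm.W_le_B) ((CC_le_Q _).trans h.par1.Qle))
      (h.par1.genT (h.symm.W_le_B hy) hy' ?_ (mem_sup_left (mem_sup_right hy)))
    rw [← h.parE.main.2.1.sup]
    exact sup_le_sup_right le_sup_left _
  have h2 := card_sup hc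
  rw [h1, h.card_B, h.card_D8] at h2
  exact card_eq_one'.1 (Nat.eq_of_mul_eq_mul_left (Nat.mul_pos (by norm_num) (card_pos _))
    (h2.trans (mul_one _).symm))

theorem End.D8_inf_Q (h : End B P₁ P₂) {x : G} (hx : x ∈ WW P₁ ⊔ WW P₂) (hQ : x ∈ Q2 P₁) :
    x ∈ WW P₁ := by
  obtain ⟨w, hw, c, hc, rfl⟩ := h.parE.decomp hQ
  have : c ∈ (WW P₁ ⊔ WW P₂) ⊓ CC P₁ := ⟨(mul_mem_cancel_left (mem_sup_left hw)).1 hx, hc⟩
  rw [h.D8_inf_C, mem_bot] at this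
  simpa [this] using hw

theorem End.N_norm_D8 (h : End B P₁ P₂) : N[B] ≤ N[WW P₁ ⊔ WW P₂] := fun s hs => by
  by_cases e : s ∈ B
  · exact norm_sup h.B_norm_W h.symm.B_norm_W e
  · rw [mem_N_iff_cj, cj_sup, ← WW_cj, ← WW_cj, h.swap hs e, h.symm.swap hs e, sup_comm]

theorem transfer_not_mem {S N : Subgroup G} (hS : Syl 2 ⊤ S) (hN : ⁅S, S⁆ ≤ N) {u : G}
    (hu : u ∈ S) (h2 : u * u = 1) (huN : u ∉ N)
    (hc : ∀ g, g⁻¹ * u * g ∈ S → g⁻¹ * u * g * u ∈ N) :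
    u ∉ closure {g : G | Odd (orderOf g)} := by
  have hn : (N.subgroupOf S).Normal := Normal.of_commutator_le _ (by
    rw [← map_le_map_iff_of_injective S.subtype_injective, map_subtype_commutator,
      subgroupOf_map_subtype]
    exact le_inf hN (der1_le S))
  let _ : CommGroup (S ⧸ N.subgroupOf S) :=
    { (inferInstance : Group (S ⧸ N.subgroupOf S)) with
      mul_comm := fun a b => by
        obtain ⟨a, rfl⟩ := QuotientGroup.mk_surjective a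
        obtain ⟨b, rfl⟩ := QuotientGroup.mk_surjective b
        rw [← QuotientGroup.mk_mul, ← QuotientGroup.mk_mul, QuotientGroup.eq]
        have : ⁅(b : G)⁻¹, (a : G)⁻¹⁆ ∈ N :=
          hN (commutator_mem_commutator (inv_mem b.2) (inv_mem a.2))
        simpa [commutatorElement_def, mem_subgroupOf, mul_assoc] using this }
  let φ : S →* S ⧸ N.subgroupOf S := QuotientGroup.mk' _
  have hφ : ∀ x : S, φ x = 1 ↔ (x : G) ∈ N := fun x => QuotientGroup.eq_one_iff x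
  have ha2 : φ ⟨u, hu⟩ * φ ⟨u, hu⟩ = 1 := by
    rw [← map_mul, hφ]; simp [h2]
  have hu2 : u ^ 2 = 1 := by rw [sq, h2]
  have key : MonoidHom.transfer φ u = φ ⟨u, hu⟩ ^ S.index := by
    refine H3.transfer_eq_pow_of_forall φ u _ fun k g hk => ?_
    rcases Nat.even_or_odd' k with ⟨j, rfl | rfl⟩
    · rw [pow_mul (φ _), sq, ha2, one_pow, hφ]
      simp [pow_mul, hu2]
    · rw [pow_succ (φ _), pow_mul (φ _), sq, ha2, one_pow, one_mul, ← mul_left_inj (φ ⟨u, hu⟩),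
        ha2, ← map_mul, hφ]
      have e : u ^ (2 * j + 1) = u := by rw [pow_succ, pow_mul, hu2, one_pow, one_mul]
      simp only [MulMemClass.mk_mul_mk, e]
      exact hc g (e ▸ hk)
  obtain ⟨j, hj⟩ : Odd S.index := by
    have := hS.not_dvd two_prime
    rw [relIndex_top_right] at this
    exact Nat.not_even_iff_odd.1 fun e => this e.two_dvd
  rw [hj, pow_succ, pow_mul, sq, ha2, one_pow, one_mul] at key
  intro e
  have h3 : closure {g : G | Odd (orderOf g)} ≤ (MonoidHom.transfer φ).ker := by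
    refine (closure_le _).2 fun g hg => ?_
    have h4 : IsPGroup 2 (S ⧸ N.subgroupOf S) := (hS.pi.isPGroup two_prime).to_quotient _
    obtain ⟨k, hk⟩ := h4 (MonoidHom.transfer φ g)
    have h5 : MonoidHom.transfer φ g ^ orderOf g = 1 := by rw [← map_pow, pow_orderOf_eq_one, map_one]
    rw [SetLike.mem_coe, MonoidHom.mem_ker]
    exact (pow_eq_one_iff_of_coprime (Nat.Coprime.pow_left k
      (Nat.coprime_two_left.2 hg))).1 ⟨hk, h5⟩
  exact huN ((hφ ⟨u, hu⟩).1 (key.symm.trans (h3 e)))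

section z1

variable {z : G}

theorem End.card_C_eq (h : End B P₁ P₂) (hz : z ∈ CC P₁) (h1 : z ≠ 1) : ♯(CC P₁) = 2 :=
  le_antisymm h.card_C (one_lt_card (ne_bot_of_mem hz h1))

theorem End.idx_D8 (h : End B P₁ P₂) (hz : z ∈ CC P₁) (h1 : z ≠ 1) :
    (WW P₁ ⊔ WW P₂).relIndex B = 2 := by
  have := card_mul_relIndex (sup_le h.W_le_B h.symm.W_le_B)
  rw [h.card_D8, h.card_B, h.card_C_eq hz h1] at this
  omega

theorem End.not_conj (h : End B P₁ P₂) (hz : z ∈ CC P₁) (h1 : z ≠ 1) (g : G) :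
    g * z * g⁻¹ ∉ WW P₁ ⊔ WW P₂ := by
  have hz' : z ∉ WW P₁ ⊔ WW P₂ := fun e => h1 (mem_bot.1 (h.D8_inf_C ▸ mem_inf.2 ⟨e, hz⟩))
  obtain ⟨x, hx, hx'⟩ := h.exists_Q
  obtain ⟨y, hy, hy'⟩ := h.symm.exists_Q
  have c1 : ⁅y, x⁆ ∈ WW P₁ := h.parE.comm_mem hx (h.par1.le (h.par2.Qle hy))
  have c2 : ⁅y, x⁆ ∈ WW P₂ := by
    have := inv_mem (h.symm.parE.comm_mem hy (h.par2.le (h.par1.Qle hx)))
    simpa [mul_assoc, commutatorElement_def] using this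
  have c3 : ⁅y, x⁆ ≠ 1 :=
    fun e => h.not_comm hx hx' hy hy' (commutatorElement_eq_one_iff_mul_comm.1 e).symm
  have c4 : ⁅y, x⁆ ∈ ⁅B, B⁆ := commutator_mem_commutator (h.par2.Qle hy) (h.par1.Qle hx)
  have key : ∀ g, g * z * g⁻¹ ≠ ⁅y, x⁆ := by
    intro g e
    have a1 : C{z} ≤ P₁ := by
      rw [← C_zpowers]
      refine (C_le_N _).trans (h.N_le ((pcore_pi _ _).of_le ((zpowers_le (G := G)).2 hz.1))
        (zpowers_ne_bot.2 h1) (norm_zpowers_of_cent (mem_C_iff_le_C1.1 hz.2)))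
    have a2 : cj g⁻¹ B ≤ P₁ := by
      rw [← le_cj_iff]
      refine le_trans ?_ (cj_mono g a1)
      rw [cj_C1, e]
      exact h.parE.cent.trans (C_le_C1 ⟨WW_le_Q _ c1, WW_le_Q _ c2⟩)
    obtain ⟨k, hk, a3⟩ := Sylow_trans two_prime h.par1.syl (h.par1.syl.of_card a2 (card_cj _ _))
    have a4 : g * k ∈ N[B] := by rw [mem_N_iff_cj, cj_mul, ← a3, cj_cj_inv]
    have a5 : g * k * z * (g * k)⁻¹ = ⁅y, x⁆ := by
      rw [← e, mul_assoc g k z, mem_C.1 hz.2 k hk]; group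
    rw [← a5, conj_mem_iff (norm_der1 le_rfl a4)] at c4
    exact hz' (der1_le_of_relIndex_prime ⟨sup_le h.W_le_B h.symm.W_le_B,
      (norm_self B).trans h.N_norm_D8⟩ (by rw [h.idx_D8 hz h1]; exact two_prime) c4)
  intro e
  have a1 : g * z * g⁻¹ ≠ 1 := fun e => h1 (conj_eq_one_iff'.1 e)
  have a2 : g * z * g⁻¹ * (g * z * g⁻¹) = 1 := by
    calc _ = g * (z * z) * g⁻¹ := by group
      _ = 1 := by rw [h.parE.sq hz.1]; group
  rcases h.invol (sup_le h.W_le_B h.symm.W_le_B e) a2 with e' | e'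
  · obtain ⟨k, -, hk⟩ := h.parE.trans (h.D8_inf_Q e e') a1 c1 c3
    exact key (k * g) (by rw [hk]; group)
  · obtain ⟨k, -, hk⟩ := h.symm.parE.trans (h.symm.D8_inf_Q (sup_comm (WW P₁) _ ▸ e) e') a1 c2 c3
    exact key (k * g) (by rw [hk]; group)

theorem End.conj_mem (h : End B P₁ P₂) (hz : z ∈ CC P₁) {s : G} (hs : s ∈ N[B]) (hs' : s ∉ B) :
    s * z * s⁻¹ ∈ CC P₂ := by
  rw [← h.swap hs hs', CC_cj]; exact conj_mem_cj s hz

theorem End.conj_ne (h : End B P₁ P₂) (hz : z ∈ CC P₁) (h1 : z ≠ 1) {s : G} (hs : s ∈ N[B])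
    (hs' : s ∉ B) : s * z * s⁻¹ ≠ z := fun e =>
  h1 (mem_bot.1 (h.C_inf ▸ mem_inf.2 ⟨hz, e ▸ h.conj_mem hz hs hs'⟩))

theorem End.le_norm (h : End B P₁ P₂) (hz : z ∈ CC P₁) (h1 : z ≠ 1) {S : Subgroup G}
    (hS : IsPi {2} S) (hB : B ≤ S) : S ≤ N[B] := by
  have hB' : B ≤ S ⊓ N[B] := le_inf hB (norm_self B)
  have hJ : JJ (S ⊓ N[B]) ≤ B := H12.J_le_iff.2 fun A hA => by
    by_contra e
    obtain ⟨a, ha, ha'⟩ := SetLike.not_le_iff_exists.1 e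
    have han := (hA.le ha).2
    have a1 : B.relIndex A = 2 := relIndex_eq_two_iff_exists_notMem_and.2 ⟨a, ha, ha', fun b hb => by
      by_cases e' : b ∈ B
      · exact Or.inr e'
      · exact Or.inl (h.mul_mem (hA.le hb).2 e' han ha')⟩
    have a2 : B ⊓ A ≤ Q2 P₁ ⊓ Q2 P₂ := fun x hx => by
      have b1 : a * x * a⁻¹ = x := by rw [H12.ea_comm hA.ea ha hx.2]; group
      rcases h.invol hx.1 (by rw [← pow_two]; exact hA.ea.2 x hx.2) with e' | e'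
      · refine ⟨e', ?_⟩
        rw [← h.swap han ha', Q2, pcore_cj, ← b1]; exact conj_mem_cj a e'
      · refine ⟨?_, e'⟩
        rw [← h.symm.swap han ha', Q2, pcore_cj, ← b1]; exact conj_mem_cj a e'
    have a3 := card_inf_mul_relIndex B A
    have a4 := hA.card_le (h.par1.Qle.trans hB') h.ea
    have a5 := card_mul_relIndex h.parE.le
    rw [h.parE.idx] at a5
    rw [a1] at a3
    have a6 := eq_of_card_ge a2 (by omega)
    have a7 : z ∈ A := (a6.ge (h.parE.main.2.2.1 hz)).2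
    exact h.conj_ne hz h1 han ha' (by rw [H12.ea_comm hA.ea ha a7]; group)
  have hJ' : JJ (S ⊓ N[B]) = B := by rw [← ZN.JJ_eq hJ hB', h.JJ_eq]
  have := (hS.nil two_prime).eq_of_norm_le (inf_le_left : S ⊓ N[B] ≤ S)
    (inf_le_inf_left S ((N_le_N_JJ _).trans (by rw [hJ'])))
  exact this.ge.trans inf_le_right

theorem End.der1_le (h : End B P₁ P₂) (hz : z ∈ CC P₁) (h1 : z ≠ 1) :
    ⁅N[B], N[B]⁆ ≤ WW P₁ ⊔ WW P₂ := by
  have key : ∀ s ∈ N[B], ∀ b ∈ B, ⁅s, b⁆ ∈ WW P₁ ⊔ WW P₂ := fun s hs b hb =>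
    comm_mem_of_idx (h.idx_D8 hz h1).le hs (h.N_norm_D8 hs) hb
  refine commutator_le.2 fun x hx y hy => ?_
  by_cases e : y ∈ B
  · exact key x hx y e
  by_cases e' : x ∈ B
  · rw [← commutatorElement_inv]; exact inv_mem (key y hy x e')
  have := H24.conj_mem (h.N_norm_D8 hx)
    (key x hx _ (h.mul_mem (inv_mem hx) (fun e'' => e' (inv_mem_iff.1 e'')) hy e))
  simpa [commutatorElement_def, mul_assoc] using this

theorem End.no_invol (h : End B P₁ P₂) (hz : z ∈ CC P₁) (h1 : z ≠ 1) {a : G} (ha : a ∈ N[B])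
    (ha' : a ∉ B) (ha2 : a * a = 1) {δ : G} (hδ : δ ∈ WW P₁ ⊔ WW P₂) :
    δ * (a * z) * (δ * (a * z)) ≠ 1 := fun e => by
  obtain ⟨w₁, hw₁, w₂, hw₂, rfl⟩ := (mem_sup_of_norm (h.symm.W_le_B.trans h.B_norm_W)).1 hδ
  have ia : a⁻¹ = a := inv_eq_of_mul_eq_one_right ha2
  have hv : a * w₁ * a⁻¹ ∈ WW P₂ := by rw [← h.swap ha ha', WW_cj]; exact conj_mem_cj a hw₁
  have hv' : a * w₂ * a⁻¹ ∈ WW P₁ := by rw [← h.symm.swap ha ha', WW_cj]; exact conj_mem_cj a hw₂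
  have hz2 := h.conj_mem hz ha ha'
  have hzD := h.parE.main.2.2.1 hz
  have hz2D := h.symm.parE.main.2.2.1 hz2
  have hζ : a * z * a⁻¹ * z ∈ WW P₁ ⊔ WW P₂ :=
    (mul_mem_idx2 (h.idx_D8 hz h1) (h.par2.Qle hz2.1) (h.par1.Qle hz.1)).2
      (iff_of_false (h.not_conj hz h1 a) (by simpa using h.not_conj hz h1 1))
  have hζ1 := h.D8_inf_Q hζ (Subgroup.mul_mem _ hz2D.2 hz.1)
  have c1 : z * (w₁ * w₂) = w₁ * w₂ * z :=
    (mem_C.1 hz.2 _ (h.par1.le (sup_le h.W_le_B h.symm.W_le_B hδ))).symm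
  have e1 : w₁ * (w₂ * (a * w₁ * a⁻¹)) * (a * w₂ * a⁻¹) * (a * z * a⁻¹ * z) = 1 := by
    rw [← e]
    calc _ = w₁ * w₂ * a * (w₁ * w₂ * z) * a⁻¹ * z := by group
      _ = _ := by rw [← c1, ia]; group
  have he : w₂ * (a * w₁ * a⁻¹) ∈ WW P₁ ⊓ WW P₂ := by
    refine ⟨?_, Subgroup.mul_mem _ hw₂ hv⟩
    have : w₂ * (a * w₁ * a⁻¹) = w₁⁻¹ * ((a * w₂ * a⁻¹) * (a * z * a⁻¹ * z))⁻¹ := by
      rw [eq_mul_inv_iff_mul_eq, eq_inv_iff_mul_eq_one, ← mul_left_inj w₁⁻¹, ← mul_right_inj w₁,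
        one_mul, mul_inv_cancel, ← e1]; group
    rw [this]
    exact Subgroup.mul_mem _ (inv_mem hw₁) (inv_mem (Subgroup.mul_mem _ hv' hζ1))
  have hn : a ∈ N[WW P₁ ⊓ WW P₂] := by
    rw [mem_N_iff_cj, cj_inf, ← WW_cj, ← WW_cj, h.swap ha ha', h.symm.swap ha ha', inf_comm]
  have hc := conj_eq_of_mem_C (cent_of_card_le_two h.card_WW.le ((zpowers_le (G := G)).2 hn)
    (mem_zpowers a)) he
  have s1 := h.parE.sq (WW_le_Q _ hw₁)
  have s2 := h.parE.sq (WW_le_Q _ he.1)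
  have e2 : a * w₂ * a⁻¹ = w₂ * (a * w₁ * a⁻¹) * w₁ := by
    rw [← hc]
    calc a * w₂ * a⁻¹ = a * w₂ * a⁻¹ * (w₁ * w₁) := by rw [s1, mul_one]
      _ = a * w₂ * a⁻¹ * ((a * a) * w₁ * (a * a)⁻¹ * w₁) := by rw [ha2]; group
      _ = _ := by group
  refine h.conj_ne hz h1 ha ha' ?_
  rw [e2] at e1
  generalize w₂ * (a * w₁ * a⁻¹) = ε at e1 s2
  have e3 : a * z * a⁻¹ * z = 1 := by
    calc a * z * a⁻¹ * z = w₁ * (ε * ε) * w₁ * (a * z * a⁻¹ * z) := by rw [s2, mul_one, s1, one_mul]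
      _ = 1 := by rw [← e1]; group
  rw [mul_eq_one_iff_eq_inv.1 e3]
  exact inv_eq_of_mul_eq_one_right (h.parE.sq hz.1)

theorem mem_sup_zpowers {D : Subgroup G} {m x : G} (hm : m ∈ N[D]) (h2 : m * m ∈ D)
    (hx : x ∈ D ⊔ zpowers m) : x ∈ D ∨ ∃ δ ∈ D, x = δ * m := by
  obtain ⟨δ, hδ, _, ⟨k, rfl⟩, rfl⟩ := (mem_sup_of_norm ((zpowers_le (G := G)).2 hm)).1 hx
  have h3 : ∀ j : ℤ, m ^ (2 * j) ∈ D := fun j => by
    rw [zpow_mul]; exact zpow_mem (by rw [zpow_two]; exact h2) j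
  rcases Int.even_or_odd' k with ⟨j, rfl | rfl⟩
  · exact Or.inl (D.mul_mem hδ (h3 j))
  · exact Or.inr ⟨_, D.mul_mem hδ (h3 j), by simp only [zpow_add_one, mul_assoc]⟩

theorem End.not_mem (h : End B P₁ P₂) (hz : z ∈ CC P₁) (h1 : z ≠ 1) :
    z ∉ closure {g : G | Odd (orderOf g)} := by
  obtain ⟨S, hS, hB⟩ := Sylow_superset two_prime h.par1.two le_top
  have hn := h.le_norm hz h1 hS.pi hB
  have hd := (der1_mono hn).trans (h.der1_le hz h1)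
  have hzB := h.par1.Qle hz.1
  have z2 := h.parE.sq hz.1
  have hz' : z ∉ WW P₁ ⊔ WW P₂ := by simpa using h.not_conj hz h1 1
  have hc : ∀ g : G, g⁻¹ * z * g ∉ WW P₁ ⊔ WW P₂ := fun g => by simpa using h.not_conj hz h1 g⁻¹
  have hc2 : ∀ g : G, g⁻¹ * z * g * (g⁻¹ * z * g) = 1 := fun g => by
    calc _ = g⁻¹ * (z * z) * g := by group
      _ = 1 := by rw [z2]; group
  have hi := fun {x y} => mul_mem_idx2 (x := x) (y := y) (h.idx_D8 hz h1)
  by_cases e : ∃ g, g⁻¹ * z * g ∈ S ∧ g⁻¹ * z * g ∉ B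
  · obtain ⟨k, ha, ha'⟩ := e
    have ha2 := hc2 k
    generalize k⁻¹ * z * k = a at ha ha' ha2
    have m1 : a * z ∈ N[WW P₁ ⊔ WW P₂] := h.N_norm_D8 (hn (S.mul_mem ha (hB hzB)))
    have m2 : a * z * (a * z) ∈ WW P₁ ⊔ WW P₂ := by
      have := (hi (h.par2.Qle (h.conj_mem hz (hn ha) ha').1) hzB).2
        (iff_of_false (h.not_conj hz h1 a) hz')
      rwa [inv_eq_of_mul_eq_one_right ha2, mul_assoc] at this
    have key : ∀ g : G, g⁻¹ * z * g ∉ WW P₁ ⊔ WW P₂ ⊔ zpowers (a * z) := fun g e => by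
      rcases mem_sup_zpowers m1 m2 e with e' | ⟨δ, hδ, e'⟩
      · exact hc g e'
      · exact h.no_invol hz h1 (hn ha) ha' ha2 hδ (e' ▸ hc2 g)
    refine transfer_not_mem hS (hd.trans le_sup_left) (hB hzB) z2 (by simpa using key 1)
      fun g hg => ?_
    have k1 := key g
    have k2 := hc g
    generalize g⁻¹ * z * g = y at hg k1 k2
    by_cases e : y ∈ B
    · exact mem_sup_left ((hi e hzB).2 (iff_of_false k2 hz'))
    · have k3 := h.mul_mem (hn hg) e (hn ha) ha'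
      by_cases e' : y * a ∈ WW P₁ ⊔ WW P₂
      · have := Subgroup.mul_mem _ (mem_sup_left e') (mem_sup_right (mem_zpowers (a * z)))
        rwa [mul_assoc, ← mul_assoc a, ha2, one_mul] at this
      · have := (hi k3 hzB).2 (iff_of_false e' hz')
        rw [mul_assoc] at this
        exact absurd ((mul_mem_cancel_right (mem_sup_right (mem_zpowers (a * z)))).1
          (mem_sup_left this)) k1
  · push Not at e
    exact transfer_not_mem hS hd (hB hzB) z2 hz' fun g hg =>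
      (hi (e g hg) hzB).2 (iff_of_false (hc g) hz')

end z1

end H11.ZN
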