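import Mathlib
import Cfsg.Agent.H11.ZNEnd2
import Cfsg.Agent.S1012
import Cfsg.Prelude.Def_CaseTheorems
import Cfsg.Prelude.Def_Involutions

/-!
# `ZN`-groups of local characteristic two (Kurzweil–Stellmacher, chapter 12, Theorem 3)
-/

set_option autoImplicit false
set_option linter.unusedSectionVars false

namespace H11.ZN

open Subgroup Cfsg H24 H26
open scoped commutatorElement

universe u v

variable {G : Type u} [Group G] [Finite G] {B P₁ P₂ : Subgroup G}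

/-- `O²(G)` -/
abbrev Od (G : Type u) [Group G] : Subgroup G := closure {g : G | Odd (orderOf g)}

theorem three_mem_Od {g : G} (h : g ^ 3 = 1) : g ∈ Od G :=
  subset_closure ((Nat.odd_iff.2 rfl : Odd 3).of_dvd_nat (orderOf_dvd_of_pow_eq_one h))

theorem WW_le_Od (P : Subgroup G) : WW P ≤ Od G :=
  (WW_le_KP P).trans ((closure_le _).2 fun _ hg => three_mem_Od hg.2)

theorem End.Q_inf (h : End B P₁ P₂) {x : G} (hx : x ∈ Q2 P₁) (hx' : x ∈ Od G) : x ∈ WW P₁ := by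
  obtain ⟨w, hw, c, hc, rfl⟩ := h.parE.decomp hx
  by_cases e : c = 1
  · simpa [e] using hw
  · exact absurd ((mul_mem_cancel_left (WW_le_Od _ hw)).1 hx') (h.not_mem hc e)

theorem End.Q_inf' (h : End B P₁ P₂) {X : Subgroup G} (hX : WW P₁ ≤ X) :
    Q2 P₁ ⊓ (X ⊓ Od G) = WW P₁ :=
  le_antisymm (fun _ hx => h.Q_inf hx.1 hx.2.2) (le_inf (WW_le_Q _) (le_inf hX (WW_le_Od _)))

theorem End.B_le (h : End B P₁ P₂) : B ≤ Q2 P₁ ⊔ (B ⊓ Od G) := by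
  obtain ⟨y, hy, hy'⟩ := SetLike.not_le_iff_exists.1 h.W_not_le
  exact h.par1.genT (h.symm.W_le_B hy) hy' le_sup_left
    (mem_sup_right ⟨h.symm.W_le_B hy, WW_le_Od _ hy⟩)

theorem End.P_le (h : End B P₁ P₂) : P₁ ≤ Q2 P₁ ⊔ (P₁ ⊓ Od G) := by
  obtain ⟨d, hd, ho, hd'⟩ := h.par1.exists_three
  exact h.par1.gen hd hd' (h.B_le.trans (sup_le_sup_left (inf_le_inf_right _ h.par1.le) _))
    (mem_sup_right ⟨hd, three_mem_Od (ho ▸ pow_orderOf_eq_one d)⟩)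

theorem End.card_M (h : End B P₁ P₂) : ♯(P₁ ⊓ Od G) = 24 := by
  have h1 := card_sup (inf_le_left.trans h.par1.normQ : P₁ ⊓ Od G ≤ _)
  rw [le_antisymm (sup_le (pcore_le _ _) inf_le_left) h.P_le, h.Q_inf' (h.W_le_B.trans h.par1.le),
    h.parE.card_W, ← card_mul_relIndex (pcore_le {2} P₁), h.par1.idxQP, mul_assoc] at h1
  exact (Nat.eq_of_mul_eq_mul_left (card_pos _) h1).symm

theorem End.card_BO (h : End B P₁ P₂) : ♯(B ⊓ Od G) = 8 := by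
  have h1 := card_sup (inf_le_left.trans (h.par1.le.trans h.par1.normQ) : B ⊓ Od G ≤ _)
  rw [le_antisymm (sup_le h.par1.Qle inf_le_left) h.B_le, h.Q_inf' h.W_le_B,
    h.parE.card_W, ← card_mul_relIndex h.par1.Qle, h.par1.idxQ, mul_assoc] at h1
  exact (Nat.eq_of_mul_eq_mul_left (card_pos _) h1).symm

theorem End.equiv (h : End B P₁ P₂) : Nonempty (P₁.subgroupOf (Od G) ≃* Equiv.Perm (Fin 4)) := by
  refine Cfsg.Agent.S1012.result (by rw [card_subgroupOf, h.card_M]) fun g ho => ?_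
  rw [← orderOf_coe, ← orderOf_coe] at ho
  have hg : ((g : Od G) : G) ∈ P₁ := g.2
  have hg' : ((g : Od G) : G) ∈ Od G := (g : Od G).2
  generalize ((g : Od G) : G) = x at ho hg hg'
  have o2 : orderOf (x ^ 2) = 3 := by rw [orderOf_pow' _ (by norm_num), ho]; norm_num
  have o3 : orderOf (x ^ 3) = 2 := by rw [orderOf_pow' _ (by norm_num), ho]; norm_num
  rcases h.par1.sq_or_cube hg with e | e
  · rw [pow_three_eq_one_of_pi ((pcore_pi _ _).piElt e) (o2 ▸ pow_orderOf_eq_one _),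
      orderOf_one] at o2
    exact absurd o2 (by norm_num)
  · have : x ^ 3 ∈ WW P₁ ⊓ C{x ^ 2} := ⟨h.Q_inf e (pow_mem hg' 3), mem_C1.2 (by group)⟩
    rw [h.parE.inf_C1 (pow_mem hg 2) o2, mem_bot] at this
    rw [this, orderOf_one] at o3
    exact absurd o3 (by norm_num)

theorem End.eq_W (h : End B P₁ P₂) {R : Subgroup G} (hR : IsPi {2} R) (h1 : R ≠ ⊥) (h2 : R ≤ Od G)
    (hn : P₁ ⊓ Od G ≤ N[R]) : R = WW P₁ := by
  obtain ⟨d, hd, ho, -⟩ := h.par1.exists_three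
  have hd' : d ∈ P₁ ⊓ Od G := ⟨hd, three_mem_Od (ho ▸ pow_orderOf_eq_one d)⟩
  have hW : WW P₁ ≤ P₁ ⊓ Od G := le_inf (h.W_le_B.trans h.par1.le) (WW_le_Od _)
  have a1 : R ⊓ C[WW P₁] = WW P₁ := h.parE.irr hd ho
    (fun x hx => h.Q_inf (h.parE.cent_W (h.N_W.le (C_le_N _ hx.2)) hx.2) (h2 hx.1))
    (norm_inf hn (inf_le_left.trans (norm_C h.N_W.ge)) hd')
    (IsPi.inf_C_ne_bot two_prime ((pcore_pi _ _).of_le (WW_le_Q _)) hR (hW.trans hn) h1)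
  refine ((hR.nil two_prime).eq_of_norm_le (a1.ge.trans inf_le_left) fun x hx => ?_).symm
  rw [h.N_W] at hx
  have a2 : (R ⊓ P₁) ⊔ Q2 P₁ ≤ Q2 P₁ := by
    have hq : R ⊓ P₁ ≤ N[Q2 P₁] := inf_le_right.trans h.par1.normQ
    refine pcore_max' ((hR.inf_left _).sup' (pcore_pi _ _) hq) (sup_le inf_le_right (pcore_le _ _))
      (h.P_le.trans (sup_le (norm_of_le le_sup_right) (norm_sup
        (norm_inf hn (norm_of_le inf_le_left)) (inf_le_left.trans h.par1.normQ))))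
  exact h.Q_inf (a2 (mem_sup_left hx)) (h2 hx.1)

theorem End.maxLocal (h : End B P₁ P₂) : IsMaximalTwoLocal (P₁.subgroupOf (Od G)) := by
  have e : P₁.subgroupOf (Od G) = N[(WW P₁).subgroupOf (Od G)] := by
    rw [← subgroupOf_normalizer_eq (WW_le_Od P₁), h.N_W]
  have hi := (Od G).subtype_injective
  refine ⟨⟨_, (isPi_subgroupOf ((pcore_pi _ _).of_le (WW_le_Q P₁)) _).isPGroup two_prime, fun e' => ?_,
    e⟩, ?_⟩
  · rw [subgroupOf_eq_bot, disjoint_iff, inf_eq_left.2 (WW_le_Od _)] at e'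
    exact h.W_ne e'
  · rintro _ ⟨R, hR, hR1, rfl⟩ hle
    have := h.eq_W (R := R.map (Od G).subtype) ((isPi_of_isPGroup two_prime hR).map _)
      (fun e' => hR1 ((map_eq_bot_iff_of_injective _ hi).1 e')) (map_subtype_le _)
      (by rw [← subgroupOf_map_subtype]; exact norm_map hle _)
    rw [e, ← this, subgroupOf_map_subtype']

/-- the conclusion of the theorem -/
def Concl (H : Type u) [Group H] : Prop :=
  ∃ M₁ M₂ : Subgroup H, M₁ ≠ M₂ ∧ IsMaximalTwoLocal M₁ ∧ IsMaximalTwoLocal M₂ ∧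
    Nonempty (M₁ ≃* Equiv.Perm (Fin 4)) ∧ Nonempty (M₂ ≃* Equiv.Perm (Fin 4)) ∧
    Nat.card ↥(M₁ ⊓ M₂) = 8

theorem End.concl (h : End B P₁ P₂) : Concl (Od G) := by
  have e : ♯(P₁.subgroupOf (Od G) ⊓ P₂.subgroupOf (Od G)) = 8 := by
    have : P₁.subgroupOf (Od G) ⊓ P₂.subgroupOf (Od G) = (P₁ ⊓ P₂).subgroupOf (Od G) := rfl
    rw [this, card_subgroupOf, h.free.inf_eq h.par1 h.par2, h.card_BO]
  refine ⟨_, _, fun e' => ?_, h.maxLocal, h.symm.maxLocal, h.equiv, h.symm.equiv, e⟩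
  rw [← e', inf_idem, card_subgroupOf, h.card_M] at e
  exact absurd e (by norm_num)

/-- the global hypothesis -/
structure Glob (G : Type u) [Group G] : Prop where
  even : 2 ∣ Nat.card G
  loc : ∀ Y : Subgroup G, IsPi {2} Y → Y ≠ ⊥ → ∀ T, Syl 2 N[Y] T → Loc N[Y] T
  ne_top : ∀ Y : Subgroup G, IsPi {2} Y → Y ≠ ⊥ → N[Y] ≠ ⊤
  cz : ∀ S : Subgroup G, Syl 2 ⊤ S → C[OZ S] ≤ N[S]

/-- `M` contains a Sylow subgroup and the normalizers of the Thompson subgroups of those -/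
def Good (M : Subgroup G) : Prop :=
  (∃ S, Syl 2 ⊤ S ∧ S ≤ M) ∧ ∀ S, Syl 2 ⊤ S → S ≤ M → N[JJ S] ≤ M

/-- the family `𝒯(M)` -/
def TT (M T : Subgroup G) : Prop :=
  IsPi {2} T ∧ T ≤ M ∧ ∃ Y, IsPi {2} Y ∧ Y ≠ ⊥ ∧ T ≤ N[Y] ∧ ¬ N[Y] ≤ M

variable {M T S : Subgroup G}

theorem Glob.syl_ne (h : Glob G) (hS : Syl 2 ⊤ S) : S ≠ ⊥ :=
  hS.ne_bot two_prime rfl (by rw [card_top]; exact h.even)

theorem Good.exists_syl (h : Good M) (hT : IsPi {2} T) (hM : T ≤ M) :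
    ∃ S, Syl 2 ⊤ S ∧ S ≤ M ∧ T ≤ S := by
  obtain ⟨S, hS, hSM⟩ := h.1
  obtain ⟨g, hg, e⟩ := Sylow_subJ two_prime (hS.of_le hSM le_top) hT hM
  exact ⟨_, hS.cj_mem (mem_top g), cj_le_of_mem hSM hg, e⟩

theorem Glob.exists_TT (h : Glob G) (hM : Good M) (h1 : M ≠ ⊤) (h2 : ¬ IsStronglyEmbedded M) :
    ∃ T, TT M T ∧ T ≠ ⊥ := by
  by_contra e
  have key : ∀ T, IsPi {2} T → T ≠ ⊥ → T ≤ M → N[T] ≤ M := fun T a b c => by
    by_contra d
    exact e ⟨T, ⟨a, c, T, a, b, norm_self T, d⟩, b⟩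
  obtain ⟨S, hS, hSM⟩ := hM.1
  refine h2 ⟨h1, even_iff_two_dvd.2 ((hS.pi.dvd_card (h.syl_ne hS)).trans (card_dvd hSM)),
    fun g hg => Nat.not_even_iff_odd.1 fun he => hg ?_⟩
  obtain ⟨U, hU⟩ := Sylow_exists two_prime (M ⊓ cj g M)
  have hU1 : U ≠ ⊥ := hU.ne_bot two_prime rfl he.two_dvd
  have a1 := key U hU.pi hU1 (hU.le.trans inf_le_left)
  have a2 : cj g⁻¹ U ≤ M := le_cj_iff.1 (hU.le.trans inf_le_right)
  have a3 := key _ (hU.pi.cj g⁻¹) (fun e' => hU1 (cj_eq_bot.1 e')) a2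
  rw [← cj_N, ← le_cj_iff] at a3
  have a4 : Syl 2 ⊤ U := hU.of_norm_le two_prime le_top (inf_le_right.trans (le_inf a1 a3))
  obtain ⟨m, hm, e'⟩ := Sylow_trans two_prime (a4.of_le (hU.le.trans inf_le_left) le_top)
    ((a4.cj_mem (mem_top g⁻¹)).of_le a2 le_top)
  have := a1 (cj_eq_cj_iff.1 e')
  exact inv_mem_iff.1 ((mul_mem_cancel_left (inv_mem hm)).1 this)

theorem exists_TT_max (h : ∃ T, TT M T ∧ T ≠ ⊥) :
    ∃ T, TT M T ∧ T ≠ ⊥ ∧ (∀ T', TT M T' → JJ T ≤ T' → JJ T' = JJ T) ∧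
      ∀ T', TT M T' → Bm T ≤ T' → Bm T' = Bm T ∧ ♯T' ≤ ♯T := by
  choose A hA using H12.exists_maxEA (G := G) 2
  obtain ⟨T, hT, hm⟩ := Set.exists_max_image {T | TT M T ∧ T ≠ ⊥}
    (fun T => toLex (♯(A T), toLex (♯(JJ T), toLex (♯(Bm T), ♯T)))) (Set.toFinite _) h
  have key : ∀ T', TT M T' → JJ T ≤ T' →
      JJ T' = JJ T ∧ toLex (♯(Bm T'), ♯T') ≤ toLex (♯(Bm T), ♯T) := by
    intro T' hT' hJ
    have h1 := hm T' ⟨hT', ne_bot_of_le (JJ_ne_bot hT.1.1 hT.2) hJ⟩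
    have h2 := (hA T').card_le ((hA T).le_J.trans hJ) (hA T).ea
    simp only [Prod.Lex.toLex_le_toLex] at h1
    have h3 : JJ T ≤ JJ T' := H12.J_le_iff.2 fun A' hA' => H12.MaxEA.le_J
      ((hA T').of_card_le (hA'.le_J.trans hJ) hA'.ea (by rw [hA'.card_eq (hA T)]; omega))
    have h4 := card_le h3
    refine ⟨(eq_of_card_ge h3 (by omega)).symm, ?_⟩
    simp only [Prod.Lex.toLex_le_toLex]
    omega
  refine ⟨T, hT.1, hT.2, fun T' a b => (key T' a b).1, fun T' a b => ?_⟩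
  obtain ⟨h1, h2⟩ := key T' a ((JJ_le_Bm T).trans b)
  have h3 : Bm T ≤ Bm T' := le_inf b (by rw [h1]; exact inf_le_right)
  have h4 := card_le h3
  simp only [Prod.Lex.toLex_le_toLex] at h2
  exact ⟨(eq_of_card_ge h3 (by omega)).symm, by omega⟩

theorem pcore_KP_ne {P : Subgroup G} (h : Par T P) : Q2 (KP P) ≠ ⊥ := fun e => by
  obtain ⟨d, hd, ho, hd'⟩ := h.exists_three
  have hn : KP P ⊴ P := ⟨KP_le P, (norm_self P).trans (N_le_N_KP P)⟩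
  have h1 : KP P ≤ C[Q2 P] := cents_of_inf_eq_bot (hn.le.trans h.normQ)
    ((pcore_le _ _).trans hn.norm) (by rw [inf_comm, pcore_inf_nml _ hn]; exact e)
  exact hd' (h.Qle (h.cent_le ⟨hd, h1 (subset_closure ⟨hd, ho ▸ pow_orderOf_eq_one d⟩)⟩))

theorem Glob.main (h : Glob G) (hM : Good M) (h1 : M ≠ ⊤) (h2 : ¬ IsStronglyEmbedded M)
    (h3 : ¬ Concl (Od G)) : ∃ S Y, Syl 2 ⊤ S ∧ S ≤ M ∧ IsPi {2} Y ∧ Y ≠ ⊥ ∧ ¬ N[Y] ≤ M ∧
      N[Bm S] ≤ N[Y] ∧ ∀ P, Par (Bm S) P → ¬ P ≤ M → P ≤ N[Y] := by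
  obtain ⟨T, hT, hT1, mJ, mB⟩ := exists_TT_max (h.exists_TT hM h1 h2)
  obtain ⟨S, hS, hSM, hTS⟩ := hM.exists_syl hT.1 hT.2.1
  have hmax : ∀ Y, IsPi {2} Y → Y ≠ ⊥ → N[T] ≤ N[Y] → ¬ N[Y] ≤ M → T = S := by
    intro Y a b c d
    have e1 : T ≤ S ⊓ N[T] := le_inf hTS (norm_self T)
    have := (mB _ ⟨hS.pi.inf_left _, inf_le_left.trans hSM, Y, a, b, inf_le_right.trans c, d⟩
      ((Bm_le T).trans e1)).2
    exact (hS.pi.nil two_prime).eq_of_norm_le hTS (eq_of_card_ge e1 this).ge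
  have hJ : N[JJ T] ≤ M := by
    by_contra e
    exact e (hmax _ (hT.1.of_le (JJ_le T)) (JJ_ne_bot hT.1 hT1) (N_le_N_JJ T) e ▸ hM.2 S hS hSM)
  have hloc : ∀ Y, IsPi {2} Y → Y ≠ ⊥ → Bm T ≤ N[Y] → ¬ N[Y] ≤ M →
      ∃ T', Loc N[Y] T' ∧ Bm T' = Bm T := by
    intro Y a b c d
    obtain ⟨T', e1, e2⟩ := Sylow_superset two_prime (hT.1.of_le (Bm_le T))
      (le_inf c ((Bm_le T).trans hT.2.1))
    have e3 : TT M T' := ⟨e1.pi, e1.le.trans inf_le_right, Y, a, b, e1.le.trans inf_le_left, d⟩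
    refine ⟨T', h.loc Y a b T' (e1.of_norm_le two_prime inf_le_left (inf_le_inf_left _ ?_)),
      (mB T' e3 e2).1⟩
    exact (N_le_N_JJ T').trans (mJ T' e3 ((JJ_le_Bm T).trans e2) ▸ hJ)
  have hJB : N[JJ (Bm T)] ≤ M := by rwa [JJ_Bm]
  have hex : ∃ P, Par (Bm T) P ∧ ¬ P ≤ M := by
    by_contra e
    push Not at e
    obtain ⟨Y, a, b, c, d⟩ := hT.2.2
    obtain ⟨T', e1, e2⟩ := hloc Y a b ((Bm_le T).trans c) d
    refine d (e1.generate (inf_le_right.trans ?_) fun P _ hP _ => e P (e2 ▸ hP))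
    rwa [← JJ_Bm, e2]
  have hn : ∀ P P', Par (Bm T) P → ¬ P ≤ M → Par (Bm T) P' → ¬ P' ≤ M → P' ≤ N[KP P] := by
    intro P P' a b c d
    by_cases e : Free (Bm T) P P'
    · refine absurd (End.concl ⟨a, c, e, fun e' => b (e'.trans hJB), fun e' => d (e'.trans hJB),
        fun Y y1 y2 y3 => hloc Y y1 y2 ?_ fun e' => ?_⟩) h3
      · exact y3.elim a.le.trans c.le.trans
      · exact y3.elim (fun e'' => b (e''.trans e')) fun e'' => d (e''.trans e')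
    · simp only [Free, not_forall] at e
      obtain ⟨U, u1, u2, u3, u4⟩ := e
      obtain ⟨T', e1, e2⟩ := hloc U (a.two.of_le u1) u4 (a.le.trans u2) fun e' => b (u2.trans e')
      have e3 : N[JJ T'] ≤ M := by rwa [← JJ_Bm, e2]
      exact e1.norm_KP u2 (e2 ▸ a) (fun e' => b (e'.trans e3)) u3 (e2 ▸ c)
        fun e' => d (e'.trans e3)
  let Y : Subgroup G := ⨆ P : {P // Par (Bm T) P ∧ ¬ P ≤ M}, Q2 (KP P.1)
  have y1 : IsPi {2} Y := (hT.1.of_le (Bm_le T)).of_le (iSup_le fun P =>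
    (Nml.pcore_le ⟨KP_le P.1, (norm_self _).trans (N_le_N_KP _)⟩ _).trans P.2.1.Qle)
  obtain ⟨P₀, p1, p2⟩ := hex
  have y2 : Y ≠ ⊥ := ne_bot_of_le (pcore_KP_ne p1)
    (le_iSup (fun P : {P // Par (Bm T) P ∧ ¬ P ≤ M} => Q2 (KP P.1)) ⟨P₀, p1, p2⟩)
  have y3 : ∀ P, Par (Bm T) P → ¬ P ≤ M → P ≤ N[Y] := fun P a b =>
    norm_iSup fun P' => norm_pcore _ (hn _ P P'.2.1 P'.2.2 a b)
  have y4 : N[Bm T] ≤ N[Y] := fun g hg => mem_N_of_le_cj (iSup_le fun P => by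
    have a := P.2.1.cj g⁻¹
    rw [cj_of_mem_N (inv_mem hg)] at a
    have b : ¬ cj g⁻¹ P.1 ≤ M := fun e => P.2.2 (by
      rwa [← le_cj_iff, cj_of_mem (hJB (N_le_N_JJ _ hg))] at e)
    have c : cj g⁻¹ (Q2 (KP P.1)) = Q2 (KP (cj g⁻¹ P.1)) := by
      rw [Q2, ← pcore_cj]; congr 1; exact (KP_map (conj_injective' g⁻¹) P.1).symm
    rw [le_cj_iff, c]
    exact le_iSup (fun P : {P // Par (Bm T) P ∧ ¬ P ≤ M} => Q2 (KP P.1)) ⟨_, a, b⟩)
  have y5 : ¬ N[Y] ≤ M := fun e => p2 ((y3 P₀ p1 p2).trans e)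
  obtain rfl := hmax Y y1 y2 ((N_le_N_Bm T).trans y4) y5
  exact ⟨T, Y, hS, hSM, y1, y2, y5, y4, y3⟩

theorem Glob.N_JJ_le (h : Glob G) (hS : Syl 2 ⊤ S) : N[JJ S] ≤ N[Bm S] := fun g hg => by
  have h1 : C[OZ (JJ S)] ≤ N[S] := (C_anti (H12.omega_center_le_omega_center_J S)).trans (h.cz S hS)
  have h2 : cj g (Bm S) ≤ C[OZ (JJ S)] :=
    cj_le_of_mem_N inf_le_right (norm_C (N_le_N_OZ _) hg)
  exact mem_N_of_cj_le (le_inf
    (hS.le_of_norm ((hS.pi.of_le (Bm_le S)).cj g) le_top (h2.trans h1)) h2)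

theorem Glob.result (h : Glob G) : (∃ K : Subgroup G, IsStronglyEmbedded K) ∨ Concl (Od G) := by
  by_contra e
  push Not at e
  obtain ⟨S₀, hS₀⟩ := Sylow_exists two_prime (⊤ : Subgroup G)
  have k0 : ∀ S, Syl 2 ⊤ S → S ≤ N[JJ S₀] → JJ S = JJ S₀ := fun S a b => by
    obtain ⟨g, hg, rfl⟩ := Sylow_trans two_prime
      (hS₀.of_le ((norm_self _).trans (N_le_N_JJ S₀)) le_top) (a.of_le b le_top)
    rw [JJ_cj, cj_of_mem_N hg]
  obtain ⟨S, Y, s1, s2, y1, y2, -, y4, y5⟩ := h.main (M := N[JJ S₀])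
    ⟨⟨S₀, hS₀, (norm_self _).trans (N_le_N_JJ S₀)⟩, fun S a b => by rw [k0 S a b]⟩
    (h.ne_top _ (hS₀.pi.of_le (JJ_le _)) (JJ_ne_bot hS₀.pi (h.syl_ne hS₀))) (e.1 _) e.2
  rw [← k0 S s1 s2] at y5
  have s3 : N[JJ S] ≤ N[Y] := (h.N_JJ_le s1).trans y4
  have s4 : S ≤ N[Y] := (norm_self _).trans ((N_le_N_JJ S).trans s3)
  have k1 : ∀ X, IsPi {2} X → X ≠ ⊥ → S ≤ N[X] → N[X] ≤ N[Y] := fun X a b c =>
    (h.loc X a b S (s1.of_le c le_top)).generate (inf_le_right.trans s3) fun P _ p q => y5 P p q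
  have k2 : ∀ S' X, Syl 2 ⊤ S' → S' ≤ N[Y] → IsPi {2} X → X ≠ ⊥ → S' ≤ N[X] → N[X] ≤ N[Y] := by
    intro S' X a b c d f
    obtain ⟨g, hg, rfl⟩ := Sylow_trans two_prime (s1.of_le s4 le_top) (a.of_le b le_top)
    rw [cj_le_iff, cj_N] at f
    have := k1 _ (c.cj _) (fun e' => d (cj_eq_bot.1 e')) f
    rwa [← cj_N, ← le_cj_iff, cj_of_mem hg] at this
  obtain ⟨S', Y', t1, t2, z1, z2, z3, z4, -⟩ := h.main (M := N[Y])
    ⟨⟨S, s1, s4⟩, fun S' a b => k2 S' _ a b (a.pi.of_le (JJ_le _)) (JJ_ne_bot a.pi (h.syl_ne a))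
      ((norm_self _).trans (N_le_N_JJ S'))⟩ (h.ne_top _ y1 y2) (e.1 _) e.2
  exact z3 (k2 S' Y' t1 t2 z1 z2 ((norm_self _).trans ((N_le_N_Bm S').trans z4)))

theorem glob_of (hL : IsCharacteristicTwoType G) (hO : pCore 2 G = ⊥)
    (hN : ∀ N : Subgroup G, IsTwoLocal N → Group.IsSolvable N)
    (hZ : ∀ S : Sylow 2 G, centralizer {z : G | z ∈ (S : Subgroup G) ∧ z ^ 2 = 1 ∧
      ∀ s ∈ (S : Subgroup G), s * z = z * s} ≤ N[(S : Subgroup G)]) : Glob G := by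
  have hZ' : ∀ S : Subgroup G, Syl 2 ⊤ S → C[OZ S] ≤ N[S] := fun S hS => by
    obtain ⟨S, rfl⟩ := hS.exists_sylow_top two_prime
    refine le_trans (centralizer_le ?_) (hZ S)
    exact fun z hz => mem_OZ.2 ⟨hz.1, mem_C.2 hz.2.2, hz.2.1⟩
  refine ⟨hL.1.two_dvd, fun Y a b T hT => ?_, fun Y a b e => b ?_, hZ'⟩
  · have hc : N[Y] ⊓ C[Q2 N[Y]] ≤ Q2 N[Y] := by
      have := map_mono (f := N[Y].subtype) (hL.2 Y (a.isPGroup two_prime) b)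
      rwa [← top_inf_eq C[pCore 2 N[Y]], map_inf_C (subtype_injective _), map_subtype_top,
        ← pcore_singleton two_prime] at this
    refine ⟨hN _ ⟨Y, a.isPGroup two_prime, b, rfl⟩, hT, hc, ?_⟩
    obtain ⟨S, hS, hTS⟩ := Sylow_superset two_prime hT.pi le_top
    have hQ : Q2 N[Y] ≤ T := pcore_le_Hall hT
    have h1 : OZ S ≤ OZ T := fun z hz => by
      have z1 : z ∈ C[Q2 N[Y]] := C_anti (hQ.trans hTS) (OZ_le_C _ hz)
      exact mem_OZ.2 ⟨hQ (hc ⟨C_le_N _ (C_anti (pcore_max a (nml_N Y)) z1), z1⟩),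
        C_anti hTS (OZ_le_C _ hz), (mem_OZ.1 hz).2.2⟩
    rw [← hT.eq_of_le (hS.pi.inf_right _) (le_inf hT.le hTS) inf_le_left]
    exact norm_inf (norm_of_le inf_le_left) (inf_le_right.trans ((C_anti (by
      rwa [hT.eq_of_le (hS.pi.inf_right _) (le_inf hT.le hTS) inf_le_left])).trans (hZ' S hS)))
  · refine eq_bot_of_le hO ?_
    rw [← pcore_singleton_top two_prime]
    exact pcore_max' a le_top e.ge

end H11.ZN
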